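import Cfsg.Agent.Spor3T.PermSeven

/-!
Transpositions of seven and of nine points: the small facts used for the normalisers of subgroups of
order five in type M(24).
-/

set_option autoImplicit false
set_option linter.style.haveILetI false

namespace CfsgLib.ThreeT.Nine

open Equiv Equiv.Perm CfsgLib.ThreeT.Seven

/-- An unordered pair of seven points, listed with the smaller point first. -/
abbrev Ed : Type := {p : Fin 7 × Fin 7 // p.1 < p.2}

/-- Its transposition. -/
def sw7 (e : Ed) : Perm (Fin 7) := swap e.1.1 e.1.2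

/-- Two pairs have no point in common. -/
def dj (e f : Ed) : Bool :=
  (e.1.1 != f.1.1) && (e.1.1 != f.1.2) && (e.1.2 != f.1.1) && (e.1.2 != f.1.2)

theorem sw7_isSwap (e : Ed) : (sw7 e).IsSwap := ⟨_, _, e.2.ne, rfl⟩

theorem sw7_injective : Function.Injective sw7 := by
  intro a b
  revert a b
  decide +kernel

theorem sw7_surj {σ : Perm (Fin 7)} (h : σ.IsSwap) : ∃ e, sw7 e = σ := by
  obtain ⟨a, b, hab, rfl⟩ := h
  rcases lt_or_gt_of_ne hab with h | h
  · exact ⟨⟨(a, b), h⟩, rfl⟩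
  · exact ⟨⟨(b, a), h⟩, swap_comm b a⟩

theorem range_sw7 : Set.range sw7 = {σ | σ.IsSwap} := by
  ext σ
  exact ⟨by rintro ⟨e, rfl⟩; exact sw7_isSwap e, fun h => sw7_surj h⟩

theorem comm_sw7 : ∀ e f : Ed, e ≠ f → (sw7 e * sw7 f = sw7 f * sw7 e ↔ dj e f = true) := by
  decide +kernel

/-- Six transpositions commute with two non-commuting ones. -/
theorem common_card : ∀ e f : Ed, e ≠ f → dj e f = false →
    (Finset.univ.filter fun g => g ≠ e ∧ g ≠ f ∧ dj g e ∧ dj g f).card = 6 := by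
  decide +kernel

/-- Ten transpositions do not commute with a given one. -/
theorem ncomm_card : ∀ e : Ed, (Finset.univ.filter fun g => g ≠ e ∧ dj e g = false).card = 10 := by
  decide +kernel

/-- Fifteen transpositions fix a point. -/
theorem avoid_card : ∀ q : Fin 7, (Finset.univ.filter fun g : Ed => g.1.1 ≠ q ∧ g.1.2 ≠ q).card = 15 := by
  decide +kernel

theorem sw7_fix : ∀ (g : Ed) (q : Fin 7), sw7 g q = q ↔ g.1.1 ≠ q ∧ g.1.2 ≠ q := by
  decide +kernel

theorem swap_fix {n : ℕ} (x y q : Fin n) (hxy : x ≠ y) : swap x y q = q ↔ x ≠ q ∧ y ≠ q := by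
  constructor
  · intro h
    refine ⟨fun e => hxy ?_, fun e => hxy ?_⟩
    · subst e; rw [swap_apply_left] at h; exact h.symm
    · subst e; rwa [swap_apply_right] at h
  · rintro ⟨h1, h2⟩
    exact swap_apply_of_ne_of_ne h1.symm h2.symm

theorem commute_swaps {x y u v : Fin 7} (hxy : x ≠ y) (huv : u ≠ v) :
    (swap x y ≠ swap u v ∧ swap x y * swap u v = swap u v * swap x y) ↔
      (x ≠ u ∧ x ≠ v ∧ y ≠ u ∧ y ≠ v) := by
  revert x y u v
  decide +kernel

/-- The listed pair of five points. -/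
def pr : Fin 10 → Fin 5 × Fin 5 :=
  ![(0, 1), (0, 2), (0, 3), (0, 4), (1, 2), (1, 3), (1, 4), (2, 3), (2, 4), (3, 4)]

theorem pr_sw : ∀ j, sw j = swap (pr j).1 (pr j).2 ∧ (pr j).1 ≠ (pr j).2 := by decide +kernel

/-- The transposition of seven points over a listed pair of five. -/
def up (j : Fin 10) : Perm (Fin 7) :=
  swap (Fin.castLE (by norm_num) (pr j).1) (Fin.castLE (by norm_num) (pr j).2)

theorem up_injective : Function.Injective up := by
  intro a b
  revert a b
  decide +kernel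

theorem up_surj : ∀ a b : Fin 7, a ≠ b → a.1 < 5 → b.1 < 5 → ∃ j, up j = swap a b := by decide +kernel

theorem up_closed : ∀ a b c : Fin 10, sw c = sw a * sw b * sw a → up c = up a * up b * up a := by
  decide +kernel

theorem up_closed' : ∀ a b : Fin 10, ∃ c, sw c = sw a * sw b * sw a := by decide +kernel

/-- What a transposition in a closed set with six partners says about the others. -/
theorem six_of {P : Perm (Fin 7) → Prop}
    (hconj : ∀ s t : Perm (Fin 7), P s → P t → P (s * t * s))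
    (hcount : ∀ s : Perm (Fin 7), s.IsSwap → P s → {t | t.IsSwap ∧ t ≠ s ∧ Commute t s ∧ P t}.ncard = 6)
    {u v : Fin 7} (huv : u ≠ v) (hP : P (swap u v)) :
    ∃ q, q ≠ u ∧ q ≠ v ∧ ∀ x y : Fin 7, x ≠ y → x ≠ u → x ≠ v → y ≠ u → y ≠ v →
      (P (swap x y) ↔ x ≠ q ∧ y ≠ q) := by
  classical
  set π₀ : Perm (Fin 7) := swap 5 u with hπ₀
  set π : Perm (Fin 7) := π₀ * swap 6 (π₀ v) with hπ
  have hv5 : π₀ v ≠ 5 := by
    intro e
    have := congrArg π₀ e
    rw [hπ₀, swap_apply_self, swap_apply_left] at this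
    exact huv this.symm
  have h5 : π 5 = u := by
    rw [hπ, Perm.mul_apply, swap_apply_of_ne_of_ne (by decide) hv5.symm, hπ₀, swap_apply_left]
  have h6 : π 6 = v := by
    rw [hπ, Perm.mul_apply, swap_apply_left, hπ₀, swap_apply_self]
  set A : Finset (Fin 10) := Finset.univ.filter fun j => P (π * up j * π⁻¹) with hA
  have hout : ∀ a : Fin 7, π a ≠ u → π a ≠ v → a.1 < 5 := by
    intro a ha ha'
    rw [← h5] at ha; rw [← h6] at ha'
    have h1 : a ≠ 5 := fun e => ha (e ▸ rfl)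
    have h2 : a ≠ 6 := fun e => ha' (e ▸ rfl)
    clear ha ha'
    revert h1 h2
    revert a
    decide
  have hin : ∀ (a : Fin 5), π (Fin.castLE (by norm_num) a) ≠ u ∧ π (Fin.castLE (by norm_num) a) ≠ v := by
    intro a
    rw [← h5, ← h6]
    constructor <;> refine π.injective.ne ?_ <;> revert a <;> decide
  have himg : ∀ j, π * up j * π⁻¹ = swap (π (Fin.castLE (by norm_num) (pr j).1)) (π (Fin.castLE (by norm_num) (pr j).2)) :=
    fun j => (swap_apply_apply π _ _).symm
  have hset : {t | t.IsSwap ∧ t ≠ swap u v ∧ Commute t (swap u v) ∧ P t} = (fun j => π * up j * π⁻¹) '' ↑A := by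
    ext t
    constructor
    · rintro ⟨⟨x, y, hxy, rfl⟩, hne, hc, hPt⟩
      obtain ⟨hxu, hxv, hyu, hyv⟩ := (commute_swaps hxy huv).1 ⟨hne, hc.eq⟩
      obtain ⟨a, rfl⟩ := π.surjective x
      obtain ⟨b, rfl⟩ := π.surjective y
      obtain ⟨j, hj⟩ := up_surj a b (fun e => hxy (e ▸ rfl)) (hout a hxu hxv) (hout b hyu hyv)
      have e : π * up j * π⁻¹ = swap (π a) (π b) := by rw [hj, ← swap_apply_apply]
      exact ⟨j, by simp only [hA, Finset.mem_coe, Finset.mem_filter, Finset.mem_univ, true_and]; rw [e]; exact hPt, e⟩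
    · rintro ⟨j, hj, rfl⟩
      have hne : π (Fin.castLE (by norm_num) (pr j).1) ≠ π (Fin.castLE (by norm_num) (pr j).2) :=
        π.injective.ne fun e => (pr_sw j).2 (Fin.castLE_injective _ e)
      have hPj : P (π * up j * π⁻¹) := by simpa [hA] using hj
      show (π * up j * π⁻¹).IsSwap ∧ π * up j * π⁻¹ ≠ swap u v ∧ Commute (π * up j * π⁻¹) (swap u v) ∧ P (π * up j * π⁻¹)
      refine ⟨⟨_, _, hne, himg j⟩, ?_⟩
      obtain ⟨q1, q2⟩ := (commute_swaps hne huv).2 ⟨(hin _).1, (hin _).2, (hin _).1, (hin _).2⟩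
      exact ⟨by rw [himg j]; exact q1, by rw [himg j]; exact q2, hPj⟩
  have hA6 : A.card = 6 := by
    have := hcount _ ⟨u, v, huv, rfl⟩ hP
    rwa [hset, Set.ncard_image_of_injective (f := fun j => π * up j * π⁻¹) _
      (fun a b e => up_injective (mul_left_cancel (mul_right_cancel e))), Set.ncard_coe_finset] at this
  obtain ⟨-, p, hp⟩ := closed_six A (by omega) (by omega) fun a ha b hb => by
    obtain ⟨c, hc⟩ := up_closed' a b
    refine ⟨c, ?_, hc⟩
    simp only [hA, Finset.mem_filter, Finset.mem_univ, true_and] at ha hb ⊢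
    rw [up_closed a b c hc, show π * (up a * up b * up a) * π⁻¹ =
      π * up a * π⁻¹ * (π * up b * π⁻¹) * (π * up a * π⁻¹) by group]
    exact hconj _ _ ha hb
  refine ⟨π (Fin.castLE (by norm_num) p), (hin p).1, (hin p).2, fun x y hxy hxu hxv hyu hyv => ?_⟩
  obtain ⟨a, rfl⟩ := π.surjective x
  obtain ⟨b, rfl⟩ := π.surjective y
  obtain ⟨j, hj⟩ := up_surj a b (fun e => hxy (e ▸ rfl)) (hout a hxu hxv) (hout b hyu hyv)
  have e : π * up j * π⁻¹ = swap (π a) (π b) := by rw [hj, ← swap_apply_apply]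
  have key : ∀ (j : Fin 10) (p : Fin 5) (a b : Fin 7), up j = swap a b → a ≠ b →
      (sw j p = p ↔ a ≠ Fin.castLE (by norm_num) p ∧ b ≠ Fin.castLE (by norm_num) p) := by
    intro j p a b hj hab
    rw [← swap_fix a b _ hab, ← hj]
    revert j p
    intro j p h
    clear h hab
    revert j p
    decide +kernel
  rw [π.injective.ne_iff, π.injective.ne_iff, ← key j p a b hj (fun e => hxy (e ▸ rfl)), ← hp j, ← e]
  simp [hA]

/-- A non-empty closed set of transpositions of seven points in which every member commutes with six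
others consists of those fixing a point. -/
theorem fifteen {P : Perm (Fin 7) → Prop}
    (hconj : ∀ s t : Perm (Fin 7), P s → P t → P (s * t * s))
    (hcount : ∀ s : Perm (Fin 7), s.IsSwap → P s → {t | t.IsSwap ∧ t ≠ s ∧ Commute t s ∧ P t}.ncard = 6)
    (hne : ∃ s : Perm (Fin 7), s.IsSwap ∧ P s) :
    ∃ q, ∀ t : Perm (Fin 7), t.IsSwap → (P t ↔ t q = q) := by
  obtain ⟨_, ⟨u, v, huv, rfl⟩, hs⟩ := hne
  obtain ⟨q, hqu, hqv, hq⟩ := six_of hconj hcount huv hs
  have same : ∀ x y : Fin 7, x ≠ y → x ≠ u → x ≠ v → y ≠ u → y ≠ v → x ≠ q → y ≠ q →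
      P (swap x y) ∧ ∀ a b : Fin 7, a ≠ b → a ≠ x → a ≠ y → b ≠ x → b ≠ y →
        (P (swap a b) ↔ a ≠ q ∧ b ≠ q) := by
    intro x y hxy hxu hxv hyu hyv hxq hyq
    have hP := (hq x y hxy hxu hxv hyu hyv).2 ⟨hxq, hyq⟩
    obtain ⟨q', hqx, hqy, hq'⟩ := six_of hconj hcount hxy hP
    have hq'u : q' ≠ u := fun e => ((hq' u v huv hxu.symm hyu.symm hxv.symm hyv.symm).1 hs).1 e.symm
    have hq'v : q' ≠ v := fun e => ((hq' u v huv hxu.symm hyu.symm hxv.symm hyv.symm).1 hs).2 e.symm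
    have e : q' = q := by
      by_contra hne
      obtain ⟨r, hru, hrv, hrx, hry, hrq, hrq'⟩ : ∃ r : Fin 7, r ≠ u ∧ r ≠ v ∧ r ≠ x ∧ r ≠ y ∧ r ≠ q ∧ r ≠ q' := by
        obtain ⟨r, hr⟩ : ∃ r : Fin 7, r ∉ [u, v, x, y, q, q'].toFinset := by
          by_contra hall
          push Not at hall
          have := (Finset.card_le_card (s := (Finset.univ : Finset (Fin 7))) fun r _ => hall r).trans (List.toFinset_card_le _)
          simp at this
        exact ⟨r, by simpa using hr⟩
      have h1 := (hq' q r hrq.symm hxq.symm hyq.symm hrx hry).2 ⟨fun e => hne e.symm, hrq'⟩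
      exact ((hq q r hrq.symm hqu hqv hru hrv).1 h1).1 rfl
    exact ⟨hP, e ▸ hq'⟩
  refine ⟨q, ?_⟩
  rintro _ ⟨a, b, hab, rfl⟩
  rw [swap_fix a b q hab]
  by_cases hd : a ≠ u ∧ a ≠ v ∧ b ≠ u ∧ b ≠ v
  · exact hq a b hab hd.1 hd.2.1 hd.2.2.1 hd.2.2.2
  -- a pair away from both
  obtain ⟨x, y, hxy, hxu, hxv, hyu, hyv, hxq, hyq, hxa, hxb, hya, hyb⟩ : ∃ x y : Fin 7, x ≠ y ∧ x ≠ u ∧ x ≠ v ∧
      y ≠ u ∧ y ≠ v ∧ x ≠ q ∧ y ≠ q ∧ x ≠ a ∧ x ≠ b ∧ y ≠ a ∧ y ≠ b := by
    clear same hq hconj hcount hs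
    set s : Finset (Fin 7) := [u, v, q, a, b].toFinset with hs'
    have h4 : s.card ≤ 4 := by
      push Not at hd
      have key : s ⊆ [u, v, q, a].toFinset ∨ s ⊆ [u, v, q, b].toFinset := by
        by_cases h1 : a = u
        · right; subst h1; simp [hs', Finset.subset_iff]
        by_cases h2 : a = v
        · right; subst h2; simp [hs', Finset.subset_iff]
        left
        by_cases h3 : b = u
        · subst h3; simp [hs', Finset.subset_iff]
        · have := hd h1 h2 h3; subst this; simp [hs', Finset.subset_iff]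
      rcases key with k | k <;> exact (Finset.card_le_card k).trans (List.toFinset_card_le _)
    obtain ⟨x, hx, y, hy, hxy⟩ := Finset.one_lt_card.1 (show 1 < sᶜ.card by
      rw [Finset.card_compl, Fintype.card_fin]; omega)
    simp only [hs', Finset.mem_compl, List.mem_toFinset, List.mem_cons, List.not_mem_nil, or_false, not_or] at hx hy
    exact ⟨x, y, hxy, hx.1, hx.2.1, hy.1, hy.2.1, hx.2.2.1, hy.2.2.1, hx.2.2.2.1, hx.2.2.2.2, hy.2.2.2.1, hy.2.2.2.2⟩
  exact (same x y hxy hxu hxv hyu hyv hxq hyq).2 a b hab hxa.symm hya.symm hxb.symm hyb.symm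

/-- A transposition of nine points is conjugate to the first one. -/
theorem isSwap_conj_zero {σ : Perm (Fin 9)} (h : σ.IsSwap) :
    ∃ τ, σ = τ * CoxeterA.adj 8 0 * τ⁻¹ := by
  have h0 : (CoxeterA.adj 8 0).IsSwap := ⟨0, 1, by decide, by rw [CoxeterA.adj, dif_pos (by decide)]; rfl⟩
  obtain ⟨τ, hτ⟩ := isConj_iff.1 (CfsgLib.SymIndex.isSwap_conj h0 h)
  exact ⟨τ, hτ.symm⟩

theorem count_swap_nine : Nat.card {s : Perm (Fin 9) // s.IsSwap} = 36 := by
  rw [CfsgLib.SymIndex.card_swap_set, Fintype.card_fin]; decide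

theorem adj_six_isSwap (i : ℕ) (hi : i < 6) : (CoxeterA.adj 6 i).IsSwap := by
  interval_cases i <;> rw [CoxeterA.adj, dif_pos (by decide)] <;> exact ⟨_, _, by decide, rfl⟩

/-- A homomorphism from the symmetric group on nine points separating two transpositions is injective. -/
theorem hom_injective {G : Type*} [Group G] (f : Perm (Fin 9) →* G)
    (h : f (CoxeterA.adj 8 0) ≠ f (CoxeterA.adj 8 1)) : Function.Injective f := by
  rw [← MonoidHom.ker_eq_bot_iff]
  by_contra hne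
  haveI : Nontrivial ↥f.ker := (Subgroup.nontrivial_iff_ne_bot _).2 hne
  have hle := Equiv.Perm.alternatingGroup_le_of_normal (α := Fin 9) (N := f.ker) (by simp) inferInstance
  have hc : CoxeterA.adj 8 0 * CoxeterA.adj 8 1 ∈ f.ker := by
    refine hle (mem_alternatingGroup.2 ?_)
    decide +kernel
  rw [MonoidHom.mem_ker, map_mul, mul_eq_one_iff_eq_inv, ← map_inv] at hc
  refine h (hc.trans ?_)
  congr 1

/-- Every automorphism of the symmetric group on nine points is inner. -/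
theorem conj_surjective : Function.Surjective (MulAut.conj : Perm (Fin 9) →* MulAut (Perm (Fin 9))) := by
  intro φ
  have hbij := Cfsg.Agent.S2119.result 9 (by norm_num) (by norm_num)
  have hA : ∀ g ∈ alternatingGroup (Fin 9), φ g ∈ alternatingGroup (Fin 9) := by
    intro g hg
    rw [mem_alternatingGroup] at hg ⊢
    rw [← hg]
    clear hg
    induction g using Equiv.Perm.swap_induction_on with
    | one => rw [map_one]
    | swap_mul f x y hxy ih =>
      rw [map_mul, map_mul, map_mul, ih, sign_swap hxy,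
        (CfsgLib.SymIndex.isSwap_map φ (by simp) (by simp) rfl ⟨x, y, hxy, rfl⟩).sign_eq]
  let ψ : MulAut ↥(alternatingGroup (Fin 9)) :=
    MulEquiv.ofBijective ((φ.toMonoidHom.comp (alternatingGroup (Fin 9)).subtype).codRestrict _
      fun x => hA x x.2) (Finite.injective_iff_bijective.1 fun x y e =>
        Subtype.ext (φ.injective (congrArg Subtype.val e)))
  obtain ⟨σ, hσ⟩ := hbij.2 ψ
  have hσ' : ∀ a : ↥(alternatingGroup (Fin 9)), φ (a : Perm (Fin 9)) = σ * (a : Perm (Fin 9)) * σ⁻¹ := fun a => by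
    have := congrArg Subtype.val (DFunLike.congr_fun hσ a)
    rw [MulAut.conjNormal_apply] at this
    exact this.symm
  refine ⟨σ, MulEquiv.ext fun g => ?_⟩
  show σ * g * σ⁻¹ = φ g
  have hk : σ⁻¹ * (φ g)⁻¹ * σ * g = 1 := hbij.1 (MulEquiv.ext fun a => Subtype.ext (by
    rw [map_one]
    show _ = (a : Perm (Fin 9))
    rw [MulAut.conjNormal_apply]
    have e1 := hσ' ⟨g * (a : Perm (Fin 9)) * g⁻¹, (alternatingGroup.normal).conj_mem _ a.2 g⟩
    rw [map_mul, map_mul, map_inv, hσ' a] at e1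
    calc σ⁻¹ * (φ g)⁻¹ * σ * g * (a : Perm (Fin 9)) * (σ⁻¹ * (φ g)⁻¹ * σ * g)⁻¹
        = σ⁻¹ * (φ g)⁻¹ * (σ * (g * (a : Perm (Fin 9)) * g⁻¹) * σ⁻¹) * φ g * σ := by group
      _ = (a : Perm (Fin 9)) := by rw [← e1]; group))
  have : σ * g = φ g * σ := by
    calc σ * g = φ g * σ * (σ⁻¹ * (φ g)⁻¹ * σ * g) := by group
      _ = φ g * σ := by rw [hk, mul_one]
  rw [this, mul_inv_cancel_right]

/-- The five-cycle on the first five of nine points. -/
def c9 : Perm (Fin 9) := c[(0 : Fin 9), 1, 2, 3, 4]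

theorem c9_conj {h : Perm (Fin 9)} (hh : orderOf h = 5) : ∃ τ, τ * c9 * τ⁻¹ = h := by
  haveI : Fact (Nat.Prime 5) := ⟨by norm_num⟩
  obtain ⟨k, hk⟩ := cycleType_prime_order (σ := h) (by rw [hh]; norm_num)
  rw [hh] at hk
  have hsum := h.sum_cycleType
  rw [hk, Multiset.sum_replicate, smul_eq_mul] at hsum
  have := h.support.card_le_univ
  rw [Fintype.card_fin] at this
  obtain rfl : k = 0 := by omega
  refine isConj_iff.1 ?_
  rw [isConj_iff_cycleType_eq, hk, c9]
  decide +kernel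

theorem five_centralizer {h : Perm (Fin 9)} (hh : orderOf h = 5) :
    Nat.card ↥(Subgroup.centralizer ({h} : Set (Perm (Fin 9)))) = 120 := by
  obtain ⟨τ, rfl⟩ := c9_conj hh
  have e : (τ * c9 * τ⁻¹).cycleType = c9.cycleType := cycleType_conj
  rw [nat_card_centralizer, e, c9]
  decide +kernel

theorem four_card : Nat.card (MulAut (Perm (Fin 4))) ≤ 24 := by
  classical
  set S := Finset.univ.filter fun p : Perm (Fin 4) × Perm (Fin 4) =>
    p.1 ^ 2 = 1 ∧ p.1 ≠ 1 ∧ p.2 ^ 4 = 1 ∧ p.2 ^ 2 ≠ 1 ∧ (p.1 * p.2) ^ 3 = 1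
  have hS : S.card ≤ 24 := by decide +kernel
  let a : Perm (Fin 4) := swap 0 1
  let b : Perm (Fin 4) := c[(0 : Fin 4), 1, 2, 3]
  have hab : a ^ 2 = 1 ∧ a ≠ 1 ∧ b ^ 4 = 1 ∧ b ^ 2 ≠ 1 ∧ (a * b) ^ 3 = 1 := by decide +kernel
  have hgen : Subgroup.closure ({a, b} : Set (Perm (Fin 4))) = ⊤ := by
    refine top_le_iff.1 ?_
    rw [← Equiv.Perm.closure_isSwap, Subgroup.closure_le]
    have ha : a ∈ Subgroup.closure ({a, b} : Set (Perm (Fin 4))) := Subgroup.subset_closure (by simp)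
    have hb : b ∈ Subgroup.closure ({a, b} : Set (Perm (Fin 4))) := Subgroup.subset_closure (by simp)
    have key : ∀ x y : Fin 4, x ≠ y → swap x y = a ∨ swap x y = b * a * b⁻¹ ∨
        swap x y = b * b * a * (b * b)⁻¹ ∨ swap x y = b⁻¹ * a * b ∨
        swap x y = a * (b * a * b⁻¹) * a ∨ swap x y = (b * a * b⁻¹) * (b * b * a * (b * b)⁻¹) * (b * a * b⁻¹) := by
      decide +kernel
    rintro _ ⟨x, y, hxy, rfl⟩
    have hbi := inv_mem hb
    have h2 := mul_mem (mul_mem hb ha) hbi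
    have h3 := mul_mem (mul_mem (mul_mem hb hb) ha) (inv_mem (mul_mem hb hb))
    rcases key x y hxy with e | e | e | e | e | e <;> rw [SetLike.mem_coe, e]
    · exact ha
    · exact h2
    · exact h3
    · exact mul_mem (mul_mem hbi ha) hb
    · exact mul_mem (mul_mem ha h2) ha
    · exact mul_mem (mul_mem h2 h3) h2
  let f : MulAut (Perm (Fin 4)) → {p // p ∈ S} := fun φ => ⟨(φ a, φ b), by
    obtain ⟨h1, h2, h3, h4, h5⟩ := hab
    simp only [S, Finset.mem_filter, Finset.mem_univ, true_and]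
    refine ⟨by rw [← map_pow, h1, map_one], fun e => h2 (φ.injective (by rw [e, map_one])),
      by rw [← map_pow, h3, map_one], fun e => h4 (φ.injective (by rw [map_pow, e, map_one])),
      by rw [← map_mul, ← map_pow, h5, map_one]⟩⟩
  refine (Nat.card_le_card_of_injective f fun φ ψ e => ?_).trans (by rw [Nat.card_eq_fintype_card, Fintype.card_coe]; exact hS)
  have e1 : φ a = ψ a := (Prod.mk.injEq _ _ _ _ ▸ congrArg Subtype.val e).1
  have e2 : φ b = ψ b := (Prod.mk.injEq _ _ _ _ ▸ congrArg Subtype.val e).2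
  exact MulEquiv.toMonoidHom_injective (MonoidHom.eq_of_eqOn_dense hgen (by rintro _ (rfl | rfl) <;> assumption))

/-- The symmetric group on the last four of nine points. -/
noncomputable def last4 : Perm (Fin 4) →* Perm (Fin 9) :=
  Equiv.Perm.viaEmbeddingHom (⟨fun i => ⟨i.1 + 5, by omega⟩, fun i j e => Fin.ext (by simpa using congrArg Fin.val e)⟩ : Fin 4 ↪ Fin 9)

theorem last4_injective : Function.Injective last4 := Equiv.Perm.viaEmbeddingHom_injective _

theorem last4_swap (x y : Fin 4) :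
    last4 (swap x y) = swap (⟨x.1 + 5, by omega⟩ : Fin 9) ⟨y.1 + 5, by omega⟩ := by
  refine Equiv.ext fun z => ?_
  by_cases hz : z.1 < 5
  · rw [swap_apply_of_ne_of_ne (fun e => by have := congrArg Fin.val e; simp only at this; omega) (fun e => by have := congrArg Fin.val e; simp only at this; omega)]
    exact Equiv.Perm.viaEmbedding_apply_of_notMem _ _ _ (by rintro ⟨w, hw⟩; have : w.1 + 5 = z.1 := congrArg Fin.val hw; omega)
  · obtain ⟨w, hw⟩ : ∃ w : Fin 4, w.1 + 5 = z.1 :=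
      ⟨⟨z.1 - 5, by omega⟩, by show z.1 - 5 + 5 = z.1; omega⟩
    rw [show z = (⟨w.1 + 5, hw ▸ z.2⟩ : Fin 9) from Fin.ext hw.symm]
    refine (Equiv.Perm.viaEmbedding_apply (swap x y) _ w).trans ?_
    exact ((Function.Injective.swap_apply
      (f := fun i : Fin 4 => (⟨i.1 + 5, by omega⟩ : Fin 9)) (fun i j e => Fin.ext (by simpa using congrArg Fin.val e)) x y w)).symm

/-- The transpositions centralising the five-cycle are those of the last four points. -/
theorem comm_c9 (σ : Perm (Fin 9)) :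
    (σ.IsSwap ∧ Commute σ c9) ↔ ∃ x y : Fin 4, x ≠ y ∧ σ = last4 (swap x y) := by
  constructor
  · rintro ⟨⟨a, b, hab, rfl⟩, hc⟩
    have key : ∀ a b : Fin 9, a ≠ b → swap a b * c9 = c9 * swap a b →
        ∃ x y : Fin 4, x ≠ y ∧ a.1 = x.1 + 5 ∧ b.1 = y.1 + 5 := by
      decide +kernel
    obtain ⟨x, y, hxy, ha, hb⟩ := key a b hab hc.eq
    exact ⟨x, y, hxy, by rw [last4_swap]; congr 1 <;> exact Fin.ext (by assumption)⟩
  · rintro ⟨x, y, hxy, rfl⟩
    rw [last4_swap]
    refine ⟨⟨_, _, fun e => hxy (Fin.ext (by simpa using congrArg Fin.val e)), rfl⟩, ?_⟩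
    show _ = _
    revert x y
    decide +kernel

theorem five_normalizer {h : Perm (Fin 9)} (hh : orderOf h = 5) :
    Nat.card ↥(Subgroup.normalizer ((Subgroup.zpowers h : Subgroup (Perm (Fin 9))) : Set (Perm (Fin 9)))) = 480 := by
  set X := Subgroup.zpowers h with hXdef
  have hX : Nat.card ↥X = 5 := by rw [hXdef, Nat.card_zpowers, hh]
  haveI : Fact (Nat.Prime 5) := ⟨by norm_num⟩
  haveI : IsCyclic ↥X := isCyclic_of_prime_card hX
  set f := Subgroup.normalizerMonoidHom X
  have hker : f.ker = (Subgroup.centralizer (X : Set (Perm (Fin 9)))).subgroupOf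
      (Subgroup.normalizer (X : Set (Perm (Fin 9)))) := Subgroup.normalizerMonoidHom_ker X
  have hsurj : Function.Surjective f := by
    intro φ
    have hg : orderOf ((φ ⟨h, Subgroup.mem_zpowers h⟩ : ↥X) : Perm (Fin 9)) = 5 := by
      rw [Subgroup.orderOf_coe, MulEquiv.orderOf_eq, ← Subgroup.orderOf_coe, hh]
    obtain ⟨τ₁, hτ₁⟩ := c9_conj hh
    obtain ⟨τ₂, hτ₂⟩ := c9_conj hg
    set τ := τ₂ * τ₁⁻¹
    have hτ : τ * h * τ⁻¹ = ((φ ⟨h, Subgroup.mem_zpowers h⟩ : ↥X) : Perm (Fin 9)) := by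
      rw [← hτ₂, ← hτ₁]; simp [τ, mul_assoc]
    have hmap : X.map (MulAut.conj τ).toMonoidHom = X := by
      refine Subgroup.eq_of_le_of_card_ge ?_ (by rw [Subgroup.card_map_of_injective (MulAut.conj τ).injective])
      rw [hXdef, MonoidHom.map_zpowers, Subgroup.zpowers_le]
      show τ * h * τ⁻¹ ∈ _
      rw [hτ]; exact SetLike.coe_mem _
    refine ⟨⟨τ, Subgroup.mem_normalizer_iff_map_conj_eq.2 hmap⟩, MulEquiv.ext fun z => ?_⟩
    obtain ⟨n, hn⟩ := Subgroup.mem_zpowers_iff.1 z.2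
    have e : z = (⟨h, Subgroup.mem_zpowers h⟩ : ↥X) ^ n := Subtype.ext (by rw [Subgroup.coe_zpow]; exact hn.symm)
    rw [e, map_zpow, map_zpow]
    congr 1
    exact Subtype.ext hτ
  have h1 := Subgroup.card_eq_card_quotient_mul_card_subgroup f.ker
  rw [Nat.card_congr (QuotientGroup.quotientKerEquivOfSurjective f hsurj).toEquiv, IsCyclic.card_mulAut, hX, hker,
    Nat.card_congr (Subgroup.subgroupOfEquivOfLe (Subgroup.centralizer_le_normalizer _)).toEquiv] at h1
  rw [h1, show Subgroup.centralizer (X : Set (Perm (Fin 9))) = Subgroup.centralizer {h} by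
    rw [hXdef, Subgroup.zpowers_eq_closure, Subgroup.centralizer_closure], five_centralizer hh]
  decide

end CfsgLib.ThreeT.Nine
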