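import Mathlib
import Cfsg.Prelude.Def_Transfer

/-!
Extraspecial 2-groups: central element, commutators and squares, and the double centralizer
counting formula, all stated for a subgroup `Q` of an ambient group.
-/

set_option autoImplicit false

namespace CfsgLib.Extra2

section Abstract

variable {E : Type*} [Group E] (hE : Cfsg.IsExtraspecial 2 E)
include hE

lemma exists_center : ∃ z : E, z ≠ 1 ∧ z * z = 1 ∧ ∀ x : E, x ∈ Subgroup.center E ↔ x = 1 ∨ x = z := by
  have hcard := hE.2
  haveI : Finite (Subgroup.center E) := Nat.finite_of_card_ne_zero (by omega)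
  obtain ⟨a, b, hab, hset⟩ := Nat.card_eq_two_iff.1 hcard
  have h1 : ∀ y : Subgroup.center E, y = a ∨ y = b := fun y => by
    have : y ∈ ({a, b} : Set (Subgroup.center E)) := by rw [hset]; trivial
    simpa using this
  obtain ⟨z, hz⟩ : ∃ z : Subgroup.center E, z ≠ 1 ∧ ∀ y, y = 1 ∨ y = z := by
    rcases h1 1 with e | e
    · exact ⟨b, by rw [e]; exact hab.symm, fun y => by rw [e]; exact h1 y⟩
    · exact ⟨a, by rw [e]; exact hab, fun y => by rw [e]; exact (h1 y).symm⟩
  refine ⟨z, fun e => hz.1 (Subtype.ext e), ?_, fun x => ⟨fun hx => ?_, ?_⟩⟩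
  · rcases hz.2 (z * z) with e | e
    · exact congrArg Subtype.val e
    · exact absurd (mul_eq_right.1 e) hz.1
  · rcases hz.2 ⟨x, hx⟩ with e | e
    · exact Or.inl (by simpa [Subtype.ext_iff] using e)
    · exact Or.inr (by simpa [Subtype.ext_iff] using e)
  · rintro (rfl | rfl)
    · exact one_mem _
    · exact z.2

lemma commutator_mem_center (a b : E) : a * b * a⁻¹ * b⁻¹ ∈ Subgroup.center E := by
  rw [← hE.1.2.2, ← commutatorElement_def]
  exact Subgroup.commutator_mem_commutator (Subgroup.mem_top a) (Subgroup.mem_top b)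

lemma sq_mem_center (a : E) : a * a ∈ Subgroup.center E := by
  obtain ⟨z, -, hz2, hz⟩ := exists_center hE
  rw [Subgroup.mem_center_iff]
  intro b
  have hc := commutator_mem_center hE a b
  have hcc := Subgroup.mem_center_iff.1 hc
  have hsq : (a * b * a⁻¹ * b⁻¹) * (a * b * a⁻¹ * b⁻¹) = 1 := by
    rcases (hz _).1 hc with e | e <;> rw [e] <;> simp [hz2]
  have key : a * a * b * (a * a)⁻¹ * b⁻¹ = 1 := by
    calc a * a * b * (a * a)⁻¹ * b⁻¹
        = a * (a * b * a⁻¹ * b⁻¹) * (b * a⁻¹ * b⁻¹) := by group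
      _ = (a * b * a⁻¹ * b⁻¹) * a * (b * a⁻¹ * b⁻¹) := by rw [hcc a]
      _ = (a * b * a⁻¹ * b⁻¹) * (a * b * a⁻¹ * b⁻¹) := by group
      _ = 1 := hsq
  calc b * (a * a) = (a * a * b * (a * a)⁻¹ * b⁻¹) * b * (a * a) := by rw [key, one_mul]
    _ = a * a * b := by group

end Abstract

variable {G : Type*} [Group G]

/-- A generator of the centre of an extraspecial subgroup, with the facts used throughout. -/
structure Gen (Q : Subgroup G) (z : G) : Prop where
  mem : z ∈ Q
  ne_one : z ≠ 1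
  sq : z * z = 1
  comm_z : ∀ x ∈ Q, Commute x z
  center_iff : ∀ x ∈ Q, (∀ y ∈ Q, Commute x y) → x = 1 ∨ x = z
  map_center : (Subgroup.center Q).map Q.subtype = Subgroup.zpowers z
  comm : ∀ x ∈ Q, ∀ y ∈ Q, x * y * x⁻¹ * y⁻¹ = 1 ∨ x * y * x⁻¹ * y⁻¹ = z
  square : ∀ x ∈ Q, x * x = 1 ∨ x * x = z

lemma mem_zpowers_iff {z : G} (h : z * z = 1) {x : G} : x ∈ Subgroup.zpowers z ↔ x = 1 ∨ x = z := by
  constructor
  · rintro ⟨k, rfl⟩
    rcases Int.even_or_odd k with ⟨j, rfl⟩ | ⟨j, rfl⟩
    · left; simp only [← two_mul, zpow_mul, zpow_two, h, one_zpow]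
    · right; simp only [zpow_add, zpow_mul, zpow_two, h, one_zpow, zpow_one, one_mul]
  · rintro (rfl | rfl)
    · exact one_mem _
    · exact Subgroup.mem_zpowers _

theorem exists_gen {Q : Subgroup G} (hQ : Cfsg.IsExtraspecial 2 Q) : ∃ z, Gen Q z := by
  obtain ⟨z, hz1, hz2, hz⟩ := exists_center hQ
  have hzc : z ∈ Subgroup.center Q := (hz z).2 (Or.inr rfl)
  refine ⟨(z : G), z.2, fun e => hz1 (Subtype.ext e), congrArg Subtype.val hz2, ?_, ?_, ?_, ?_, ?_⟩
  · intro x hx
    exact congrArg Subtype.val (Subgroup.mem_center_iff.1 hzc ⟨x, hx⟩)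
  · intro x hx h
    have hc : (⟨x, hx⟩ : Q) ∈ Subgroup.center Q :=
      Subgroup.mem_center_iff.2 fun y => Subtype.ext (h y y.2).symm.eq
    rcases (hz _).1 hc with e | e
    · exact Or.inl (congrArg Subtype.val e)
    · exact Or.inr (congrArg Subtype.val e)
  · ext x
    rw [mem_zpowers_iff (congrArg Subtype.val hz2), Subgroup.mem_map]
    constructor
    · rintro ⟨y, hy, rfl⟩
      rcases (hz y).1 hy with rfl | rfl
      · left; rfl
      · right; rfl
    · rintro (rfl | rfl)
      · exact ⟨1, one_mem _, rfl⟩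
      · exact ⟨z, hzc, rfl⟩
  · intro x hx y hy
    rcases (hz _).1 (commutator_mem_center hQ ⟨x, hx⟩ ⟨y, hy⟩) with e | e
    · exact Or.inl (congrArg Subtype.val e)
    · exact Or.inr (congrArg Subtype.val e)
  · intro x hx
    rcases (hz _).1 (sq_mem_center hQ ⟨x, hx⟩) with e | e
    · exact Or.inl (congrArg Subtype.val e)
    · exact Or.inr (congrArg Subtype.val e)

variable {Q : Subgroup G} {z : G} (hQ : Gen Q z)

include hQ in
lemma orderOf_gen : orderOf z = 2 := orderOf_eq_prime (by rw [pow_two, hQ.sq]) hQ.ne_one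

include hQ in
lemma conj_eq {x y : G} (hx : x ∈ Q) (hy : y ∈ Q) : x * y * x⁻¹ = y ∨ x * y * x⁻¹ = z * y := by
  rcases hQ.comm x hx y hy with e | e
  · exact Or.inl (mul_inv_eq_one.1 e)
  · exact Or.inr (mul_inv_eq_iff_eq_mul.1 e)

include hQ in
/-- A non-central element of `Q` is moved by `Q` to its translate by `z`. -/
lemma exists_conj_mul {y : G} (hy : y ∈ Q) (h1 : y ≠ 1) (h2 : y ≠ z) :
    ∃ x ∈ Q, x * y * x⁻¹ = y * z := by
  by_contra h
  push Not at h
  refine (hQ.center_iff y hy fun x hx => ?_).elim h1 h2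
  rcases conj_eq hQ hx hy with e | e
  · show y * x = x * y
    calc y * x = x * y * x⁻¹ * x := by rw [e]
      _ = x * y := inv_mul_cancel_right _ _
  · exact absurd (e.trans (hQ.comm_z y hy).symm.eq) (h x hx)

/-- the commutator map against a fixed element of `Q`, as a map into `zpowers z` -/
noncomputable def commHom (r : Q) : Q →* Subgroup.zpowers z :=
  MonoidHom.mk'
    (fun y => ⟨(y : G) * r * (y : G)⁻¹ * (r : G)⁻¹, (mem_zpowers_iff hQ.sq).2 (hQ.comm y y.2 r r.2)⟩)
    (by
      intro a b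
      apply Subtype.ext
      show (a : G) * b * r * ((a : G) * b)⁻¹ * (r : G)⁻¹
        = ((a : G) * r * (a : G)⁻¹ * (r : G)⁻¹) * ((b : G) * r * (b : G)⁻¹ * (r : G)⁻¹)
      have hc : ∀ w, (w = 1 ∨ w = z) → ∀ y ∈ Q, y * w = w * y := by
        rintro w (rfl | rfl) y hy
        · simp
        · exact (hQ.comm_z y hy).eq
      have h1 := hc _ (hQ.comm b b.2 r r.2)
      calc (a : G) * b * r * ((a : G) * b)⁻¹ * (r : G)⁻¹
          = (a : G) * ((b : G) * r * (b : G)⁻¹ * (r : G)⁻¹) * ((r : G) * (a : G)⁻¹ * (r : G)⁻¹) := by group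
        _ = ((b : G) * r * (b : G)⁻¹ * (r : G)⁻¹) * ((a : G) * r * (a : G)⁻¹ * (r : G)⁻¹) := by
            rw [h1 a a.2]; group
        _ = _ := (hc _ (hQ.comm a a.2 r r.2) _ (mul_mem (mul_mem (mul_mem b.2 r.2) (inv_mem b.2)) (inv_mem r.2))))

lemma commHom_apply (r y : Q) :
    ((commHom hQ r y : Subgroup.zpowers z) : G) = (y : G) * r * (y : G)⁻¹ * (r : G)⁻¹ := rfl

include hQ in
/-- centralizers in `Q` of single elements of `Q` have index at most two -/
lemma card_le_two_mul (S : Subgroup G) (hS : S ≤ Q) {r : G} (hr : r ∈ Q) [Finite G] :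
    Nat.card S ≤ 2 * Nat.card ↥(S ⊓ Subgroup.centralizer ({r} : Set G)) := by
  let f : S →* Subgroup.zpowers z := (commHom hQ ⟨r, hr⟩).comp (Subgroup.inclusion hS)
  have hrange : Nat.card f.range ≤ 2 := by
    refine (Subgroup.card_le_card_group _).trans ?_
    rw [Nat.card_zpowers, orderOf_gen hQ]
  have hker : Nat.card f.ker = Nat.card ↥(S ⊓ Subgroup.centralizer ({r} : Set G)) := by
    have hm : f.ker.map S.subtype = S ⊓ Subgroup.centralizer ({r} : Set G) := by
      ext y
      rw [Subgroup.mem_map, Subgroup.mem_inf, Subgroup.mem_centralizer_singleton_iff]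
      constructor
      · rintro ⟨w, hw, rfl⟩
        refine ⟨w.2, ?_⟩
        have e : (w : G) * r * (w : G)⁻¹ * r⁻¹ = 1 := congrArg Subtype.val (MonoidHom.mem_ker.1 hw)
        have e2 := mul_inv_eq_one.1 e
        calc (S.subtype w) * r = ((w : G) * r * (w : G)⁻¹) * w := by simp
          _ = r * w := by rw [e2]
      · rintro ⟨hy, hc⟩
        refine ⟨⟨y, hy⟩, MonoidHom.mem_ker.2 (Subtype.ext ?_), rfl⟩
        show y * r * y⁻¹ * r⁻¹ = 1
        rw [hc]; group
    rw [← hm, Subgroup.card_map_of_injective S.subtype_injective]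
  rw [← f.ker.card_mul_index, Subgroup.index_ker, ← hker, mul_comm]
  exact Nat.mul_le_mul_right _ hrange

section Counting

variable [Finite G]

/-- `card R * card C_Q(R)` -/
noncomputable def hh (Q R : Subgroup G) : ℕ := Nat.card R * Nat.card ↥(Q ⊓ Subgroup.centralizer (R : Set G))

include hQ in
lemma hh_mono {R S : Subgroup G} (hzR : z ∈ R) (hRS : R ≤ S) (hSQ : S ≤ Q) : hh Q R ≤ hh Q S := by
  rcases eq_or_lt_of_le hRS with rfl | hlt
  · exact le_rfl
  obtain ⟨r, hrS, hrR⟩ := SetLike.exists_of_lt hlt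
  have hr : r ∈ Q := hSQ hrS
  let R' : Subgroup G := R ⊔ Subgroup.zpowers r
  have hR'S : R' ≤ S := sup_le hRS (Subgroup.zpowers_le.2 hrS)
  have hlt' : R < R' := lt_of_le_of_ne le_sup_left
    (fun e => hrR (e ▸ (le_sup_right : Subgroup.zpowers r ≤ R') (Subgroup.mem_zpowers r)))
  have hdec : Nat.card R < Nat.card R' := by
    by_contra h
    exact hlt'.ne (Subgroup.eq_of_le_of_card_ge hlt'.le (not_lt.1 h))
  have step : hh Q R' ≥ hh Q R := by
    have h2 : 2 * Nat.card R ≤ Nat.card R' := by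
      obtain ⟨k, hk⟩ := Subgroup.card_dvd_of_le hlt'.le
      rw [hk] at hdec ⊢
      have h0 : 0 < Nat.card R := Nat.card_pos
      rw [mul_comm 2]
      refine Nat.mul_le_mul_left _ ?_
      by_contra h
      push Not at h
      interval_cases k <;> simp at hdec
    have hC : Q ⊓ Subgroup.centralizer (R' : Set G) =
        (Q ⊓ Subgroup.centralizer (R : Set G)) ⊓ Subgroup.centralizer ({r} : Set G) := by
      ext y
      simp only [Subgroup.mem_inf]
      constructor
      · rintro ⟨hy, hc⟩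
        refine ⟨⟨hy, Subgroup.centralizer_le (SetLike.coe_subset_coe.2 hlt'.le) hc⟩, ?_⟩
        refine Subgroup.centralizer_le ?_ hc
        simpa using (le_sup_right : Subgroup.zpowers r ≤ R') (Subgroup.mem_zpowers r)
      · rintro ⟨⟨hy, hc⟩, hc'⟩
        refine ⟨hy, ?_⟩
        rw [Subgroup.mem_centralizer_iff]
        have hle : R' ≤ Subgroup.centralizer ({y} : Set G) := by
          refine sup_le (fun w hw => ?_) (Subgroup.zpowers_le.2 ?_) <;>
            rw [Subgroup.mem_centralizer_singleton_iff]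
          · exact Subgroup.mem_centralizer_iff.1 hc w hw
          · exact (Subgroup.mem_centralizer_singleton_iff.1 hc').symm
        intro w hw
        exact Subgroup.mem_centralizer_singleton_iff.1 (hle hw)
    have h3 := card_le_two_mul hQ (Q ⊓ Subgroup.centralizer (R : Set G)) inf_le_left hr
    rw [← hC] at h3
    simp only [hh]
    calc Nat.card R * Nat.card ↥(Q ⊓ Subgroup.centralizer (R : Set G))
        ≤ Nat.card R * (2 * Nat.card ↥(Q ⊓ Subgroup.centralizer (R' : Set G))) := Nat.mul_le_mul_left _ h3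
      _ = (2 * Nat.card R) * Nat.card ↥(Q ⊓ Subgroup.centralizer (R' : Set G)) := by ring
      _ ≤ _ := Nat.mul_le_mul_right _ h2
  exact step.trans (hh_mono (le_sup_left (a := R) hzR) hR'S hSQ)
termination_by Nat.card S - Nat.card R
decreasing_by
  have h1 : Nat.card R' ≤ Nat.card S := Subgroup.card_le_of_le hR'S
  simp only [R'] at h1 hdec ⊢
  omega

include hQ in
/-- The double centralizer formula: `|R| |C_Q(R)| = 2 |Q|` whenever `z ∈ R ≤ Q`. -/
theorem card_mul_card_centralizer {R : Subgroup G} (hzR : z ∈ R) (hRQ : R ≤ Q) :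
    Nat.card R * Nat.card ↥(Q ⊓ Subgroup.centralizer (R : Set G)) = 2 * Nat.card Q := by
  have hzQ : Subgroup.zpowers z ≤ Q := Subgroup.zpowers_le.2 hQ.mem
  have hlow : hh Q (Subgroup.zpowers z) = 2 * Nat.card Q := by
    have : Q ⊓ Subgroup.centralizer (Subgroup.zpowers z : Set G) = Q := by
      refine inf_eq_left.2 fun y hy => ?_
      rw [Subgroup.mem_centralizer_iff]
      intro w hw
      rcases (mem_zpowers_iff hQ.sq).1 hw with rfl | rfl
      · simp
      · exact (hQ.comm_z y hy).symm.eq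
    rw [hh, this, Nat.card_zpowers, orderOf_gen hQ]
  have hhigh : hh Q Q = 2 * Nat.card Q := by
    have : Q ⊓ Subgroup.centralizer (Q : Set G) = Subgroup.zpowers z := by
      ext y
      rw [Subgroup.mem_inf, Subgroup.mem_centralizer_iff, mem_zpowers_iff hQ.sq]
      constructor
      · rintro ⟨hy, hc⟩
        exact hQ.center_iff y hy fun w hw => (hc w hw).symm
      · rintro (rfl | rfl)
        · exact ⟨one_mem _, by simp⟩
        · exact ⟨hQ.mem, fun w hw => (hQ.comm_z w hw).eq⟩
    rw [hh, this, Nat.card_zpowers, orderOf_gen hQ, mul_comm]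
  have h1 := hh_mono hQ (Subgroup.mem_zpowers z) (Subgroup.zpowers_le.2 hzR) hRQ
  have h2 := hh_mono hQ hzR hRQ le_rfl
  simp only [hh] at h1 h2 hlow hhigh
  omega

include hQ in
/-- A subgroup containing `z` is its own double centralizer in `Q`. -/
theorem centralizer_centralizer {R : Subgroup G} (hzR : z ∈ R) (hRQ : R ≤ Q) :
    Q ⊓ Subgroup.centralizer ((Q ⊓ Subgroup.centralizer (R : Set G) : Subgroup G) : Set G) = R := by
  symm
  have hle : R ≤ Q ⊓ Subgroup.centralizer ((Q ⊓ Subgroup.centralizer (R : Set G) : Subgroup G) : Set G) := by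
    refine le_inf hRQ fun r hr => Subgroup.mem_centralizer_iff.2 fun y hy => ?_
    exact (Subgroup.mem_centralizer_iff.1 (Subgroup.mem_inf.1 hy).2 r hr).symm
  have hzC : z ∈ Q ⊓ Subgroup.centralizer (R : Set G) :=
    ⟨hQ.mem, Subgroup.mem_centralizer_iff.2 fun r hr => (hQ.comm_z r (hRQ hr)).eq⟩
  have e1 := card_mul_card_centralizer hQ hzR hRQ
  have e2 := card_mul_card_centralizer hQ hzC inf_le_left
  have hpos : 0 < Nat.card ↥(Q ⊓ Subgroup.centralizer (R : Set G)) := Nat.card_pos
  refine Subgroup.eq_of_le_of_card_ge hle (le_of_eq ?_)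
  apply Nat.eq_of_mul_eq_mul_left hpos
  rw [e2, ← e1, mul_comm]

end Counting

end CfsgLib.Extra2
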