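import Cfsg.Agent.S0303
import Cfsg.Agent.S0815
import Cfsg.Agent.Quad.POmega
import Cfsg.Agent.OrthH1.CaseB

/-!
The isometry group of the elliptic six-dimensional form over two elements is the automorphism group of
`PSU₄(2)`.
-/

set_option autoImplicit false
set_option linter.unusedSectionVars false
set_option linter.style.haveILetI false

namespace CfsgLib.ThreeT.PairStab

open CfsgLib

/-- A normal 2-subgroup of the automorphism group of a simple group of non-2-power order is trivial. -/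
theorem normal_two_bot {S : Type*} [Group S] [Finite S] [IsSimpleGroup S]
    (hns : ¬ IsPGroup 2 S) (hcen : Subgroup.center S = ⊥) {M : Subgroup (MulAut S)} (hM : M.Normal)
    (h2 : IsPGroup 2 M) : M = ⊥ := by
  have hinj : Function.Injective (MulAut.conj : S →* MulAut S) := by
    rw [injective_iff_map_eq_one]
    intro s hs
    have : s ∈ Subgroup.center S := Subgroup.mem_center_iff.2 fun x => by
      have := DFunLike.congr_fun hs x
      simp only [MulAut.conj_apply, MulAut.one_apply] at this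
      exact (mul_inv_eq_iff_eq_mul.1 this).symm
    rwa [hcen, Subgroup.mem_bot] at this
  have hbot : M.comap MulAut.conj = ⊥ := by
    rcases (hM.comap (MulAut.conj : S →* MulAut S)).eq_bot_or_eq_top with e | e
    · exact e
    · exfalso
      refine hns fun s => ?_
      have hs : MulAut.conj s ∈ M := (e ▸ Subgroup.mem_top s : s ∈ M.comap MulAut.conj)
      obtain ⟨k, hk⟩ := h2 ⟨_, hs⟩
      refine ⟨k, hinj ?_⟩
      rw [map_pow, map_one]
      exact congrArg Subtype.val hk
  rw [Subgroup.eq_bot_iff_forall]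
  intro α hα
  refine MulEquiv.ext fun s => ?_
  have hcomm : α * MulAut.conj s * α⁻¹ * (MulAut.conj s)⁻¹ ∈ M := by
    have h1 := hM.conj_mem α⁻¹ (inv_mem hα) (MulAut.conj s)
    rw [show α * MulAut.conj s * α⁻¹ * (MulAut.conj s)⁻¹ =
      α * (MulAut.conj s * α⁻¹ * (MulAut.conj s)⁻¹) by group]
    exact mul_mem hα h1
  have e : α * MulAut.conj s * α⁻¹ = MulAut.conj (α s) := by
    ext x; simp
  rw [e, ← map_inv, ← map_mul, ← Subgroup.mem_comap, hbot, Subgroup.mem_bot, mul_inv_eq_one] at hcomm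
  exact hcomm

theorem card_psu_four {F : Type*} [Field F] [Fintype F] (hF : Fintype.card F = 4) :
    Nat.card (Cfsg.PSU 4 F 2) = 25920 ∧ IsSimpleGroup (Cfsg.PSU 4 F 2) := by
  have hF' : Nat.card F = 2 ^ 2 := by rw [Nat.card_eq_fintype_card, hF]; rfl
  refine ⟨?_, Unitary.isSimpleGroup_PSU hF' (by norm_num) (by omega)⟩
  have h := Unitary.card_PSU_mul hF' (n := 4) (by norm_num)
  rw [Unitary.card_GU hF'] at h
  have e : 2 ^ (4 * (4 - 1) / 2) * ∏ i ∈ Finset.range 4,
      (if Even i then 2 ^ (i + 1) + 1 else 2 ^ (i + 1) - 1) = 3 * 25920 := by decide +kernel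
  rw [e, show Nat.gcd 4 (2 + 1) = 1 by decide] at h
  omega

theorem nonsingular_span : ∀ v : OrthH1.Vec ((Fin 2 ⊕ Fin 2) ⊕ Fin 2), v = 0 ∨
    ∃ u, Cfsg.quadFormMinus 2 (ZMod 2) 1 1 u = 1 ∧
      (u = v ∨ Cfsg.quadFormMinus 2 (ZMod 2) 1 1 (u + v) = 1) := by decide +kernel

theorem has_partner : ∀ u : OrthH1.Vec ((Fin 2 ⊕ Fin 2) ⊕ Fin 2),
    Cfsg.quadFormMinus 2 (ZMod 2) 1 1 u = 1 →
      ∃ x, OrthH1.pol (Cfsg.quadFormMinus 2 (ZMod 2) 1 1) x u = 1 := by decide +kernel

theorem minus_six_aut {F : Type} [Field F] [Fintype F] (hF : Fintype.card F = 4) :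
    Nonempty (↥(Cfsg.isometryGroup (ZMod 2) (Cfsg.quadFormMinus 2 (ZMod 2) 1 1)) ≃*
      MulAut (Cfsg.PSU 4 F 2)) := by
  classical
  have hab : ∀ z₁ z₂ : ZMod 2, z₁ ^ 2 + 1 * z₁ * z₂ + 1 * z₂ ^ 2 = 0 → z₁ = 0 ∧ z₂ = 0 := by decide
  haveI : Fact (2 : ℕ).Prime := ⟨Nat.prime_two⟩
  set Q := Quad.minusQ (F := ZMod 2) 2 1 1 with hQdef
  have hcoe : ⇑Q = Cfsg.quadFormMinus 2 (ZMod 2) 1 1 := Quad.minusQ_coe 2 1 1
  have hnd := Quad.minusQ_nondeg hab 2
  have hdim : Module.finrank (ZMod 2) ((Fin 2 ⊕ Fin 2) ⊕ Fin 2 → ZMod 2) = 6 := by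
    simp [Module.finrank_fintype_fun_eq_card]
  have hO : Nat.card (Quad.oGroup Q) = 2 * 25920 := by
    have := Quad.card_oGroup_minus (F := ZMod 2) (q := 2) (by simp) hab 2
    norm_num [Finset.prod_range_succ] at this
    exact_mod_cast this
  have hidx : (commutator (Quad.oGroup Q)).index = 2 :=
    Quad.index_commutator_char_two hnd (by omega) (Or.inr (by omega))
  have hcen := Quad.card_center_omega_one hnd (by omega) (Or.inl (show (2 : ZMod 2) = 0 from rfl))
  obtain ⟨e⟩ := Cfsg.Agent.S0303.result (F := ZMod 2) (K := F) (q := 2) (by simp) (by rw [hF]; rfl) 1 1 hab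
  set OG := Cfsg.isometryGroup (ZMod 2) (Cfsg.quadFormMinus 2 (ZMod 2) 1 1)
  set Ω := commutator ↥OG
  have eΩ : ↥Ω ≃* ↥(commutator (Quad.oGroup Q)) := by
    have := Quad.omegaEquiv Q
    rw [hcoe] at this
    exact this
  have hcardO : Nat.card ↥OG = 2 * 25920 := by
    rw [← hO]
    show Nat.card ↥(Cfsg.isometryGroup (ZMod 2) (Cfsg.quadFormMinus 2 (ZMod 2) 1 1)) = _
    rw [← hcoe]
    exact Nat.card_congr (Quad.isoGroupEquiv Q).toEquiv
  have hΩ : Nat.card ↥Ω = 25920 := by
    rw [Nat.card_congr eΩ.toEquiv]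
    have := Subgroup.index_mul_card (commutator (Quad.oGroup Q))
    rw [hidx, hO] at this
    omega
  have hZ : Subgroup.center ↥Ω = ⊥ := by
    rw [Subgroup.eq_bot_iff_forall]
    intro z hz
    have h1 : eΩ z ∈ Subgroup.center ↥(commutator (Quad.oGroup Q)) := by
      rw [← Quad.map_center_equiv eΩ]; exact ⟨z, hz, rfl⟩
    rw [Subgroup.card_eq_one.1 hcen, Subgroup.mem_bot] at h1
    exact eΩ.injective (h1.trans (map_one eΩ).symm)
  have eP : Cfsg.POmega (ZMod 2) (Cfsg.quadFormMinus 2 (ZMod 2) 1 1) ≃* ↥Ω :=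
    (QuotientGroup.quotientMulEquivOfEq hZ).trans QuotientGroup.quotientBot
  set E : ↥Ω ≃* Cfsg.PSU 4 F 2 := eP.symm.trans e
  let ρ : ↥OG →* MulAut ↥Ω := MulAut.conjNormal
  have hgood := OrthH1.CaseB.good
  have hker : ∀ g : ↥OG, ρ g = 1 → g = 1 := by
    intro g hg
    have hgΩ : ∀ w ∈ Ω, g * w = w * g := fun w hw => by
      have := congrArg Subtype.val (DFunLike.congr_fun hg ⟨w, hw⟩)
      rw [MulAut.conjNormal_apply, MulAut.one_apply] at this
      exact mul_inv_eq_iff_eq_mul.1 this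
    have hcomm : ∀ x : ↥OG, g * x = x * g := by
      intro x
      have hm : g * x * g⁻¹ * x⁻¹ ∈ Ω := Subgroup.commutator_mem_commutator (Subgroup.mem_top g) (Subgroup.mem_top x)
      have hcz : ∀ w ∈ Ω, (g * x * g⁻¹ * x⁻¹) * w = w * (g * x * g⁻¹ * x⁻¹) := by
        intro w hw
        have h1 : Commute g w := hgΩ w hw
        have h2 : Commute g (x⁻¹ * w * x) := hgΩ _ (by
          have := (inferInstance : Ω.Normal).conj_mem w hw x⁻¹
          rwa [inv_inv] at this)
        have h3 : Commute (x * g⁻¹ * x⁻¹) w := by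
          have := h2.inv_left.map (MulAut.conj x).toMonoidHom
          simp only [MulEquiv.coe_toMonoidHom, MulAut.conj_apply] at this
          rwa [show x * (x⁻¹ * w * x) * x⁻¹ = w by group] at this
        rw [show g * x * g⁻¹ * x⁻¹ = g * (x * g⁻¹ * x⁻¹) by group]
        exact (h1.mul_left h3).eq
      have hb : (⟨_, hm⟩ : ↥Ω) ∈ Subgroup.center ↥Ω :=
        Subgroup.mem_center_iff.2 fun w => Subtype.ext (hcz w w.2).symm
      rw [hZ, Subgroup.mem_bot] at hb
      have := congrArg Subtype.val hb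
      rw [Subgroup.coe_one, mul_inv_eq_one, mul_inv_eq_iff_eq_mul] at this
      exact this
    have hfix : ∀ u, Cfsg.quadFormMinus 2 (ZMod 2) 1 1 u = 1 → OrthH1.act g u = u := by
      intro u hu
      obtain ⟨x, hx⟩ := has_partner u hu
      have he := OrthH1.refl_conj hgood hu g
      rw [hcomm (OrthH1.refl hgood u), mul_inv_cancel_right] at he
      have := congrArg (fun r => OrthH1.act r x) he
      simp only [OrthH1.act_refl hgood hu, OrthH1.act_refl hgood ((OrthH1.Q_act g u).trans hu), hx, one_smul,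
        add_right_inj] at this
      rcases OrthH1.zmod_two (OrthH1.pol (Cfsg.quadFormMinus 2 (ZMod 2) 1 1) x (OrthH1.act g u)) with r | r
      · rw [r, zero_smul] at this
        rw [this, hgood.zero] at hu
        exact absurd hu zero_ne_one
      · rw [r, one_smul] at this
        exact this.symm
    refine OrthH1.act_ext fun v => ?_
    rw [OrthH1.act_one]
    rcases nonsingular_span v with rfl | ⟨u, hu, rfl | huv⟩
    · exact OrthH1.act_zero g
    · exact hfix _ hu
    · have := hfix _ huv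
      rw [OrthH1.act_add, hfix u hu] at this
      exact add_left_cancel this
  have hinj : Function.Injective ρ := (injective_iff_map_eq_one ρ).2 hker
  have hcard : Nat.card (MulAut ↥Ω) = 2 * 25920 := by
    rw [Nat.card_congr (MulAut.congr E).toEquiv,
      Cfsg.Agent.S0815.result (F := F) 2 1 le_rfl (q := 2) rfl (by rw [hF]; rfl) 4 (by norm_num) (by omega),
      (card_psu_four hF).1]
    rfl
  have hbij : Function.Bijective ρ :=
    (Nat.bijective_iff_injective_and_card ρ).2 ⟨hinj, by rw [hcardO, hcard]⟩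
  exact ⟨(MulEquiv.ofBijective ρ hbij).trans (MulAut.congr E)⟩

end CfsgLib.ThreeT.PairStab
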