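import Cfsg.Agent.Spor3T.M22PairQuot

/-!
Type M(22): a hexad through a commuting pair, and an automorphism inducing an odd permutation on it.
-/

set_option autoImplicit false
set_option linter.unusedSectionVars false
set_option linter.style.haveILetI false

namespace CfsgLib.ThreeT.Prod

open CfsgLib
open scoped Matrix

variable {G : Type*} [Group G] {D : Set G}

/-- Four common neighbours of a pair making up a hexad with it. -/
structure Quad (D : Set G) (a b : G) (x : Fin 4 → G) : Prop where
  mem : ∀ i, x i ∈ common D a b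
  inj : Function.Injective x
  comm : ∀ i j, Commute (x i) (x j)
  prod : x 0 * x 1 * x 2 * x 3 = a * b

/-- The data on an automorphism fixing the pair. -/
structure AutWitness (D : Set G) (a b : G) (σ : MulAut G) (x : Fin 4 → G) (k : G) : Prop where
  pres : ∀ α : MulAut G, ∀ d ∈ D, α d ∈ D
  classes : ∀ α : MulAut G, ∃ g : G, α = MulAut.conj g ∨ α = MulAut.conj g * σ
  fix_a : σ a = a
  fix_b : σ b = b
  quad : Quad D a b x
  swap : ∀ i, σ (x i) = x (Equiv.swap 2 3 i)
  ka : Commute k a
  kb : Commute k b
  kx : Commute k (x 0)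
  k12 : k * x 1 * k⁻¹ = x 2

theorem Quad.map {H : Type*} [Group H] {D' : Set H} (e : G ≃* H) (hD : e '' D = D') {a b : G}
    {x : Fin 4 → G} (hq : Quad D a b x) : Quad D' (e a) (e b) (e ∘ x) where
  mem i := by
    obtain ⟨h1, h2, h3, h4, h5⟩ := hq.mem i
    exact ⟨hD ▸ ⟨_, h1, rfl⟩, fun r => h2 (e.injective r), fun r => h3 (e.injective r),
      h4.map e.toMonoidHom, h5.map e.toMonoidHom⟩
  inj := e.injective.comp hq.inj
  comm i j := (hq.comm i j).map e.toMonoidHom
  prod := by simp only [Function.comp_apply, ← map_mul, hq.prod]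

theorem AutWitness.map {H : Type*} [Group H] {D' : Set H} (e : G ≃* H) (hD : e '' D = D') {a b : G}
    {σ : MulAut G} {x : Fin 4 → G} {k : G} (w : AutWitness D a b σ x k) :
    AutWitness D' (e a) (e b) (MulAut.congr e σ) (e ∘ x) (e k) where
  pres α := by
    rw [← hD]
    rintro _ ⟨d, hd, rfl⟩
    exact ⟨(MulAut.congr e).symm α d, w.pres _ d hd, by simp [MulAut.congr]⟩
  classes α := by
    obtain ⟨g, hg⟩ := w.classes ((MulAut.congr e).symm α)
    have hc : MulAut.congr e (MulAut.conj g) = MulAut.conj (e g) := by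
      ext y; simp [MulAut.congr]
    refine ⟨e g, ?_⟩
    rcases hg with r | r
    · left; rw [← hc, ← r, MulEquiv.apply_symm_apply]
    · right; rw [← hc, ← map_mul, ← r, MulEquiv.apply_symm_apply]
  fix_a := by simp [MulAut.congr, w.fix_a]
  fix_b := by simp [MulAut.congr, w.fix_b]
  quad := w.quad.map e hD
  swap i := by simp [MulAut.congr, w.swap i]
  ka := w.ka.map e.toMonoidHom
  kb := w.kb.map e.toMonoidHom
  kx := w.kx.map e.toMonoidHom
  k12 := by simp [Function.comp_apply, ← w.k12]

end CfsgLib.ThreeT.Prod
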