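import Mathlib
import Cfsg.Prelude.Def_FischerSpaces

/-!
Elementary facts about sets of 3-transpositions and odd transpositions.
-/

set_option autoImplicit false

namespace CfsgLib.ThreeT

variable {G : Type*} [Group G]

lemma mul_self_of_orderOf {d : G} (h : orderOf d = 2) : d * d = 1 := by
  have := pow_orderOf_eq_one d
  rwa [h, pow_two] at this

lemma inv_eq_of_orderOf {d : G} (h : orderOf d = 2) : d⁻¹ = d :=
  inv_eq_of_mul_eq_one_right (mul_self_of_orderOf h)

lemma ne_one_of_orderOf {d : G} (h : orderOf d = 2) : d ≠ 1 := by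
  rintro rfl; simp at h

/-- cancellation helper for involutions -/
lemma invol_cancel {d : G} (h : orderOf d = 2) (x : G) : d * (d * x) = x := by
  rw [← mul_assoc, mul_self_of_orderOf h, one_mul]

lemma commute_of_sq {a b : G} (ha : orderOf a = 2) (hb : orderOf b = 2) (h : (a * b) ^ 2 = 1) :
    Commute a b := by
  have e : (a * b)⁻¹ = a * b := inv_eq_of_mul_eq_one_right (by rwa [← pow_two])
  rw [mul_inv_rev, inv_eq_of_orderOf ha, inv_eq_of_orderOf hb] at e
  exact e.symm

lemma sq_of_commute {a b : G} (ha : orderOf a = 2) (hb : orderOf b = 2) (h : Commute a b) :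
    (a * b) ^ 2 = 1 := by
  rw [h.mul_pow, pow_two, pow_two, mul_self_of_orderOf ha, mul_self_of_orderOf hb, one_mul]

/-- the braid relation equals product of order three -/
lemma braid_of_cube {a b : G} (ha : orderOf a = 2) (hb : orderOf b = 2) (h : (a * b) ^ 3 = 1) :
    a * b * a = b * a * b := by
  have e : (a * b * a) * (b * a * b) = 1 := by rw [← h, pow_three]; group
  calc a * b * a = (b * a * b)⁻¹ := eq_inv_of_mul_eq_one_left e
    _ = b * a * b := by
        rw [mul_inv_rev, mul_inv_rev, inv_eq_of_orderOf ha, inv_eq_of_orderOf hb, ← mul_assoc]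

/-- if `a, b` are involutions, `y` commutes with `a * b`, then `b y b = a y a` -/
lemma conj_eq_of_commute_mul {a b y : G} (ha : orderOf a = 2) (hb : orderOf b = 2)
    (hy : Commute (a * b) y) : b * y * b = a * y * a := by
  calc b * y * b = a * (a * b * y) * b := by
        rw [mul_assoc a b y, invol_cancel ha]
    _ = a * (y * (a * b)) * b := by rw [hy.eq]
    _ = a * y * a * (b * b) := by group
    _ = _ := by rw [mul_self_of_orderOf hb, mul_one]

lemma orderOf_conj (g d : G) : orderOf (g * d * g⁻¹) = orderOf d :=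
  orderOf_injective (MulAut.conj g).toMonoidHom (MulAut.conj g).injective d

lemma commute_conj_iff (g x y : G) : Commute (g * x * g⁻¹) (g * y * g⁻¹) ↔ Commute x y := by
  constructor
  · intro h
    have := h.map (MulAut.conj g⁻¹).toMonoidHom
    simpa [mul_assoc] using this
  · intro h
    exact h.map (MulAut.conj g).toMonoidHom

section Set

variable {D : Set G} (hD : Cfsg.IsThreeTranspositionSet D)
include hD

lemma ord {d : G} (hd : d ∈ D) : orderOf d = 2 := hD.1 d hd

lemma sq {d : G} (hd : d ∈ D) : d * d = 1 := mul_self_of_orderOf (hD.1 d hd)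

lemma inv {d : G} (hd : d ∈ D) : d⁻¹ = d := inv_eq_of_orderOf (hD.1 d hd)

lemma cube_of_not_commute {a b : G} (ha : a ∈ D) (hb : b ∈ D) (h : ¬ Commute a b) :
    (a * b) ^ 3 = 1 :=
  (hD.2 a ha b hb).resolve_left (fun h2 => h (commute_of_sq (hD.1 a ha) (hD.1 b hb) h2))

lemma braid {a b : G} (ha : a ∈ D) (hb : b ∈ D) (h : ¬ Commute a b) : a * b * a = b * a * b :=
  braid_of_cube (hD.1 a ha) (hD.1 b hb) (cube_of_not_commute hD ha hb h)

lemma orderOf_mul_of_not_commute {a b : G} (ha : a ∈ D) (hb : b ∈ D) (h : ¬ Commute a b) :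
    orderOf (a * b) = 3 := by
  refine orderOf_eq_prime (cube_of_not_commute hD ha hb h) ?_
  intro e
  apply h
  have : b = a := by
    rw [← inv hD ha]; exact eq_inv_of_mul_eq_one_right e
  rw [this]

/-- a product of two distinct commuting members determines the common commuting set -/
lemma commute_mul_iff {a b y : G} (ha : a ∈ D) (hb : b ∈ D) (hy : y ∈ D) (hab : Commute a b)
    (hne : a ≠ b) : Commute (a * b) y ↔ Commute a y ∧ Commute b y := by
  refine ⟨fun h => ?_, fun h => h.1.mul_left h.2⟩
  have e := conj_eq_of_commute_mul (hD.1 a ha) (hD.1 b hb) h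
  by_cases hay : Commute a y
  · refine ⟨hay, ?_⟩
    show b * y = y * b
    have e1 : b * y * b = y := by rw [e, hay.eq, mul_assoc, sq hD ha, mul_one]
    calc b * y = b * y * b * b := by rw [mul_assoc _ b b, sq hD hb, mul_one]
      _ = y * b := by rw [e1]
  · exfalso
    have hby : ¬ Commute b y := by
      intro hby
      apply hay
      show a * y = y * a
      have e1 : a * y * a = y := by rw [← e, hby.eq, mul_assoc, sq hD hb, mul_one]
      calc a * y = a * y * a * a := by rw [mul_assoc _ a a, sq hD ha, mul_one]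
        _ = y * a := by rw [e1]
    have h1 := braid hD ha hy hay
    have h2 := braid hD hb hy hby
    rw [h1, h2] at e
    exact hne (mul_left_cancel (mul_right_cancel e)).symm

/-- two distinct members of `D` generating a 2-group commute -/
lemma commute_of_two_group {a b : G} (ha : a ∈ D) (hb : b ∈ D) {T : Subgroup G} (hT : IsPGroup 2 T)
    (haT : a ∈ T) (hbT : b ∈ T) : Commute a b := by
  by_contra h
  have h3 := orderOf_mul_of_not_commute hD ha hb h
  obtain ⟨k, hk⟩ := hT ⟨a * b, mul_mem haT hbT⟩
  have hk' : (a * b) ^ 2 ^ k = 1 := by simpa using congrArg Subtype.val hk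
  have := orderOf_dvd_of_pow_eq_one hk'
  rw [h3] at this
  exact absurd (Nat.Prime.dvd_of_dvd_pow (by norm_num) this) (by norm_num)

end Set

end CfsgLib.ThreeT
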