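/-
Graphs without non-trivial homogeneous sets.
-/
import Mathlib

set_option autoImplicit false

namespace CfsgLib.ThreeT

variable {V : Type*} (R : V → V → Prop)

/-- Every outside vertex is related to all or none of the members. -/
def IsModule (M : Set V) : Prop := ∀ w, w ∉ M → ∀ x ∈ M, ∀ y ∈ M, (R w x ↔ R w y)

/-- Reachability inside a set. -/
def Reach (S : Set V) (x y : V) : Prop :=
  Relation.ReflTransGen (fun p q => p ∈ S ∧ q ∈ S ∧ R p q) x y

theorem reach_symm (hsymm : ∀ x y, R x y → R y x) {S : Set V} {x y : V} (h : Reach R S x y) : Reach R S y x := by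
  induction h with
  | refl => exact Relation.ReflTransGen.refl
  | tail _ hpq ih => exact Relation.ReflTransGen.head ⟨hpq.2.1, hpq.1, hsymm _ _ hpq.2.2⟩ ih

/-- If only trivial sets are modules, and neighbourhoods are alike, they are connected in the complement. -/
theorem neighbourhood_connected [Finite V] (hsymm : ∀ x y, R x y → R y x) (hirr : ∀ x, ¬ R x x)
    (hprime : ∀ M : Set V, IsModule R M → M.Nontrivial → M = Set.univ)
    (hsame : ∀ x a, (∀ b c, R x b → R x c → Reach (fun p q => ¬ R p q) {v | R x v} b c) →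
      ∀ b c, R a b → R a c → Reach (fun p q => ¬ R p q) {v | R a v} b c) (a : V) :
    ∀ b c, R a b → R a c → Reach (fun p q => ¬ R p q) {v | R a v} b c := by
  classical
  let K : V → V → Set V := fun u v => {w | R u w ∧ Reach (fun p q => ¬ R p q) {z | R u z} v w}
  have hsymm' : ∀ p q, ¬ R p q → ¬ R q p := fun p q h h' => h (hsymm _ _ h')
  by_contra hcon
  push Not at hcon
  have hproper : ∀ x v, R x v → ∃ z, R x z ∧ z ∉ K x v := by
    intro x v hv
    by_contra hall
    push Not at hall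
    obtain ⟨b, c, hb, hc, hbc⟩ := hcon
    exact hbc (hsame x a (fun p q hp hq => (reach_symm _ hsymm' (hall p hp).2).trans (hall q hq).2) b c hb hc)
  obtain ⟨b, c, hb, hc, -⟩ := hcon
  obtain ⟨⟨x₀, v₀⟩, hxv, hmax⟩ := Set.exists_max_image {p : V × V | R p.1 p.2}
    (fun p => (K p.1 p.2).ncard) (Set.toFinite _) ⟨(a, b), hb⟩
  set C := K x₀ v₀ with hC
  have hv₀ : v₀ ∈ C := ⟨hxv, Relation.ReflTransGen.refl⟩
  let P : Set V := {u | ∀ w ∈ C, R u w}
  -- `C` is a whole piece at every vertex seeing it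
  have hout : ∀ u ∈ P, ∀ w, R u w → w ∉ C → w ∈ P := by
    intro u hu w huw hwC q hq
    by_contra hwq
    have hpath : ∀ s, Reach (fun p q => ¬ R p q) {t | R x₀ t} v₀ s →
        Reach (fun p q => ¬ R p q) {t | R u t} v₀ s := by
      intro s hs
      induction hs with
      | refl => exact Relation.ReflTransGen.refl
      | @tail p q hp hpq ih =>
        exact ih.tail ⟨hu p ⟨hpq.1, hp⟩, hu q ⟨hpq.2.1, hp.tail hpq⟩, hpq.2.2⟩
    have hsub : C ⊆ K u q := fun r hr =>
      ⟨hu r hr, (reach_symm _ hsymm' (hpath q hq.2)).trans (hpath r hr.2)⟩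
    have hwK : w ∈ K u q := ⟨huw, Relation.ReflTransGen.single ⟨hu q hq, huw, hsymm' _ _ hwq⟩⟩
    exact absurd (hmax (u, q) (hu q hq))
      (not_le.mpr (Set.ncard_lt_ncard ⟨hsub, fun h => hwC (h hwK)⟩ (Set.toFinite _)))
  have hx₀ : x₀ ∈ P := fun w hw => hw.1
  obtain ⟨z₀, hxz, hz₀⟩ := hproper x₀ v₀ hxv
  have hmod : IsModule R P := by
    intro w hw x hx y hy
    have key : ∀ x ∈ P, ∀ y ∈ P, R w x → R w y := fun x hx y hy h => by
      have hwC : w ∈ C := by
        by_contra hwC
        exact hw (hout x hx w (hsymm _ _ h) hwC)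
      exact hsymm _ _ (hy w hwC)
    exact ⟨key x hx y hy, key y hy x hx⟩
  have huniv := hprime P hmod ⟨x₀, hx₀, z₀, hout x₀ hx₀ z₀ hxz hz₀, fun e => hirr x₀ (e ▸ hxz)⟩
  exact hirr v₀ ((huniv.ge (Set.mem_univ v₀)) v₀ hv₀)

end CfsgLib.ThreeT
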