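/-
Fischer's rank three theorem for groups with simple commutator subgroup generated by 3-transpositions.
-/
import Cfsg.Agent.Spor3T.Basic
import Cfsg.Agent.Spor3T.Modules
import Cfsg.Agent.ZStar.Final
import Cfsg.Prelude.Def_SporadicB

set_option autoImplicit false
set_option linter.style.haveILetI false

namespace CfsgLib.ThreeT

variable {G : Type*} [Group G] {D : Set G}

section Configurations

variable (hD : Cfsg.IsThreeTranspositionSet D)
include hD

/-- Members joined to `a` and commuting with each other are conjugate under the centraliser of `a`. -/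
theorem conj_in_far {a b c : G} (ha : a ∈ D) (hb : b ∈ D) (hc : c ∈ D) (hab : ¬ Commute a b)
    (hac : ¬ Commute a c) (hbc : Commute b c) : ∃ g : G, Commute g a ∧ g * b * g⁻¹ = c := by
  have A := sq hD ha; have B := sq hD hb; have C := sq hD hc
  have ab : a * b * a = b * a * b := braid hD ha hb hab
  have ac : a * c * a = c * a * c := braid hD ha hc hac
  have bc : b * c = c * b := hbc.eq
  refine ⟨c * a * b * a * c * a, ?_, ?_⟩
  · show c * a * b * a * c * a * a = a * (c * a * b * a * c * a)
    symm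
    calc a * (c * a * b * a * c * a) = (a * c * a) * b * (a * c * a) := by group
      _ = c * a * (c * b * c) * a * c := by rw [ac]; group
      _ = c * a * b * a * c := by rw [← bc, mul_assoc b c c, C, mul_one]
      _ = c * a * b * a * c * a * a := by rw [mul_assoc _ a a, A, mul_one]
  · have hinv : (c * a * b * a * c * a)⁻¹ = a * c * a * b * a * c := by
      simp only [mul_inv_rev, inv hD ha, inv hD hb, inv hD hc, mul_assoc]
    rw [hinv]
    have hcbc : c * b * c = b := by rw [← bc, mul_assoc, C, mul_one]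
    calc c * a * b * a * c * a * b * (a * c * a * b * a * c)
        = c * a * b * ((a * c * a) * b * (a * c * a)) * b * a * c := by group
      _ = c * a * b * (c * a * (c * b * c) * a * c) * b * a * c := by rw [ac]; group
      _ = c * a * (b * c) * (a * b * a) * (c * b) * a * c := by rw [hcbc]; group
      _ = c * a * (c * b) * (b * a * b) * (b * c) * a * c := by rw [ab, bc]
      _ = c * a * c * (b * b) * a * (b * b) * c * a * c := by group
      _ = c * a * c * a * (c * a * c) := by rw [B, mul_one, mul_one]; group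
      _ = a * c * a * a * (a * c * a) := by rw [← ac]
      _ = a * c * (a * a) * a * c * a := by group
      _ = a * (c * a * c) * a := by rw [A, mul_one]; group
      _ = c := by rw [← ac, show a * (a * c * a) * a = (a * a) * c * (a * a) by group, A, one_mul, mul_one]

/-- Non-commuting members commuting with `a` are conjugate under the centraliser of `a`. -/
theorem conj_in_near {a b c : G} (hb : b ∈ D) (hc : c ∈ D) (hab : Commute a b)
    (hac : Commute a c) (hbc : ¬ Commute b c) : ∃ g : G, Commute g a ∧ g * b * g⁻¹ = c := by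
  have B := sq hD hb; have C := sq hD hc
  have bc : b * c * b = c * b * c := braid hD hb hc hbc
  refine ⟨b * c, ((hab.mul_right hac)).symm, ?_⟩
  rw [mul_inv_rev, inv hD hb, inv hD hc]
  calc b * c * b * (c * b) = c * b * (c * c) * b := by rw [bc]; group
    _ = c := by rw [C, mul_one, mul_assoc, B, mul_one]

end Configurations

section Class

variable [Finite G] (hD : Cfsg.IsThreeTranspositionClass D) (hsimple : IsSimpleGroup (commutator G))
  (hnonab : ∃ x y : commutator G, x * y ≠ y * x)

include hD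

omit [Finite G] in
theorem conj_mem {d : G} (hd : d ∈ D) (g : G) : g * d * g⁻¹ ∈ D := by
  obtain ⟨d₀, -, hDd⟩ := hD.2.1
  rw [hDd] at hd ⊢
  show IsConj d₀ (g * d * g⁻¹)
  exact (show IsConj d₀ d from hd).trans (isConj_iff.mpr ⟨g, rfl⟩)

omit [Finite G] in
theorem exists_conj {d e : G} (hd : d ∈ D) (he : e ∈ D) : ∃ g : G, g * d * g⁻¹ = e := by
  obtain ⟨d₀, -, hDd⟩ := hD.2.1
  rw [hDd] at hd he
  exact isConj_iff.mp ((show IsConj d₀ d from hd).symm.trans (show IsConj d₀ e from he))

omit [Finite G] in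
theorem mul_mem_commutator {x y : G} (hx : x ∈ D) (hy : y ∈ D) : x * y ∈ commutator G := by
  obtain ⟨g, rfl⟩ := exists_conj hD hx hy
  have h : x * (g * x * g⁻¹) = x * g * x⁻¹ * g⁻¹ := by rw [inv hD.1 hx]; group
  rw [h]
  exact Subgroup.commutator_mem_commutator (Subgroup.mem_top x) (Subgroup.mem_top g)

omit [Finite G] in
include hnonab in
theorem not_singleton (d : G) : ¬ ∀ e ∈ D, e = d := by
  intro hall
  have hle : ∀ g : G, g ∈ Subgroup.zpowers d := fun g => by
    have : Subgroup.closure D ≤ Subgroup.zpowers d :=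
      (Subgroup.closure_le _).mpr fun e he => by rw [hall e he]; exact Subgroup.mem_zpowers d
    exact this (hD.2.2 ▸ Subgroup.mem_top g)
  obtain ⟨x, y, hxy⟩ := hnonab
  refine hxy (Subtype.ext ?_)
  obtain ⟨i, hi⟩ := Subgroup.mem_zpowers_iff.mp (hle x)
  obtain ⟨j, hj⟩ := Subgroup.mem_zpowers_iff.mp (hle y)
  show (x : G) * y = y * x
  rw [← hi, ← hj]
  exact ((Commute.refl d).zpow_zpow i j).eq

omit [Finite G] in
include hsimple in
theorem normal_cases (N : Subgroup G) [N.Normal] : commutator G ≤ N ∨ ∀ x ∈ commutator G, x ∈ N → x = 1 := by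
  rcases hsimple.eq_bot_or_eq_top_of_normal (N.subgroupOf (commutator G)) inferInstance with h | h
  · refine Or.inr fun x hx hxN => ?_
    have hm : (⟨x, hx⟩ : commutator G) ∈ N.subgroupOf (commutator G) := Subgroup.mem_subgroupOf.mpr hxN
    rw [h, Subgroup.mem_bot] at hm
    exact congrArg Subtype.val hm
  · exact Or.inl (Subgroup.subgroupOf_eq_top.mp h)

omit [Finite G] in
include hsimple in
/-- An invariant equivalence with homogeneous classes is trivial or universal. -/
theorem blocks_trivial (r : D → D → Prop) (hr : Equivalence r)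
    (hinv : ∀ (g : G) (x y : D), r x y → r ⟨_, conj_mem hD x.2 g⟩ ⟨_, conj_mem hD y.2 g⟩)
    (hmod : ∀ x y w : D, r x y → ¬ r w x → (Commute (w : G) x ↔ Commute (w : G) y)) :
    (∀ x y, r x y → x = y) ∨ ∀ x y, r x y := by
  refine or_iff_not_imp_left.mpr fun hne => ?_
  push Not at hne
  obtain ⟨x, y, hxy, hne⟩ := hne
  let act : G → D → D := fun g d => ⟨_, conj_mem hD d.2 g⟩
  have hmul : ∀ g h d, act (g * h) d = act g (act h d) := fun g h d => Subtype.ext (by simp [act, mul_assoc])
  have hone : ∀ d, act 1 d = d := fun d => Subtype.ext (by simp [act])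
  let K : Subgroup G :=
    { carrier := {g | ∀ d, r d (act g d)}
      one_mem' := fun d => (hone d).symm ▸ hr.refl d
      mul_mem' := fun {g h} hg hh d => by
        rw [hmul]; exact hr.trans (hh d) (hg _)
      inv_mem' := fun {g} hg d => by
        have := hinv g⁻¹ _ _ (hg d)
        refine hr.symm ?_
        show r (act g⁻¹ d) d
        have h2 : r (act g⁻¹ d) (act g⁻¹ (act g d)) := this
        rwa [← hmul, inv_mul_cancel, hone] at h2 }
  haveI : K.Normal := ⟨fun n hn g d => by
    have h := hinv g _ _ (hn (act g⁻¹ d))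
    have h2 : r (act g (act g⁻¹ d)) (act g (act n (act g⁻¹ d))) := h
    rw [← hmul, mul_inv_cancel, hone, ← hmul, ← hmul] at h2
    exact h2⟩
  have hself : ∀ z : D, act (z : G) z = z := fun z => Subtype.ext (by simp [act])
  have hu : (x : G) * y ∈ K := by
    intro d
    rw [hmul]
    by_cases hdx : r d x
    · -- everything happens inside the block
      have h1 : r (act y d) (act y x) := hinv _ _ _ hdx
      have h2 : r (act y x) (act y y) := hinv _ _ _ hxy
      rw [hself] at h2
      have h3 : r (act x (act y d)) (act x x) :=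
        hinv _ _ _ (hr.trans h1 (hr.trans h2 (hr.symm hxy)))
      rw [hself] at h3
      exact hr.trans hdx (hr.symm h3)
    · have hiff := hmod x y d hxy hdx
      have hfix : ∀ z : D, Commute (d : G) z → act z d = d := fun z h => Subtype.ext (by
        show (z : G) * d * (z : G)⁻¹ = d
        rw [← h.eq, mul_inv_cancel_right])
      by_cases hc : Commute (d : G) x
      · rw [hfix y (hiff.mp hc), hfix x hc]; exact hr.refl d
      · have hswap : ∀ z : D, ¬ Commute (d : G) z → act z d = act d z := fun z h => Subtype.ext (by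
          show (z : G) * d * (z : G)⁻¹ = (d : G) * z * (d : G)⁻¹
          rw [inv hD.1 z.2, inv hD.1 d.2, braid hD.1 d.2 z.2 h])
        have h1 : r (act d x) (act d y) := hinv _ _ _ hxy
        rw [← hswap x hc, ← hswap y (fun h => hc (hiff.mpr h))] at h1
        have h2 : r (act x (act x d)) (act x (act y d)) := hinv _ _ _ h1
        rw [← hmul x x, sq hD.1 x.2, hone] at h2
        exact h2
  have hle : commutator G ≤ K := (normal_cases hD hsimple K).resolve_right fun h => hne (Subtype.ext (by
    rw [← inv hD.1 x.2]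
    exact inv_eq_of_mul_eq_one_right (h _ (mul_mem_commutator hD x.2 y.2) hu)))
  have hgen : ∀ z : D, (z : G) ∈ K := by
    intro z d
    have h := hle (mul_mem_commutator hD z.2 d.2) d
    rwa [hmul, hself] at h
  intro p q
  obtain ⟨g, hg⟩ := exists_conj hD p.2 q.2
  have htop : g ∈ K := by
    have : Subgroup.closure D ≤ K := (Subgroup.closure_le _).mpr fun z hz => hgen ⟨z, hz⟩
    exact this (hD.2.2 ▸ Subgroup.mem_top g)
  have h := htop p
  rwa [show act g p = q from Subtype.ext hg] at h

include hsimple hnonab in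
/-- Some pair of distinct members commutes. -/
theorem exists_commuting : ∃ a b : D, a ≠ b ∧ Commute (a : G) b := by
  classical
  by_contra hall
  push Not at hall
  obtain ⟨d₀, hd₀, hDd⟩ := hD.2.1
  have hiso : Cfsg.IsIsolatedInvolution d₀ := ⟨hD.1.1 d₀ hd₀, fun g hg => by
    by_contra hne
    exact hall ⟨d₀, hd₀⟩ ⟨_, conj_mem hD hd₀ g⟩ (fun e => hne (congrArg Subtype.val e).symm) hg⟩
  obtain ⟨N, hN, hodd, hNc⟩ := CfsgLib.ZStar.zstar hiso
  have hle : commutator G ≤ N := by
    refine (normal_cases hD hsimple N).resolve_right fun h => not_singleton hD hnonab d₀ fun e he => ?_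
    obtain ⟨g, rfl⟩ := exists_conj hD hd₀ he
    have h1 := h _ (Subgroup.commutator_mem_commutator (Subgroup.mem_top d₀) (Subgroup.mem_top g)) (hNc g)
    rw [commutatorElement_def] at h1
    have h2 : g * d₀ * g⁻¹ = (d₀ * g * d₀⁻¹ * g⁻¹)⁻¹ * d₀ := by group
    rw [h2, h1, inv_one, one_mul]
  set M := commutator G with hM
  have hModd : Odd (Nat.card M) := hodd.of_dvd_nat (Subgroup.card_dvd_of_le hle)
  have hnotM : ∀ z ∈ D, z ∉ M := fun z hz hzM => by
    have h := orderOf_dvd_natCard (⟨z, hzM⟩ : M)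
    rw [Subgroup.orderOf_mk, hD.1.1 z hz] at h
    exact (Nat.not_even_iff_odd.mpr hModd) (even_iff_two_dvd.mpr h)
  -- the commutator subgroup has index two
  have hcover : ∀ g : G, g ∈ M ∨ g * d₀ ∈ M := by
    have hmem : ∀ z ∈ D, z * d₀ ∈ M := fun z hz => mul_mem_commutator hD hz hd₀
    intro g
    have hd : d₀ * d₀ = 1 := sq hD.1 hd₀
    have hn : ∀ m ∈ M, d₀ * m * d₀ ∈ M := fun m hm => by
      have h := (inferInstance : M.Normal).conj_mem m hm d₀
      rwa [inv hD.1 hd₀] at h
    have hc : ∀ u : G, d₀ * (d₀ * u) = u := invol_cancel (hD.1.1 d₀ hd₀)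
    induction (hD.2.2 ▸ Subgroup.mem_top g : g ∈ Subgroup.closure D) using Subgroup.closure_induction with
    | mem z hz => exact Or.inr (hmem z hz)
    | one => exact Or.inl (one_mem _)
    | mul x y _ _ hx hy =>
      rcases hx with hx | hx <;> rcases hy with hy | hy
      · exact Or.inl (mul_mem hx hy)
      · exact Or.inr (by rw [mul_assoc]; exact mul_mem hx hy)
      · refine Or.inr ?_
        have := mul_mem hx (hn y hy)
        simpa only [mul_assoc, hc] using this
      · refine Or.inl ?_
        have := mul_mem hx (hn _ hy)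
        simpa only [mul_assoc, hc, hd, mul_one] using this
    | inv x _ hx =>
      rcases hx with hx | hx
      · exact Or.inl (inv_mem hx)
      · refine Or.inr ?_
        have := hn _ (inv_mem hx)
        simpa only [mul_inv_rev, inv hD.1 hd₀, mul_assoc, hc] using this
  have hidx : M.index = 2 := Subgroup.index_eq_two_iff.mpr ⟨d₀, fun g => by
    rcases hcover g with h | h
    · refine Or.inr ⟨h, fun h' => hnotM d₀ hd₀ ?_⟩
      have := mul_mem (inv_mem h) h'
      rwa [inv_mul_cancel_left] at this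
    · refine Or.inl ⟨h, fun h' => hnotM d₀ hd₀ ?_⟩
      have := mul_mem (inv_mem h') h
      rwa [inv_mul_cancel_left] at this⟩
  have hcard : Nat.card M * 2 = Nat.card G := hidx ▸ M.card_mul_index
  haveI : Fact (Nat.Prime 2) := ⟨Nat.prime_two⟩
  have hinvol : ∀ u : G, orderOf u = 2 → u ∈ D := by
    intro u hu
    obtain ⟨S, hS⟩ := (IsPGroup.of_card (n := 1) (G := Subgroup.zpowers u)
      (by rw [Nat.card_zpowers, hu, pow_one])).exists_le_sylow
    obtain ⟨S', hS'⟩ := (IsPGroup.of_card (n := 1) (G := Subgroup.zpowers d₀)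
      (by rw [Nat.card_zpowers, hD.1.1 d₀ hd₀, pow_one])).exists_le_sylow
    have hc : ∀ T : Sylow 2 G, Nat.card (T : Subgroup G) = 2 := fun T => by
      rw [T.card_eq_multiplicity, ← hcard, Nat.factorization_mul Nat.card_pos.ne' two_ne_zero, Finsupp.add_apply,
        Nat.factorization_eq_zero_of_not_dvd (fun h => (Nat.not_even_iff_odd.mpr hModd) (even_iff_two_dvd.mpr h)),
        zero_add, Nat.Prime.factorization_self Nat.prime_two, pow_one]
    obtain ⟨g, hg⟩ := MulAction.exists_smul_eq G S' S
    have hSe : (S' : Subgroup G) = Subgroup.zpowers d₀ :=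
      (Subgroup.eq_of_le_of_card_ge hS' (by rw [hc, Nat.card_zpowers, hD.1.1 d₀ hd₀])).symm
    have hmem : u ∈ (g • S' : Sylow 2 G).1 := hg ▸ hS (Subgroup.mem_zpowers u)
    obtain ⟨w, hw, rfl⟩ := hmem
    obtain ⟨i, rfl⟩ := Subgroup.mem_zpowers_iff.mp (hSe ▸ hw : w ∈ Subgroup.zpowers d₀)
    rcases Int.even_or_odd i with ⟨k, hk⟩ | ⟨k, hk⟩
    · exfalso
      apply ne_one_of_orderOf hu
      rw [hk, ← two_mul, zpow_mul, zpow_two, sq hD.1 hd₀, one_zpow]
      simp
    · rw [hk, zpow_add, zpow_mul, zpow_two, sq hD.1 hd₀, one_zpow, one_mul, zpow_one]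
      exact conj_mem hD hd₀ g
  -- the class has three-power size
  set C := Subgroup.centralizer ({d₀} : Set G) with hCdef
  have hCeven : 2 ∣ Nat.card C := by
    have := orderOf_dvd_natCard (⟨d₀, Subgroup.mem_centralizer_singleton_iff.mpr rfl⟩ : C)
    rwa [Subgroup.orderOf_mk, hD.1.1 d₀ hd₀] at this
  have hfrattini : ∀ (p : ℕ) [Fact p.Prime] (Q : Sylow p M),
      ∃ t ∈ D, t ∈ Subgroup.normalizer (((Q : Subgroup M).map M.subtype : Subgroup G) : Set G) := by
    intro p _ Q
    set Qm := (Q : Subgroup M).map M.subtype with hQm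
    have hfr := Sylow.normalizer_sup_eq_top Q
    have h2N : 2 ∣ Nat.card (Subgroup.normalizer (Qm : Set G)) := by
      by_contra hcon
      -- an odd order normaliser would lie inside `M`
      have hsub : Subgroup.normalizer (Qm : Set G) ≤ M := fun n hn => by
        rcases hcover n with h | h
        · exact h
        · exfalso
          have ho : Odd (orderOf n) := Odd.of_dvd_nat (Nat.odd_iff.mpr (Nat.two_dvd_ne_zero.mp hcon))
            (by rw [← Subgroup.orderOf_mk n hn]; exact orderOf_dvd_natCard _)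
          obtain ⟨k, hk⟩ := ho
          have hn2 : n * n ∈ M := (Subgroup.mul_mem_iff_of_index_two hidx).mpr Iff.rfl
          have : n ∈ M := by
            have h1 : (n * n) ^ (k + 1) = n := by
              rw [← pow_two, ← pow_mul, show 2 * (k + 1) = orderOf n + 1 by omega, pow_succ, pow_orderOf_eq_one, one_mul]
            exact h1 ▸ pow_mem hn2 _
          refine hnotM d₀ hd₀ ?_
          have := mul_mem (inv_mem this) h
          rwa [inv_mul_cancel_left] at this
      rw [sup_eq_right.mpr hsub] at hfr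
      have : M.index = 1 := Subgroup.index_eq_one.mpr hfr
      omega
    obtain ⟨⟨t, htN⟩, hto⟩ := exists_prime_orderOf_dvd_card' 2 h2N
    rw [Subgroup.orderOf_mk] at hto
    exact ⟨t, hinvol t hto, htN⟩
  have hpdvd : ∀ p : ℕ, p.Prime → p ≠ 3 → ¬ p ∣ C.index := by
    intro p hp hp3 hdvd
    haveI := Fact.mk hp
    by_cases hp2 : p = 2
    · subst hp2
      have h4 : 2 * 2 ∣ Nat.card G := C.card_mul_index ▸ Nat.mul_dvd_mul hCeven hdvd
      rw [← hcard] at h4
      exact (Nat.not_even_iff_odd.mpr hModd)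
        (even_iff_two_dvd.mpr (Nat.dvd_of_mul_dvd_mul_right two_pos h4))
    obtain ⟨Q⟩ : Nonempty (Sylow p M) := Sylow.nonempty
    set Qm := (Q : Subgroup M).map M.subtype with hQm
    obtain ⟨t, htD, htN⟩ := hfrattini p Q
    have hQc : Qm ≤ Subgroup.centralizer ({t} : Set G) := by
      intro q hq
      have h1 : t * q * t⁻¹ * q⁻¹ ∈ Qm := mul_mem ((Subgroup.mem_normalizer_iff.mp htN q).mp hq) (inv_mem hq)
      have h2 : t * q * t⁻¹ * q⁻¹ = t * (q * t * q⁻¹) := by rw [inv hD.1 htD]; group
      have h3 : t * (q * t * q⁻¹) = 1 := by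
        have hp' : IsPGroup p Qm := Q.2.map _
        obtain ⟨j, hj⟩ := hp' ⟨_, h1⟩
        have hj' : (t * (q * t * q⁻¹)) ^ p ^ j = 1 := by rw [← h2]; exact congrArg Subtype.val hj
        by_cases hc : Commute t (q * t * q⁻¹)
        · have hsq := sq_of_commute (hD.1.1 t htD) (hD.1.1 _ (conj_mem hD htD q)) hc
          rw [← orderOf_eq_one_iff]
          exact Nat.eq_one_of_dvd_coprimes
            (Nat.Coprime.pow_left j ((Nat.coprime_primes hp Nat.prime_two).mpr hp2))
            (orderOf_dvd_of_pow_eq_one hj') (orderOf_dvd_of_pow_eq_one hsq)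
        · rw [← orderOf_eq_one_iff]
          exact Nat.eq_one_of_dvd_coprimes
            (Nat.Coprime.pow_left j ((Nat.coprime_primes hp (by norm_num)).mpr hp3))
            (orderOf_dvd_of_pow_eq_one hj')
            (orderOf_dvd_of_pow_eq_one (cube_of_not_commute hD.1 htD (conj_mem hD htD q) hc))
      rw [mul_eq_one_iff_eq_inv, mul_inv_rev, mul_inv_rev, inv_inv, inv hD.1 htD] at h3
      refine Subgroup.mem_centralizer_singleton_iff.mpr ?_
      calc q * t = q * (t * q⁻¹) * q := by group
        _ = t * q := by rw [← h3]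
    have hQcard : Nat.card Qm = p ^ (Nat.card M).factorization p := by
      rw [hQm, Subgroup.card_map_of_injective M.subtype_injective, Q.card_eq_multiplicity]
    obtain ⟨g, hg⟩ := exists_conj hD htD hd₀
    have hCt : Nat.card (Subgroup.centralizer ({t} : Set G)) = Nat.card C := by
      refine Nat.card_congr ((MulAut.conj g).toEquiv.subtypeEquiv fun z => ?_)
      show z ∈ Subgroup.centralizer ({t} : Set G) ↔ g * z * g⁻¹ ∈ C
      rw [hCdef, Subgroup.mem_centralizer_singleton_iff, Subgroup.mem_centralizer_singleton_iff, ← hg]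
      exact (commute_conj_iff g z t).symm
    have h1 : p ^ (Nat.card M).factorization p ∣ Nat.card C := hQcard ▸ hCt ▸ Subgroup.card_dvd_of_le hQc
    have h2 : p ^ (Nat.card G).factorization p ∣ Nat.card C := by
      rwa [← hcard, Nat.factorization_mul Nat.card_pos.ne' two_ne_zero, Finsupp.add_apply,
        Nat.factorization_eq_zero_of_not_dvd
          (fun h => hp2 ((Nat.prime_dvd_prime_iff_eq hp Nat.prime_two).mp h)), add_zero]
    have h3 : p ^ ((Nat.card G).factorization p + 1) ∣ Nat.card G := by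
      conv_rhs => rw [← C.card_mul_index]
      rw [pow_succ]; exact Nat.mul_dvd_mul h2 hdvd
    exact Nat.pow_succ_factorization_not_dvd Nat.card_pos.ne' hp h3
  obtain ⟨k, hk⟩ : ∃ k, C.index = 3 ^ k := ⟨_, Nat.eq_prime_pow_of_unique_prime_dvd
    Subgroup.index_ne_zero_of_finite fun {d} hd hdd => by_contra fun h => hpdvd d hd h hdd⟩
  -- a Sylow 3-subgroup of `M` is already transitive on the class
  haveI : Fact (Nat.Prime 3) := ⟨by norm_num⟩
  obtain ⟨Q⟩ : Nonempty (Sylow 3 M) := Sylow.nonempty
  obtain ⟨t, htD, htN⟩ := hfrattini 3 Q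
  set P := (Q : Subgroup M).map M.subtype with hP
  have hPM : P ≤ M := Subgroup.map_subtype_le _
  have hPc : Nat.card P = 3 ^ (Nat.card G).factorization 3 := by
    rw [hP, Subgroup.card_map_of_injective M.subtype_injective, Q.card_eq_multiplicity, ← hcard,
      Nat.factorization_mul Nat.card_pos.ne' two_ne_zero, Finsupp.add_apply,
      Nat.factorization_eq_zero_of_not_dvd (show ¬ 3 ∣ 2 by norm_num), add_zero]
  let X := {z : G // z ∈ D}
  letI : MulAction G X :=
    { smul := fun g z => ⟨_, conj_mem hD z.2 g⟩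
      one_smul := fun z => Subtype.ext (by show (1 : G) * z * 1⁻¹ = z; simp)
      mul_smul := fun g h z => Subtype.ext (by show g * h * z * (g * h)⁻¹ = g * (h * z * h⁻¹) * g⁻¹; group) }
  haveI : MulAction.IsPretransitive G X := ⟨fun p q => by
    obtain ⟨g, hg⟩ := exists_conj hD p.2 q.2
    exact ⟨g, Subtype.ext hg⟩⟩
  have hstabC : MulAction.stabilizer G (⟨d₀, hd₀⟩ : X) = C := by
    ext g
    rw [MulAction.mem_stabilizer_iff, hCdef, Subgroup.mem_centralizer_singleton_iff]
    exact ⟨fun h => mul_inv_eq_iff_eq_mul.mp (congrArg Subtype.val h),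
      fun h => Subtype.ext (mul_inv_eq_iff_eq_mul.mpr h)⟩
  have hXc : Nat.card X = 3 ^ k := by
    rw [← hk, ← hstabC, MulAction.index_stabilizer_of_transitive]
  set s := MulAction.stabilizer P (⟨t, htD⟩ : X) with hs
  have horb : MulAction.orbit P (⟨t, htD⟩ : X) = Set.univ := by
    refine Set.eq_of_subset_of_ncard_le (Set.subset_univ _) ?_ (Set.toFinite _)
    rw [Set.ncard_univ, hXc, ← MulAction.index_stabilizer, ← hs]
    obtain ⟨j, -, hj⟩ := (Nat.dvd_prime_pow (by norm_num)).mp (hPc ▸ Subgroup.card_subgroup_dvd_card s)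
    have hsC : Nat.card s ∣ Nat.card (MulAction.stabilizer G (⟨t, htD⟩ : X)) := by
      rw [← Subgroup.card_map_of_injective P.subtype_injective]
      refine Subgroup.card_dvd_of_le ?_
      rintro _ ⟨z, hz, rfl⟩
      exact hz
    have h1 : 3 ^ (j + k) ∣ Nat.card G := by
      rw [← (MulAction.stabilizer G (⟨t, htD⟩ : X)).card_mul_index, MulAction.index_stabilizer_of_transitive,
        hXc, pow_add]
      exact Nat.mul_dvd_mul_right (hj ▸ hsC) _
    have h2 : j + k ≤ (Nat.card G).factorization 3 :=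
      ((Nat.Prime.pow_dvd_iff_le_factorization (by norm_num) Nat.card_pos.ne').mp h1)
    have h3 := s.card_mul_index
    rw [hPc, hj] at h3
    refine Nat.le_of_mul_le_mul_left ?_ (pow_pos (show 0 < 3 by norm_num) j)
    rw [h3, ← pow_add]
    exact Nat.pow_le_pow_right (by norm_num) h2
  -- hence it is normalised by everything
  have hgen : ∀ e ∈ D, e ∈ Subgroup.normalizer (P : Set G) ∧ (P = ⊥ → e = t) := by
    intro e he
    obtain ⟨p, hp⟩ : (⟨e, he⟩ : X) ∈ MulAction.orbit P (⟨t, htD⟩ : X) := horb ▸ Set.mem_univ _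
    have : e = (p : G) * t * (p : G)⁻¹ := (congrArg Subtype.val hp).symm
    refine ⟨?_, fun hbot => ?_⟩
    · rw [this]
      exact mul_mem (mul_mem (Subgroup.le_normalizer p.2) htN) (inv_mem (Subgroup.le_normalizer p.2))
    · rw [this, Subgroup.mem_bot.mp (hbot ▸ p.2 : (p : G) ∈ (⊥ : Subgroup G)), one_mul, inv_one, mul_one]
  haveI : P.Normal := Subgroup.normalizer_eq_top_iff.mp (top_le_iff.mp
    (hD.2.2 ▸ (Subgroup.closure_le _).mpr fun e he => (hgen e he).1))
  rcases normal_cases hD hsimple P with h | h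
  · -- a simple 3-group is commutative
    obtain ⟨x, y, hxy⟩ := hnonab
    haveI := hsimple
    have hp3 : IsPGroup 3 M := (IsPGroup.of_card hPc).to_le h
    haveI := hp3.center_nontrivial
    rcases hsimple.eq_bot_or_eq_top_of_normal (Subgroup.center M) inferInstance with hc | hc
    · exact (Subgroup.nontrivial_iff_ne_bot _).mp hp3.center_nontrivial hc
    · exact hxy ((Subgroup.mem_center_iff.mp (hc ▸ Subgroup.mem_top y : y ∈ Subgroup.center M) x))
  · exact not_singleton hD hnonab t fun e he => (hgen e he).2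
      ((Subgroup.eq_bot_iff_forall _).mpr fun z hz => h z (hPM hz) hz)

include hsimple hnonab in
theorem connected_both :
    (∀ x y : D, Relation.ReflTransGen (fun p q : D => ¬ Commute (p : G) q) x y) ∧
      ∀ x y : D, Relation.ReflTransGen (fun p q : D => Commute (p : G) q) x y := by
  have hinv : ∀ (R : D → D → Prop) (g : G),
      (∀ p q : D, R p q → R ⟨_, conj_mem hD p.2 g⟩ ⟨_, conj_mem hD q.2 g⟩) → ∀ x y : D,
        Relation.ReflTransGen R x y → Relation.ReflTransGen R ⟨_, conj_mem hD x.2 g⟩ ⟨_, conj_mem hD y.2 g⟩ := by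
    intro R g hR x y h
    exact Relation.ReflTransGen.lift (fun d : D => (⟨_, conj_mem hD d.2 g⟩ : D)) hR x y h
  have hsymm : ∀ (R : D → D → Prop), (∀ p q, R p q → R q p) → Equivalence (Relation.ReflTransGen R) := by
    intro R hR
    refine ⟨fun _ => Relation.ReflTransGen.refl, fun h => ?_, Relation.ReflTransGen.trans⟩
    induction h with
    | refl => exact Relation.ReflTransGen.refl
    | tail _ hpq ih => exact Relation.ReflTransGen.head (hR _ _ hpq) ih
  constructor
  · refine (blocks_trivial hD hsimple _ (hsymm (fun p q : D => ¬ Commute (p : G) q) (fun p q h h' => h h'.symm))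
      (fun g x y h => hinv _ g (fun p q hpq hc => hpq ((commute_conj_iff g _ _).mp hc)) x y h)
      (fun x y w hxy hwx => ?_)).resolve_left fun hall => ?_
    · have h1 : Commute (w : G) x := by_contra fun hc => hwx (Relation.ReflTransGen.single hc)
      have h2 : Commute (w : G) y := by_contra fun hc =>
        hwx ((Relation.ReflTransGen.single (r := fun p q : D => ¬ Commute (p : G) q) hc).trans
          ((hsymm _ (fun p q h h' => h h'.symm)).symm hxy))
      exact iff_of_true h1 h2
    · obtain ⟨x, y, hxy⟩ := hnonab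
      have hab : ∀ p ∈ D, ∀ q ∈ D, p * q = q * p := fun p hp q hq => by
        by_contra hc
        have he : (⟨p, hp⟩ : D) = ⟨q, hq⟩ :=
          hall _ _ (Relation.ReflTransGen.single (r := fun p q : D => ¬ Commute (p : G) q) hc)
        exact hc (by rw [show p = q from congrArg Subtype.val he])
      have hcen : ∀ u : G, ∀ p ∈ D, u * p = p * u := fun u p hp => by
        have hle : Subgroup.closure D ≤ Subgroup.centralizer ({p} : Set G) := (Subgroup.closure_le _).mpr
          fun q hq => Subgroup.mem_centralizer_singleton_iff.mpr (hab q hq p hp)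
        exact Subgroup.mem_centralizer_singleton_iff.mp (hle (hD.2.2 ▸ Subgroup.mem_top u))
      refine hxy (Subtype.ext ?_)
      have hle : Subgroup.closure D ≤ Subgroup.centralizer ({(y : G)} : Set G) := (Subgroup.closure_le _).mpr
        fun q hq => Subgroup.mem_centralizer_singleton_iff.mpr (hcen (y : G) q hq).symm
      exact Subgroup.mem_centralizer_singleton_iff.mp (hle (hD.2.2 ▸ Subgroup.mem_top (x : G)))
  · refine (blocks_trivial hD hsimple _ (hsymm (fun p q : D => Commute (p : G) q) (fun p q h => h.symm))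
      (fun g x y h => hinv _ g (fun p q hpq => (commute_conj_iff g _ _).mpr hpq) x y h)
      (fun x y w hxy hwx => ?_)).resolve_left fun hall => ?_
    · have h1 : ¬ Commute (w : G) x := fun hc => hwx (Relation.ReflTransGen.single hc)
      have h2 : ¬ Commute (w : G) y := fun hc =>
        hwx ((Relation.ReflTransGen.single (r := fun p q : D => Commute (p : G) q) hc).trans
          ((hsymm _ (fun p q h => h.symm)).symm hxy))
      exact iff_of_false h1 h2
    · obtain ⟨a, b, hab, hc⟩ := exists_commuting hD hsimple hnonab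
      exact hab (hall a b (Relation.ReflTransGen.single hc))

include hsimple hnonab in
/-- Only trivial sets of members are homogeneous for the commuting relation. -/
theorem modules_trivial (M : Set D) (hM : ∀ w, w ∉ M → ∀ x ∈ M, ∀ y ∈ M, (Commute (w : G) x ↔ Commute (w : G) y))
    (hnt : M.Nontrivial) : M = Set.univ := by
  classical
  obtain ⟨hN, hC⟩ := connected_both hD hsimple hnonab
  let Pm : Set D → Prop := fun M =>
    (∀ w, w ∉ M → ∀ x ∈ M, ∀ y ∈ M, (Commute (w : G) x ↔ Commute (w : G) y)) ∧ M ≠ Set.univ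
  have hunion : ∀ A B : Set D, Pm A → Pm B → ∀ p, p ∈ A → p ∈ B → Pm (A ∪ B) := by
    intro A B hA hB p hpA hpB
    refine ⟨fun w hw => ?_, fun huniv => ?_⟩
    · have key : ∀ x ∈ A ∪ B, (Commute (w : G) x ↔ Commute (w : G) p) := fun x hx =>
        hx.elim (fun h => hA.1 w (fun h' => hw (Or.inl h')) x h p hpA) (fun h => hB.1 w (fun h' => hw (Or.inr h')) x h p hpB)
      exact fun x hx y hy => (key x hx).trans (key y hy).symm
    · -- one of the two graphs would be disconnected
      obtain ⟨v, hv⟩ : ∃ v, v ∉ A := by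
        by_contra h; push Not at h; exact hA.2 (Set.eq_univ_of_forall h)
      obtain ⟨m, hm⟩ : ∃ m, m ∉ B := by
        by_contra h; push Not at h; exact hB.2 (Set.eq_univ_of_forall h)
      have hinB : ∀ u, u ∉ A → u ∈ B := fun u hu => (huniv.ge (Set.mem_univ u) : u ∈ A ∪ B).resolve_left hu
      have hmA : m ∈ A := (huniv.ge (Set.mem_univ m) : m ∈ A ∪ B).resolve_right hm
      have hconst : ∀ u, u ∉ A → ∀ n ∈ A, (Commute (u : G) n ↔ Commute (v : G) m) := by
        intro u hu n hn
        refine (hA.1 u hu n hn m hmA).trans ?_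
        rw [Commute.symm_iff (a := (u : G)), Commute.symm_iff (a := (v : G))]
        exact hB.1 m hm u (hinB u hu) v (hinB v hv)
      by_cases hc : Commute (v : G) m
      · have hcl : ∀ q, Relation.ReflTransGen (fun p q : D => ¬ Commute (p : G) q) v q → q ∉ A := by
          intro q hq
          induction hq with
          | refl => exact hv
          | @tail p q _ hpq ih => exact fun hqA => hpq ((hconst p ih q hqA).mpr hc)
        exact hcl m (hN v m) hmA
      · have hcl : ∀ q, Relation.ReflTransGen (fun p q : D => Commute (p : G) q) v q → q ∉ A := by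
          intro q hq
          induction hq with
          | refl => exact hv
          | @tail p q _ hpq ih => exact fun hqA => hc ((hconst p ih q hqA).mp hpq)
        exact hcl m (hC v m) hmA
  let r : D → D → Prop := fun x y => x = y ∨ ∃ A, Pm A ∧ x ∈ A ∧ y ∈ A
  have hr : Equivalence r := by
    refine ⟨fun x => Or.inl rfl, fun h => h.imp Eq.symm fun ⟨A, h1, h2, h3⟩ => ⟨A, h1, h3, h2⟩, ?_⟩
    intro x y z h h'
    rcases h with rfl | ⟨A, hA, hxA, hyA⟩
    · exact h'
    rcases h' with rfl | ⟨B, hB, hyB, hzB⟩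
    · exact Or.inr ⟨A, hA, hxA, hyA⟩
    · exact Or.inr ⟨_, hunion A B hA hB y hyA hyB, Or.inl hxA, Or.inr hzB⟩
  have hinv : ∀ (g : G) (x y : D), r x y → r ⟨_, conj_mem hD x.2 g⟩ ⟨_, conj_mem hD y.2 g⟩ := by
    intro g x y h
    rcases h with rfl | ⟨A, ⟨hA, hne⟩, hxA, hyA⟩
    · exact Or.inl rfl
    have hback : ∀ z : D, (⟨_, conj_mem hD (conj_mem hD z.2 g) g⁻¹⟩ : D) = z := fun z =>
      Subtype.ext (by simp [mul_assoc])
    refine Or.inr ⟨{z | (⟨_, conj_mem hD z.2 g⁻¹⟩ : D) ∈ A}, ⟨?_, fun hu => hne (Set.eq_univ_of_forall fun z => ?_)⟩,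
      show _ ∈ A by rw [hback]; exact hxA, show _ ∈ A by rw [hback]; exact hyA⟩
    · intro w hw p hp q hq
      rw [← commute_conj_iff g⁻¹ (w : G) p, ← commute_conj_iff g⁻¹ (w : G) q]
      exact hA _ hw _ hp _ hq
    · have h : (⟨_, conj_mem hD (conj_mem hD z.2 g) g⁻¹⟩ : D) ∈ A := hu.ge (Set.mem_univ (⟨_, conj_mem hD z.2 g⟩ : D))
      rwa [hback] at h
  by_contra hne
  obtain ⟨x, hx, y, hy, hxy⟩ := hnt
  have hmod : ∀ p q w : D, r p q → ¬ r w p → (Commute (w : G) p ↔ Commute (w : G) q) := by
    intro p q w hpq hwp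
    rcases hpq with rfl | ⟨A, ⟨hA, hne'⟩, hpA, hqA⟩
    · exact Iff.rfl
    · exact hA w (fun hw => hwp (Or.inr ⟨A, ⟨hA, hne'⟩, hw, hpA⟩)) p hpA q hqA
  rcases blocks_trivial hD hsimple r hr hinv hmod with h | h
  · exact hxy (h x y (Or.inr ⟨M, ⟨hM, hne⟩, hx, hy⟩))
  · obtain ⟨A, ⟨hA, hAx⟩, hmax⟩ := Set.exists_max_image {A : Set D | Pm A ∧ x ∈ A} Set.ncard (Set.toFinite _)
      ⟨M, ⟨hM, hne⟩, hx⟩
    refine hA.2 (Set.eq_univ_of_forall fun z => ?_)
    rcases h x z with rfl | ⟨B, hB, hxB, hzB⟩
    · exact hAx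
    by_contra hz
    exact absurd (hmax (A ∪ B) ⟨hunion A B hA hB x hAx hxB, Or.inl hAx⟩)
      (not_le.mpr (Set.ncard_lt_ncard ⟨Set.subset_union_left, fun h => hz (h (Or.inr hzB))⟩ (Set.toFinite _)))

include hsimple hnonab in
/-- Fischer: the centraliser of a member has exactly two orbits on the other members. -/
theorem rank_three {a : G} (ha : a ∈ D) :
    (∃ b ∈ D, b ≠ a ∧ Commute a b) ∧ (∃ c ∈ D, ¬ Commute a c) ∧
      (∀ b ∈ D, ∀ b' ∈ D, b ≠ a → b' ≠ a → Commute a b → Commute a b' → ∃ g : G, Commute g a ∧ g * b * g⁻¹ = b') ∧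
      (∀ c ∈ D, ∀ c' ∈ D, ¬ Commute a c → ¬ Commute a c' → ∃ g : G, Commute g a ∧ g * c * g⁻¹ = c') := by
  classical
  haveI : Finite D := Subtype.finite
  obtain ⟨hN, hC⟩ := connected_both hD hsimple hnonab
  have hprime := modules_trivial hD hsimple hnonab
  obtain ⟨p, q, hpq, hcpq⟩ := exists_commuting hD hsimple hnonab
  obtain ⟨g, hg⟩ := exists_conj hD p.2 ha
  have hex : ∃ b ∈ D, b ≠ a ∧ Commute a b := by
    refine ⟨g * q * g⁻¹, conj_mem hD q.2 g, fun e => hpq (Subtype.ext ?_), hg ▸ (commute_conj_iff g _ _).mpr hcpq⟩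
    rw [← hg] at e
    exact (mul_left_cancel (mul_right_cancel e)).symm
  have hexc : ∃ c ∈ D, ¬ Commute a c := by
    obtain ⟨b, hb, hba, -⟩ := hex
    rcases (hN ⟨a, ha⟩ ⟨b, hb⟩).cases_head with h | ⟨c, hc, -⟩
    · exact absurd (congrArg Subtype.val h).symm hba
    · exact ⟨c, c.2, hc⟩
  let cg : G → D → D := fun g d => ⟨_, conj_mem hD d.2 g⟩
  have hmapR : ∀ (R : D → D → Prop) (g : G), (∀ p q, R (cg g p) (cg g q) ↔ R p q) → ∀ (x : D) (y : D), cg g x = y →
      (∀ b c, R x b → R x c → Reach (fun p q => ¬ R p q) {v | R x v} b c) →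
      ∀ b c, R y b → R y c → Reach (fun p q => ¬ R p q) {v | R y v} b c := by
    rintro R g hR x _ rfl h b c hb hc
    have hsurj : ∀ z, cg g (cg g⁻¹ z) = z := fun z => Subtype.ext (by simp [cg, mul_assoc])
    have hpath : ∀ u v, Reach (fun p q => ¬ R p q) {v | R x v} u v →
        Reach (fun p q => ¬ R p q) {v | R (cg g x) v} (cg g u) (cg g v) := fun u v huv =>
      Relation.ReflTransGen.lift (cg g) (fun s t hst => ⟨(hR x s).mpr hst.1, (hR x t).mpr hst.2.1, fun e => hst.2.2 ((hR s t).mp e)⟩) u v huv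
    rw [← hsurj b] at hb ⊢
    rw [← hsurj c] at hc ⊢
    exact hpath _ _ (h _ _ ((hR _ _).mp hb) ((hR _ _).mp hc))
  have hcg : ∀ g (p q : D), cg g p = cg g q ↔ p = q := fun g p q =>
    ⟨fun e => Subtype.ext (mul_left_cancel (mul_right_cancel (congrArg Subtype.val e))), fun e => e ▸ rfl⟩
  let R1 : D → D → Prop := fun p q => p ≠ q ∧ Commute (p : G) q
  let R2 : D → D → Prop := fun p q => ¬ Commute (p : G) q
  have hR1 : ∀ g p q, R1 (cg g p) (cg g q) ↔ R1 p q := fun g p q =>
    and_congr (not_congr (hcg g p q)) (commute_conj_iff g _ _)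
  have hR2 : ∀ g p q, R2 (cg g p) (cg g q) ↔ R2 p q := fun g p q => not_congr (commute_conj_iff g _ _)
  have horbit : ∀ (R : D → D → Prop),
      (∀ u v : D, R ⟨a, ha⟩ u → R ⟨a, ha⟩ v → ¬ R u v → ∃ g : G, Commute g a ∧ g * u * g⁻¹ = v) →
      ∀ u v : D, Reach (fun p q => ¬ R p q) {v | R ⟨a, ha⟩ v} u v → ∃ g : G, Commute g a ∧ g * u * g⁻¹ = v := by
    intro R hstep u v huv
    induction huv with
    | refl => exact ⟨1, Commute.one_left a, by simp⟩
    | tail _ hst ih =>
      obtain ⟨g, hga, hgu⟩ := ih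
      obtain ⟨k, hka, hk⟩ := hstep _ _ hst.1 hst.2.1 hst.2.2
      exact ⟨k * g, hka.mul_left hga, by rw [← hk, ← hgu]; group⟩
  refine ⟨hex, hexc, ?_, ?_⟩
  · intro b hb b' hb' hba hb'a hab hab'
    have hconn := neighbourhood_connected R1 (fun p q h => ⟨h.1.symm, h.2.symm⟩) (fun p h => h.1 rfl)
      (fun M hM hnt => hprime M (fun w hw x hx y hy => by
        have := hM w hw x hx y hy
        have hx' : w ≠ x := fun e => hw (e ▸ hx)
        have hy' : w ≠ y := fun e => hw (e ▸ hy)
        simpa [R1, hx', hy'] using this) hnt)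
      (fun x y hx => by
        obtain ⟨k, hk⟩ := exists_conj hD x.2 y.2
        exact hmapR R1 k (hR1 k) x y (Subtype.ext hk) hx) ⟨a, ha⟩ ⟨b, hb⟩ ⟨b', hb'⟩
      ⟨fun e => hba (congrArg Subtype.val e).symm, hab⟩ ⟨fun e => hb'a (congrArg Subtype.val e).symm, hab'⟩
    refine horbit R1 (fun u v hu hv huv => ?_) _ _ hconn
    by_cases he : u = v
    · exact ⟨1, Commute.one_left a, by simp [he]⟩
    · exact conj_in_near hD.1 u.2 v.2 hu.2 hv.2 fun hc => huv ⟨he, hc⟩
  · intro c hc c' hc' hac hac'
    have hconn := neighbourhood_connected R2 (fun p q h h' => h h'.symm) (fun p h => h (Commute.refl _))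
      (fun M hM hnt => hprime M (fun w hw x hx y hy => not_iff_not.mp (hM w hw x hx y hy)) hnt)
      (fun x y hx => by
        obtain ⟨k, hk⟩ := exists_conj hD x.2 y.2
        exact hmapR R2 k (hR2 k) x y (Subtype.ext hk) hx) ⟨a, ha⟩ ⟨c, hc⟩ ⟨c', hc'⟩ hac hac'
    exact horbit R2 (fun u v hu hv huv => conj_in_far hD.1 ha u.2 v.2 hu hv (not_not.mp huv)) _ _ hconn

end Class

end CfsgLib.ThreeT
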