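/-
Classes of 3-transpositions in groups without solvable normal subgroups: only trivial homogeneous sets.
-/
import Cfsg.Agent.Spor3T.RankThree
import Cfsg.Agent.Comp.Basic
import Cfsg.Agent.Char.Burnside
import Cfsg.Agent.PLocal.SubnormalJoin

set_option autoImplicit false
set_option linter.style.haveILetI false
set_option linter.unusedSectionVars false

namespace CfsgLib.ThreeT

universe u

variable {G : Type u} [Group G]

/-- Two non-commuting members are conjugate by their product. -/
theorem braid_eq_conj {D : Set G} (hD : Cfsg.IsThreeTranspositionSet D) {d e : G} (hd : d ∈ D) (he : e ∈ D)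
    (h : ¬ Commute d e) : d * e * d * (d * e)⁻¹ = e := by
  rw [mul_inv_rev, inv hD hd, inv hD he]
  calc d * e * d * (e * d) = (d * e * d) * e * d := by group
    _ = e * d * (e * e) * d := by rw [braid hD hd he h]; group
    _ = e := by rw [sq hD he, mul_one, mul_assoc, sq hD hd, mul_one]

theorem eq_one_of_sq_of_three_group {H : Subgroup G} (hH : IsPGroup 3 H) {x : G} (hx : x ∈ H) (h : x ^ 2 = 1) :
    x = 1 := by
  obtain ⟨j, hj⟩ := hH ⟨x, hx⟩
  have hj' : x ^ 3 ^ j = 1 := congrArg Subtype.val hj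
  rw [← orderOf_eq_one_iff]
  exact Nat.eq_one_of_dvd_coprimes (Nat.Coprime.pow_left j (by norm_num : Nat.Coprime 3 2))
    (orderOf_dvd_of_pow_eq_one hj') (orderOf_dvd_of_pow_eq_one h)

/-- A group whose order involves only two and three is solvable. -/
theorem isSolvable_of_two_three [Finite G] {H : Subgroup G}
    (hfac : ∀ p : ℕ, p.Prime → p ∣ Nat.card H → p = 2 ∨ p = 3) : Group.IsSolvable H := by
  refine CfsgLib.Char.isSolvable_of_card_eq 2 3 ((Nat.card H).factorization 2) ((Nat.card H).factorization 3)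
    Nat.prime_two (by norm_num) ?_
  refine Nat.eq_of_factorization_eq Nat.card_pos.ne' (by positivity) fun p => ?_
  rw [Nat.factorization_mul (by positivity) (by positivity), Nat.factorization_pow, Nat.factorization_pow,
    Nat.Prime.factorization Nat.prime_two, Nat.Prime.factorization (show Nat.Prime 3 by norm_num)]
  by_cases hp : p.Prime
  · by_cases hdvd : p ∣ Nat.card H
    · rcases hfac p hp hdvd with rfl | rfl <;> simp
    · rw [Nat.factorization_eq_zero_of_not_dvd hdvd]
      rcases eq_or_ne p 2 with rfl | h2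
      · simp [Nat.factorization_eq_zero_of_not_dvd hdvd]
      rcases eq_or_ne p 3 with rfl | h3
      · simp [Nat.factorization_eq_zero_of_not_dvd hdvd]
      simp [h2.symm, h3.symm]
  · rw [Nat.factorization_eq_zero_of_not_prime _ hp]
    have h2 : (2 : ℕ) ≠ p := fun h => hp (h ▸ Nat.prime_two)
    have h3 : (3 : ℕ) ≠ p := fun h => hp (h ▸ by norm_num)
    simp [h2, h3]

variable [Finite G] {D : Set G} (hD : Cfsg.IsThreeTranspositionClass D)
include hD

/-- Without distinct commuting members the group is solvable. -/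
theorem isPGroup_of_no_commuting (hall : ∀ a b : D, a ≠ b → ¬ Commute (a : G) b) : IsPGroup 3 (commutator G) := by
  classical
  obtain ⟨d₀, hd₀, hDd⟩ := hD.2.1
  have hiso : Cfsg.IsIsolatedInvolution d₀ := ⟨hD.1.1 d₀ hd₀, fun g hg => by
    by_contra hne
    exact hall ⟨d₀, hd₀⟩ ⟨_, conj_mem hD hd₀ g⟩ (fun e => hne (congrArg Subtype.val e).symm) hg⟩
  obtain ⟨N, hN, hodd, hNc⟩ := CfsgLib.ZStar.zstar hiso
  have hle : commutator G ≤ N := by
    have hall1 : ∀ g : G, (g : G ⧸ N) ∈ Subgroup.zpowers (d₀ : G ⧸ N) := by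
      intro g
      induction (hD.2.2 ▸ Subgroup.mem_top g : g ∈ Subgroup.closure D) using Subgroup.closure_induction with
      | mem z hz =>
        obtain ⟨k, rfl⟩ := exists_conj hD hd₀ hz
        rw [QuotientGroup.eq.mpr (show (k * d₀ * k⁻¹)⁻¹ * d₀ ∈ N by
          have h := hNc k
          have h' : d₀ * (k * d₀⁻¹ * k⁻¹) ∈ N := by simpa only [mul_assoc] using h
          simpa only [mul_inv_rev, inv_inv, mul_assoc] using hN.mem_comm h')]
        exact Subgroup.mem_zpowers _
      | one => exact one_mem _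
      | mul x y _ _ hx hy => exact mul_mem hx hy
      | inv x _ hx => exact inv_mem hx
    rw [commutator_def, Subgroup.commutator_le]
    intro g _ g' _
    obtain ⟨i, hi⟩ := Subgroup.mem_zpowers_iff.mp (hall1 g)
    obtain ⟨j, hj⟩ := Subgroup.mem_zpowers_iff.mp (hall1 g')
    rw [← QuotientGroup.eq_one_iff, commutatorElement_def, QuotientGroup.mk_mul, QuotientGroup.mk_mul,
      QuotientGroup.mk_mul, QuotientGroup.mk_inv, QuotientGroup.mk_inv, ← hi, ← hj,
      ((Commute.refl (d₀ : G ⧸ N)).zpow_zpow i j).eq]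
    group
  set M := commutator G with hM
  have hModd : Odd (Nat.card M) := hodd.of_dvd_nat (Subgroup.card_dvd_of_le hle)
  have hnotM : ∀ z ∈ D, z ∉ M := fun z hz hzM => by
    have h := orderOf_dvd_natCard (⟨z, hzM⟩ : M)
    rw [Subgroup.orderOf_mk, hD.1.1 z hz] at h
    exact (Nat.not_even_iff_odd.mpr hModd) (even_iff_two_dvd.mpr h)
  -- the commutator subgroup has index two
  have hcover : ∀ g : G, g ∈ M ∨ g * d₀ ∈ M := by
    have hmem : ∀ z ∈ D, z * d₀ ∈ M := fun z hz => mul_mem_commutator hD hz hd₀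
    intro g
    have hd : d₀ * d₀ = 1 := sq hD.1 hd₀
    have hn : ∀ m ∈ M, d₀ * m * d₀ ∈ M := fun m hm => by
      have h := (inferInstance : M.Normal).conj_mem m hm d₀
      rwa [inv hD.1 hd₀] at h
    have hc : ∀ u : G, d₀ * (d₀ * u) = u := invol_cancel (hD.1.1 d₀ hd₀)
    induction (hD.2.2 ▸ Subgroup.mem_top g : g ∈ Subgroup.closure D) using Subgroup.closure_induction with
    | mem z hz => exact Or.inr (hmem z hz)
    | one => exact Or.inl (one_mem _)
    | mul x y _ _ hx hy =>
      rcases hx with hx | hx <;> rcases hy with hy | hy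
      · exact Or.inl (mul_mem hx hy)
      · exact Or.inr (by rw [mul_assoc]; exact mul_mem hx hy)
      · refine Or.inr ?_
        have := mul_mem hx (hn y hy)
        simpa only [mul_assoc, hc] using this
      · refine Or.inl ?_
        have := mul_mem hx (hn _ hy)
        simpa only [mul_assoc, hc, hd, mul_one] using this
    | inv x _ hx =>
      rcases hx with hx | hx
      · exact Or.inl (inv_mem hx)
      · refine Or.inr ?_
        have := hn _ (inv_mem hx)
        simpa only [mul_inv_rev, inv hD.1 hd₀, mul_assoc, hc] using this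
  have hidx : M.index = 2 := Subgroup.index_eq_two_iff.mpr ⟨d₀, fun g => by
    rcases hcover g with h | h
    · refine Or.inr ⟨h, fun h' => hnotM d₀ hd₀ ?_⟩
      have := mul_mem (inv_mem h) h'
      rwa [inv_mul_cancel_left] at this
    · refine Or.inl ⟨h, fun h' => hnotM d₀ hd₀ ?_⟩
      have := mul_mem (inv_mem h') h
      rwa [inv_mul_cancel_left] at this⟩
  have hcard : Nat.card M * 2 = Nat.card G := hidx ▸ M.card_mul_index
  haveI : Fact (Nat.Prime 2) := ⟨Nat.prime_two⟩
  have hinvol : ∀ u : G, orderOf u = 2 → u ∈ D := by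
    intro u hu
    obtain ⟨S, hS⟩ := (IsPGroup.of_card (n := 1) (G := Subgroup.zpowers u)
      (by rw [Nat.card_zpowers, hu, pow_one])).exists_le_sylow
    obtain ⟨S', hS'⟩ := (IsPGroup.of_card (n := 1) (G := Subgroup.zpowers d₀)
      (by rw [Nat.card_zpowers, hD.1.1 d₀ hd₀, pow_one])).exists_le_sylow
    have hc : ∀ T : Sylow 2 G, Nat.card (T : Subgroup G) = 2 := fun T => by
      rw [T.card_eq_multiplicity, ← hcard, Nat.factorization_mul Nat.card_pos.ne' two_ne_zero, Finsupp.add_apply,
        Nat.factorization_eq_zero_of_not_dvd (fun h => (Nat.not_even_iff_odd.mpr hModd) (even_iff_two_dvd.mpr h)),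
        zero_add, Nat.Prime.factorization_self Nat.prime_two, pow_one]
    obtain ⟨g, hg⟩ := MulAction.exists_smul_eq G S' S
    have hSe : (S' : Subgroup G) = Subgroup.zpowers d₀ :=
      (Subgroup.eq_of_le_of_card_ge hS' (by rw [hc, Nat.card_zpowers, hD.1.1 d₀ hd₀])).symm
    have hmem : u ∈ (g • S' : Sylow 2 G).1 := hg ▸ hS (Subgroup.mem_zpowers u)
    obtain ⟨w, hw, rfl⟩ := hmem
    obtain ⟨i, rfl⟩ := Subgroup.mem_zpowers_iff.mp (hSe ▸ hw : w ∈ Subgroup.zpowers d₀)
    rcases Int.even_or_odd i with ⟨k, hk⟩ | ⟨k, hk⟩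
    · exfalso
      apply ne_one_of_orderOf hu
      rw [hk, ← two_mul, zpow_mul, zpow_two, sq hD.1 hd₀, one_zpow]
      simp
    · rw [hk, zpow_add, zpow_mul, zpow_two, sq hD.1 hd₀, one_zpow, one_mul, zpow_one]
      exact conj_mem hD hd₀ g
  -- the class has three-power size
  set C := Subgroup.centralizer ({d₀} : Set G) with hCdef
  have hCeven : 2 ∣ Nat.card C := by
    have := orderOf_dvd_natCard (⟨d₀, Subgroup.mem_centralizer_singleton_iff.mpr rfl⟩ : C)
    rwa [Subgroup.orderOf_mk, hD.1.1 d₀ hd₀] at this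
  have hfrattini : ∀ (p : ℕ) [Fact p.Prime] (Q : Sylow p M),
      ∃ t ∈ D, t ∈ Subgroup.normalizer (((Q : Subgroup M).map M.subtype : Subgroup G) : Set G) := by
    intro p _ Q
    set Qm := (Q : Subgroup M).map M.subtype with hQm
    have hfr := Sylow.normalizer_sup_eq_top Q
    have h2N : 2 ∣ Nat.card (Subgroup.normalizer (Qm : Set G)) := by
      by_contra hcon
      -- an odd order normaliser would lie inside `M`
      have hsub : Subgroup.normalizer (Qm : Set G) ≤ M := fun n hn => by
        rcases hcover n with h | h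
        · exact h
        · exfalso
          have ho : Odd (orderOf n) := Odd.of_dvd_nat (Nat.odd_iff.mpr (Nat.two_dvd_ne_zero.mp hcon))
            (by rw [← Subgroup.orderOf_mk n hn]; exact orderOf_dvd_natCard _)
          obtain ⟨k, hk⟩ := ho
          have hn2 : n * n ∈ M := (Subgroup.mul_mem_iff_of_index_two hidx).mpr Iff.rfl
          have : n ∈ M := by
            have h1 : (n * n) ^ (k + 1) = n := by
              rw [← pow_two, ← pow_mul, show 2 * (k + 1) = orderOf n + 1 by omega, pow_succ, pow_orderOf_eq_one, one_mul]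
            exact h1 ▸ pow_mem hn2 _
          refine hnotM d₀ hd₀ ?_
          have := mul_mem (inv_mem this) h
          rwa [inv_mul_cancel_left] at this
      rw [sup_eq_right.mpr hsub] at hfr
      have : M.index = 1 := Subgroup.index_eq_one.mpr hfr
      omega
    obtain ⟨⟨t, htN⟩, hto⟩ := exists_prime_orderOf_dvd_card' 2 h2N
    rw [Subgroup.orderOf_mk] at hto
    exact ⟨t, hinvol t hto, htN⟩
  have hpdvd : ∀ p : ℕ, p.Prime → p ≠ 3 → ¬ p ∣ C.index := by
    intro p hp hp3 hdvd
    haveI := Fact.mk hp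
    by_cases hp2 : p = 2
    · subst hp2
      have h4 : 2 * 2 ∣ Nat.card G := C.card_mul_index ▸ Nat.mul_dvd_mul hCeven hdvd
      rw [← hcard] at h4
      exact (Nat.not_even_iff_odd.mpr hModd)
        (even_iff_two_dvd.mpr (Nat.dvd_of_mul_dvd_mul_right two_pos h4))
    obtain ⟨Q⟩ : Nonempty (Sylow p M) := Sylow.nonempty
    set Qm := (Q : Subgroup M).map M.subtype with hQm
    obtain ⟨t, htD, htN⟩ := hfrattini p Q
    have hQc : Qm ≤ Subgroup.centralizer ({t} : Set G) := by
      intro q hq
      have h1 : t * q * t⁻¹ * q⁻¹ ∈ Qm := mul_mem ((Subgroup.mem_normalizer_iff.mp htN q).mp hq) (inv_mem hq)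
      have h2 : t * q * t⁻¹ * q⁻¹ = t * (q * t * q⁻¹) := by rw [inv hD.1 htD]; group
      have h3 : t * (q * t * q⁻¹) = 1 := by
        have hp' : IsPGroup p Qm := Q.2.map _
        obtain ⟨j, hj⟩ := hp' ⟨_, h1⟩
        have hj' : (t * (q * t * q⁻¹)) ^ p ^ j = 1 := by rw [← h2]; exact congrArg Subtype.val hj
        by_cases hc : Commute t (q * t * q⁻¹)
        · have hsq := sq_of_commute (hD.1.1 t htD) (hD.1.1 _ (conj_mem hD htD q)) hc
          rw [← orderOf_eq_one_iff]
          exact Nat.eq_one_of_dvd_coprimes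
            (Nat.Coprime.pow_left j ((Nat.coprime_primes hp Nat.prime_two).mpr hp2))
            (orderOf_dvd_of_pow_eq_one hj') (orderOf_dvd_of_pow_eq_one hsq)
        · rw [← orderOf_eq_one_iff]
          exact Nat.eq_one_of_dvd_coprimes
            (Nat.Coprime.pow_left j ((Nat.coprime_primes hp (by norm_num)).mpr hp3))
            (orderOf_dvd_of_pow_eq_one hj')
            (orderOf_dvd_of_pow_eq_one (cube_of_not_commute hD.1 htD (conj_mem hD htD q) hc))
      rw [mul_eq_one_iff_eq_inv, mul_inv_rev, mul_inv_rev, inv_inv, inv hD.1 htD] at h3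
      refine Subgroup.mem_centralizer_singleton_iff.mpr ?_
      calc q * t = q * (t * q⁻¹) * q := by group
        _ = t * q := by rw [← h3]
    have hQcard : Nat.card Qm = p ^ (Nat.card M).factorization p := by
      rw [hQm, Subgroup.card_map_of_injective M.subtype_injective, Q.card_eq_multiplicity]
    obtain ⟨g, hg⟩ := exists_conj hD htD hd₀
    have hCt : Nat.card (Subgroup.centralizer ({t} : Set G)) = Nat.card C := by
      refine Nat.card_congr ((MulAut.conj g).toEquiv.subtypeEquiv fun z => ?_)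
      show z ∈ Subgroup.centralizer ({t} : Set G) ↔ g * z * g⁻¹ ∈ C
      rw [hCdef, Subgroup.mem_centralizer_singleton_iff, Subgroup.mem_centralizer_singleton_iff, ← hg]
      exact (commute_conj_iff g z t).symm
    have h1 : p ^ (Nat.card M).factorization p ∣ Nat.card C := hQcard ▸ hCt ▸ Subgroup.card_dvd_of_le hQc
    have h2 : p ^ (Nat.card G).factorization p ∣ Nat.card C := by
      rwa [← hcard, Nat.factorization_mul Nat.card_pos.ne' two_ne_zero, Finsupp.add_apply,
        Nat.factorization_eq_zero_of_not_dvd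
          (fun h => hp2 ((Nat.prime_dvd_prime_iff_eq hp Nat.prime_two).mp h)), add_zero]
    have h3 : p ^ ((Nat.card G).factorization p + 1) ∣ Nat.card G := by
      conv_rhs => rw [← C.card_mul_index]
      rw [pow_succ]; exact Nat.mul_dvd_mul h2 hdvd
    exact Nat.pow_succ_factorization_not_dvd Nat.card_pos.ne' hp h3
  obtain ⟨k, hk⟩ : ∃ k, C.index = 3 ^ k := ⟨_, Nat.eq_prime_pow_of_unique_prime_dvd
    Subgroup.index_ne_zero_of_finite fun {d} hd hdd => by_contra fun h => hpdvd d hd h hdd⟩
  -- a Sylow 3-subgroup of `M` is already transitive on the class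
  haveI : Fact (Nat.Prime 3) := ⟨by norm_num⟩
  obtain ⟨Q⟩ : Nonempty (Sylow 3 M) := Sylow.nonempty
  obtain ⟨t, htD, htN⟩ := hfrattini 3 Q
  set P := (Q : Subgroup M).map M.subtype with hP
  have hPM : P ≤ M := Subgroup.map_subtype_le _
  have hPc : Nat.card P = 3 ^ (Nat.card G).factorization 3 := by
    rw [hP, Subgroup.card_map_of_injective M.subtype_injective, Q.card_eq_multiplicity, ← hcard,
      Nat.factorization_mul Nat.card_pos.ne' two_ne_zero, Finsupp.add_apply,
      Nat.factorization_eq_zero_of_not_dvd (show ¬ 3 ∣ 2 by norm_num), add_zero]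
  let X := {z : G // z ∈ D}
  letI : MulAction G X :=
    { smul := fun g z => ⟨_, conj_mem hD z.2 g⟩
      one_smul := fun z => Subtype.ext (by show (1 : G) * z * 1⁻¹ = z; simp)
      mul_smul := fun g h z => Subtype.ext (by show g * h * z * (g * h)⁻¹ = g * (h * z * h⁻¹) * g⁻¹; group) }
  haveI : MulAction.IsPretransitive G X := ⟨fun p q => by
    obtain ⟨g, hg⟩ := exists_conj hD p.2 q.2
    exact ⟨g, Subtype.ext hg⟩⟩
  have hstabC : MulAction.stabilizer G (⟨d₀, hd₀⟩ : X) = C := by
    ext g
    rw [MulAction.mem_stabilizer_iff, hCdef, Subgroup.mem_centralizer_singleton_iff]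
    exact ⟨fun h => mul_inv_eq_iff_eq_mul.mp (congrArg Subtype.val h),
      fun h => Subtype.ext (mul_inv_eq_iff_eq_mul.mpr h)⟩
  have hXc : Nat.card X = 3 ^ k := by
    rw [← hk, ← hstabC, MulAction.index_stabilizer_of_transitive]
  set s := MulAction.stabilizer P (⟨t, htD⟩ : X) with hs
  have horb : MulAction.orbit P (⟨t, htD⟩ : X) = Set.univ := by
    refine Set.eq_of_subset_of_ncard_le (Set.subset_univ _) ?_ (Set.toFinite _)
    rw [Set.ncard_univ, hXc, ← MulAction.index_stabilizer, ← hs]
    obtain ⟨j, -, hj⟩ := (Nat.dvd_prime_pow (by norm_num)).mp (hPc ▸ Subgroup.card_subgroup_dvd_card s)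
    have hsC : Nat.card s ∣ Nat.card (MulAction.stabilizer G (⟨t, htD⟩ : X)) := by
      rw [← Subgroup.card_map_of_injective P.subtype_injective]
      refine Subgroup.card_dvd_of_le ?_
      rintro _ ⟨z, hz, rfl⟩
      exact hz
    have h1 : 3 ^ (j + k) ∣ Nat.card G := by
      rw [← (MulAction.stabilizer G (⟨t, htD⟩ : X)).card_mul_index, MulAction.index_stabilizer_of_transitive,
        hXc, pow_add]
      exact Nat.mul_dvd_mul_right (hj ▸ hsC) _
    have h2 : j + k ≤ (Nat.card G).factorization 3 :=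
      ((Nat.Prime.pow_dvd_iff_le_factorization (by norm_num) Nat.card_pos.ne').mp h1)
    have h3 := s.card_mul_index
    rw [hPc, hj] at h3
    refine Nat.le_of_mul_le_mul_left ?_ (pow_pos (show 0 < 3 by norm_num) j)
    rw [h3, ← pow_add]
    exact Nat.pow_le_pow_right (by norm_num) h2
  -- hence it is normalised by everything
  have hgen : ∀ e ∈ D, e ∈ Subgroup.normalizer (P : Set G) ∧ (P = ⊥ → e = t) := by
    intro e he
    obtain ⟨p, hp⟩ : (⟨e, he⟩ : X) ∈ MulAction.orbit P (⟨t, htD⟩ : X) := horb ▸ Set.mem_univ _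
    have : e = (p : G) * t * (p : G)⁻¹ := (congrArg Subtype.val hp).symm
    refine ⟨?_, fun hbot => ?_⟩
    · rw [this]
      exact mul_mem (mul_mem (Subgroup.le_normalizer p.2) htN) (inv_mem (Subgroup.le_normalizer p.2))
    · rw [this, Subgroup.mem_bot.mp (hbot ▸ p.2 : (p : G) ∈ (⊥ : Subgroup G)), one_mul, inv_one, mul_one]
  haveI : P.Normal := Subgroup.normalizer_eq_top_iff.mp (top_le_iff.mp
    (hD.2.2 ▸ (Subgroup.closure_le _).mpr fun e he => (hgen e he).1))
  have hP3 : IsPGroup 3 M := by
    refine (IsPGroup.of_card hPc).to_le (H := M) fun g hg => ?_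
    have hmemP : ∀ e ∈ D, e * t ∈ P := fun e he => by
      obtain ⟨p, hp⟩ : (⟨e, he⟩ : X) ∈ MulAction.orbit P (⟨t, htD⟩ : X) := horb ▸ Set.mem_univ _
      have he' : e = (p : G) * t * (p : G)⁻¹ := (congrArg Subtype.val hp).symm
      rw [he', mul_assoc, mul_assoc]
      refine mul_mem p.2 ?_
      have := (Subgroup.mem_normalizer_iff.mp htN _).mp (inv_mem p.2)
      rwa [inv hD.1 htD, mul_assoc] at this
    have htt : t * t = 1 := sq hD.1 htD
    have hc : ∀ u : G, t * (t * u) = u := invol_cancel (hD.1.1 t htD)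
    have hn : ∀ m ∈ P, t * m * t ∈ P := fun m hm => by
      have h := (Subgroup.mem_normalizer_iff.mp htN m).mp hm
      rwa [inv hD.1 htD] at h
    have hall' : ∀ g : G, g ∈ P ∨ g * t ∈ P := by
      intro g
      induction (hD.2.2 ▸ Subgroup.mem_top g : g ∈ Subgroup.closure D) using Subgroup.closure_induction with
      | mem z hz => exact Or.inr (hmemP z hz)
      | one => exact Or.inl (one_mem _)
      | mul x y _ _ hx hy =>
        rcases hx with hx | hx <;> rcases hy with hy | hy
        · exact Or.inl (mul_mem hx hy)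
        · exact Or.inr (by rw [mul_assoc]; exact mul_mem hx hy)
        · refine Or.inr ?_
          have := mul_mem hx (hn y hy)
          simpa only [mul_assoc, hc] using this
        · refine Or.inl ?_
          have := mul_mem hx (hn _ hy)
          simpa only [mul_assoc, hc, htt, mul_one] using this
      | inv x _ hx =>
        rcases hx with hx | hx
        · exact Or.inl (inv_mem hx)
        · refine Or.inr ?_
          have := hn _ (inv_mem hx)
          simpa only [mul_inv_rev, inv hD.1 htD, mul_assoc, hc] using this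
    refine (hall' g).resolve_right fun h => hnotM t htD ?_
    have := mul_mem (inv_mem hg) (hPM h)
    rwa [inv_mul_cancel_left] at this
  exact hP3

/-- Without distinct commuting members the group is solvable. -/
theorem isSolvable_of_no_commuting (hall : ∀ a b : D, a ≠ b → ¬ Commute (a : G) b) : Group.IsSolvable G := by
  haveI : Fact (Nat.Prime 3) := ⟨by norm_num⟩
  haveI : Group.IsNilpotent (commutator G) := (isPGroup_of_no_commuting hD hall).isNilpotent
  haveI : Group.IsSolvable (G ⧸ commutator G) := by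
    letI : CommGroup (G ⧸ commutator G) := inferInstanceAs (CommGroup (Abelianization G))
    infer_instance
  exact (Group.isSolvable_iff_subgroup_quotient (commutator G)).mpr ⟨inferInstance, inferInstance⟩

omit [Finite G] in
/-- A member moves the others only within their component of the non-commuting graph. -/
theorem noncomm_connected [Finite G] (x y : D) :
    Relation.ReflTransGen (fun p q : D => ¬ Commute (p : G) q) x y := by
  obtain ⟨g, hg⟩ := exists_conj hD x.2 y.2
  have key : ∀ g : G, ∀ u : D, Relation.ReflTransGen (fun p q : D => ¬ Commute (p : G) q) x u →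
      Relation.ReflTransGen (fun p q : D => ¬ Commute (p : G) q) x ⟨_, conj_mem hD u.2 g⟩ := by
    have hgen : ∀ z ∈ D, ∀ u : D, Relation.ReflTransGen (fun p q : D => ¬ Commute (p : G) q) x u →
        Relation.ReflTransGen (fun p q : D => ¬ Commute (p : G) q) x ⟨_, conj_mem hD u.2 z⟩ := by
      intro z hz u hu
      by_cases hc : Commute z (u : G)
      · have : (⟨_, conj_mem hD u.2 z⟩ : D) = u := Subtype.ext (by show z * u * z⁻¹ = u; rw [hc.eq, mul_inv_cancel_right])
        rwa [this]
      · refine (hu.tail (b := u) (c := ⟨z, hz⟩) fun h => hc h.symm).tail fun h => hc ?_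
        have h' : Commute (z * z * z⁻¹) (z * u * z⁻¹) := by rw [mul_inv_cancel_right]; exact h
        exact (commute_conj_iff z z u).mp h'
    intro g
    induction (hD.2.2 ▸ Subgroup.mem_top g : g ∈ Subgroup.closure D) using Subgroup.closure_induction'' with
    | mem z hz => exact hgen z hz
    | inv_mem z hz => rw [inv hD.1 hz]; exact hgen z hz
    | one => intro u hu; simpa using hu
    | mul a b _ _ ha hb => intro u hu; simpa [mul_assoc] using ha _ (hb u hu)
  have := key g x Relation.ReflTransGen.refl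
  rwa [show (⟨_, conj_mem hD x.2 g⟩ : D) = y from Subtype.ext hg] at this

omit [Finite G] in
/-- The product of two equivalent members fixes every class of a homogeneous invariant equivalence. -/
theorem mul_fixes_block (r : D → D → Prop) (hr : Equivalence r)
    (hinv : ∀ (g : G) (x y : D), r x y → r ⟨_, conj_mem hD x.2 g⟩ ⟨_, conj_mem hD y.2 g⟩)
    (hmod : ∀ x y w : D, r x y → ¬ r w x → (Commute (w : G) x ↔ Commute (w : G) y))
    {x y : D} (hxy : r x y) (d : D) : r d ⟨_, conj_mem hD d.2 ((x : G) * y)⟩ := by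
  let act : G → D → D := fun g d => ⟨_, conj_mem hD d.2 g⟩
  have hmul : ∀ g h d, act (g * h) d = act g (act h d) := fun g h d => Subtype.ext (by simp [act, mul_assoc])
  have hone : ∀ d, act 1 d = d := fun d => Subtype.ext (by simp [act])
  have hself : ∀ z : D, act (z : G) z = z := fun z => Subtype.ext (by simp [act])
  show r d (act _ d)
  rw [hmul]
  by_cases hdx : r d x
  · have h1 : r (act y d) (act y x) := hinv _ _ _ hdx
    have h2 : r (act y x) (act y y) := hinv _ _ _ hxy
    rw [hself] at h2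
    have h3 : r (act x (act y d)) (act x x) :=
      hinv _ _ _ (hr.trans h1 (hr.trans h2 (hr.symm hxy)))
    rw [hself] at h3
    exact hr.trans hdx (hr.symm h3)
  · have hiff := hmod x y d hxy hdx
    have hfix : ∀ z : D, Commute (d : G) z → act z d = d := fun z h => Subtype.ext (by
      show (z : G) * d * (z : G)⁻¹ = d
      rw [← h.eq, mul_inv_cancel_right])
    by_cases hc : Commute (d : G) x
    · rw [hfix y (hiff.mp hc), hfix x hc]; exact hr.refl d
    · have hswap : ∀ z : D, ¬ Commute (d : G) z → act z d = act d z := fun z h => Subtype.ext (by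
        show (z : G) * d * (z : G)⁻¹ = (d : G) * z * (d : G)⁻¹
        rw [inv hD.1 z.2, inv hD.1 d.2, braid hD.1 d.2 z.2 h])
      have h1 : r (act d x) (act d y) := hinv _ _ _ hxy
      rw [← hswap x hc, ← hswap y (fun h => hc (hiff.mpr h))] at h1
      have h2 : r (act x (act x d)) (act x (act y d)) := hinv _ _ _ h1
      rw [← hmul x x, sq hD.1 x.2, hone] at h2
      exact h2

/-- The products `x y` map one class onto any class not commuting with that of `x`. -/
theorem block_transitive (r : D → D → Prop) (hr : Equivalence r)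
    (hinv : ∀ (g : G) (x y : D), r x y → r ⟨_, conj_mem hD x.2 g⟩ ⟨_, conj_mem hD y.2 g⟩)
    (hmod : ∀ x y w : D, r x y → ¬ r w x → (Commute (w : G) x ↔ Commute (w : G) y))
    {x d : D} (hdx : ¬ r d x) (hc : ¬ Commute (d : G) x) {c : D} (hdc : r d c) :
    ∃ y : D, r x y ∧ (x : G) * y * d * ((x : G) * y)⁻¹ = c := by
  let f : {y : D // r x y} → {c : D // r d c} := fun y => ⟨_, mul_fixes_block hD r hr hinv hmod y.2 d⟩
  have hinj : Function.Injective f := by
    intro y z hyz
    have h1 : (x : G) * y * d * ((x : G) * y)⁻¹ = (x : G) * z * d * ((x : G) * z)⁻¹ :=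
      congrArg (fun t : {c : D // r d c} => ((t : D) : G)) hyz
    have h2 : ∀ w : D, r x w → (x : G) * w * d * ((x : G) * w)⁻¹ = (x : G) * d * w * d * (x : G)⁻¹ := by
      intro w hw
      have hb := braid hD.1 d.2 w.2 fun h => hc ((hmod x w d hw hdx).mpr h)
      rw [mul_inv_rev, inv hD.1 w.2]
      calc (x : G) * w * d * (w * (x : G)⁻¹) = x * (w * d * w) * (x : G)⁻¹ := by group
        _ = _ := by rw [← hb]; group
    rw [h2 y y.2, h2 z z.2] at h1
    exact Subtype.ext (Subtype.ext (mul_left_cancel (mul_right_cancel (mul_right_cancel h1))))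
  have hcard : Nat.card {c : D // r d c} ≤ Nat.card {y : D // r x y} := by
    obtain ⟨g, hg⟩ := exists_conj hD d.2 x.2
    refine Nat.card_le_card_of_injective
      (fun c => ⟨⟨_, conj_mem hD c.1.2 g⟩, (Subtype.ext hg : (⟨_, conj_mem hD d.2 g⟩ : D) = x) ▸ hinv g _ _ c.2⟩)
      fun a b h => Subtype.ext (Subtype.ext ?_)
    exact mul_left_cancel (mul_right_cancel (congrArg (fun t : {y : D // r x y} => ((t : D) : G)) h))
  haveI : Finite D := Subtype.finite
  obtain ⟨⟨y, hy⟩, he⟩ := (hinj.bijective_of_nat_card_le hcard).2 ⟨c, hdc⟩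
  exact ⟨y, hy, congrArg (fun t : {c : D // r d c} => ((t : D) : G)) he⟩

variable (hsol : ∀ N : Subgroup G, N.Normal → Group.IsSolvable N → N = ⊥)

include hsol

theorem not_isSolvable : ¬ Group.IsSolvable G := fun h => by
  haveI := h
  have htop := hsol ⊤ inferInstance inferInstance
  obtain ⟨d, hd, -⟩ := hD.2.1
  exact ne_one_of_orderOf (hD.1.1 d hd) (Subgroup.mem_bot.mp (htop ▸ Subgroup.mem_top d))

/-- The commuting graph of a class is connected if the commutator subgroup is perfect. -/
theorem comm_connected (hperf : ⁅commutator G, commutator G⁆ = commutator G) (p q : D) :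
    Relation.ReflTransGen (fun p q : D => Commute (p : G) q) p q := by
  let r : D → D → Prop := Relation.ReflTransGen (fun p q : D => Commute (p : G) q)
  have hr : Equivalence r := by
    refine ⟨fun _ => Relation.ReflTransGen.refl, fun h => ?_, Relation.ReflTransGen.trans⟩
    induction h with
    | refl => exact Relation.ReflTransGen.refl
    | tail _ hpq ih => exact Relation.ReflTransGen.head hpq.symm ih
  have hinv : ∀ (g : G) (x y : D), r x y → r ⟨_, conj_mem hD x.2 g⟩ ⟨_, conj_mem hD y.2 g⟩ := fun g x y h =>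
    Relation.ReflTransGen.lift (fun d : D => (⟨_, conj_mem hD d.2 g⟩ : D))
      (fun s t hst => (commute_conj_iff g _ _).mpr hst) x y h
  have hmod : ∀ x y w : D, r x y → ¬ r w x → (Commute (w : G) x ↔ Commute (w : G) y) := fun x y w hxy hwx =>
    iff_of_false (fun hc => hwx (Relation.ReflTransGen.single hc))
      fun hc => hwx ((Relation.ReflTransGen.single (r := fun p q : D => Commute (p : G) q) hc).trans (hr.symm hxy))
  let K : Subgroup G :=
    { carrier := {g | ∀ d : D, r d ⟨_, conj_mem hD d.2 g⟩}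
      one_mem' := fun d => by simpa using hr.refl d
      mul_mem' := fun {g h} hg hh d => by simpa [mul_assoc] using hr.trans (hh d) (hg _)
      inv_mem' := fun {g} hg d => by
        refine hr.symm ?_
        have := hg ⟨_, conj_mem hD d.2 g⁻¹⟩
        simpa [mul_assoc] using this }
  haveI : K.Normal := ⟨fun n hn g d => by
    have := hinv g _ _ (hn ⟨_, conj_mem hD d.2 g⁻¹⟩)
    simpa [mul_assoc] using this⟩
  by_cases hK : ∀ z ∈ D, z ∈ K
  · obtain ⟨g, hg⟩ := exists_conj hD p.2 q.2
    have hgK : g ∈ K := ((Subgroup.closure_le _).mpr hK : Subgroup.closure D ≤ K) (hD.2.2 ▸ Subgroup.mem_top g)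
    exact (Subtype.ext hg : (⟨_, conj_mem hD p.2 g⟩ : D) = q) ▸ hgK p
  exfalso
  have hout : ∀ z ∈ D, z ∉ K := by
    intro z hz hzK
    refine hK fun w hw => ?_
    obtain ⟨g, rfl⟩ := exists_conj hD hz hw
    exact (inferInstance : K.Normal).conj_mem z hzK g
  have hone : ∀ z ∈ D, ((z : G ⧸ K)) ≠ 1 := fun z hz h => hout z hz ((QuotientGroup.eq_one_iff z).mp h)
  obtain ⟨d₀, hd₀, hDd⟩ := hD.2.1
  have hclass : Cfsg.IsThreeTranspositionClass ((QuotientGroup.mk : G → G ⧸ K) '' D) := by
    refine ⟨⟨?_, ?_⟩, ⟨d₀, Set.mem_image_of_mem _ hd₀, Set.ext fun e => ⟨?_, ?_⟩⟩, ?_⟩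
    · rintro _ ⟨z, hz, rfl⟩
      refine orderOf_eq_prime ?_ (hone z hz)
      rw [← QuotientGroup.mk_pow, pow_two, sq hD.1 hz, QuotientGroup.mk_one]
    · rintro _ ⟨a, ha, rfl⟩ _ ⟨b, hb, rfl⟩
      refine (hD.1.2 a ha b hb).imp (fun h => ?_) fun h => ?_ <;>
        rw [← QuotientGroup.mk_mul, ← QuotientGroup.mk_pow, h, QuotientGroup.mk_one]
    · rintro ⟨z, hz, rfl⟩
      rw [hDd] at hz; obtain ⟨g, rfl⟩ := isConj_iff.mp (show IsConj d₀ z from hz); exact isConj_iff.mpr ⟨(g : G ⧸ K), by simp⟩
    · intro he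
      obtain ⟨c, rfl⟩ := isConj_iff.mp (show IsConj (d₀ : G ⧸ K) e from he)
      obtain ⟨g, rfl⟩ := QuotientGroup.mk_surjective c
      exact ⟨g * d₀ * g⁻¹, conj_mem hD hd₀ g, by simp⟩
    · rw [show ((QuotientGroup.mk : G → G ⧸ K) '' D) = QuotientGroup.mk' K '' D from rfl,
        ← MonoidHom.map_closure, hD.2.2, Subgroup.map_top_of_surjective _ (QuotientGroup.mk'_surjective K)]
  haveI hsolv : Group.IsSolvable (G ⧸ K) := by
    refine isSolvable_of_no_commuting hclass ?_
    rintro ⟨_, a, ha, rfl⟩ ⟨_, b, hb, rfl⟩ hab hc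
    apply hab
    refine Subtype.ext ?_
    show (a : G ⧸ K) = b
    have hmem : a * b ∈ K := by
      by_cases hc' : Commute a b
      · exact mul_fixes_block hD r hr hinv hmod (x := ⟨a, ha⟩) (y := ⟨b, hb⟩) (Relation.ReflTransGen.single hc')
      · rw [← QuotientGroup.eq_one_iff, QuotientGroup.mk_mul]
        have h2 : ((a : G ⧸ K) * b) ^ 2 = 1 := by
          rw [hc.mul_pow, ← QuotientGroup.mk_pow, ← QuotientGroup.mk_pow, pow_two, pow_two, sq hD.1 ha, sq hD.1 hb,
            QuotientGroup.mk_one, one_mul]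
        have h3 : ((a : G ⧸ K) * b) ^ 3 = 1 := by
          rw [← QuotientGroup.mk_mul, ← QuotientGroup.mk_pow, cube_of_not_commute hD.1 ha hb hc', QuotientGroup.mk_one]
        rwa [pow_succ, h2, one_mul] at h3
    rw [QuotientGroup.eq, inv hD.1 ha]
    exact hmem
  obtain ⟨n, hn⟩ := hsolv.solvable
  have hder : ∀ n, commutator G ≤ derivedSeries G n := by
    intro n
    induction n with
    | zero => exact le_top
    | succ n ih =>
      calc commutator G = ⁅commutator G, commutator G⁆ := hperf.symm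
        _ ≤ _ := Subgroup.commutator_mono ih ih
  have hle : commutator G ≤ K := fun g hg => by
    have : (g : G ⧸ K) ∈ (derivedSeries G n).map (QuotientGroup.mk' K) := Subgroup.mem_map_of_mem _ (hder n hg)
    rw [map_derivedSeries_eq (QuotientGroup.mk'_surjective K), hn, Subgroup.mem_bot] at this
    exact (QuotientGroup.eq_one_iff g).mp this
  refine hout d₀ hd₀ fun d => ?_
  have h := hle (mul_mem_commutator hD hd₀ d.2) d
  simpa [mul_assoc] using h

variable (hC : ∀ p q : D, Relation.ReflTransGen (fun p q : D => Commute (p : G) q) p q)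

include hC

/-- Only trivial sets of members are homogeneous for the commuting relation. -/
theorem modules_trivial_of_connected (M : Set D)
    (hM : ∀ w, w ∉ M → ∀ x ∈ M, ∀ y ∈ M, (Commute (w : G) x ↔ Commute (w : G) y))
    (hnt : M.Nontrivial) : M = Set.univ := by
  classical
  haveI : Finite D := Subtype.finite
  have hN := noncomm_connected hD
  let Pm : Set D → Prop := fun M =>
    (∀ w, w ∉ M → ∀ x ∈ M, ∀ y ∈ M, (Commute (w : G) x ↔ Commute (w : G) y)) ∧ M ≠ Set.univ
  have hunion : ∀ A B : Set D, Pm A → Pm B → ∀ p, p ∈ A → p ∈ B → Pm (A ∪ B) := by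
    intro A B hA hB p hpA hpB
    refine ⟨fun w hw => ?_, fun huniv => ?_⟩
    · have key : ∀ x ∈ A ∪ B, (Commute (w : G) x ↔ Commute (w : G) p) := fun x hx =>
        hx.elim (fun h => hA.1 w (fun h' => hw (Or.inl h')) x h p hpA) (fun h => hB.1 w (fun h' => hw (Or.inr h')) x h p hpB)
      exact fun x hx y hy => (key x hx).trans (key y hy).symm
    · obtain ⟨v, hv⟩ : ∃ v, v ∉ A := by
        by_contra h; push Not at h; exact hA.2 (Set.eq_univ_of_forall h)
      obtain ⟨m, hm⟩ : ∃ m, m ∉ B := by
        by_contra h; push Not at h; exact hB.2 (Set.eq_univ_of_forall h)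
      have hinB : ∀ u, u ∉ A → u ∈ B := fun u hu => (huniv.ge (Set.mem_univ u) : u ∈ A ∪ B).resolve_left hu
      have hmA : m ∈ A := (huniv.ge (Set.mem_univ m) : m ∈ A ∪ B).resolve_right hm
      have hconst : ∀ u, u ∉ A → ∀ n ∈ A, (Commute (u : G) n ↔ Commute (v : G) m) := by
        intro u hu n hn
        refine (hA.1 u hu n hn m hmA).trans ?_
        rw [Commute.symm_iff (a := (u : G)), Commute.symm_iff (a := (v : G))]
        exact hB.1 m hm u (hinB u hu) v (hinB v hv)
      by_cases hc : Commute (v : G) m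
      · have hcl : ∀ q, Relation.ReflTransGen (fun p q : D => ¬ Commute (p : G) q) v q → q ∉ A := by
          intro q hq
          induction hq with
          | refl => exact hv
          | @tail p q _ hpq ih => exact fun hqA => hpq ((hconst p ih q hqA).mpr hc)
        exact hcl m (hN v m) hmA
      · have hcl : ∀ q, Relation.ReflTransGen (fun p q : D => Commute (p : G) q) v q → q ∉ A := by
          intro q hq
          induction hq with
          | refl => exact hv
          | @tail p q _ hpq ih => exact fun hqA => hc ((hconst p ih q hqA).mp hpq)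
        exact hcl m (hC v m) hmA
  let r : D → D → Prop := fun x y => x = y ∨ ∃ A, Pm A ∧ x ∈ A ∧ y ∈ A
  have hr : Equivalence r := by
    refine ⟨fun x => Or.inl rfl, fun h => h.imp Eq.symm fun ⟨A, h1, h2, h3⟩ => ⟨A, h1, h3, h2⟩, ?_⟩
    intro x y z h h'
    rcases h with rfl | ⟨A, hA, hxA, hyA⟩
    · exact h'
    rcases h' with rfl | ⟨B, hB, hyB, hzB⟩
    · exact Or.inr ⟨A, hA, hxA, hyA⟩
    · exact Or.inr ⟨_, hunion A B hA hB y hyA hyB, Or.inl hxA, Or.inr hzB⟩
  have hinv : ∀ (g : G) (x y : D), r x y → r ⟨_, conj_mem hD x.2 g⟩ ⟨_, conj_mem hD y.2 g⟩ := by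
    intro g x y h
    rcases h with rfl | ⟨A, ⟨hA, hne⟩, hxA, hyA⟩
    · exact Or.inl rfl
    have hback : ∀ z : D, (⟨_, conj_mem hD (conj_mem hD z.2 g) g⁻¹⟩ : D) = z := fun z =>
      Subtype.ext (by simp [mul_assoc])
    refine Or.inr ⟨{z | (⟨_, conj_mem hD z.2 g⁻¹⟩ : D) ∈ A}, ⟨?_, fun hu => hne (Set.eq_univ_of_forall fun z => ?_)⟩,
      show _ ∈ A by rw [hback]; exact hxA, show _ ∈ A by rw [hback]; exact hyA⟩
    · intro w hw p hp q hq
      rw [← commute_conj_iff g⁻¹ (w : G) p, ← commute_conj_iff g⁻¹ (w : G) q]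
      exact hA _ hw _ hp _ hq
    · have h : (⟨_, conj_mem hD (conj_mem hD z.2 g) g⁻¹⟩ : D) ∈ A := hu.ge (Set.mem_univ (⟨_, conj_mem hD z.2 g⟩ : D))
      rwa [hback] at h
  have hmod : ∀ p q w : D, r p q → ¬ r w p → (Commute (w : G) p ↔ Commute (w : G) q) := by
    intro p q w hpq hwp
    rcases hpq with rfl | ⟨A, ⟨hA, hne'⟩, hpA, hqA⟩
    · exact Iff.rfl
    · exact hA w (fun hw => hwp (Or.inr ⟨A, ⟨hA, hne'⟩, hw, hpA⟩)) p hpA q hqA
  by_contra hne
  obtain ⟨x, hx, y₀, hy₀, hxy₀⟩ := hnt
  -- no class is everything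
  have hproper : ∃ z, ¬ r z x := by
    by_contra h
    push Not at h
    obtain ⟨A, ⟨hA, hAx⟩, hmax⟩ := Set.exists_max_image {A : Set D | Pm A ∧ x ∈ A} Set.ncard (Set.toFinite _)
      ⟨M, ⟨hM, hne⟩, hx⟩
    refine hA.2 (Set.eq_univ_of_forall fun z => ?_)
    rcases h z with rfl | ⟨B, hB, hzB, hxB⟩
    · exact hAx
    by_contra hz
    exact absurd (hmax (A ∪ B) ⟨hunion A B hA hB x hAx hxB, Or.inl hAx⟩)
      (not_le.mpr (Set.ncard_lt_ncard ⟨Set.subset_union_left, fun h => hz (h (Or.inr hzB))⟩ (Set.toFinite _)))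
  -- a class commuting with that of `x` but not with that of a given non-commuting `d`
  have hsep : ∀ d : D, ¬ r d x → ¬ Commute (d : G) x →
      ∃ w : D, ¬ r w x ∧ ¬ r w d ∧ Commute (w : G) x ∧ ¬ Commute (w : G) d := by
    intro d hdx hcd
    by_contra hcon
    push Not at hcon
    have H : ∀ w, ¬ r w x → ¬ r w d → (Commute (w : G) x ↔ Commute (w : G) d) := by
      intro w hwx hwd
      refine ⟨hcon w hwx hwd, fun hwcd => ?_⟩
      by_contra hwcx
      -- conjugate by `d x`
      have hd' : (d : G) * x * d * ((d : G) * x)⁻¹ = x := braid_eq_conj hD.1 d.2 x.2 hcd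
      let v : D := ⟨_, conj_mem hD w.2 ((d : G) * x)⟩
      have hvx : Commute (v : G) x := by
        have := (commute_conj_iff ((d : G) * x) (w : G) d).mpr hwcd
        rwa [hd'] at this
      have hvd : ¬ Commute (v : G) d := by
        intro h
        have h' := (commute_conj_iff ((d : G) * x)⁻¹ (v : G) d).mpr h
        rw [show ((d : G) * x)⁻¹ * (v : G) * ((d : G) * x)⁻¹⁻¹ = w by
          show ((d : G) * x)⁻¹ * ((d : G) * x * w * ((d : G) * x)⁻¹) * ((d : G) * x)⁻¹⁻¹ = w
          group] at h'
        have e1 : ((d : G) * x)⁻¹ * d * ((d : G) * x)⁻¹⁻¹ = (d : G) * x * (d : G)⁻¹ := by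
          rw [inv_inv, mul_inv_rev, inv hD.1 d.2, inv hD.1 x.2]
          calc (x : G) * d * d * (d * x) = x * d * x * (d * d) * (d * d) * 1 := by
                rw [sq hD.1 d.2, mul_one, mul_one, mul_assoc _ (d : G) d, sq hD.1 d.2, mul_one]; group
            _ = d * x * d := by
                rw [sq hD.1 d.2, mul_one, mul_one, mul_one, braid hD.1 x.2 d.2 fun h => hcd h.symm]
        rw [e1] at h'
        have h'' := (commute_conj_iff (d : G) (w : G) x)
        rw [show (d : G) * w * (d : G)⁻¹ = w by rw [← hwcd.eq, mul_inv_cancel_right]] at h''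
        exact hwcx (h''.mp h')
      by_cases hvr : r v x
      · refine hwd ?_
        have h1 := hinv ((d : G) * x)⁻¹ _ _ hvr
        have e2 : (⟨_, conj_mem hD v.2 ((d : G) * x)⁻¹⟩ : D) = w := Subtype.ext (by
          show ((d : G) * x)⁻¹ * ((d : G) * x * w * ((d : G) * x)⁻¹) * ((d : G) * x)⁻¹⁻¹ = w
          group)
        have e3 : (⟨_, conj_mem hD x.2 ((d : G) * x)⁻¹⟩ : D) = d := Subtype.ext (by
          show ((d : G) * x)⁻¹ * x * ((d : G) * x)⁻¹⁻¹ = d
          conv_lhs => arg 1; arg 2; rw [← hd']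
          group)
        rwa [e2, e3] at h1
      · by_cases hvr' : r v d
        · exact hcd ((((hmod v d x hvr' fun h => hvr (hr.symm h)).mp hvx.symm)).symm)
        · exact hvd (hcon v hvr hvr' hvx)
    by_cases hall : ∀ z, r z x ∨ r z d
    · -- the commuting graph would be disconnected
      have hcl : ∀ q, Relation.ReflTransGen (fun p q : D => Commute (p : G) q) x q → r q x := by
        intro q hq
        induction hq with
        | refl => exact hr.refl x
        | @tail p q _ hpq ih =>
          by_contra hqx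
          have hqd := (hall q).resolve_left hqx
          have h1 : Commute (q : G) x := (hmod p x q ih fun h => hqx (hr.trans h ih)).mp hpq.symm
          exact hcd (((hmod q d x hqd fun h => hqx (hr.symm h)).mp h1.symm).symm)
      exact hdx (hcl d (hC x d))
    · refine hdx (Or.inr ⟨{z | r z x ∨ r z d}, ⟨?_, fun h => hall fun z => h.ge (Set.mem_univ z)⟩,
        Or.inr (hr.refl d), Or.inl (hr.refl x)⟩)
      intro w hw p hp q hq
      obtain ⟨hwx, hwd⟩ := not_or.mp hw
      have key : ∀ p : D, (r p x ∨ r p d) → (Commute (w : G) p ↔ Commute (w : G) x) := by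
        rintro p (hp | hp)
        · exact (hmod x p w (hr.symm hp) hwx).symm
        · exact (hmod d p w (hr.symm hp) hwd).symm.trans (H w hwx hwd).symm
      exact (key p hp).trans (key q hq).symm
  -- the subgroup generated by the products inside the class of `x`
  let S : Set G := {u | ∃ y z : D, r x y ∧ r x z ∧ u = (y : G) * z}
  let U := Subgroup.closure S
  let K : Subgroup G :=
    { carrier := {g | ∀ d : D, r d ⟨_, conj_mem hD d.2 g⟩}
      one_mem' := fun d => by simpa using hr.refl d
      mul_mem' := fun {g h} hg hh d => by simpa [mul_assoc] using hr.trans (hh d) (hg _)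
      inv_mem' := fun {g} hg d => by
        refine hr.symm ?_
        have := hg ⟨_, conj_mem hD d.2 g⁻¹⟩
        simpa [mul_assoc] using this }
  haveI hKn : K.Normal := ⟨fun n hn g d => by
    have := hinv g _ _ (hn ⟨_, conj_mem hD d.2 g⁻¹⟩)
    simpa [mul_assoc] using this⟩
  have hUK : U ≤ K := (Subgroup.closure_le _).mpr fun u ⟨y, z, hy, hz, hu⟩ => hu ▸
    mul_fixes_block hD r hr hinv hmod (hr.trans (hr.symm hy) hz)
  have hUnear : ∀ w : D, ¬ r w x → Commute (w : G) x → ∀ u ∈ U, Commute u (w : G) := by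
    intro w hwx hwc u hu
    induction hu using Subgroup.closure_induction with
    | mem u hu =>
      obtain ⟨y, z, hy, hz, rfl⟩ := hu
      exact ((hmod x y w hy hwx).mp hwc).symm.mul_left ((hmod x z w hz hwx).mp hwc).symm
    | one => exact Commute.one_left _
    | mul a b _ _ ha hb => exact ha.mul_left hb
    | inv a _ ha => exact ha.inv_left
  have hsix : ∀ y : D, ((x : G) * y) ^ 6 = 1 := fun y => by
    rcases hD.1.2 x x.2 y y.2 with h | h
    · rw [show 6 = 2 * 3 from rfl, pow_mul, h, one_pow]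
    · rw [show 6 = 3 * 2 from rfl, pow_mul, h, one_pow]
  have hfar : ∀ u ∈ U, ∀ d : D, ¬ r d x → ¬ Commute (d : G) x → u ^ 6 * d * (u ^ 6)⁻¹ = d := by
    intro u hu d hdx hcd
    obtain ⟨y, hy, hyd⟩ := block_transitive hD r hr hinv hmod hdx hcd (hUK hu d)
    change (x : G) * y * d * ((x : G) * y)⁻¹ = u * d * u⁻¹ at hyd
    obtain ⟨w, hwx, hwd, hwc, hwd'⟩ := hsep d hdx hcd
    have hagree : ∀ c : D, r d c → u * c * u⁻¹ = (x : G) * y * c * ((x : G) * y)⁻¹ := by
      intro c hc
      obtain ⟨w', hw', he⟩ := block_transitive hD r hr hinv hmod (x := w) (fun h => hwd (hr.symm h))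
        (fun h => hwd' h.symm) hc
      have hw'x : ¬ r w' x := fun h => hwx (hr.trans hw' h)
      have hw'c : Commute (w' : G) x := ((hmod w w' x hw' fun h => hwx (hr.symm h)).mp hwc.symm).symm
      have hcw : ∀ v ∈ U, Commute v ((w : G) * w') := fun v hv =>
        (hUnear w hwx hwc v hv).mul_right (hUnear w' hw'x hw'c v hv)
      have hxyU : (x : G) * y ∈ U := Subgroup.subset_closure ⟨x, y, hr.refl x, hy, rfl⟩
      have key : ∀ v ∈ U, v * c * v⁻¹ = (w : G) * w' * (v * d * v⁻¹) * ((w : G) * w')⁻¹ := by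
        intro v hv
        rw [← he]
        calc v * ((w : G) * w' * d * ((w : G) * w')⁻¹) * v⁻¹
            = (v * ((w : G) * w')) * d * (v * ((w : G) * w'))⁻¹ := by group
          _ = _ := by rw [(hcw v hv).eq]; group
      rw [key u hu, key _ hxyU, hyd]
    have hpow : ∀ k : ℕ, u ^ k * d * (u ^ k)⁻¹ = ((x : G) * y) ^ k * d * (((x : G) * y) ^ k)⁻¹ := by
      intro k
      induction k with
      | zero => simp
      | succ k ih =>
        have hmem := hagree ⟨_, conj_mem hD d.2 (u ^ k)⟩ (K.pow_mem (hUK hu) k d)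
        calc u ^ (k + 1) * d * (u ^ (k + 1))⁻¹ = u * (u ^ k * d * (u ^ k)⁻¹) * u⁻¹ := by rw [pow_succ']; group
          _ = _ := hmem
          _ = _ := by
            rw [show (((⟨_, conj_mem hD d.2 (u ^ k)⟩ : D) : G)) = u ^ k * d * (u ^ k)⁻¹ from rfl, ih, pow_succ',
              mul_inv_rev (((x : G) * y)) (((x : G) * y) ^ k)]
            simp only [mul_assoc]
    rw [hpow 6, hsix y, one_mul, inv_one, mul_one]
  have hout : ∀ u ∈ U, ∀ d : D, ¬ r d x → Commute (u ^ 6) (d : G) := by
    intro u hu d hdx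
    by_cases hcd : Commute (d : G) x
    · exact (hUnear d hdx hcd u hu).pow_left 6
    · exact mul_inv_eq_iff_eq_mul.mp (hfar u hu d hdx hcd)
  have hcen : ∀ u ∈ U, u ^ 6 = 1 := by
    intro u hu
    have hall : ∀ d ∈ D, Commute (u ^ 6) d := by
      intro b hb
      by_cases hbx : r ⟨b, hb⟩ x
      swap
      · exact hout u hu ⟨b, hb⟩ hbx
      -- a member of the class is a conjugate of outside members
      obtain ⟨c, hcx, hcc⟩ : ∃ c : D, ¬ r c x ∧ ¬ Commute (c : G) x := by
        obtain ⟨z, hz⟩ := hproper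
        by_contra h
        push Not at h
        have hcl : ∀ q, Relation.ReflTransGen (fun p q : D => ¬ Commute (p : G) q) x q → r q x := by
          intro q hq
          induction hq with
          | refl => exact hr.refl x
          | @tail p q _ hpq ih =>
            by_contra hqx
            exact hpq ((hmod x p q (hr.symm ih) hqx).mp (h q hqx)).symm
        exact hz (hcl z (hN x z))
      have hcb : ¬ Commute (c : G) b := fun h => hcc ((hmod x ⟨b, hb⟩ c (hr.symm hbx) hcx).mpr h)
      let e : D := ⟨_, conj_mem hD c.2 b⟩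
      have hbinv := inv hD.1 hb
      have hex : ¬ r e x := by
        intro h
        have h1 := hinv b _ _ (hr.trans h (hr.symm hbx))
        have e1 : (⟨_, conj_mem hD e.2 b⟩ : D) = c := Subtype.ext (by
          show b * (b * c * b⁻¹) * b⁻¹ = c
          rw [hbinv]
          calc b * (b * (c : G) * b) * b = (b * b) * c * (b * b) := by group
            _ = c := by rw [sq hD.1 hb, one_mul, mul_one])
        have e2 : (⟨_, conj_mem hD hb b⟩ : D) = ⟨b, hb⟩ := Subtype.ext (mul_inv_cancel_right b b)
        rw [e1, e2] at h1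
        exact hcx (hr.trans h1 hbx)
      have hbe : b = (c : G) * e * c := by
        show b = (c : G) * (b * c * b⁻¹) * c
        rw [hbinv, braid hD.1 hb c.2 fun h => hcb h.symm]
        calc b = ((c : G) * c) * b * ((c : G) * c) := by rw [sq hD.1 c.2, one_mul, mul_one]
          _ = _ := by group
      rw [hbe]
      exact ((hout u hu c hcx).mul_right (hout u hu e hex)).mul_right (hout u hu c hcx)
    have hz : u ^ 6 ∈ Subgroup.center G := by
      refine Subgroup.mem_center_iff.mpr fun g => ?_
      have hle : Subgroup.closure D ≤ Subgroup.centralizer ({u ^ 6} : Set G) := (Subgroup.closure_le _).mpr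
        fun d hd => Subgroup.mem_centralizer_singleton_iff.mpr (hall d hd).symm.eq
      exact Subgroup.mem_centralizer_singleton_iff.mp (hle (hD.2.2 ▸ Subgroup.mem_top g))
    rw [hsol (Subgroup.center G) inferInstance (Group.isSolvable_of_comm fun a b => Subtype.ext (Subgroup.mem_center_iff.mp b.2 a))] at hz
    exact hz
  haveI hUsol : Group.IsSolvable U := by
    have hfac : ∀ p : ℕ, p.Prime → p ∣ Nat.card U → p = 2 ∨ p = 3 := by
      intro p hp hdvd
      haveI := Fact.mk hp
      obtain ⟨v, hv⟩ := exists_prime_orderOf_dvd_card' p hdvd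
      have h6 : v ^ 6 = 1 := Subtype.ext (hcen v v.2)
      have hp6 : p ∣ 2 * 3 := hv ▸ orderOf_dvd_of_pow_eq_one h6
      exact ((hp.dvd_mul.mp hp6).imp (Nat.prime_dvd_prime_iff_eq hp Nat.prime_two).mp
        (Nat.prime_dvd_prime_iff_eq hp (by norm_num)).mp)
    exact isSolvable_of_two_three hfac
  have hUsub : U.IsSubnormal := by
    refine Subgroup.IsSubnormal.step U K hUK hKn.isSubnormal ?_
    have hnorm : ∀ k ∈ K, ∀ u ∈ U, k * u * k⁻¹ ∈ U := by
      intro k hk u hu
      induction hu using Subgroup.closure_induction with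
      | mem u hu =>
        obtain ⟨y, z, hy, hz, rfl⟩ := hu
        refine Subgroup.subset_closure ⟨⟨_, conj_mem hD y.2 k⟩, ⟨_, conj_mem hD z.2 k⟩,
          hr.trans hy (hk y), hr.trans hz (hk z), ?_⟩
        show k * ((y : G) * z) * k⁻¹ = (k * y * k⁻¹) * (k * z * k⁻¹)
        group
      | one => simp
      | mul a b _ _ ha hb => simpa [mul_assoc] using mul_mem ha hb
      | inv a _ ha => simpa [mul_assoc] using inv_mem ha
    exact ⟨fun n hn g => Subgroup.mem_subgroupOf.mpr (hnorm g g.2 n (Subgroup.mem_subgroupOf.mp hn))⟩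
  have hbot : U ≤ ⊥ := by
    refine (CfsgLib.Comp.subnormal_solvable_le_solvRad hUsub hUsol).trans_eq ?_
    exact hsol _ inferInstance CfsgLib.Comp.solvRad_isSolvable
  refine hxy₀ (Subtype.ext ?_)
  have h1 : (x : G) * y₀ = 1 := hbot (Subgroup.subset_closure
    ⟨x, y₀, hr.refl x, Or.inr ⟨M, ⟨hM, hne⟩, hx, hy₀⟩, rfl⟩)
  rw [← inv hD.1 x.2]
  exact inv_eq_of_mul_eq_one_right h1

/-- Fischer's rank three theorem: two orbits of the centraliser, the near one already for the group the near members generate. -/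
theorem rank_three_of_connected (hsome : ∃ a b : D, a ≠ b) {a : G} (ha : a ∈ D) :
    (∃ b ∈ D, b ≠ a ∧ Commute a b) ∧ (∃ c ∈ D, ¬ Commute a c) ∧
      (∀ b ∈ D, ∀ b' ∈ D, b ≠ a → b' ≠ a → Commute a b → Commute a b' →
        ∃ g ∈ Subgroup.closure {y : G | y ∈ D ∧ y ≠ a ∧ Commute a y}, g * b * g⁻¹ = b') ∧
      (∀ c ∈ D, ∀ c' ∈ D, ¬ Commute a c → ¬ Commute a c' → ∃ g : G, Commute g a ∧ g * c * g⁻¹ = c') := by
  classical
  haveI : Finite D := Subtype.finite
  have hN := noncomm_connected hD
  have hprime := modules_trivial_of_connected hD hsol hC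
  obtain ⟨z, hza⟩ : ∃ z : D, z ≠ ⟨a, ha⟩ := by
    obtain ⟨p, q, hpq⟩ := hsome
    by_contra h
    push Not at h
    exact hpq ((h p).trans (h q).symm)
  have hex : ∃ b ∈ D, b ≠ a ∧ Commute a b := by
    by_contra h
    push Not at h
    have hcl : ∀ q, Relation.ReflTransGen (fun p q : D => Commute (p : G) q) ⟨a, ha⟩ q → q = ⟨a, ha⟩ := by
      intro q hq
      induction hq with
      | refl => rfl
      | @tail p q _ hpq ih =>
        by_contra hq
        rw [ih] at hpq
        exact h q q.2 (fun e => hq (Subtype.ext e)) hpq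
    exact hza (hcl z (hC _ z))
  have hexc : ∃ c ∈ D, ¬ Commute a c := by
    rcases (hN ⟨a, ha⟩ z).cases_head with h | ⟨c, hc, -⟩
    · exact absurd h.symm hza
    · exact ⟨c, c.2, hc⟩
  let cg : G → D → D := fun g d => ⟨_, conj_mem hD d.2 g⟩
  have hmapR : ∀ (R : D → D → Prop) (g : G), (∀ p q, R (cg g p) (cg g q) ↔ R p q) → ∀ (x : D) (y : D), cg g x = y →
      (∀ b c, R x b → R x c → Reach (fun p q => ¬ R p q) {v | R x v} b c) →
      ∀ b c, R y b → R y c → Reach (fun p q => ¬ R p q) {v | R y v} b c := by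
    rintro R g hR x _ rfl h b c hb hc
    have hsurj : ∀ z, cg g (cg g⁻¹ z) = z := fun z => Subtype.ext (by simp [cg, mul_assoc])
    have hpath : ∀ u v, Reach (fun p q => ¬ R p q) {v | R x v} u v →
        Reach (fun p q => ¬ R p q) {v | R (cg g x) v} (cg g u) (cg g v) := fun u v huv =>
      Relation.ReflTransGen.lift (cg g) (fun s t hst => ⟨(hR x s).mpr hst.1, (hR x t).mpr hst.2.1, fun e => hst.2.2 ((hR s t).mp e)⟩) u v huv
    rw [← hsurj b] at hb ⊢
    rw [← hsurj c] at hc ⊢
    exact hpath _ _ (h _ _ ((hR _ _).mp hb) ((hR _ _).mp hc))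
  have hcg : ∀ g (p q : D), cg g p = cg g q ↔ p = q := fun g p q =>
    ⟨fun e => Subtype.ext (mul_left_cancel (mul_right_cancel (congrArg Subtype.val e))), fun e => e ▸ rfl⟩
  let R1 : D → D → Prop := fun p q => p ≠ q ∧ Commute (p : G) q
  let R2 : D → D → Prop := fun p q => ¬ Commute (p : G) q
  have hR1 : ∀ g p q, R1 (cg g p) (cg g q) ↔ R1 p q := fun g p q =>
    and_congr (not_congr (hcg g p q)) (commute_conj_iff g _ _)
  have hR2 : ∀ g p q, R2 (cg g p) (cg g q) ↔ R2 p q := fun g p q => not_congr (commute_conj_iff g _ _)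
  have horbit : ∀ (H : Subgroup G) (R : D → D → Prop),
      (∀ u v : D, R ⟨a, ha⟩ u → R ⟨a, ha⟩ v → ¬ R u v → ∃ g ∈ H, g * u * g⁻¹ = v) →
      ∀ u v : D, Reach (fun p q => ¬ R p q) {v | R ⟨a, ha⟩ v} u v → ∃ g ∈ H, g * u * g⁻¹ = v := by
    intro H R hstep u v huv
    induction huv with
    | refl => exact ⟨1, one_mem H, by simp⟩
    | tail _ hst ih =>
      obtain ⟨g, hga, hgu⟩ := ih
      obtain ⟨k, hka, hk⟩ := hstep _ _ hst.1 hst.2.1 hst.2.2
      exact ⟨k * g, mul_mem hka hga, by rw [← hk, ← hgu]; group⟩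
  refine ⟨hex, hexc, ?_, ?_⟩
  · intro b hb b' hb' hba hb'a hab hab'
    have hconn := neighbourhood_connected R1 (fun p q h => ⟨h.1.symm, h.2.symm⟩) (fun p h => h.1 rfl)
      (fun M hM hnt => hprime M (fun w hw x hx y hy => by
        have := hM w hw x hx y hy
        have hx' : w ≠ x := fun e => hw (e ▸ hx)
        have hy' : w ≠ y := fun e => hw (e ▸ hy)
        simpa [R1, hx', hy'] using this) hnt)
      (fun x y hx => by
        obtain ⟨k, hk⟩ := exists_conj hD x.2 y.2
        exact hmapR R1 k (hR1 k) x y (Subtype.ext hk) hx) ⟨a, ha⟩ ⟨b, hb⟩ ⟨b', hb'⟩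
      ⟨fun e => hba (congrArg Subtype.val e).symm, hab⟩ ⟨fun e => hb'a (congrArg Subtype.val e).symm, hab'⟩
    refine horbit _ R1 (fun u v hu hv huv => ?_) _ _ hconn
    by_cases he : u = v
    · exact ⟨1, one_mem _, by simp [he]⟩
    · have hnc : ¬ Commute (u : G) v := fun hc => huv ⟨he, hc⟩
      exact ⟨(u : G) * v, mul_mem (Subgroup.subset_closure ⟨u.2, fun e => hu.1 (Subtype.ext e.symm), hu.2⟩)
        (Subgroup.subset_closure ⟨v.2, fun e => hv.1 (Subtype.ext e.symm), hv.2⟩), braid_eq_conj hD.1 u.2 v.2 hnc⟩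
  · intro c hc c' hc' hac hac'
    have hconn := neighbourhood_connected R2 (fun p q h h' => h h'.symm) (fun p h => h (Commute.refl _))
      (fun M hM hnt => hprime M (fun w hw x hx y hy => not_iff_not.mp (hM w hw x hx y hy)) hnt)
      (fun x y hx => by
        obtain ⟨k, hk⟩ := exists_conj hD x.2 y.2
        exact hmapR R2 k (hR2 k) x y (Subtype.ext hk) hx) ⟨a, ha⟩ ⟨c, hc⟩ ⟨c', hc'⟩ hac hac'
    obtain ⟨g, hg, he⟩ := horbit (Subgroup.centralizer {a}) R2 (fun u v hu hv huv => by
      obtain ⟨g, hga, hgu⟩ := conj_in_far hD.1 ha u.2 v.2 hu hv (not_not.mp huv)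
      exact ⟨g, Subgroup.mem_centralizer_singleton_iff.mpr hga.eq, hgu⟩) _ _ hconn
    exact ⟨g, Subgroup.mem_centralizer_singleton_iff.mp hg, he⟩

end CfsgLib.ThreeT
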