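/-
Members with the same commuting set, and the cores for the primes two and three.
-/
import Cfsg.Agent.Spor3T.Primitive

set_option autoImplicit false
set_option linter.style.haveILetI false
set_option linter.unusedSectionVars false

namespace CfsgLib.ThreeT

universe u

variable {G : Type u} [Group G] [Finite G] {D : Set G} (hD : Cfsg.IsThreeTranspositionClass D)
include hD

/-- The subgroup generated by the products inside one class of an invariant homogeneous equivalence is subnormal. -/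
theorem block_products_subnormal (r : D → D → Prop) (hr : Equivalence r)
    (hinv : ∀ (g : G) (x y : D), r x y → r ⟨_, conj_mem hD x.2 g⟩ ⟨_, conj_mem hD y.2 g⟩)
    (hmod : ∀ x y w : D, r x y → ¬ r w x → (Commute (w : G) x ↔ Commute (w : G) y)) (x : D) :
    (Subgroup.closure {u : G | ∃ y z : D, r x y ∧ r x z ∧ u = (y : G) * z}).IsSubnormal := by
  set U := Subgroup.closure {u : G | ∃ y z : D, r x y ∧ r x z ∧ u = (y : G) * z}
  let K : Subgroup G :=
    { carrier := {g | ∀ d : D, r d ⟨_, conj_mem hD d.2 g⟩}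
      one_mem' := fun d => by simpa using hr.refl d
      mul_mem' := fun {g h} hg hh d => by simpa [mul_assoc] using hr.trans (hh d) (hg _)
      inv_mem' := fun {g} hg d => by
        refine hr.symm ?_
        have := hg ⟨_, conj_mem hD d.2 g⁻¹⟩
        simpa [mul_assoc] using this }
  haveI hKn : K.Normal := ⟨fun n hn g d => by
    have := hinv g _ _ (hn ⟨_, conj_mem hD d.2 g⁻¹⟩)
    simpa [mul_assoc] using this⟩
  have hUK : U ≤ K := (Subgroup.closure_le _).mpr fun u ⟨y, z, hy, hz, hu⟩ => hu ▸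
    mul_fixes_block hD r hr hinv hmod (hr.trans (hr.symm hy) hz)
  refine Subgroup.IsSubnormal.step U K hUK hKn.isSubnormal ?_
  have hnorm : ∀ k ∈ K, ∀ u ∈ U, k * u * k⁻¹ ∈ U := by
    intro k hk u hu
    induction hu using Subgroup.closure_induction with
    | mem u hu =>
      obtain ⟨y, z, hy, hz, rfl⟩ := hu
      refine Subgroup.subset_closure ⟨⟨_, conj_mem hD y.2 k⟩, ⟨_, conj_mem hD z.2 k⟩,
        hr.trans hy (hk y), hr.trans hz (hk z), ?_⟩
      show k * ((y : G) * z) * k⁻¹ = (k * y * k⁻¹) * (k * z * k⁻¹)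
      group
    | one => simp
    | mul a b _ _ ha hb => simpa [mul_assoc] using mul_mem ha hb
    | inv a _ ha => simpa [mul_assoc] using inv_mem ha
  exact ⟨fun n hn g => Subgroup.mem_subgroupOf.mpr (hnorm g g.2 n (Subgroup.mem_subgroupOf.mp hn))⟩

/-- Members commuting with the same members differ by the 2-core. -/
theorem mul_mem_two_core {d v : G} (hd : d ∈ D) (hv : v ∈ D) (hsame : ∀ e ∈ D, Commute v e ↔ Commute d e) :
    d * v ∈ Cfsg.pCore 2 G := by
  haveI : Fact (Nat.Prime 2) := ⟨Nat.prime_two⟩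
  let r : D → D → Prop := fun x y => ∀ e ∈ D, (Commute (y : G) e ↔ Commute (x : G) e)
  have hr : Equivalence r := ⟨fun _ _ _ => Iff.rfl, fun h e he => (h e he).symm,
    fun h h' e he => (h' e he).trans (h e he)⟩
  have hinv : ∀ (g : G) (x y : D), r x y → r ⟨_, conj_mem hD x.2 g⟩ ⟨_, conj_mem hD y.2 g⟩ := by
    intro g x y h e he
    have he' : e = g * (g⁻¹ * e * g⁻¹⁻¹) * g⁻¹ := by group
    show Commute (g * (y : G) * g⁻¹) e ↔ Commute (g * (x : G) * g⁻¹) e
    rw [he', commute_conj_iff, commute_conj_iff]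
    exact h _ (conj_mem hD he g⁻¹)
  have hmod : ∀ x y w : D, r x y → ¬ r w x → (Commute (w : G) x ↔ Commute (w : G) y) := fun x y w h _ => by
    rw [Commute.symm_iff (a := (w : G)), Commute.symm_iff (a := (w : G))]
    exact (h w w.2).symm
  set U := Subgroup.closure {u : G | ∃ y z : D, r ⟨d, hd⟩ y ∧ r ⟨d, hd⟩ z ∧ u = (y : G) * z}
  have hpair : ∀ y z : D, r ⟨d, hd⟩ y → r ⟨d, hd⟩ z → Commute (y : G) z := fun y z hy hz =>
    (hy z z.2).mpr (((hz d hd).mpr (Commute.refl d)).symm)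
  have hc1 : ∀ u ∈ U, ∀ b : D, r ⟨d, hd⟩ b → Commute u (b : G) := by
    intro u hu b hb
    induction hu using Subgroup.closure_induction with
    | mem u hu => obtain ⟨y, z, hy, hz, rfl⟩ := hu; exact (hpair y b hy hb).mul_left (hpair z b hz hb)
    | one => exact Commute.one_left _
    | mul a b _ _ ha hb => exact ha.mul_left hb
    | inv a _ ha => exact ha.inv_left
  have hc2 : ∀ u ∈ U, ∀ w ∈ U, Commute u w := by
    intro u hu w hw
    induction hw using Subgroup.closure_induction with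
    | mem w hw => obtain ⟨y, z, hy, hz, rfl⟩ := hw; exact (hc1 u hu y hy).mul_right (hc1 u hu z hz)
    | one => exact Commute.one_right _
    | mul a b _ _ ha hb => exact ha.mul_right hb
    | inv a _ ha => exact ha.inv_right
  have hsq : ∀ u ∈ U, u ^ 2 = 1 := by
    intro u hu
    induction hu using Subgroup.closure_induction with
    | mem u hu => obtain ⟨y, z, hy, hz, rfl⟩ := hu; exact sq_of_commute (hD.1.1 y y.2) (hD.1.1 z z.2) (hpair y z hy hz)
    | one => exact one_pow 2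
    | mul a b ha hb ha' hb' => rw [(hc2 a ha b hb).mul_pow, ha', hb', one_mul]
    | inv a _ ha => rw [inv_pow, ha, inv_one]
  refine CfsgLib.SubnormalJoin.le_pCore_of_isSubnormal (block_products_subnormal hD r hr hinv hmod ⟨d, hd⟩)
    (fun u => ⟨1, Subtype.ext (by simpa using hsq u u.2)⟩) (Subgroup.subset_closure ?_)
  exact ⟨⟨d, hd⟩, ⟨v, hv⟩, hr.refl _, hsame, rfl⟩

theorem same_commuting_of_mem_two_core {d v : G} (hd : d ∈ D) (hv : v ∈ D) (h : d⁻¹ * v ∈ Cfsg.pCore 2 G) :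
    ∀ e ∈ D, Commute v e ↔ Commute d e := by
  haveI : Fact (Nat.Prime 2) := ⟨Nat.prime_two⟩
  haveI := CfsgLib.Solvable.pCore_normal (G := G) 2
  have hp := CfsgLib.Solvable.isPGroup_pCore (G := G) 2
  have key : ∀ x y : G, x ∈ D → y ∈ D → x⁻¹ * y ∈ Cfsg.pCore 2 G → ∀ e ∈ D, Commute x e → Commute y e := by
    intro x y hx hy hxy e he hc
    by_contra hne
    have h3 := orderOf_mul_of_not_commute hD.1 hy he hne
    have himg : ((y * e : G) : G ⧸ Cfsg.pCore 2 G) ^ 2 = 1 := by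
      rw [QuotientGroup.mk_mul, ← QuotientGroup.eq.mpr hxy, ← QuotientGroup.mk_mul, ← QuotientGroup.mk_pow,
        sq_of_commute (hD.1.1 x hx) (hD.1.1 e he) hc, QuotientGroup.mk_one]
    have hmem : y * e ∈ Cfsg.pCore 2 G := by
      rw [← QuotientGroup.eq_one_iff]
      have h' : ((y * e : G) : G ⧸ Cfsg.pCore 2 G) ^ 3 = 1 := by
        rw [← QuotientGroup.mk_pow, cube_of_not_commute hD.1 hy he hne, QuotientGroup.mk_one]
      rwa [pow_succ, himg, one_mul] at h'
    obtain ⟨k, hk⟩ := hp ⟨_, hmem⟩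
    have hk' : (y * e) ^ 2 ^ k = 1 := congrArg Subtype.val hk
    have := orderOf_dvd_of_pow_eq_one hk'
    rw [h3] at this
    exact absurd (Nat.Prime.dvd_of_dvd_pow (by norm_num) this) (by norm_num)
  refine fun e he => ⟨key v d hv hd ?_ e he, key d v hd hv h e he⟩
  simpa using inv_mem h

/-- Members with the same other commuting members differ by the 3-core. -/
theorem mul_mem_three_core {d w : G} (hd : d ∈ D) (hw : w ∈ D)
    (hsame : {y : G | y ∈ D ∧ y ≠ d ∧ Commute d y} = {y : G | y ∈ D ∧ y ≠ w ∧ Commute w y}) :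
    d * w ∈ Cfsg.pCore 3 G := by
  haveI : Fact (Nat.Prime 3) := ⟨by norm_num⟩
  let nb : G → Set G := fun a => {y : G | y ∈ D ∧ y ≠ a ∧ Commute a y}
  let r : D → D → Prop := fun x y => nb x = nb y
  have hr : Equivalence r := ⟨fun _ => rfl, Eq.symm, Eq.trans⟩
  have hnb : ∀ (g a : G), nb (g * a * g⁻¹) = (fun z => g * z * g⁻¹) '' nb a := by
    intro g a
    ext y
    constructor
    · rintro ⟨hy, hne, hc⟩
      refine ⟨g⁻¹ * y * g⁻¹⁻¹, ⟨conj_mem hD hy g⁻¹, fun e => hne ?_, ?_⟩, by group⟩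
      · rw [← e]; group
      · have h := (commute_conj_iff g⁻¹ _ _).mpr hc
        rwa [show g⁻¹ * (g * a * g⁻¹) * g⁻¹⁻¹ = a by group] at h
    · rintro ⟨z, ⟨hz, hne, hc⟩, rfl⟩
      exact ⟨conj_mem hD hz g, fun e => hne (mul_left_cancel (mul_right_cancel e)), (commute_conj_iff g _ _).mpr hc⟩
  have hinv : ∀ (g : G) (x y : D), r x y → r ⟨_, conj_mem hD x.2 g⟩ ⟨_, conj_mem hD y.2 g⟩ := fun g x y h => by
    show nb (g * x * g⁻¹) = nb (g * y * g⁻¹)
    rw [hnb, hnb, h]
  have hmod : ∀ x y w : D, r x y → ¬ r w x → (Commute (w : G) x ↔ Commute (w : G) y) := by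
    intro x y w hxy hwx
    have hx : (w : G) ≠ x := fun e => hwx (congrArg nb e)
    have hy : (w : G) ≠ y := fun e => hwx ((congrArg nb e).trans hxy.symm)
    exact ⟨fun h => ((hxy.subset (show (w : G) ∈ nb x from ⟨w.2, hx, h.symm⟩)).2.2).symm,
      fun h => ((hxy.symm.subset (show (w : G) ∈ nb y from ⟨w.2, hy, h.symm⟩)).2.2).symm⟩
  set W : Set G := {z | z ∈ D ∧ nb d = nb z}
  have hnc : ∀ a ∈ W, ∀ b ∈ W, a ≠ b → ¬ Commute a b := by
    intro a ha b hb hab hc
    have : b ∈ nb b := (ha.2.symm.trans hb.2).subset ⟨hb.1, Ne.symm hab, hc⟩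
    exact this.2.1 rfl
  set H := Subgroup.closure W
  have hWH : ∀ z ∈ W, z ∈ H := fun z hz => Subgroup.subset_closure hz
  have hWconj : ∀ h ∈ H, ∀ z ∈ W, h * z * h⁻¹ ∈ W := by
    have hgen : ∀ a ∈ W, ∀ z ∈ W, a * z * a⁻¹ ∈ W := by
      intro a ha z hz
      refine ⟨conj_mem hD hz.1 a, ?_⟩
      have h1 : nb (a * z * a⁻¹) = nb (a * a * a⁻¹) := hinv a ⟨z, hz.1⟩ ⟨a, ha.1⟩ (hz.2.symm.trans ha.2)
      rw [mul_inv_cancel_right] at h1
      exact ha.2.trans h1.symm
    intro h hh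
    induction hh using Subgroup.closure_induction'' with
    | mem a ha => exact hgen a ha
    | inv_mem a ha => rw [inv hD.1 ha.1]; exact hgen a ha
    | one => intro z hz; simpa using hz
    | mul a b _ _ ha hb => intro z hz; simpa [mul_assoc] using ha _ (hb z hz)
  have hdW : d ∈ W := ⟨hd, rfl⟩
  let D' : Set H := {z | (z : G) ∈ W}
  have hclass : Cfsg.IsThreeTranspositionClass D' := by
    refine ⟨⟨fun z hz => (Subgroup.orderOf_coe z).symm.trans (hD.1.1 _ hz.1), fun a ha b hb =>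
      (hD.1.2 _ ha.1 _ hb.1).imp (fun h => Subtype.ext h) fun h => Subtype.ext h⟩,
      ⟨⟨d, hWH d hdW⟩, hdW, Set.ext fun e => ⟨fun he => ?_, fun he => ?_⟩⟩,
      eq_top_iff.mpr fun x hxtop => ?_⟩
    · show IsConj (⟨d, hWH d hdW⟩ : H) e
      by_cases hde : (⟨d, hWH d hdW⟩ : H) = e
      · exact hde ▸ IsConj.refl _
      · exact isConj_iff.mpr ⟨⟨d, hWH d hdW⟩ * e, Subtype.ext
          (braid_eq_conj hD.1 hd he.1 (hnc d hdW e he fun h => hde (Subtype.ext h)))⟩
    · obtain ⟨g, rfl⟩ := isConj_iff.mp (show IsConj (⟨d, hWH d hdW⟩ : H) e from he)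
      exact hWconj g g.2 d hdW
    · clear hxtop
      obtain ⟨x, hx⟩ := x
      induction hx using Subgroup.closure_induction with
      | mem z hz => exact Subgroup.subset_closure hz
      | one => exact one_mem _
      | mul a b _ _ ha hb => exact mul_mem ha hb
      | inv a _ ha => exact inv_mem ha
  have hp3 := (isPGroup_of_no_commuting hclass fun a b hab hc =>
    hnc _ a.2 _ b.2 (fun e => hab (Subtype.ext (Subtype.ext e))) (hc.map H.subtype)).map H.subtype
  have hle : Subgroup.closure {u : G | ∃ y z : D, r ⟨d, hd⟩ y ∧ r ⟨d, hd⟩ z ∧ u = (y : G) * z} ≤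
      (commutator H).map H.subtype := by
    refine (Subgroup.closure_le _).mpr ?_
    rintro u ⟨y, z, hy, hz, rfl⟩
    exact ⟨⟨y, hWH _ ⟨y.2, hy⟩⟩ * ⟨z, hWH _ ⟨z.2, hz⟩⟩,
      mul_mem_commutator hclass (show (y : G) ∈ W from ⟨y.2, hy⟩) (show (z : G) ∈ W from ⟨z.2, hz⟩), rfl⟩
  exact CfsgLib.SubnormalJoin.le_pCore_of_isSubnormal (block_products_subnormal hD r hr hinv hmod ⟨d, hd⟩)
    (hp3.to_le hle) (Subgroup.subset_closure ⟨⟨d, hd⟩, ⟨w, hw⟩, rfl, hsame, rfl⟩)

theorem same_others_of_mem_three_core {d w : G} (hd : d ∈ D) (hw : w ∈ D) (h : d⁻¹ * w ∈ Cfsg.pCore 3 G) :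
    {y : G | y ∈ D ∧ y ≠ d ∧ Commute d y} = {y : G | y ∈ D ∧ y ≠ w ∧ Commute w y} := by
  haveI : Fact (Nat.Prime 3) := ⟨by norm_num⟩
  haveI := CfsgLib.Solvable.pCore_normal (G := G) 3
  have hp := CfsgLib.Solvable.isPGroup_pCore (G := G) 3
  have key : ∀ x y : G, x ∈ D → y ∈ D → x⁻¹ * y ∈ Cfsg.pCore 3 G → ∀ e, e ∈ D → e ≠ x → Commute x e →
      e ≠ y ∧ Commute y e := by
    intro x y hx hy hxy e he hex hc
    have hsq := sq_of_commute (hD.1.1 x hx) (hD.1.1 e he) hc
    have hne : x * e ∉ Cfsg.pCore 3 G := by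
      intro hm
      have h1 := eq_one_of_sq_of_three_group hp hm hsq
      exact hex ((inv_eq_of_mul_eq_one_right h1).symm.trans (inv hD.1 hx))
    refine ⟨fun e' => hne ?_, ?_⟩
    · rw [e', ← inv hD.1 hx]; exact hxy
    · by_contra hnc
      refine hne ?_
      rw [← QuotientGroup.eq_one_iff]
      have h3 : ((x * e : G) : G ⧸ Cfsg.pCore 3 G) ^ 3 = 1 := by
        rw [QuotientGroup.mk_mul, QuotientGroup.eq.mpr hxy, ← QuotientGroup.mk_mul, ← QuotientGroup.mk_pow,
          cube_of_not_commute hD.1 hy he hnc, QuotientGroup.mk_one]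
      rwa [pow_succ, ← QuotientGroup.mk_pow, hsq, QuotientGroup.mk_one, one_mul] at h3
  ext e
  constructor
  · rintro ⟨he, hed, hc⟩
    exact ⟨he, key d w hd hw h e he hed hc⟩
  · rintro ⟨he, hew, hc⟩
    refine ⟨he, key w d hw hd ?_ e he hew hc⟩
    simpa using inv_mem h

end CfsgLib.ThreeT
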