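/-
Primitive classes of 3-transpositions and simplicity of the commutator subgroup.
-/
import Cfsg.Agent.Spor3T.Twins
import Cfsg.Agent.S5347

set_option autoImplicit false
set_option linter.style.haveILetI false
set_option linter.unusedSectionVars false

namespace CfsgLib.ThreeT

universe u

variable {G : Type u} [Group G] [Finite G] {D : Set G} (hD : Cfsg.IsThreeTranspositionClass D)
include hD

omit [Finite G] in
theorem center_of_commute {u : G} (h : ∀ d ∈ D, Commute u d) : u ∈ Subgroup.center G := by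
  refine Subgroup.mem_center_iff.mpr fun g => ?_
  have hle : Subgroup.closure D ≤ Subgroup.centralizer ({u} : Set G) := (Subgroup.closure_le _).mpr
    fun d hd => Subgroup.mem_centralizer_singleton_iff.mpr (h d hd).symm.eq
  exact Subgroup.mem_centralizer_singleton_iff.mp (hle (hD.2.2 ▸ Subgroup.mem_top g))

variable (hZ : Subgroup.center G = ⊥)
include hZ

/-- With trivial centre and trivial cores for two and three there is no solvable normal subgroup. -/
theorem solvable_normal_eq_bot (h2 : Cfsg.pCore 2 G = ⊥) (h3 : Cfsg.pCore 3 G = ⊥) :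
    ∀ N : Subgroup G, N.Normal → Group.IsSolvable N → N = ⊥ := by
  intro N hN hs
  by_contra hne
  obtain ⟨M, hM, hM1, -, -, -, p, hp, -, hMp⟩ := CfsgLib.Solvable.exists_normal_elementary_le hne hs
  haveI := hM
  rcases eq_or_ne p 2 with rfl | hp2
  · exact hM1 (le_bot_iff.mp (h2 ▸ CfsgLib.Solvable.le_pCore 2 hM hMp))
  rcases eq_or_ne p 3 with rfl | hp3
  · exact hM1 (le_bot_iff.mp (h3 ▸ CfsgLib.Solvable.le_pCore 3 hM hMp))
  have hgt : 3 < p := by have := hp.two_le; omega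
  have hgroup : Cfsg.IsThreeTranspositionGroup D := ⟨hD.1, fun g d hd => conj_mem hD hd g, hD.2.2⟩
  refine hM1 (le_bot_iff.mp fun m hm => ?_)
  rw [← hZ]
  refine center_of_commute hD fun d hd => (Cfsg.Agent.S5347.result hgroup hp hgt M hMp hd ?_ m hm).symm
  rw [Subgroup.normalizer_eq_top]
  exact Subgroup.mem_top d

/-- Under primitivity a non-trivial normal subgroup has index at most two and contains the commutator subgroup. -/
theorem normal_of_primitive (hprim : Cfsg.IsPrimitiveUnderConj D) (N : Subgroup G) [N.Normal] (hN : N ≠ ⊥) {a : G}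
    (ha : a ∈ D) : commutator G ≤ N ∧ (∀ g : G, g ∈ N ∨ g * a ∈ N) := by
  let B : Set G := {b | ∃ n ∈ N, b = n * a * n⁻¹}
  have hBD : B ⊆ D := fun b ⟨n, _, e⟩ => e ▸ conj_mem hD ha n
  have hblock : ∀ g : G, (fun x => g * x * g⁻¹) '' B = B ∨ Disjoint ((fun x => g * x * g⁻¹) '' B) B := by
    intro g
    refine or_iff_not_imp_right.mpr fun h => ?_
    obtain ⟨z, ⟨_, ⟨n, hn, rfl⟩, rfl⟩, ⟨m, hm, hzm⟩⟩ := Set.not_disjoint_iff.mp h
    have hg : g * a * g⁻¹ = (g * n * g⁻¹)⁻¹ * m * a * ((g * n * g⁻¹)⁻¹ * m)⁻¹ := by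
      have e : g * n * g⁻¹ * (g * a * g⁻¹) * (g * n * g⁻¹)⁻¹ = m * a * m⁻¹ := by
        refine Eq.trans ?_ hzm
        show _ = g * (n * a * n⁻¹) * g⁻¹
        group
      calc g * a * g⁻¹ = (g * n * g⁻¹)⁻¹ * (g * n * g⁻¹ * (g * a * g⁻¹) * (g * n * g⁻¹)⁻¹) * (g * n * g⁻¹) := by group
        _ = _ := by rw [e]; group
    have hm' : (g * n * g⁻¹)⁻¹ * m ∈ N := mul_mem (inv_mem ((inferInstance : N.Normal).conj_mem n hn g)) hm
    ext b
    constructor
    · rintro ⟨_, ⟨k, hk, rfl⟩, rfl⟩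
      refine ⟨g * k * g⁻¹ * ((g * n * g⁻¹)⁻¹ * m), mul_mem ((inferInstance : N.Normal).conj_mem k hk g) hm', ?_⟩
      calc g * (k * a * k⁻¹) * g⁻¹ = g * k * g⁻¹ * (g * a * g⁻¹) * (g * k * g⁻¹)⁻¹ := by group
        _ = _ := by rw [hg]; group
    · rintro ⟨k, hk, rfl⟩
      set u := k * ((g * n * g⁻¹)⁻¹ * m)⁻¹
      refine ⟨g⁻¹ * u * g * a * (g⁻¹ * u * g)⁻¹, ⟨_, ?_, rfl⟩, ?_⟩
      · simpa using (inferInstance : N.Normal).conj_mem u (mul_mem hk (inv_mem hm')) g⁻¹
      · show g * (g⁻¹ * u * g * a * (g⁻¹ * u * g)⁻¹) * g⁻¹ = k * a * k⁻¹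
        calc g * (g⁻¹ * u * g * a * (g⁻¹ * u * g)⁻¹) * g⁻¹ = u * (g * a * g⁻¹) * u⁻¹ := by group
          _ = _ := by rw [hg]; simp only [u]; group
  have hB : B = D := by
    refine (hprim.2.2 B hBD hblock).resolve_left fun hsub => hN (le_bot_iff.mp fun n hn => ?_)
    rw [← hZ]
    refine center_of_commute hD fun d hd => ?_
    obtain ⟨g, rfl⟩ := exists_conj hD ha hd
    have hn' : g⁻¹ * n * g⁻¹⁻¹ ∈ N := (inferInstance : N.Normal).conj_mem n hn g⁻¹
    have h1 : g⁻¹ * n * g⁻¹⁻¹ * a * (g⁻¹ * n * g⁻¹⁻¹)⁻¹ = a :=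
      hsub ⟨_, hn', rfl⟩ ⟨1, one_mem N, by simp⟩
    refine mul_inv_eq_iff_eq_mul.mp ?_
    calc n * (g * a * g⁻¹) * n⁻¹ = g * (g⁻¹ * n * g⁻¹⁻¹ * a * (g⁻¹ * n * g⁻¹⁻¹)⁻¹) * g⁻¹ := by group
      _ = g * a * g⁻¹ := by rw [h1]
  have hcover : ∀ g : G, (g : G ⧸ N) ∈ Subgroup.zpowers (a : G ⧸ N) := by
    intro g
    induction (hD.2.2 ▸ Subgroup.mem_top g : g ∈ Subgroup.closure D) using Subgroup.closure_induction with
    | mem z hz =>
      obtain ⟨n, hn, rfl⟩ := hB.ge hz
      rw [QuotientGroup.mk_mul, QuotientGroup.mk_mul, QuotientGroup.mk_inv, (QuotientGroup.eq_one_iff n).mpr hn,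
        one_mul, inv_one, mul_one]
      exact Subgroup.mem_zpowers _
    | one => exact one_mem _
    | mul x y _ _ hx hy => exact mul_mem hx hy
    | inv x _ hx => exact inv_mem hx
  refine ⟨?_, fun g => ?_⟩
  · rw [commutator_def, Subgroup.commutator_le]
    intro g _ g' _
    obtain ⟨i, hi⟩ := Subgroup.mem_zpowers_iff.mp (hcover g)
    obtain ⟨j, hj⟩ := Subgroup.mem_zpowers_iff.mp (hcover g')
    rw [← QuotientGroup.eq_one_iff, commutatorElement_def, QuotientGroup.mk_mul, QuotientGroup.mk_mul,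
      QuotientGroup.mk_mul, QuotientGroup.mk_inv, QuotientGroup.mk_inv, ← hi, ← hj,
      ((Commute.refl (a : G ⧸ N)).zpow_zpow i j).eq]
    group
  · obtain ⟨i, hi⟩ := Subgroup.mem_zpowers_iff.mp (hcover g)
    rcases Int.even_or_odd i with ⟨k, hk⟩ | ⟨k, hk⟩
    · refine Or.inl ((QuotientGroup.eq_one_iff g).mp ?_)
      rw [← hi, hk, ← two_mul, zpow_mul, zpow_two, ← QuotientGroup.mk_mul, sq hD.1 ha, QuotientGroup.mk_one, one_zpow]
    · refine Or.inr ((QuotientGroup.eq_one_iff _).mp ?_)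
      rw [QuotientGroup.mk_mul, ← hi, hk, zpow_add, zpow_mul, zpow_two, ← QuotientGroup.mk_mul, sq hD.1 ha,
        QuotientGroup.mk_one, one_zpow, one_mul, zpow_one, ← QuotientGroup.mk_mul, sq hD.1 ha, QuotientGroup.mk_one]

theorem not_commutative (a : G) (ha : a ∈ D) : ¬ ∀ x y : G, x * y = y * x := fun h => by
  have hm : a ∈ Subgroup.center G := Subgroup.mem_center_iff.mpr fun g => h g a
  rw [hZ, Subgroup.mem_bot] at hm
  exact ne_one_of_orderOf (hD.1.1 a ha) hm

/-- Primitivity and a commuting pair kill the cores for two and three. -/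
theorem cores_of_primitive (hprim : Cfsg.IsPrimitiveUnderConj D)
    (hw : ∃ a ∈ D, ∃ b ∈ D, a ≠ b ∧ Commute a b) : Cfsg.pCore 2 G = ⊥ ∧ Cfsg.pCore 3 G = ⊥ := by
  haveI : Fact (Nat.Prime 2) := ⟨Nat.prime_two⟩
  haveI : Fact (Nat.Prime 3) := ⟨by norm_num⟩
  obtain ⟨a, ha, b, hb, hab, hc⟩ := hw
  constructor <;> by_contra hne
  · haveI := CfsgLib.Solvable.pCore_normal (G := G) 2
    obtain ⟨-, hcover⟩ := normal_of_primitive hD hZ hprim _ hne ha
    have hT : IsPGroup 2 (⊤ : Subgroup G) := by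
      intro x
      obtain ⟨g, -⟩ := x
      have h2 : g * g ∈ Cfsg.pCore 2 G := by
        rcases hcover g with h | h
        · exact mul_mem h h
        · have h' := (inferInstance : (Cfsg.pCore 2 G).Normal).mem_comm h
          have h3 := mul_mem h h'
          rwa [show g * a * (a * g) = g * (a * a) * g by group, sq hD.1 ha, mul_one] at h3
      obtain ⟨k, hk⟩ := CfsgLib.Solvable.isPGroup_pCore (G := G) 2 ⟨_, h2⟩
      have hk' : (g * g) ^ 2 ^ k = 1 := congrArg Subtype.val hk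
      exact ⟨k + 1, Subtype.ext (by simpa [pow_succ', pow_mul, pow_two] using hk')⟩
    refine not_commutative hD hZ a ha fun x y => ?_
    have hx : x ∈ Subgroup.center G := by
      induction (hD.2.2 ▸ Subgroup.mem_top x : x ∈ Subgroup.closure D) using Subgroup.closure_induction with
      | mem z hz =>
        exact center_of_commute hD fun d hd => commute_of_two_group hD.1 hz hd hT (Subgroup.mem_top z) (Subgroup.mem_top d)
      | one => exact one_mem _
      | mul x y _ _ hx hy => exact mul_mem hx hy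
      | inv x _ hx => exact inv_mem hx
    exact (Subgroup.mem_center_iff.mp hx y).symm
  · haveI := CfsgLib.Solvable.pCore_normal (G := G) 3
    obtain ⟨hle, -⟩ := normal_of_primitive hD hZ hprim _ hne ha
    have h1 := eq_one_of_sq_of_three_group (CfsgLib.Solvable.isPGroup_pCore (G := G) 3)
      (hle (mul_mem_commutator hD ha hb)) (sq_of_commute (hD.1.1 a ha) (hD.1.1 b hb) hc)
    exact hab ((inv hD.1 ha).symm.trans (inv_eq_of_mul_eq_one_right h1))

omit hZ in
/-- Under primitivity the commuting graph is connected. -/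
theorem connected_of_primitive (hprim : Cfsg.IsPrimitiveUnderConj D)
    (hw : ∃ a ∈ D, ∃ b ∈ D, a ≠ b ∧ Commute a b) (p q : D) :
    Relation.ReflTransGen (fun p q : D => Commute (p : G) q) p q := by
  let R : D → D → Prop := Relation.ReflTransGen (fun p q : D => Commute (p : G) q)
  have hsymm : ∀ x y : D, R x y → R y x := by
    intro x y h
    induction h with
    | refl => exact Relation.ReflTransGen.refl
    | tail _ hpq ih => exact Relation.ReflTransGen.head hpq.symm ih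
  have hconj : ∀ (g : G) (x y : D), R x y → R ⟨_, conj_mem hD x.2 g⟩ ⟨_, conj_mem hD y.2 g⟩ := fun g x y h =>
    Relation.ReflTransGen.lift (fun d : D => (⟨_, conj_mem hD d.2 g⟩ : D))
      (fun s t hst => (commute_conj_iff g _ _).mpr hst) x y h
  obtain ⟨a, ha, b, hb, hab, hc⟩ := hw
  let B : Set G := {z | ∃ hz : z ∈ D, R ⟨a, ha⟩ ⟨z, hz⟩}
  have hblock : ∀ g : G, (fun x => g * x * g⁻¹) '' B = B ∨ Disjoint ((fun x => g * x * g⁻¹) '' B) B := by
    intro g
    refine or_iff_not_imp_right.mpr fun h => ?_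
    obtain ⟨z, ⟨u, ⟨hu, hau⟩, rfl⟩, ⟨hz, haz⟩⟩ := Set.not_disjoint_iff.mp h
    have hga : R ⟨a, ha⟩ ⟨_, conj_mem hD ha g⟩ :=
      haz.trans (hsymm _ _ (hconj g _ _ hau))
    ext w
    constructor
    · rintro ⟨v, ⟨hv, hav⟩, rfl⟩
      exact ⟨conj_mem hD hv g, hga.trans (hconj g _ _ hav)⟩
    · rintro ⟨hw, haw⟩
      refine ⟨g⁻¹ * w * g⁻¹⁻¹, ⟨conj_mem hD hw g⁻¹, ?_⟩, by group⟩
      have h := hconj g⁻¹ _ _ ((hsymm _ _ hga).trans haw)
      have e : (⟨_, conj_mem hD (conj_mem hD ha g) g⁻¹⟩ : D) = ⟨a, ha⟩ := Subtype.ext (by simp [mul_assoc])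
      rwa [e] at h
  rcases hprim.2.2 B (fun z hz => hz.1) hblock with hs | hs
  · exact absurd (hs ⟨ha, Relation.ReflTransGen.refl⟩ ⟨hb, Relation.ReflTransGen.single hc⟩) hab
  · have hall : ∀ z : D, R ⟨a, ha⟩ z := fun z => (hs.ge z.2).2
    exact (hsymm _ _ (hall p)).trans (hall q)

omit hZ in
/-- Rank three implies primitivity. -/
theorem primitive_of_connected (hsol : ∀ N : Subgroup G, N.Normal → Group.IsSolvable N → N = ⊥)
    (hC : ∀ p q : D, Relation.ReflTransGen (fun p q : D => Commute (p : G) q) p q)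
    (hw : ∃ a ∈ D, ∃ b ∈ D, a ≠ b) : Cfsg.IsPrimitiveUnderConj D := by
  refine ⟨fun a ha b hb => exists_conj hD ha hb, hw, fun B hBD hblock => ?_⟩
  obtain ⟨a₀, ha₀, b₀, hb₀, hne₀⟩ := hw
  have hrank : ∀ {a : G}, a ∈ D → _ := fun {a} ha =>
    rank_three_of_connected hD hsol hC ⟨⟨a₀, ha₀⟩, ⟨b₀, hb₀⟩, fun e => hne₀ (congrArg Subtype.val e)⟩ (a := a) ha
  refine or_iff_not_imp_left.mpr fun hns => ?_
  obtain ⟨x, hx, y, hy, hxy⟩ := Set.not_subsingleton_iff.mp hns
  have himg : ∀ g : G, ∀ p ∈ B, g * p * g⁻¹ ∈ B → ∀ q ∈ B, g * q * g⁻¹ ∈ B := fun g p hp hgp q hq =>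
    ((hblock g).resolve_right fun h => Set.disjoint_left.mp h ⟨p, hp, rfl⟩ hgp).subset ⟨q, hq, rfl⟩
  have hcomm : ∀ g p : G, Commute g p → g * p * g⁻¹ = p := fun g p h => by rw [h.eq, mul_inv_cancel_right]
  by_cases hc : Commute x y
  · -- the block contains the near members of each of its members
    have hnear : ∀ p ∈ B, ∀ q ∈ D, q ≠ p → Commute p q → q ∈ B := by
      intro p hp q hq hqp hpq
      obtain ⟨g, hg⟩ := exists_conj hD (hBD hx) (hBD hp)
      have hgy := himg g x hx (hg.symm ▸ hp) y hy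
      have hne : g * y * g⁻¹ ≠ p := fun e => hxy (mul_left_cancel (mul_right_cancel (e.trans hg.symm))).symm
      have hcy : Commute p (g * y * g⁻¹) := hg ▸ (commute_conj_iff g x y).mpr hc
      obtain ⟨k, hk, hkq⟩ := (hrank (hBD hp)).2.2.1 _ (hBD hgy) q hq hne hqp hcy hpq
      have hcl : Subgroup.closure {z : G | z ∈ D ∧ z ≠ p ∧ Commute p z} ≤ Subgroup.centralizer ({p} : Set G) :=
        (Subgroup.closure_le _).mpr fun z hz => Subgroup.mem_centralizer_singleton_iff.mpr hz.2.2.symm.eq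
      have hkp : Commute k p := Subgroup.mem_centralizer_singleton_iff.mp (hcl hk)
      exact hkq ▸ himg k p hp ((hcomm k p hkp).symm ▸ hp) _ hgy
    refine Set.Subset.antisymm hBD fun z hz => ?_
    have key : ∀ q, Relation.ReflTransGen (fun p q : D => Commute (p : G) q) ⟨x, hBD hx⟩ q → (q : G) ∈ B := by
      intro q hq
      induction hq with
      | refl => exact hx
      | @tail p q _ hpq ih =>
        by_cases e : (q : G) = p
        · exact e ▸ ih
        · exact hnear p ih q q.2 e hpq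
    exact key ⟨z, hz⟩ (hC _ _)
  · have hfar : ∀ p ∈ B, ∀ q ∈ D, ¬ Commute p q → q ∈ B := by
      intro p hp q hq hpq
      obtain ⟨g, hg⟩ := exists_conj hD (hBD hx) (hBD hp)
      have hgy := himg g x hx (hg.symm ▸ hp) y hy
      have hcy : ¬ Commute p (g * y * g⁻¹) := hg ▸ fun h => hc ((commute_conj_iff g x y).mp h)
      obtain ⟨k, hkp, hkq⟩ := (hrank (hBD hp)).2.2.2 _ (hBD hgy) q hq hcy hpq
      exact hkq ▸ himg k p hp ((hcomm k p hkp).symm ▸ hp) _ hgy
    refine Set.Subset.antisymm hBD fun z hz => ?_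
    have key : ∀ q, Relation.ReflTransGen (fun p q : D => ¬ Commute (p : G) q) ⟨x, hBD hx⟩ q → (q : G) ∈ B := by
      intro q hq
      induction hq with
      | refl => exact hx
      | @tail p q _ hpq ih => exact hfar p ih q q.2 hpq
    exact key ⟨z, hz⟩ (noncomm_connected hD _ _)

/-- Primitivity with a commuting pair makes the commutator subgroup simple. -/
theorem simple_of_primitive (hprim : Cfsg.IsPrimitiveUnderConj D)
    (hw : ∃ a ∈ D, ∃ b ∈ D, a ≠ b ∧ Commute a b) : IsSimpleGroup (commutator G) := by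
  obtain ⟨h2, h3⟩ := cores_of_primitive hD hZ hprim hw
  have hsol := solvable_normal_eq_bot hD hZ h2 h3
  obtain ⟨a, ha, -⟩ := hw
  set M := commutator G with hM
  have hMne : M ≠ ⊥ := fun h => not_commutative hD hZ a ha fun x y => by
    have h1 : x * y * x⁻¹ * y⁻¹ ∈ M := Subgroup.commutator_mem_commutator (Subgroup.mem_top x) (Subgroup.mem_top y)
    rw [h, Subgroup.mem_bot, mul_inv_eq_one, mul_inv_eq_iff_eq_mul] at h1
    exact h1
  haveI : Nontrivial M := (Subgroup.nontrivial_iff_ne_bot M).mpr hMne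
  have hcoverM := (normal_of_primitive hD hZ hprim M hMne ha).2
  refine ⟨fun S hS => ?_⟩
  let S' := S.map M.subtype
  have hS'M : S' ≤ M := Subgroup.map_subtype_le S
  have hS'n : ∀ m ∈ M, ∀ s ∈ S', m * s * m⁻¹ ∈ S' := by
    rintro m hm _ ⟨t, ht, rfl⟩
    exact ⟨_, hS.conj_mem t ht ⟨m, hm⟩, rfl⟩
  have hMn : M.Normal := inferInstance
  have hconjM : ∀ m ∈ M, a * m * a ∈ M := fun m hm => by
    have h := hMn.conj_mem m hm a
    rwa [inv hD.1 ha] at h
  have haa : ∀ u : G, a * (a * u) = u := invol_cancel (hD.1.1 a ha)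
  let T : Subgroup G :=
    { carrier := {t | t ∈ S' ∧ a * t * a ∈ S'}
      one_mem' := ⟨one_mem _, by rw [mul_one, sq hD.1 ha]; exact one_mem _⟩
      mul_mem' := fun {s t} hs ht => ⟨mul_mem hs.1 ht.1, by
        have h := mul_mem hs.2 ht.2
        simpa only [mul_assoc, haa] using h⟩
      inv_mem' := fun {s} hs => ⟨inv_mem hs.1, by
        have h := inv_mem hs.2
        simpa only [mul_inv_rev, inv hD.1 ha, mul_assoc] using h⟩ }
  haveI : T.Normal := ⟨fun t ht g => by
    have hM' : ∀ m ∈ M, ∀ t ∈ T, m * t * m⁻¹ ∈ T := fun m hm t ht => ⟨hS'n m hm t ht.1, by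
      have h := hS'n _ (hconjM m hm) _ ht.2
      simpa only [mul_inv_rev, inv hD.1 ha, mul_assoc, haa] using h⟩
    have haT : ∀ t ∈ T, a * t * a ∈ T := fun t ht => ⟨ht.2, by
      simpa only [mul_assoc, haa, sq hD.1 ha, mul_one] using ht.1⟩
    rcases hcoverM g with h | h
    · exact hM' g h t ht
    · have h1 := hM' _ h _ (haT t ht)
      simpa only [mul_inv_rev, inv hD.1 ha, mul_assoc, haa] using h1⟩
  by_cases hT : T = ⊥
  · left
    have hcomm : ∀ s ∈ S', Commute s (a * s⁻¹ * a) := by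
      intro s hs
      set u := a * s⁻¹ * a
      have hu : u ∈ M := hconjM _ (inv_mem (hS'M hs))
      have h1 : s * u * s⁻¹ * u⁻¹ ∈ S' := by
        have := mul_mem hs (hS'n u hu _ (inv_mem hs))
        simpa only [mul_assoc] using this
      have h2 : a * (s * u * s⁻¹ * u⁻¹) * a ∈ S' := by
        have hv : a * s * a ∈ M := hconjM _ (hS'M hs)
        have := mul_mem (hS'n _ hv _ (inv_mem hs)) hs
        simpa only [u, mul_inv_rev, inv_inv, inv hD.1 ha, mul_assoc, haa, sq hD.1 ha, mul_one] using this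
      have h3 : s * u * s⁻¹ * u⁻¹ ∈ T := ⟨h1, h2⟩
      rw [hT, Subgroup.mem_bot, mul_inv_eq_one, mul_inv_eq_iff_eq_mul] at h3
      exact h3
    have hexp : ∀ s ∈ S', s ^ 6 = 1 := by
      intro s hs
      have hp6 : (s * (a * s⁻¹ * a)) ^ 6 = 1 := by
        have hd := conj_mem hD ha s
        rw [show s * (a * s⁻¹ * a) = s * a * s⁻¹ * a by simp only [mul_assoc]]
        rcases hD.1.2 _ hd a ha with h | h
        · rw [show 6 = 2 * 3 from rfl, pow_mul, h, one_pow]
        · rw [show 6 = 3 * 2 from rfl, pow_mul, h, one_pow]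
      rw [(hcomm s hs).mul_pow] at hp6
      have h6 : s ^ 6 = ((a * s⁻¹ * a) ^ 6)⁻¹ := eq_inv_of_mul_eq_one_left hp6
      have h7 : (a * s⁻¹ * a) ^ 6 = a * (s⁻¹) ^ 6 * a := by
        have := conj_pow (a := a) (b := s⁻¹) (i := 6)
        rwa [inv hD.1 ha] at this
      rw [h7] at h6
      have hmem : s ^ 6 ∈ T := ⟨pow_mem hs 6, by
        rw [h6, inv_pow]
        simp only [mul_inv_rev, inv_inv, inv hD.1 ha, mul_assoc, haa, sq hD.1 ha, mul_one]
        exact pow_mem hs 6⟩
      rwa [hT, Subgroup.mem_bot] at hmem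
    haveI hSsol : Group.IsSolvable S' := by
      have hfac : ∀ p : ℕ, p.Prime → p ∣ Nat.card S' → p = 2 ∨ p = 3 := by
        intro p hp hdvd
        haveI := Fact.mk hp
        obtain ⟨v, hv⟩ := exists_prime_orderOf_dvd_card' p hdvd
        have h6 : v ^ 6 = 1 := Subtype.ext (hexp v v.2)
        have hp6 : p ∣ 2 * 3 := hv ▸ orderOf_dvd_of_pow_eq_one h6
        exact ((hp.dvd_mul.mp hp6).imp (Nat.prime_dvd_prime_iff_eq hp Nat.prime_two).mp
          (Nat.prime_dvd_prime_iff_eq hp (by norm_num)).mp)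
      exact isSolvable_of_two_three hfac
    have hsub : S'.IsSubnormal := Subgroup.IsSubnormal.step S' M hS'M hMn.isSubnormal
      ⟨fun n hn g => Subgroup.mem_subgroupOf.mpr (hS'n g g.2 n (Subgroup.mem_subgroupOf.mp hn))⟩
    have hbot : S' ≤ ⊥ := (CfsgLib.Comp.subnormal_solvable_le_solvRad hsub hSsol).trans_eq
      (hsol _ inferInstance CfsgLib.Comp.solvRad_isSolvable)
    exact (Subgroup.eq_bot_iff_forall S).mpr fun s hs =>
      Subtype.ext (Subgroup.mem_bot.mp (hbot (Subgroup.mem_map_of_mem _ hs)))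
  · right
    have hle := (normal_of_primitive hD hZ hprim T hT ha).1
    refine eq_top_iff.mpr fun m _ => ?_
    obtain ⟨t, ht, he⟩ := (hle m.2).1
    exact Subtype.ext he ▸ ht

end CfsgLib.ThreeT
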