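/-
Structure of groups generated by a class of 3-transpositions: cores and components.
-/
import Cfsg.Agent.Spor3T.Simple
import Cfsg.Agent.Comp.Fitting

set_option autoImplicit false
set_option linter.style.haveILetI false
set_option linter.unusedSectionVars false

namespace CfsgLib.ThreeT

universe u

theorem isNilpotent_center (H : Type*) [Group H] : Group.IsNilpotent (Subgroup.center H) := by
  letI : CommGroup (Subgroup.center H) :=
    { (inferInstance : Group (Subgroup.center H)) with mul_comm := fun a b => Subtype.ext (Subgroup.mem_center_iff.mp b.2 a) }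
  exact CommGroup.isNilpotent

variable {G : Type u} [Group G] [Finite G] {D : Set G} (hD : Cfsg.IsThreeTranspositionClass D)
include hD

theorem pCore_le_center_of_gt {p : ℕ} (hp : p.Prime) (h3 : 3 < p) : Cfsg.pCore p G ≤ Subgroup.center G := by
  haveI := Fact.mk hp
  haveI := CfsgLib.Solvable.pCore_normal (G := G) p
  have hgroup : Cfsg.IsThreeTranspositionGroup D := ⟨hD.1, fun g d hd => conj_mem hD hd g, hD.2.2⟩
  intro m hm
  refine center_of_commute hD fun d hd => (Cfsg.Agent.S5347.result hgroup hp h3 _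
    (CfsgLib.Solvable.isPGroup_pCore (G := G) p) hd ?_ m hm).symm
  rw [Subgroup.normalizer_eq_top]
  exact Subgroup.mem_top d

/-- A non-central core of a small prime gives a member sharing its commuting set. -/
theorem exists_twin (p : ℕ) (h : ¬ Cfsg.pCore p G ≤ Subgroup.center G) {d : G} (hd : d ∈ D) :
    ∃ v ∈ D, v ≠ d ∧ d⁻¹ * v ∈ Cfsg.pCore p G := by
  haveI : (Cfsg.pCore p G).Normal := CfsgLib.Solvable.pCore_normal (G := G) p
  by_contra hcon
  push Not at hcon
  refine h fun n hn => center_of_commute hD fun e he => ?_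
  obtain ⟨g, rfl⟩ := exists_conj hD hd he
  set m := g⁻¹ * n * g⁻¹⁻¹
  have hm : m ∈ Cfsg.pCore p G := (inferInstance : (Cfsg.pCore p G).Normal).conj_mem n hn g⁻¹
  have h1 : m * d * m⁻¹ = d := by
    by_contra hne
    refine hcon _ (conj_mem hD hd m) hne ?_
    have h1 := mul_mem ((inferInstance : (Cfsg.pCore p G).Normal).conj_mem m hm d⁻¹) (inv_mem hm)
    simpa [mul_assoc] using h1
  have h2 := (commute_conj_iff g m d).mpr (mul_inv_eq_iff_eq_mul.mp h1)
  rwa [show g * m * g⁻¹ = n by simp only [m]; group] at h2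

/-- A layer moving members only inside their cosets of a core is trivial. -/
theorem layer_eq_bot_of (p : ℕ) [Fact p.Prime]
    (h : ∀ d ∈ D, ∀ x ∈ Cfsg.layer G, d * (x * d * x⁻¹) ∈ Cfsg.pCore p G) : Cfsg.layer G = ⊥ := by
  haveI := CfsgLib.Solvable.pCore_normal (G := G) p
  have hc : ∀ x ∈ Cfsg.layer G, ∀ g : G, (x : G ⧸ Cfsg.pCore p G) * g = g * x := by
    intro x hx g
    induction (hD.2.2 ▸ Subgroup.mem_top g : g ∈ Subgroup.closure D) using Subgroup.closure_induction with
    | mem d hd =>
      have h1 := h d hd x hx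
      rw [← QuotientGroup.eq_one_iff, QuotientGroup.mk_mul, QuotientGroup.mk_mul, QuotientGroup.mk_mul,
        QuotientGroup.mk_inv, mul_eq_one_iff_eq_inv, mul_inv_rev, mul_inv_rev, inv_inv,
        ← QuotientGroup.mk_inv, inv hD.1 hd, ← mul_assoc, eq_mul_inv_iff_mul_eq] at h1
      exact h1.symm
    | one => simp
    | mul a b _ _ ha hb => rw [QuotientGroup.mk_mul, ← mul_assoc, ha, mul_assoc, hb, mul_assoc]
    | inv a _ ha =>
      rw [QuotientGroup.mk_inv]
      exact (Commute.inv_right (show Commute (x : G ⧸ Cfsg.pCore p G) a from ha)).eq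
  have hle : Cfsg.layer G ≤ Cfsg.pCore p G := by
    rw [← CfsgLib.Comp.layer_perfect, Subgroup.commutator_le]
    intro x hx y _
    rw [← QuotientGroup.eq_one_iff, commutatorElement_def, QuotientGroup.mk_mul, QuotientGroup.mk_mul,
      QuotientGroup.mk_mul, QuotientGroup.mk_inv, QuotientGroup.mk_inv, hc x hx y]
    group
  haveI : Group.IsNilpotent (Cfsg.pCore p G) := (CfsgLib.Solvable.isPGroup_pCore (G := G) p).isNilpotent
  haveI : Group.IsSolvable (Cfsg.layer G) :=
    Group.isSolvable_of_isSolvable_injective (Subgroup.inclusion_injective hle)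
  refine le_bot_iff.mp (CfsgLib.Comp.layer_le fun L hL => ?_)
  exact absurd (Group.isSolvable_of_isSolvable_injective
    (Subgroup.inclusion_injective (CfsgLib.Comp.component_le_layer hL))) (CfsgLib.Comp.component_not_solvable hL)

theorem layer_commutes_pCore (p : ℕ) [Fact p.Prime] {x q : G} (hx : x ∈ Cfsg.layer G) (hq : q ∈ Cfsg.pCore p G) :
    Commute x q :=
  ((Subgroup.mem_centralizer_iff.mp (CfsgLib.Comp.layer_le_centralizer_fitting hx))
    q (CfsgLib.Comp.pCore_le_fitting p hq)).symm

theorem layer_eq_bot_of_two (h2 : ¬ Cfsg.pCore 2 G ≤ Subgroup.center G) : Cfsg.layer G = ⊥ := by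
  haveI : Fact (Nat.Prime 2) := ⟨Nat.prime_two⟩
  refine layer_eq_bot_of hD 2 fun d hd x hx => ?_
  obtain ⟨v, hv, hvd, hq⟩ := exists_twin hD 2 h2 hd
  have hsame := same_commuting_of_mem_two_core hD hd hv hq
  have hc : Commute d v := ((hsame d hd).mpr (Commute.refl d)).symm
  rw [inv hD.1 hd] at hq
  have hfix : ∀ f ∈ D, Commute (d * v) f ↔ Commute d f := fun f hf => by
    rw [commute_mul_iff hD.1 hd hv hf hc (Ne.symm hvd)]
    exact ⟨And.left, fun h => ⟨h, (hsame f hf).mpr h⟩⟩
  have hxq := layer_commutes_pCore hD 2 hx hq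
  refine mul_mem_two_core hD hd (conj_mem hD hd x) fun f hf => ?_
  have hf' : f = x * (x⁻¹ * f * x⁻¹⁻¹) * x⁻¹ := by group
  rw [← hfix f hf, show d * v = x * (d * v) * x⁻¹ by rw [hxq.eq, mul_inv_cancel_right], hf',
    commute_conj_iff, commute_conj_iff, hfix _ (conj_mem hD hf x⁻¹)]

theorem layer_eq_bot_of_three (h3 : ¬ Cfsg.pCore 3 G ≤ Subgroup.center G) : Cfsg.layer G = ⊥ := by
  haveI : Fact (Nat.Prime 3) := ⟨by norm_num⟩
  refine layer_eq_bot_of hD 3 fun d hd x hx => ?_
  obtain ⟨w, hw, hwd, hq⟩ := exists_twin hD 3 h3 hd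
  have hsame := same_others_of_mem_three_core hD hd hw hq
  have hdw : ¬ Commute d w := fun h =>
    (hsame.subset (show w ∈ {y : G | y ∈ D ∧ y ≠ d ∧ Commute d y} from ⟨hw, hwd, h⟩)).2.1 rfl
  rw [inv hD.1 hd] at hq
  have hfix : ∀ f ∈ D, Commute (d * w) f ↔ f ≠ d ∧ Commute d f := by
    intro f hf
    constructor
    · intro h
      have h' := conj_eq_of_commute_mul (hD.1.1 d hd) (hD.1.1 w hw) h
      have hne : f ≠ d := by
        intro e
        rw [e] at h
        apply hdw
        show d * w = w * d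
        calc d * w = d * w * d * d := by rw [mul_assoc (d * w) d d, sq hD.1 hd, mul_one]
          _ = d * (d * w) * d := by rw [h.eq]
          _ = w * d := by rw [← mul_assoc d d w, sq hD.1 hd, one_mul]
      refine ⟨hne, ?_⟩
      by_contra hdf
      by_cases hwf : Commute w f
      · by_cases hfw : f = w
        · rw [hfw] at h
          refine hdw ?_
          show d * w = w * d
          have h4 : d * w * w = w * (d * w) := h.eq
          rw [← mul_assoc w d w] at h4
          exact mul_right_cancel h4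
        · exact hdf (hsame.symm.subset (show f ∈ {y : G | y ∈ D ∧ y ≠ w ∧ Commute w y} from ⟨hf, hfw, hwf⟩)).2.2
      · rw [braid hD.1 hw hf hwf, braid hD.1 hd hf hdf] at h'
        exact hwd (mul_left_cancel (mul_right_cancel h'))
    · rintro ⟨hne, hc⟩
      exact hc.mul_left (hsame.subset (show f ∈ {y : G | y ∈ D ∧ y ≠ d ∧ Commute d y} from ⟨hf, hne, hc⟩)).2.2
  have hxq := layer_commutes_pCore hD 3 hx hq
  refine mul_mem_three_core hD hd (conj_mem hD hd x) ?_
  ext f
  refine and_congr_right fun hf => ?_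
  have hf' : f = x * (x⁻¹ * f * x⁻¹⁻¹) * x⁻¹ := by group
  rw [← hfix f hf, show d * w = x * (d * w) * x⁻¹ by rw [hxq.eq, mul_inv_cancel_right], hf',
    commute_conj_iff, commute_conj_iff, hfix _ (conj_mem hD hf x⁻¹)]
  exact and_congr (not_congr ⟨fun e => by rw [e],
    fun e => mul_left_cancel (mul_right_cancel e)⟩) Iff.rfl

theorem two_three_exclusive (hD2 : ∃ a ∈ D, ∃ b ∈ D, a ≠ b) :
    Cfsg.pCore 2 G ≤ Subgroup.center G ∨ Cfsg.pCore 3 G ≤ Subgroup.center G := by
  by_contra h
  obtain ⟨h2, h3⟩ := not_or.mp h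
  obtain ⟨d, hd, -⟩ := hD.2.1
  obtain ⟨v, hv, hvd, hqv⟩ := exists_twin hD 2 h2 hd
  obtain ⟨w, hw, hwd, hqw⟩ := exists_twin hD 3 h3 hd
  have hVs := same_commuting_of_mem_two_core hD hd hv hqv
  have hWs := same_others_of_mem_three_core hD hd hw hqw
  have hdv : Commute d v := ((hVs d hd).mpr (Commute.refl d)).symm
  have hdw : ¬ Commute d w := fun h =>
    (hWs.subset (show w ∈ {y : G | y ∈ D ∧ y ≠ d ∧ Commute d y} from ⟨hw, hwd, h⟩)).2.1 rfl
  exact hdw ((hVs w hw).mp (hWs.subset (show v ∈ {y : G | y ∈ D ∧ y ≠ d ∧ Commute d y} from ⟨hv, hvd, hdv⟩)).2.2.symm)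

theorem center_ne_top (hD2 : ∃ a ∈ D, ∃ b ∈ D, a ≠ b) {d : G} (hd : d ∈ D) : d ∉ Subgroup.center G := by
  intro hc
  obtain ⟨a, ha, b, hb, hab⟩ := hD2
  have h : ∀ e ∈ D, e = d := fun e he => by
    obtain ⟨g, rfl⟩ := exists_conj hD hd he
    rw [Subgroup.mem_center_iff.mp hc g, mul_inv_cancel_right]
  exact hab ((h a ha).trans (h b hb).symm)

theorem fitting_le_center (h2 : Cfsg.pCore 2 G ≤ Subgroup.center G) (h3 : Cfsg.pCore 3 G ≤ Subgroup.center G) :
    Cfsg.fittingSubgroup G ≤ Subgroup.center G := by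
  rw [CfsgLib.Comp.fitting_eq_iSup_pCore]
  refine iSup_le fun p => ?_
  have hp := Nat.prime_of_mem_primeFactors p.2
  rcases eq_or_ne (p : ℕ) 2 with h | hne2
  · rw [h]; exact h2
  rcases eq_or_ne (p : ℕ) 3 with h | hne3
  · rw [h]; exact h3
  exact pCore_le_center_of_gt hD hp (by have := hp.two_le; omega)

theorem layer_ne_bot (hD2 : ∃ a ∈ D, ∃ b ∈ D, a ≠ b) (h2 : Cfsg.pCore 2 G ≤ Subgroup.center G)
    (h3 : Cfsg.pCore 3 G ≤ Subgroup.center G) : Cfsg.layer G ≠ ⊥ := by
  intro h
  have hF : Cfsg.generalizedFittingSubgroup G ≤ Subgroup.center G := by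
    rw [Cfsg.generalizedFittingSubgroup, h, bot_sup_eq]; exact fitting_le_center hD h2 h3
  obtain ⟨d, hd, -⟩ := hD.2.1
  refine center_ne_top hD hD2 hd (hF (CfsgLib.Comp.centralizer_Fstar_le ?_))
  exact Subgroup.mem_centralizer_iff.mpr fun z hz => (Subgroup.mem_center_iff.mp (hF hz) d).symm

variable (hD2 : ∃ a ∈ D, ∃ b ∈ D, a ≠ b)
include hD2

/-- A member maps each component to itself. -/
theorem component_normal {L : Subgroup G} (hL : Cfsg.IsComponent L) : L.Normal := by
  have hgen : ∀ d ∈ D, L.map (MulAut.conj d).toMonoidHom = L := by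
    intro d hd
    by_contra hne
    have hcomm := (CfsgLib.Comp.component_eq_or_commute (CfsgLib.Comp.component_conj d hL) hL).resolve_left hne
    have hc : ∀ x ∈ L, ∀ y ∈ L, Commute (d * x * d⁻¹) y := fun x hx y hy =>
      (Subgroup.mem_centralizer_iff.mp (CfsgLib.Comp.le_centralizer_of_commutator_eq_bot hcomm
        ⟨x, hx, rfl⟩) y hy).symm
    let Z := (Subgroup.center L).map L.subtype
    have hexp : ∀ x ∈ L, x ^ 6 ∈ Subgroup.centralizer (L : Set G) := by
      intro x hx
      have h6 : (x * d * x⁻¹ * d) ^ 6 = 1 := by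
        rcases hD.1.2 _ (conj_mem hD hd x) d hd with h | h
        · rw [show 6 = 2 * 3 from rfl, pow_mul, h, one_pow]
        · rw [show 6 = 3 * 2 from rfl, pow_mul, h, one_pow]
      rw [show x * d * x⁻¹ * d = x * (d * x⁻¹ * d⁻¹) by rw [inv hD.1 hd]; group,
        ((hc _ (inv_mem hx) x hx).symm).mul_pow, mul_eq_one_iff_eq_inv, conj_pow] at h6
      refine Subgroup.mem_centralizer_iff.mpr fun y hy => ?_
      rw [h6]
      exact ((hc _ (pow_mem (inv_mem hx) 6) y hy).inv_left).eq.symm
    refine CfsgLib.Comp.component_not_solvable hL ?_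
    haveI hZs : Group.IsSolvable (Subgroup.center L) :=
      Group.isSolvable_of_comm fun a b => Subtype.ext (Subgroup.mem_center_iff.mp b.2 a)
    haveI : Group.IsSolvable (L ⧸ Subgroup.center L) := by
      have hfac : ∀ p : ℕ, p.Prime → p ∣ Nat.card (L ⧸ Subgroup.center L) → p = 2 ∨ p = 3 := by
        intro p hp hdvd
        haveI := Fact.mk hp
        obtain ⟨v, hv⟩ := exists_prime_orderOf_dvd_card' p hdvd
        obtain ⟨x, rfl⟩ := QuotientGroup.mk_surjective v
        have h6 : (x : L ⧸ Subgroup.center L) ^ 6 = 1 := by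
          rw [← QuotientGroup.mk_pow, QuotientGroup.eq_one_iff, Subgroup.mem_center_iff]
          exact fun y => Subtype.ext (Subgroup.mem_centralizer_iff.mp (hexp x x.2) y y.2)
        have hp6 : p ∣ 2 * 3 := hv ▸ orderOf_dvd_of_pow_eq_one h6
        exact ((hp.dvd_mul.mp hp6).imp (Nat.prime_dvd_prime_iff_eq hp Nat.prime_two).mp
          (Nat.prime_dvd_prime_iff_eq hp (by norm_num)).mp)
      haveI := isSolvable_of_two_three (H := (⊤ : Subgroup (L ⧸ Subgroup.center L))) (fun p hp hd' =>
        hfac p hp (by rwa [Subgroup.card_top] at hd'))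
      exact Group.isSolvable_of_surjective
        (f := (Subgroup.topEquiv : (⊤ : Subgroup (L ⧸ Subgroup.center L)) ≃* _).toMonoidHom)
        Subgroup.topEquiv.surjective
    exact (Group.isSolvable_iff_subgroup_quotient (Subgroup.center L)).mpr ⟨inferInstance, inferInstance⟩
  rw [← Subgroup.normalizer_eq_top_iff, eq_top_iff, ← hD.2.2, Subgroup.closure_le]
  intro d hd
  exact Subgroup.mem_normalizer_iff_map_conj_eq.mpr (hgen d hd)

/-- No member centralises a component when the cores are central. -/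
theorem component_not_centralised (h2 : Cfsg.pCore 2 G ≤ Subgroup.center G) (h3 : Cfsg.pCore 3 G ≤ Subgroup.center G)
    {L : Subgroup G} (hL : Cfsg.IsComponent L) {d : G} (hd : d ∈ D) : ¬ ∀ x ∈ L, Commute d x := by
  intro h
  have hn := component_normal hD hD2 hL
  have hle : L ≤ Subgroup.center G := fun x hx => center_of_commute hD fun e he => by
    obtain ⟨g, rfl⟩ := exists_conj hD hd he
    have h1 := (commute_conj_iff g d (g⁻¹ * x * g⁻¹⁻¹)).mpr (h _ (hn.conj_mem x hx g⁻¹))
    rw [show g * (g⁻¹ * x * g⁻¹⁻¹) * g⁻¹ = x by group] at h1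
    exact h1.symm
  exact CfsgLib.Comp.component_not_solvable hL
    (Group.isSolvable_of_comm fun a b => Subtype.ext (Subgroup.mem_center_iff.mp (hle b.2) a))

/-- The orbit of a member under a component has commuting and non-commuting pairs. -/
theorem component_orbit_mixed (h2 : Cfsg.pCore 2 G ≤ Subgroup.center G) (h3 : Cfsg.pCore 3 G ≤ Subgroup.center G)
    {L : Subgroup G} (hL : Cfsg.IsComponent L) {d : G} (hd : d ∈ D) :
    (∃ x ∈ L, x * d * x⁻¹ ≠ d ∧ Commute d (x * d * x⁻¹)) ∧ ∃ x ∈ L, ¬ Commute d (x * d * x⁻¹) := by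
  have hn := component_normal hD hD2 hL
  set O : Set G := {e | ∃ x ∈ L, e = x * d * x⁻¹}
  have hOD : O ⊆ D := fun e ⟨x, _, he⟩ => he ▸ conj_mem hD hd x
  have hdO : d ∈ O := ⟨1, one_mem L, by simp⟩
  set S : Set G := {u | ∃ a ∈ O, ∃ b ∈ O, u = a * b}
  set U := Subgroup.closure S
  have hUL : U ≤ L := (Subgroup.closure_le _).mpr fun u ⟨a, ⟨x, hx, ea⟩, b, ⟨y, hy, eb⟩, hu⟩ => by
    rw [hu, ea, eb]
    have h1 := mul_mem (mul_mem hx (hn.conj_mem _ (mul_mem (inv_mem hx) hy) d)) (inv_mem hy)
    rw [inv hD.1 hd] at h1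
    simpa only [mul_assoc, SetLike.mem_coe] using h1
  -- a solvable subgroup of products forces centralisation
  have hsolved : Group.IsSolvable U → False := by
    intro hs
    have hOc : ∀ x ∈ L, ∀ a ∈ O, x * a * x⁻¹ ∈ O := fun x hx a ⟨y, hy, ea⟩ =>
      ⟨x * y, mul_mem hx hy, by rw [ea]; group⟩
    have hUn : (U.subgroupOf L).Normal := ⟨fun n hn' g => by
      have key : ∀ u ∈ U, (g : G) * u * (g : G)⁻¹ ∈ U := by
        intro u hu
        induction hu using Subgroup.closure_induction with
        | mem u hu =>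
          obtain ⟨a, ha, b, hb, rfl⟩ := hu
          exact Subgroup.subset_closure ⟨_, hOc g g.2 a ha, _, hOc g g.2 b hb, by group⟩
        | one => simp
        | mul a b _ _ ha hb => simpa [mul_assoc] using mul_mem ha hb
        | inv a _ ha => simpa [mul_assoc] using inv_mem ha
      exact Subgroup.mem_subgroupOf.mpr (key n (Subgroup.mem_subgroupOf.mp hn'))⟩
    rcases CfsgLib.Comp.quasisimple_normal hL.2 hUn with h | h
    · exact CfsgLib.Comp.component_not_solvable hL (by
        rw [Subgroup.subgroupOf_eq_top] at h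
        haveI := hs
        exact Group.isSolvable_of_isSolvable_injective (Subgroup.inclusion_injective h))
    · refine component_not_centralised hD hD2 h2 h3 hL hd ?_
      have hcen : ∀ y ∈ L, ∀ z ∈ L, Commute (d * (y * d * y⁻¹)) z := fun y hy z hz => by
        have hm : d * (y * d * y⁻¹) ∈ U := Subgroup.subset_closure ⟨d, hdO, _, ⟨y, hy, rfl⟩, rfl⟩
        exact (congrArg Subtype.val
          (Subgroup.mem_center_iff.mp (h (show (⟨_, hUL hm⟩ : L) ∈ U.subgroupOf L from hm)) ⟨z, hz⟩)).symm
      intro x hx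
      have hx' : x ∈ ⁅L, L⁆ := by rwa [CfsgLib.Comp.component_perfect hL]
      -- the map `y ↦ [d, y]` is a homomorphism into the centre
      let c : L →* G :=
        { toFun := fun y => d * (y * d * (y : G)⁻¹)
          map_one' := by simp [sq hD.1 hd]
          map_mul' := fun y z => by
            show d * ((y : G) * z * d * ((y : G) * z)⁻¹) = d * (y * d * (y : G)⁻¹) * (d * (z * d * (z : G)⁻¹))
            have hc := hcen z z.2 y y.2
            calc d * ((y : G) * z * d * ((y : G) * z)⁻¹) = d * y * d * (d * d)⁻¹ * (d * (z * d * (z : G)⁻¹)) * (y : G)⁻¹ := by group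
              _ = d * y * d * ((d * (z * d * (z : G)⁻¹)) * (y : G)⁻¹) := by rw [sq hD.1 hd, inv_one, mul_one, mul_assoc]
              _ = d * y * d * ((y : G)⁻¹ * (d * (z * d * (z : G)⁻¹))) := by rw [(hc.inv_right).eq]
              _ = _ := by group }
      have hker : commutator L ≤ c.ker := by
        rw [commutator_def, Subgroup.commutator_le]
        intro y _ z _
        rw [MonoidHom.mem_ker, map_commutatorElement, commutatorElement_eq_one_iff_mul_comm]
        show d * (y * d * (y : G)⁻¹) * (d * (z * d * (z : G)⁻¹)) = _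
        exact (hcen y y.2 _ (hUL (Subgroup.subset_closure ⟨d, hdO, _, ⟨z, z.2, rfl⟩, rfl⟩))).eq
      haveI := hL.2.1
      have h1 : c ⟨x, hx⟩ = 1 := hker (by rw [Group.IsPerfect.commutator_eq_top]; trivial)
      have h2 : d * (x * d * x⁻¹) = 1 := h1
      rw [mul_eq_one_iff_eq_inv, mul_inv_rev, mul_inv_rev, inv_inv, inv hD.1 hd] at h2
      show d * x = x * d
      calc d * x = x * (d * x⁻¹) * x := by rw [← h2]
        _ = x * d := by group
  have hpair : ∀ (P : G → G → Prop), (∀ g a b : G, P (g * a * g⁻¹) (g * b * g⁻¹) ↔ P a b) →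
      (∀ x ∈ L, P d (x * d * x⁻¹)) → ∀ a ∈ O, ∀ b ∈ O, P a b := by
    rintro P hP h a ⟨x, hx, rfl⟩ b ⟨y, hy, rfl⟩
    have := h (x⁻¹ * y) (mul_mem (inv_mem hx) hy)
    rw [← hP x] at this
    rwa [show x * (x⁻¹ * y * d * (x⁻¹ * y)⁻¹) * x⁻¹ = y * d * y⁻¹ by group] at this
  constructor
  · by_contra hno
    push Not at hno
    -- no two members of the orbit commute
    set H := Subgroup.closure O
    have hnc : ∀ a ∈ O, ∀ b ∈ O, a ≠ b → ¬ Commute a b :=
      hpair (fun a b => a ≠ b → ¬ Commute a b) (fun g a b => by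
        rw [commute_conj_iff, ne_eq, mul_left_inj, mul_right_inj])
        fun x hx hne => hno x hx (Ne.symm hne)
    have hOconj : ∀ h ∈ H, ∀ a ∈ O, h * a * h⁻¹ ∈ O := by
      have hgen : ∀ a ∈ O, ∀ b ∈ O, a * b * a⁻¹ ∈ O := by
        rintro _ ⟨x, hx, rfl⟩ _ ⟨y, hy, rfl⟩
        refine ⟨x * (d * (x⁻¹ * y) * d⁻¹), mul_mem hx (hn.conj_mem _ (mul_mem (inv_mem hx) hy) d), ?_⟩
        group
      intro h hh
      induction hh using Subgroup.closure_induction'' with
      | mem a ha => exact hgen a ha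
      | inv_mem a ha => rw [inv hD.1 (hOD ha)]; exact hgen a ha
      | one => intro z hz; simpa using hz
      | mul a b _ _ ha hb => intro z hz; simpa [mul_assoc] using ha _ (hb z hz)
    let D' : Set H := {z | (z : G) ∈ O}
    have hdH : d ∈ H := Subgroup.subset_closure hdO
    have hclass : Cfsg.IsThreeTranspositionClass D' := by
      refine ⟨⟨fun z hz => (Subgroup.orderOf_coe z).symm.trans (hD.1.1 _ (hOD hz)), fun a ha b hb =>
        (hD.1.2 _ (hOD ha) _ (hOD hb)).imp (fun h => Subtype.ext h) fun h => Subtype.ext h⟩,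
        ⟨⟨d, hdH⟩, hdO, Set.ext fun e => ⟨fun he => ?_, fun he => ?_⟩⟩, eq_top_iff.mpr fun x hxtop => ?_⟩
      · show IsConj (⟨d, hdH⟩ : H) e
        by_cases hde : (⟨d, hdH⟩ : H) = e
        · exact hde ▸ IsConj.refl _
        · exact isConj_iff.mpr ⟨⟨d, hdH⟩ * e, Subtype.ext
            (braid_eq_conj hD.1 hd (hOD he) (hnc d hdO e he fun h => hde (Subtype.ext h)))⟩
      · obtain ⟨g, rfl⟩ := isConj_iff.mp (show IsConj (⟨d, hdH⟩ : H) e from he)
        exact hOconj g g.2 d hdO
      · clear hxtop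
        obtain ⟨x, hx⟩ := x
        induction hx using Subgroup.closure_induction with
        | mem z hz => exact Subgroup.subset_closure hz
        | one => exact one_mem _
        | mul a b _ _ ha hb => exact mul_mem ha hb
        | inv a _ ha => exact inv_mem ha
    have hHsol : Group.IsSolvable H := isSolvable_of_no_commuting hclass fun a b hab hc =>
      hnc _ a.2 _ b.2 (fun e => hab (Subtype.ext (Subtype.ext e))) (hc.map H.subtype)
    haveI := hHsol
    have hUH : U ≤ H := (Subgroup.closure_le _).mpr fun u ⟨a, ha, b, hb, hu⟩ =>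
      hu ▸ mul_mem (Subgroup.subset_closure ha) (Subgroup.subset_closure hb)
    exact hsolved (Group.isSolvable_of_isSolvable_injective (Subgroup.inclusion_injective hUH))
  · by_contra hno
    push Not at hno
    have hcm : ∀ a ∈ O, ∀ b ∈ O, Commute a b :=
      hpair (fun a b => Commute a b) (fun g a b => commute_conj_iff g a b) hno
    have hcu : ∀ u ∈ U, ∀ a ∈ O, Commute u a := by
      intro u hu c hc
      induction hu using Subgroup.closure_induction with
      | mem u hu => obtain ⟨a, ha, b, hb, rfl⟩ := hu; exact (hcm a ha c hc).mul_left (hcm b hb c hc)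
      | one => exact Commute.one_left _
      | mul a b _ _ ha hb => exact ha.mul_left hb
      | inv a _ ha => exact ha.inv_left
    refine hsolved (Group.isSolvable_of_comm fun a b => Subtype.ext ?_)
    obtain ⟨b, hb⟩ := b
    show (a : G) * b = b * a
    induction hb using Subgroup.closure_induction with
    | mem u hu =>
      obtain ⟨p, hp, q, hq, rfl⟩ := hu
      exact ((hcu a a.2 p hp).mul_right (hcu a a.2 q hq)).eq
    | one => simp
    | mul p q _ _ hp hq => exact (Commute.mul_right hp hq).eq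
    | inv p _ hp => exact (Commute.inv_right hp).eq

/-- With central cores the component is unique. -/
theorem component_unique (h2 : Cfsg.pCore 2 G ≤ Subgroup.center G) (h3 : Cfsg.pCore 3 G ≤ Subgroup.center G)
    {L M : Subgroup G} (hL : Cfsg.IsComponent L) (hM : Cfsg.IsComponent M) : L = M := by
  rcases CfsgLib.Comp.component_eq_or_commute hL hM with h | h
  · exact h
  exfalso
  obtain ⟨d, hd, -⟩ := hD.2.1
  have hnL := component_normal hD hD2 hL
  have hnM := component_normal hD hD2 hM
  obtain ⟨x, hx, hxne, hxc⟩ := (component_orbit_mixed hD hD2 h2 h3 hL hd).1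
  obtain ⟨y, hy, hyc⟩ := (component_orbit_mixed hD hD2 h2 h3 hM hd).2
  have hcomm : ∀ u ∈ L, ∀ v ∈ M, Commute u v := fun u hu v hv =>
    (Subgroup.mem_centralizer_iff.mp (CfsgLib.Comp.le_centralizer_of_commutator_eq_bot h hu) v hv).symm
  set b := d * (x * d * x⁻¹) with hb'
  set a := d * (y * d * y⁻¹) with ha'
  have hb : orderOf b = 2 := by
    refine orderOf_eq_prime (sq_of_commute (hD.1.1 d hd) (hD.1.1 _ (conj_mem hD hd x)) hxc) fun e => hxne ?_
    exact ((inv hD.1 hd).symm.trans (inv_eq_of_mul_eq_one_right e)).symm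
  have ha : orderOf a = 3 := orderOf_mul_of_not_commute hD.1 hd (conj_mem hD hd y) hyc
  have hbL : b ∈ L := by
    have := mul_mem (hnL.conj_mem x hx d) (inv_mem hx)
    rw [inv hD.1 hd] at this
    simpa only [b, mul_assoc] using this
  have haM : a ∈ M := by
    have := mul_mem (hnM.conj_mem y hy d) (inv_mem hy)
    rw [inv hD.1 hd] at this
    simpa only [a, mul_assoc] using this
  have he : d * (x * y * d * (x * y)⁻¹) = b * a := by
    calc d * (x * y * d * (x * y)⁻¹) = d * x * (y * d * y⁻¹) * x⁻¹ := by group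
      _ = d * x * (d * (d * (y * d * y⁻¹))) * x⁻¹ := by rw [← mul_assoc d d, sq hD.1 hd, one_mul]
      _ = d * (x * d) * (a * x⁻¹) := by simp only [a, mul_assoc]
      _ = d * (x * d) * (x⁻¹ * a) := by rw [((hcomm _ (inv_mem hx) a haM)).eq]
      _ = b * a := by simp only [b, mul_assoc]
  have hsix : orderOf (b * a) = 6 := by
    rw [(hcomm b hbL a haM).orderOf_mul_eq_mul_orderOf_of_coprime (by rw [hb, ha]; norm_num), hb, ha]
  rcases hD.1.2 d hd _ (conj_mem hD hd (x * y)) with h6 | h6 <;>
  · rw [he] at h6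
    have := orderOf_dvd_of_pow_eq_one h6
    rw [hsix] at this
    exact absurd (Nat.le_of_dvd (by norm_num) this) (by norm_num)

theorem exists_component (h2 : Cfsg.pCore 2 G ≤ Subgroup.center G) (h3 : Cfsg.pCore 3 G ≤ Subgroup.center G) :
    ∃ L, Cfsg.IsComponent L ∧ L.Normal ∧ Cfsg.layer G = L ∧
      Cfsg.generalizedFittingSubgroup G = L ⊔ Subgroup.center G := by
  obtain ⟨L, hL⟩ : ∃ L : Subgroup G, Cfsg.IsComponent L := by
    by_contra h
    push Not at h
    exact layer_ne_bot hD hD2 h2 h3 (le_bot_iff.mp (CfsgLib.Comp.layer_le fun L hL => absurd hL (h L)))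
  have hlay : Cfsg.layer G = L := le_antisymm
    (CfsgLib.Comp.layer_le fun M hM => (component_unique hD hD2 h2 h3 hM hL).le) (CfsgLib.Comp.component_le_layer hL)
  refine ⟨L, hL, component_normal hD hD2 hL, hlay, ?_⟩
  rw [Cfsg.generalizedFittingSubgroup, hlay]
  refine le_antisymm (sup_le_sup le_rfl (fitting_le_center hD h2 h3)) (sup_le_sup le_rfl (CfsgLib.Comp.le_fitting inferInstance ?_))
  exact isNilpotent_center G

/-- Commuting members lie in one coset of a component. -/
theorem commuting_mem (h2 : Cfsg.pCore 2 G ≤ Subgroup.center G) (h3 : Cfsg.pCore 3 G ≤ Subgroup.center G)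
    {L : Subgroup G} (hL : Cfsg.IsComponent L) {a b : G} (ha : a ∈ D) (hb : b ∈ D) (hc : Commute a b) :
    a * b ∈ L := by
  by_contra hab
  have hn := component_normal hD hD2 hL
  have horb : ∀ {d : G}, d ∈ D → ∀ x : G, x ∈ L → d * (x * d * x⁻¹) ∈ L := fun {d} hd x hx => by
    have := mul_mem (hn.conj_mem x hx d) (inv_mem hx)
    rw [inv hD.1 hd] at this
    simpa only [mul_assoc] using this
  -- conjugates of `a` under the component commute with `b`
  have hcomm : ∀ x ∈ L, Commute (x * a * x⁻¹) b := by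
    intro x hx
    by_contra hne
    have hcube := cube_of_not_commute hD.1 (conj_mem hD ha x) hb hne
    have hmem : a * b ∈ L := by
      have h1 : ((a * b : G) : G ⧸ L) ^ 3 = 1 := by
        rw [QuotientGroup.mk_mul, show (a : G ⧸ L) = ((x * a * x⁻¹ : G) : G ⧸ L) from
          QuotientGroup.eq.mpr (by rw [inv hD.1 ha]; exact horb ha x hx), ← QuotientGroup.mk_mul,
          ← QuotientGroup.mk_pow, hcube, QuotientGroup.mk_one]
      have h2' : ((a * b : G) : G ⧸ L) ^ 2 = 1 := by
        rw [← QuotientGroup.mk_pow, sq_of_commute (hD.1.1 a ha) (hD.1.1 b hb) hc, QuotientGroup.mk_one]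
      rw [pow_succ, h2', one_mul] at h1
      exact (QuotientGroup.eq_one_iff _).mp h1
    exact hab hmem
  -- so `b` centralises the subgroup of products, which is the component
  set S : Set G := {u | ∃ x ∈ L, u = a * (x * a * x⁻¹)}
  have hcS : ∀ u ∈ Subgroup.closure S, Commute b u := by
    intro u hu
    induction hu using Subgroup.closure_induction with
    | mem u hu =>
      obtain ⟨x, hx, rfl⟩ := hu
      exact (hc.symm).mul_right (hcomm x hx).symm
    | one => exact Commute.one_right _
    | mul p q _ _ hp hq => exact hp.mul_right hq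
    | inv p _ hp => exact hp.inv_right
  have hSL : Subgroup.closure S ≤ L := (Subgroup.closure_le _).mpr fun u ⟨x, hx, hu⟩ => hu ▸ horb ha x hx
  have hSn : ((Subgroup.closure S).subgroupOf L).Normal := ⟨fun n hn' g => by
    have key : ∀ u ∈ Subgroup.closure S, (g : G) * u * (g : G)⁻¹ ∈ Subgroup.closure S := by
      intro u hu
      induction hu using Subgroup.closure_induction with
      | mem u hu =>
        obtain ⟨x, hx, rfl⟩ := hu
        have e : (g : G) * (a * (x * a * x⁻¹)) * (g : G)⁻¹ =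
            (a * (g * a * (g : G)⁻¹))⁻¹ * (a * ((g * x) * a * (g * x)⁻¹)) := by
          simp only [mul_inv_rev, inv_inv, inv hD.1 ha, mul_assoc, invol_cancel (hD.1.1 a ha), inv_mul_cancel_left]
        rw [e]
        exact mul_mem (inv_mem (Subgroup.subset_closure ⟨g, g.2, rfl⟩)) (Subgroup.subset_closure ⟨_, mul_mem g.2 hx, rfl⟩)
      | one => simp
      | mul p q _ _ hp hq => simpa [mul_assoc] using mul_mem hp hq
      | inv p _ hp => simpa [mul_assoc] using inv_mem hp
    exact Subgroup.mem_subgroupOf.mpr (key n (Subgroup.mem_subgroupOf.mp hn'))⟩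
  rcases CfsgLib.Comp.quasisimple_normal hL.2 hSn with h | h
  · rw [Subgroup.subgroupOf_eq_top] at h
    exact component_not_centralised hD hD2 h2 h3 hL hb fun z hz => hcS z (h hz)
  · obtain ⟨x, hx, hxc⟩ := (component_orbit_mixed hD hD2 h2 h3 hL ha).2
    -- products of the orbit are central in the component, yet a member moves one of order three
    have hu : a * (x * a * x⁻¹) ∈ Subgroup.closure S := Subgroup.subset_closure ⟨x, hx, rfl⟩
    have hcen := congrArg Subtype.val
      (Subgroup.mem_center_iff.mp (h (show (⟨_, hSL hu⟩ : L) ∈ (Subgroup.closure S).subgroupOf L from hu)) ⟨x, hx⟩)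
    have hcen' : Commute x (a * (x * a * x⁻¹)) := hcen
    have h6 : orderOf (a * (x * a * x⁻¹)) = 3 := orderOf_mul_of_not_commute hD.1 ha (conj_mem hD ha x) hxc
    -- an element `u` central in the component and inverted by `a`
    have hau : a * (a * (x * a * x⁻¹)) * a⁻¹ = (a * (x * a * x⁻¹))⁻¹ := by
      simp only [mul_inv_rev, inv_inv, inv hD.1 ha, mul_assoc, invol_cancel (hD.1.1 a ha)]
    have hZ : a * (x * a * x⁻¹) ∈ Subgroup.center G := by
      refine fitting_le_center hD h2 h3 ?_
      have hN : ((Subgroup.center L).map L.subtype).Normal := inferInstance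
      refine CfsgLib.Comp.le_fitting hN ?_ ?_
      · exact (Group.isNilpotent_congr ((Subgroup.center L).equivMapOfInjective _ L.subtype_injective)).mp
          (isNilpotent_center L)
      · exact ⟨⟨_, hSL hu⟩, h (show (⟨_, hSL hu⟩ : L) ∈ (Subgroup.closure S).subgroupOf L from hu), rfl⟩
    rw [Subgroup.mem_center_iff.mp hZ a, mul_inv_cancel_right] at hau
    have hsq : (a * (x * a * x⁻¹)) ^ 2 = 1 := by rw [pow_two, mul_eq_one_iff_eq_inv]; exact hau
    have := orderOf_dvd_of_pow_eq_one hsq
    rw [h6] at this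
    exact absurd this (by norm_num)

end CfsgLib.ThreeT
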