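/-
A class of 3-transpositions modulo the centre.
-/
import Cfsg.Agent.Spor3T.Structure

set_option autoImplicit false
set_option linter.style.haveILetI false
set_option linter.unusedSectionVars false

namespace CfsgLib.ThreeT

universe u

variable {G : Type u} [Group G] [Finite G] {D : Set G} (hD : Cfsg.IsThreeTranspositionClass D)
  (hD2 : ∃ a ∈ D, ∃ b ∈ D, a ≠ b)
include hD hD2

theorem exists_not_commute {d : G} (hd : d ∈ D) : ∃ e ∈ D, ¬ Commute d e := by
  by_contra h
  push Not at h
  exact center_ne_top hD hD2 hd (center_of_commute hD h)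

/-- Distinct members lie in distinct cosets of the centre. -/
theorem eq_of_mul_center {d e : G} (hd : d ∈ D) (he : e ∈ D) (h : d⁻¹ * e ∈ Subgroup.center G) : d = e := by
  set z := d⁻¹ * e with hz
  have hez : e = d * z := by rw [hz, mul_inv_cancel_left]
  have hzc : ∀ g : G, Commute g z := fun g => Subgroup.mem_center_iff.mp h g
  have hz2 : z * z = 1 := by
    have := sq hD.1 he
    rw [hez] at this
    calc z * z = (d * d) * (z * z) := by rw [sq hD.1 hd, one_mul]
      _ = d * (d * z) * z := by group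
      _ = d * (z * d) * z := by rw [(hzc d).eq]
      _ = 1 := by rw [← this]; group
  obtain ⟨f, hf, hfd⟩ := exists_not_commute hD hD2 hd
  have hfe : ¬ Commute f (d * z) := fun h' => hfd (by
    have := h'.mul_right ((hzc f).inv_right)
    rw [mul_inv_cancel_right] at this
    exact this.symm)
  have h3 := cube_of_not_commute hD.1 hf (hez ▸ he) hfe
  rw [show f * (d * z) = (f * d) * z by group, (hzc (f * d)).mul_pow,
    cube_of_not_commute hD.1 hf hd (fun h => hfd h.symm), one_mul, pow_three, hz2, mul_one] at h3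
  rw [hez, h3, mul_one]

omit hD2 in
theorem image_class (hD2 : ∃ a ∈ D, ∃ b ∈ D, a ≠ b) :
    Cfsg.IsThreeTranspositionClass ((QuotientGroup.mk : G → G ⧸ Subgroup.center G) '' D) := by
  obtain ⟨d₀, hd₀, hDd⟩ := hD.2.1
  refine ⟨⟨?_, ?_⟩, ⟨d₀, Set.mem_image_of_mem _ hd₀, Set.ext fun e => ⟨?_, ?_⟩⟩, ?_⟩
  · rintro _ ⟨z, hz, rfl⟩
    refine orderOf_eq_prime ?_ fun h => center_ne_top hD hD2 hz ((QuotientGroup.eq_one_iff z).mp h)
    rw [← QuotientGroup.mk_pow, pow_two, sq hD.1 hz, QuotientGroup.mk_one]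
  · rintro _ ⟨a, ha, rfl⟩ _ ⟨b, hb, rfl⟩
    refine (hD.1.2 a ha b hb).imp (fun h => ?_) fun h => ?_ <;>
      rw [← QuotientGroup.mk_mul, ← QuotientGroup.mk_pow, h, QuotientGroup.mk_one]
  · rintro ⟨z, hz, rfl⟩
    rw [hDd] at hz
    obtain ⟨g, rfl⟩ := isConj_iff.mp (show IsConj d₀ z from hz)
    exact isConj_iff.mpr ⟨(g : G ⧸ Subgroup.center G), by simp⟩
  · intro he
    obtain ⟨c, rfl⟩ := isConj_iff.mp (show IsConj (d₀ : G ⧸ Subgroup.center G) e from he)
    obtain ⟨g, rfl⟩ := QuotientGroup.mk_surjective c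
    exact ⟨g * d₀ * g⁻¹, conj_mem hD hd₀ g, by simp⟩
  · rw [show ((QuotientGroup.mk : G → G ⧸ Subgroup.center G) '' D) = QuotientGroup.mk' (Subgroup.center G) '' D from rfl,
      ← MonoidHom.map_closure, hD.2.2, Subgroup.map_top_of_surjective _ (QuotientGroup.mk'_surjective _)]

theorem commute_mk_iff {a b : G} (ha : a ∈ D) (hb : b ∈ D) :
    Commute (a : G ⧸ Subgroup.center G) b ↔ Commute a b := by
  refine ⟨fun h => ?_, fun h => h.map (QuotientGroup.mk' (Subgroup.center G))⟩
  by_contra hne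
  have h3 := cube_of_not_commute hD.1 ha hb hne
  have hmem : a⁻¹ * b ∈ Subgroup.center G := by
    rw [inv hD.1 ha, ← QuotientGroup.eq_one_iff]
    have e2 : ((a * b : G) : G ⧸ Subgroup.center G) ^ 2 = 1 := by
      rw [QuotientGroup.mk_mul, h.mul_pow, ← QuotientGroup.mk_pow, ← QuotientGroup.mk_pow, pow_two, pow_two,
        sq hD.1 ha, sq hD.1 hb, QuotientGroup.mk_one, one_mul]
    have e3 : ((a * b : G) : G ⧸ Subgroup.center G) ^ 3 = 1 := by rw [← QuotientGroup.mk_pow, h3, QuotientGroup.mk_one]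
    rwa [pow_succ, e2, one_mul] at e3
  exact hne (eq_of_mul_center hD hD2 ha hb hmem ▸ Commute.refl a)

variable (h2 : Cfsg.pCore 2 G ≤ Subgroup.center G) (h3 : Cfsg.pCore 3 G ≤ Subgroup.center G)
include h2 h3

theorem solvRad_le_center : CfsgLib.Comp.solvRad G ≤ Subgroup.center G := by
  obtain ⟨L, hL, hn, hlay, hF⟩ := exists_component hD hD2 h2 h3
  haveI := hn
  have hRL := CfsgLib.Comp.le_centralizer_of_commutator_eq_bot
    (CfsgLib.Comp.component_commutator_normal_solvable (H := CfsgLib.Comp.solvRad G) hL CfsgLib.Comp.solvRad_isSolvable)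
  intro r hr
  have hrL : ∀ l ∈ L, Commute l r := fun l hl => (Subgroup.mem_centralizer_iff.mp (hRL hl) r hr).symm
  have hrF : r ∈ Cfsg.generalizedFittingSubgroup G := by
    refine CfsgLib.Comp.centralizer_Fstar_le ?_
    rw [hF]
    refine Subgroup.mem_centralizer_iff.mpr fun y hy => ?_
    obtain ⟨l, hl, z, hz, rfl⟩ := Subgroup.mem_sup_of_normal_left.mp hy
    exact ((hrL l hl).mul_left (Subgroup.mem_center_iff.mp hz r).symm).eq
  rw [hF] at hrF
  obtain ⟨l, hl, z, hz, rfl⟩ := Subgroup.mem_sup_of_normal_left.mp hrF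
  refine mul_mem (fitting_le_center hD h2 h3 (CfsgLib.Comp.le_fitting (N := (Subgroup.center L).map L.subtype) inferInstance ?_ ?_)) hz
  · exact (Group.isNilpotent_congr ((Subgroup.center L).equivMapOfInjective _ L.subtype_injective)).mp
      (isNilpotent_center L)
  · refine ⟨⟨l, hl⟩, Subgroup.mem_center_iff.mpr fun y => Subtype.ext ?_, rfl⟩
    show (y : G) * l = l * y
    have h1 := (hrL y y.2).mul_right ((show Commute (y : G) z from Subgroup.mem_center_iff.mp hz y).inv_right)
    rwa [mul_inv_cancel_right] at h1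

theorem quotient_no_solvable :
    ∀ N : Subgroup (G ⧸ Subgroup.center G), N.Normal → Group.IsSolvable N → N = ⊥ := by
  intro N hN hs
  set M := N.comap (QuotientGroup.mk' (Subgroup.center G))
  have hMn : M.Normal := inferInstance
  haveI := hs
  have hMs : Group.IsSolvable M := by
    haveI : Group.IsSolvable (Subgroup.center G) :=
      Group.isSolvable_of_comm fun a b => Subtype.ext (Subgroup.mem_center_iff.mp b.2 a)
    let f : M →* N := ((QuotientGroup.mk' (Subgroup.center G)).comp M.subtype).codRestrict N fun x => x.2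
    let j : f.ker →* Subgroup.center G := ((M.subtype).comp f.ker.subtype).codRestrict _ fun x =>
      (QuotientGroup.eq_one_iff _).mp (congrArg Subtype.val x.2)
    haveI : Group.IsSolvable f.ker := Group.isSolvable_of_isSolvable_injective (f := j)
      fun a b hab => Subtype.ext (Subtype.ext (congrArg (fun t : Subgroup.center G => (t : G)) hab :))
    exact Group.isSolvable_of_ker_le_range f.ker.subtype f (by rw [Subgroup.range_subtype])
  refine le_bot_iff.mp fun x hx => ?_
  obtain ⟨g, rfl⟩ := QuotientGroup.mk_surjective x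
  exact (QuotientGroup.eq_one_iff g).mpr (solvRad_le_center hD hD2 h2 h3 (CfsgLib.Comp.le_solvRad hMn hMs hx))

omit hD hD2 h2 h3 in
theorem commutator_le_of_index_le_two {L : Subgroup G} [L.Normal] (hi : L.index ≤ 2) : commutator G ≤ L := by
  rw [commutator_def, Subgroup.commutator_le]
  intro a _ b _
  rw [commutatorElement_def]
  rcases Nat.lt_or_ge L.index 2 with h | h
  · have h0 : L.index ≠ 0 := Subgroup.index_ne_zero_of_finite
    rw [Subgroup.index_eq_one.mp (show L.index = 1 by omega)]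
    trivial
  · have h' : L.index = 2 := le_antisymm hi h
    simp only [Subgroup.mul_mem_iff_of_index_two h', inv_mem_iff]
    tauto

theorem perfect_of_index_le_two {L : Subgroup G} (hL : Cfsg.IsComponent L) (hi : L.index ≤ 2) :
    ⁅commutator G, commutator G⁆ = commutator G := by
  haveI := component_normal hD hD2 hL
  have hG : commutator G = L := by
    refine le_antisymm (commutator_le_of_index_le_two hi) ?_
    rw [← CfsgLib.Comp.component_perfect hL, commutator_def]
    exact Subgroup.commutator_mono le_top le_top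
  rw [hG, CfsgLib.Comp.component_perfect hL]

theorem image_perfect {L : Subgroup G} (hL : Cfsg.IsComponent L) (hi : L.index ≤ 2) :
    ⁅commutator (G ⧸ Subgroup.center G), commutator (G ⧸ Subgroup.center G)⁆ = commutator (G ⧸ Subgroup.center G) := by
  have hmap : (commutator G).map (QuotientGroup.mk' (Subgroup.center G)) = commutator (G ⧸ Subgroup.center G) := by
    rw [commutator_def, commutator_def, Subgroup.map_commutator,
      Subgroup.map_top_of_surjective _ (QuotientGroup.mk'_surjective _)]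
  rw [← hmap, ← Subgroup.map_commutator, perfect_of_index_le_two hD hD2 h2 h3 hL hi]

omit h2 h3 in
theorem image_two : ∃ a ∈ (QuotientGroup.mk : G → G ⧸ Subgroup.center G) '' D,
    ∃ b ∈ (QuotientGroup.mk : G → G ⧸ Subgroup.center G) '' D, a ≠ b := by
  obtain ⟨a, ha, b, hb, hab⟩ := hD2
  exact ⟨_, ⟨a, ha, rfl⟩, _, ⟨b, hb, rfl⟩, fun e => hab (eq_of_mul_center hD ⟨a, ha, b, hb, hab⟩ ha hb (QuotientGroup.eq.mp e))⟩

theorem primitive_of_index_le_two {L : Subgroup G} (hL : Cfsg.IsComponent L) (hi : L.index ≤ 2) :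
    Cfsg.IsPrimitiveUnderConj D := by
  have hQ := image_class hD hD2
  have hsol := quotient_no_solvable hD hD2 h2 h3
  have hprim := primitive_of_connected hQ hsol (comm_connected hQ hsol (image_perfect hD hD2 h2 h3 hL hi))
    (image_two hD hD2)
  refine ⟨fun a ha b hb => exists_conj hD ha hb, hD2, fun B hB hblock => ?_⟩
  set π : G → G ⧸ Subgroup.center G := QuotientGroup.mk
  have hinj : ∀ {x y : G}, x ∈ D → y ∈ D → π x = π y → x = y := fun hx hy e =>
    eq_of_mul_center hD hD2 hx hy (QuotientGroup.eq.mp e)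
  rcases hprim.2.2 (π '' B) (Set.image_mono hB) (fun c => by
    obtain ⟨g, rfl⟩ := QuotientGroup.mk_surjective c
    have himg : (fun x => π g * x * (π g)⁻¹) '' (π '' B) = π '' ((fun x => g * x * g⁻¹) '' B) := by
      rw [Set.image_image, Set.image_image]
      rfl
    rw [himg]
    refine (hblock g).imp (fun h => by rw [h]) fun h => Set.disjoint_left.mpr ?_
    rintro _ ⟨z, hz, rfl⟩ ⟨w, hw, hwz⟩
    obtain ⟨b, hb, rfl⟩ := hz
    exact Set.disjoint_left.mp h ⟨b, hb, rfl⟩ (show g * b * g⁻¹ ∈ B from hinj (hB hw) (conj_mem hD (hB hb) g) hwz ▸ hw)) with h | h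
  · exact Or.inl fun x hx y hy => hinj (hB hx) (hB hy) (h ⟨x, hx, rfl⟩ ⟨y, hy, rfl⟩)
  · refine Or.inr (Set.Subset.antisymm hB fun z hz => ?_)
    obtain ⟨b, hb, he⟩ := h.ge (Set.mem_image_of_mem π hz)
    exact hinj (hB hb) hz he ▸ hb

theorem index_le_two_of_connected {L : Subgroup G} (hL : Cfsg.IsComponent L)
    (hconn : ∀ p q : D, Relation.ReflTransGen (fun p q : D => Commute (p : G) q) p q) : L.index ≤ 2 := by
  haveI := component_normal hD hD2 hL
  obtain ⟨d, hd, -⟩ := hD.2.1
  have hsame : ∀ q : D, ((q : G) : G ⧸ L) = d := by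
    intro q
    induction hconn ⟨d, hd⟩ q with
    | refl => rfl
    | @tail p q _ hpq ih =>
      rw [← ih]
      refine (QuotientGroup.eq.mpr ?_).symm
      rw [inv hD.1 p.2]
      exact commuting_mem hD hD2 h2 h3 hL p.2 q.2 hpq
  have hcover : ∀ g : G, (g : G ⧸ L) ∈ Subgroup.zpowers (d : G ⧸ L) := by
    intro g
    induction (hD.2.2 ▸ Subgroup.mem_top g : g ∈ Subgroup.closure D) using Subgroup.closure_induction with
    | mem z hz => exact hsame ⟨z, hz⟩ ▸ Subgroup.mem_zpowers _
    | one => exact one_mem _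
    | mul x y _ _ hx hy => exact mul_mem hx hy
    | inv x _ hx => exact inv_mem hx
  have htop : Subgroup.zpowers (d : G ⧸ L) = ⊤ := eq_top_iff.mpr fun c _ => by
    obtain ⟨g, rfl⟩ := QuotientGroup.mk_surjective c
    exact hcover g
  rw [Subgroup.index, ← Subgroup.card_top, ← htop, Nat.card_zpowers]
  refine Nat.le_of_dvd (by norm_num) (orderOf_dvd_of_pow_eq_one ?_)
  rw [← QuotientGroup.mk_pow, pow_two, sq hD.1 hd, QuotientGroup.mk_one]

/-- The near members are conjugate in the group they generate. -/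
theorem near_transitive {L : Subgroup G} (hL : Cfsg.IsComponent L) (hi : L.index ≤ 2) {a b b' : G} (ha : a ∈ D)
    (hb : b ∈ D) (hb' : b' ∈ D) (hba : b ≠ a) (hb'a : b' ≠ a) (hab : Commute a b) (hab' : Commute a b') :
    ∃ g ∈ Subgroup.closure {y : G | y ∈ D ∧ y ≠ a ∧ Commute a y}, g * b * g⁻¹ = b' := by
  have hQ := image_class hD hD2
  have hsol := quotient_no_solvable hD hD2 h2 h3
  set π := QuotientGroup.mk' (Subgroup.center G)
  have hinj : ∀ {x y : G}, x ∈ D → y ∈ D → π x = π y → x = y := fun hx hy e =>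
    eq_of_mul_center hD hD2 hx hy (QuotientGroup.eq.mp e)
  obtain ⟨p, ⟨x, hx, ex⟩, q, ⟨y, hy, ey⟩, hpq⟩ := image_two hD hD2
  obtain ⟨c, hc, he⟩ := (rank_three_of_connected hQ hsol (comm_connected hQ hsol (image_perfect hD hD2 h2 h3 hL hi))
    ⟨⟨p, x, hx, ex⟩, ⟨q, y, hy, ey⟩, fun e => hpq (congrArg Subtype.val e)⟩ (Set.mem_image_of_mem _ ha)).2.2.1
    _ (Set.mem_image_of_mem _ hb) _ (Set.mem_image_of_mem _ hb') (fun e => hba (hinj hb ha e))
    (fun e => hb'a (hinj hb' ha e)) (hab.map π) (hab'.map π)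
  have hle : Subgroup.closure {y : G ⧸ Subgroup.center G | y ∈ (QuotientGroup.mk : G → G ⧸ Subgroup.center G) '' D ∧
      y ≠ (a : G ⧸ Subgroup.center G) ∧ Commute (a : G ⧸ Subgroup.center G) y} ≤
      (Subgroup.closure {y : G | y ∈ D ∧ y ≠ a ∧ Commute a y}).map π := by
    refine (Subgroup.closure_le _).mpr ?_
    rintro _ ⟨⟨y, hy, rfl⟩, hne, hcy⟩
    exact Subgroup.mem_map_of_mem π (Subgroup.subset_closure
      ⟨hy, fun e => hne (congrArg π e), (commute_mk_iff hD hD2 ha hy).mp hcy⟩)
  obtain ⟨g, hg, rfl⟩ := hle hc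
  refine ⟨g, hg, hinj (conj_mem hD hb g) hb' ?_⟩
  rw [map_mul, map_mul, map_inv]
  exact he

end CfsgLib.ThreeT

namespace CfsgLib.ThreeT

theorem commutingGraph_connected_iff {G : Type*} [Group G] {D : Set G} (hne : D.Nonempty) :
    (Cfsg.commutingGraph D).Connected ↔
      ∀ p q : D, Relation.ReflTransGen (fun p q : D => Commute (p : G) q) p q := by
  constructor
  · intro h p q
    refine (Relation.ReflTransGen.mono (fun s t hst => ?_) _ _
      (SimpleGraph.reachable_iff_reflTransGen p q |>.mp (h.preconnected p q)))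
    obtain ⟨-, h | h⟩ := (SimpleGraph.fromRel_adj _ s t).mp hst
    · exact h
    · exact h.symm
  · intro h
    obtain ⟨a, ha⟩ := hne
    haveI : Nonempty D := ⟨⟨a, ha⟩⟩
    refine ⟨fun p q => ?_⟩
    induction h p q with
    | refl => exact SimpleGraph.Reachable.refl _
    | @tail s t _ hst ih =>
      by_cases e : s = t
      · exact e ▸ ih
      · exact ih.trans (SimpleGraph.Adj.reachable ((SimpleGraph.fromRel_adj _ s t).mpr ⟨e, Or.inl hst⟩))

end CfsgLib.ThreeT
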