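/-
Reflections of one norm over the field with three elements.
-/
import Cfsg.Prelude.Def_FischerSpaces
import Cfsg.Agent.Quad.ReflClass
import Cfsg.Agent.Quad.SimpleOmega
import Cfsg.Agent.Comp.Basic

set_option autoImplicit false
set_option linter.style.haveILetI false
set_option linter.unusedSectionVars false

namespace CfsgLib.ReflThree

open QuadraticMap CfsgLib.Quad CfsgLib.Forms
open scoped commutatorElement

variable {n : ℕ} {Q : QuadraticForm (ZMod 3) (Fin n → ZMod 3)}

theorem two_ne : (2 : ZMod 3) ≠ 0 := by decide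
theorem sq_eq : ∀ a : ZMod 3, a ≠ 0 → a * a = 1 := by decide
theorem self_inv (c : ZMod 3) : c⁻¹ = c := by
  rcases eq_or_ne c 0 with rfl | h
  · exact inv_zero
  · exact inv_eq_of_mul_eq_one_right (sq_eq c h)
theorem pm : ∀ a : ZMod 3, a ≠ 0 → a = 1 ∨ a = -1 := by decide

theorem refl_apply' (v x : Fin n → ZMod 3) :
    (refl Q v).1 x = x + (-(Q v) * polar Q x v) • v := by rw [refl_apply, self_inv]

theorem refl_ne_one {v : Fin n → ZMod 3} (hv : Q v ≠ 0) : refl Q v ≠ 1 := by
  intro e
  have h := refl_self hv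
  rw [e] at h
  have h' : v = -v := h
  have : (2 : ZMod 3) • v = 0 := by
    rw [two_smul]; exact eq_neg_iff_add_eq_zero.mp h'
  exact hv (by rw [(smul_eq_zero.mp this).resolve_left two_ne, QuadraticMap.map_zero])

/-- A reflection determines its centre up to sign. -/
theorem eq_or_neg_of_refl_eq {u v : Fin n → ZMod 3} (hu : Q u ≠ 0) (h : refl Q u = refl Q v) :
    v = u ∨ v = -u := by
  have hv : Q v ≠ 0 := fun e => refl_ne_one hu (h.trans (refl_eq_one e))
  have h1 := refl_self hv
  rw [← h, refl_apply'] at h1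
  set t : ZMod 3 := -(Q u) * polar Q v u with ht
  have h2 : t • u = (-2 : ZMod 3) • v := by
    calc t • u = (v + t • u) - v := by abel
      _ = -v - v := by rw [h1]
      _ = _ := by module
  have h3 : v = t • u := by
    rw [h2, show (-2 : ZMod 3) = 1 from by decide, one_smul]
  have ht0 : t ≠ 0 := fun e => hv (by rw [h3, e, zero_smul, QuadraticMap.map_zero])
  rcases pm t ht0 with e | e
  · exact Or.inl (by rw [h3, e, one_smul])
  · exact Or.inr (by rw [h3, e]; module)

theorem commute_iff {u v : Fin n → ZMod 3} (hu : Q u ≠ 0) (hv : Q v ≠ 0) (h1 : v ≠ u) (h2 : v ≠ -u) :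
    Commute (refl Q u) (refl Q v) ↔ polar Q u v = 0 := by
  constructor
  · intro h
    have hc : refl Q v = refl Q ((refl Q u).1 v) := by
      rw [← refl_conj, h.eq, mul_inv_cancel_right]
    rcases eq_or_neg_of_refl_eq hv hc with e | e
    · rw [refl_apply', add_eq_left] at e
      rcases smul_eq_zero.mp e with e' | e'
      · rw [polar_comm]
        exact (mul_eq_zero.mp e').resolve_left (neg_ne_zero.mpr hu)
      · exact absurd (by rw [e', QuadraticMap.map_zero]) hu
    · rw [refl_apply'] at e
      set t : ZMod 3 := -(Q u) * polar Q v u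
      have h3 : t • u = (-2 : ZMod 3) • v := by
        calc t • u = (v + t • u) - v := by abel
          _ = -v - v := by rw [e]
          _ = _ := by module
      have h4 : v = t • u := by
        rw [h3, show (-2 : ZMod 3) = 1 from by decide, one_smul]
      have ht0 : t ≠ 0 := fun e' => hv (by rw [h4, e', zero_smul, QuadraticMap.map_zero])
      rcases pm t ht0 with e' | e'
      · exact absurd (by rw [h4, e', one_smul]) h1
      · exact absurd (by rw [h4, e']; module) h2
  · intro h
    show refl Q u * refl Q v = refl Q v * refl Q u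
    calc refl Q u * refl Q v = refl Q ((refl Q u).1 v) * refl Q u := by
          rw [← refl_conj, inv_mul_cancel_right]
      _ = refl Q v * refl Q u := by rw [refl_fix (by rw [polar_comm, h])]

theorem braid {c : ZMod 3} (hc : c ≠ 0) {u v : Fin n → ZMod 3} (hu : Q u = c) (hv : Q v = c)
    (h : polar Q u v ≠ 0) :
    refl Q u * refl Q v * refl Q u = refl Q v * refl Q u * refl Q v := by
  have e1 : refl Q u * refl Q v * refl Q u = refl Q ((refl Q u).1 v) := by
    rw [← refl_conj, refl_inv]
  have e2 : refl Q v * refl Q u * refl Q v = refl Q ((refl Q v).1 u) := by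
    rw [← refl_conj, refl_inv]
  set s : ZMod 3 := -c * polar Q u v with hs
  have hs0 : s ≠ 0 := mul_ne_zero (neg_ne_zero.mpr hc) h
  rw [e1, e2, refl_apply', refl_apply', hu, hv, polar_comm (⇑Q) v u, ← hs, ← refl_smul hs0 (v + s • u),
    smul_add, smul_smul, sq_eq s hs0, one_smul, add_comm]

theorem prod_pow {c : ZMod 3} (hc : c ≠ 0) {u v : Fin n → ZMod 3} (hu : Q u = c) (hv : Q v = c) :
    (refl Q u * refl Q v) ^ 2 = 1 ∨ (refl Q u * refl Q v) ^ 3 = 1 := by
  by_cases h : polar Q u v = 0
  · left
    have hcomm : Commute (refl Q u) (refl Q v) := by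
      show refl Q u * refl Q v = refl Q v * refl Q u
      calc refl Q u * refl Q v = refl Q ((refl Q u).1 v) * refl Q u := by
            rw [← refl_conj, inv_mul_cancel_right]
        _ = refl Q v * refl Q u := by rw [refl_fix (by rw [polar_comm, h])]
    rw [hcomm.mul_pow, pow_two, pow_two, refl_mul_self, refl_mul_self, one_mul]
  · right
    have hb := braid hc hu hv h
    calc (refl Q u * refl Q v) ^ 3 = refl Q u * refl Q v * refl Q u * (refl Q v * refl Q u * refl Q v) := by
          simp only [pow_three, mul_assoc]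
      _ = 1 := by
          rw [← hb]
          simp only [mul_assoc]
          rw [← mul_assoc (refl Q u) (refl Q u), refl_mul_self, one_mul, ← mul_assoc (refl Q v) (refl Q v),
            refl_mul_self, one_mul, refl_mul_self]

variable (hQ : (polarBilin Q).Nondegenerate)
include hQ

/-- Any two vectors of one norm have a common partner of that norm. -/
theorem exists_between (hn : 5 ≤ n) {c : ZMod 3} (hc : c ≠ 0) {u v : Fin n → ZMod 3} (hu : Q u = c) (hv : Q v = c)
    (h : polar Q u v = 0) : ∃ w, Q w = c ∧ polar Q u w ≠ 0 ∧ polar Q w v ≠ 0 := by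
  have hfr : Module.finrank (ZMod 3) (Fin n → ZMod 3) = n := Module.finrank_fin_fun _
  set U := Submodule.span (ZMod 3) (Set.range ![u, v])
  have hU : Module.finrank (ZMod 3) U ≤ 2 := (finrank_range_le_card _).trans (by simp)
  have hQu : Q u ≠ 0 := hu ▸ hc
  have huU : u ∈ U := Submodule.subset_span ⟨0, rfl⟩
  obtain ⟨x, hx, hQx⟩ := exists_aniso_perp hQ (U := U) (by omega) huU hQu
  have key : ∀ y, polar Q u y = 0 → polar Q v y = 0 → Q y = -c →
      ∃ w, Q w = c ∧ polar Q u w ≠ 0 ∧ polar Q w v ≠ 0 := by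
    intro y huy hvy hy
    refine ⟨u + v + y, ?_, ?_, ?_⟩
    · rw [quad_add, quad_add, polar_add_left, huy, hvy, h, hu, hv, hy]; ring
    · rw [polar_add_right, polar_add_right, polar_self, h, huy, hu, add_zero, add_zero, nsmul_eq_mul]
      exact mul_ne_zero two_ne hc
    · rw [polar_add_left, polar_add_left, h, polar_self, polar_comm (⇑Q) y v, hvy, hv, zero_add, add_zero,
        nsmul_eq_mul]
      exact mul_ne_zero two_ne hc
  have hxu : polar Q u x = 0 := hx u huU
  have hxv : polar Q v x = 0 := hx v (Submodule.subset_span ⟨1, rfl⟩)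
  have hdich : ∀ a b : ZMod 3, a ≠ 0 → b ≠ 0 → a = -b ∨ a = b := by decide
  rcases hdich (Q x) c hQx hc with ex | ex
  · exact key x hxu hxv ex
  set U' := U ⊔ Submodule.span (ZMod 3) {x}
  -- a further vector orthogonal to all three
  obtain ⟨y, hy, hQy⟩ : ∃ y ∈ perpS Q U', Q y ≠ 0 := by
    by_contra hcon
    push Not at hcon
    have hle : perpS Q U' ≤ U' := by
      conv_rhs => rw [← perpS_perpS hQ U']
      intro a ha b hb
      simp only [polar, hcon _ (Submodule.add_mem _ hb ha), hcon a ha, hcon b hb, sub_zero]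
    have h1 : ∀ a ∈ perpS Q U', a = 0 := by
      intro a ha
      obtain ⟨p, hp, q, hq, rfl⟩ := Submodule.mem_sup.mp (hle ha)
      obtain ⟨t, rfl⟩ := Submodule.mem_span_singleton.mp hq
      obtain ⟨s, rfl⟩ := (Submodule.mem_span_range_iff_exists_fun _).mp hp
      simp only [Fin.sum_univ_two, Matrix.cons_val_zero, Matrix.cons_val_one] at ha ⊢
      have e0 := ha u (Submodule.mem_sup_left huU)
      have e1 := ha v (Submodule.mem_sup_left (Submodule.subset_span ⟨1, rfl⟩))
      have e2 := ha x (Submodule.mem_sup_right (Submodule.mem_span_singleton_self x))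
      simp only [polar_add_right, polar_smul_right, polar_self, smul_eq_mul, h, hxu, hxv,
        polar_comm (⇑Q) v u, polar_comm (⇑Q) x u, polar_comm (⇑Q) x v, hu, hv, ex, nsmul_eq_mul, mul_zero,
        add_zero, zero_add] at e0 e1 e2
      have h2c : (2 : ℕ) * c ≠ (0 : ZMod 3) := mul_ne_zero two_ne hc
      rw [(mul_eq_zero.mp e0).resolve_right h2c, (mul_eq_zero.mp e1).resolve_right h2c,
        (mul_eq_zero.mp e2).resolve_right h2c]
      simp
    have h2 : perpS Q U' = ⊥ := (Submodule.eq_bot_iff _).mpr h1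
    have h3 := finrank_perpS hQ U'
    have hU' : Module.finrank (ZMod 3) U' ≤ 3 := by
      refine (Submodule.finrank_add_le_finrank_add_finrank _ _).trans ?_
      have : Module.finrank (ZMod 3) (Submodule.span (ZMod 3) ({x} : Set (Fin n → ZMod 3))) ≤ 1 :=
        (finrank_span_le_card ({x} : Set (Fin n → ZMod 3))).trans (by simp)
      omega
    rw [h2, finrank_bot] at h3
    omega
  have hyu : polar Q u y = 0 := hy u (Submodule.mem_sup_left huU)
  have hyv : polar Q v y = 0 := hy v (Submodule.mem_sup_left (Submodule.subset_span ⟨1, rfl⟩))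
  rcases hdich (Q y) c hQy hc with ey | ey
  · exact key y hyu hyv ey
  refine key (x + y) (by rw [polar_add_right, hxu, hyu, add_zero]) (by rw [polar_add_right, hxv, hyv, add_zero]) ?_
  rw [quad_add, hy x (Submodule.mem_sup_right (Submodule.mem_span_singleton_self x)), ex, ey, add_zero]
  have hcc : ∀ a : ZMod 3, a + a = -a := by decide
  exact hcc c

/-- The reflections of one norm. -/
def rset (Q : QuadraticForm (ZMod 3) (Fin n → ZMod 3)) (c : ZMod 3) : Set (oGroup Q) :=
  {g | ∃ v, Q v = c ∧ g = refl Q v}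

omit hQ in
theorem conj_mem_rset {c : ZMod 3} (g : oGroup Q) {x : oGroup Q} (hx : x ∈ rset Q c) :
    g * x * g⁻¹ ∈ rset Q c := by
  obtain ⟨v, hv, rfl⟩ := hx
  exact ⟨g.1 v, (g.2 v).trans hv, refl_conj g v⟩

omit hQ in
theorem normal_closure_rset (c : ZMod 3) : (Subgroup.closure (rset Q c)).Normal := by
  refine ⟨fun x hx g => ?_⟩
  induction hx using Subgroup.closure_induction with
  | mem x hx => exact Subgroup.subset_closure (conj_mem_rset g hx)
  | one => simp
  | mul a b _ _ ha hb => simpa [mul_assoc] using mul_mem ha hb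
  | inv a _ ha => simpa [mul_assoc] using inv_mem ha

theorem conj_within (hn : 5 ≤ n) {c : ZMod 3} (hc : c ≠ 0) {u v : Fin n → ZMod 3} (hu : Q u = c) (hv : Q v = c) :
    ∃ g ∈ Subgroup.closure (rset Q c), g * refl Q u * g⁻¹ = refl Q v := by
  have step : ∀ {a b : Fin n → ZMod 3}, Q a = c → Q b = c → polar Q a b ≠ 0 →
      ∃ g ∈ Subgroup.closure (rset Q c), g * refl Q a * g⁻¹ = refl Q b := by
    intro a b ha hb hab
    refine ⟨refl Q a * refl Q b, mul_mem (Subgroup.subset_closure ⟨a, ha, rfl⟩) (Subgroup.subset_closure ⟨b, hb, rfl⟩), ?_⟩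
    rw [mul_inv_rev, refl_inv, refl_inv]
    calc refl Q a * refl Q b * refl Q a * (refl Q b * refl Q a)
        = refl Q b * refl Q a * refl Q b * (refl Q b * refl Q a) := by rw [braid hc ha hb hab]
      _ = refl Q b := by
          simp only [mul_assoc]
          rw [← mul_assoc (refl Q b) (refl Q b) (refl Q a), refl_mul_self, one_mul, refl_mul_self, mul_one]
  by_cases h : polar Q u v = 0
  · obtain ⟨w, hw, huw, hwv⟩ := exists_between hQ hn hc hu hv h
    obtain ⟨g, hg, eg⟩ := step hu hw huw
    obtain ⟨k, hk, ek⟩ := step hw hv hwv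
    exact ⟨k * g, mul_mem hk hg, by rw [← ek, ← eg]; group⟩
  · exact step hu hv h

/-- Some pair of reflections of the norm does not commute. -/
theorem exists_noncomm (hn : 5 ≤ n) {c : ZMod 3} (hc : c ≠ 0) :
    ∃ u v, Q u = c ∧ Q v = c ∧ refl Q u * refl Q v ≠ refl Q v * refl Q u := by
  have hfr : Module.finrank (ZMod 3) (Fin n → ZMod 3) = n := Module.finrank_fin_fun _
  obtain ⟨u, hu⟩ := exists_value hQ two_ne (by omega) c
  obtain ⟨x, hx, hQx⟩ := exists_aniso_perp hQ (U := Submodule.span (ZMod 3) {u})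
    (by rw [finrank_span_singleton (fun e => hc (by rw [← hu, e, QuadraticMap.map_zero]))]; omega)
    (Submodule.mem_span_singleton_self u) (hu ▸ hc)
  have hux : polar Q u x = 0 := hx u (Submodule.mem_span_singleton_self u)
  obtain ⟨v, hv, huv, huv1, huv2⟩ : ∃ v, Q v = c ∧ polar Q u v ≠ 0 ∧ v ≠ u ∧ v ≠ -u := by
    have hdich : ∀ a b : ZMod 3, a ≠ 0 → b ≠ 0 → a = -b ∨ a = b := by decide
    -- a vector orthogonal to `u` of the same norm, then a common partner
    have main : ∀ z, Q z = c → polar Q u z = 0 → ∃ v, Q v = c ∧ polar Q u v ≠ 0 ∧ v ≠ u ∧ v ≠ -u := by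
      intro z hz huz
      obtain ⟨w, hw, huw, hwz⟩ := exists_between hQ hn hc hu hz huz
      exact ⟨w, hw, huw, fun e => hwz (by rw [e, huz]), fun e => hwz (by rw [e, polar_neg_left, huz, neg_zero])⟩
    rcases hdich (Q x) c hQx hc with ex | ex
    · obtain ⟨y, hy, hQy⟩ := exists_aniso_perp hQ (U := Submodule.span (ZMod 3) (Set.range ![u, x]))
        (le_trans (Nat.mul_le_mul_left 2 ((finrank_range_le_card _).trans (le_of_eq (Fintype.card_fin 2)))) (by omega))
        (Submodule.subset_span ⟨0, rfl⟩) (hu ▸ hc)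
      have huy : polar Q u y = 0 := hy u (Submodule.subset_span ⟨0, rfl⟩)
      have hxy : polar Q x y = 0 := hy x (Submodule.subset_span ⟨1, rfl⟩)
      rcases hdich (Q y) c hQy hc with ey | ey
      · refine main (x + y) ?_ (by rw [polar_add_right, hux, huy, add_zero])
        have hcc : ∀ a : ZMod 3, -a + -a + 0 = a := by decide
        rw [quad_add, hxy, ex, ey]; exact hcc c
      · exact main y ey huy
    · exact main x ex hux
  exact ⟨u, v, hu, hv, fun h => huv ((commute_iff (hu ▸ hc) (hv ▸ hc) huv1 huv2).mp h)⟩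

/-- The commutator subgroup lies in the group generated by one norm. -/
theorem commutator_le_closure (hn : 5 ≤ n) {c : ZMod 3} (hc : c ≠ 0) :
    commutator (oGroup Q) ≤ Subgroup.closure (rset Q c) := by
  have hfr : 5 ≤ Module.finrank (ZMod 3) (Fin n → ZMod 3) := by rwa [Module.finrank_fin_fun]
  haveI := normal_closure_rset (Q := Q) c
  haveI := isSimpleGroup_omega hQ hfr
  set O := commutator (oGroup Q)
  obtain ⟨u, v, hu, hv, huv⟩ := exists_noncomm hQ hn hc
  have hab : refl Q u * refl Q v ∈ O := refl_pair_mem_commutator hQ (hu ▸ hc) (hv ▸ hc)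
    (by rw [hu, hv]; exact IsSquare.mul_self c)
  set N := (Subgroup.closure (rset Q c)).subgroupOf O
  have hm : (⟨_, hab⟩ : O) ∈ N :=
    Subgroup.mem_subgroupOf.mpr (mul_mem (Subgroup.subset_closure ⟨u, hu, rfl⟩) (Subgroup.subset_closure ⟨v, hv, rfl⟩))
  haveI : (N.map (QuotientGroup.mk' (Subgroup.center O))).Normal := Subgroup.Normal.map inferInstance _ (QuotientGroup.mk'_surjective _)
  rcases (inferInstance : (N.map (QuotientGroup.mk' (Subgroup.center O))).Normal).eq_bot_or_eq_top with h | h
  · exfalso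
    have hz : (⟨_, hab⟩ : O) ∈ Subgroup.center O := by
      rw [← QuotientGroup.eq_one_iff, ← Subgroup.mem_bot, ← h]
      exact ⟨_, hm, rfl⟩
    obtain ⟨t, -, ht⟩ := (center_iff hQ hfr _).mp hz
    refine huv ?_
    -- a scalar commutes with everything
    have hcomm : ∀ g : oGroup Q, g * (refl Q u * refl Q v) = refl Q u * refl Q v * g := fun g =>
      Subtype.ext (LinearEquiv.ext fun x => by
        show g.1 ((refl Q u * refl Q v).1 x) = (refl Q u * refl Q v).1 (g.1 x)
        rw [ht, ht, map_smul])
    have := hcomm (refl Q u)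
    rw [← mul_assoc, refl_mul_self, one_mul] at this
    calc refl Q u * refl Q v = refl Q u * (refl Q v) := rfl
      _ = refl Q u * (refl Q u * refl Q v * refl Q u) := by rw [← this]
      _ = refl Q v * refl Q u := by rw [mul_assoc (refl Q u) (refl Q v), ← mul_assoc, refl_mul_self, one_mul]
  · intro g hg
    have hperf := commutator_commutator_eq_top hQ hfr
    have hsup : N ⊔ Subgroup.center O = ⊤ := by
      rw [eq_top_iff]
      intro x _
      have hx : (x : O ⧸ Subgroup.center O) ∈ N.map (QuotientGroup.mk' (Subgroup.center O)) := h ▸ Subgroup.mem_top _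
      obtain ⟨y, hy, hyx⟩ := hx
      rw [show x = y * (y⁻¹ * x) by group]
      exact mul_mem (Subgroup.mem_sup_left hy) (Subgroup.mem_sup_right (QuotientGroup.eq.mp hyx))
    have hN : N = ⊤ := by
      rw [eq_top_iff, ← hperf, commutator_def, Subgroup.commutator_le]
      intro a _ b _
      have ha : a ∈ N ⊔ Subgroup.center O := hsup ▸ Subgroup.mem_top _
      have hb : b ∈ N ⊔ Subgroup.center O := hsup ▸ Subgroup.mem_top _
      obtain ⟨a', ha', z, hz, rfl⟩ := Subgroup.mem_sup_of_normal_left.mp ha
      obtain ⟨b', hb', w, hw, rfl⟩ := Subgroup.mem_sup_of_normal_left.mp hb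
      have : ⁅a' * z, b' * w⁆ = ⁅a', b'⁆ := by
        simp only [commutatorElement_def, mul_inv_rev]
        have z1 := fun y => Subgroup.mem_center_iff.mp hz y
        have w1 := fun y => Subgroup.mem_center_iff.mp hw y
        calc a' * z * (b' * w) * (z⁻¹ * a'⁻¹) * (w⁻¹ * b'⁻¹)
            = a' * (z * (b' * w)) * z⁻¹ * a'⁻¹ * w⁻¹ * b'⁻¹ := by group
          _ = a' * b' * (w * a'⁻¹) * w⁻¹ * b'⁻¹ := by rw [← z1 (b' * w)]; group
          _ = _ := by rw [← w1 a'⁻¹]; group
      rw [this, commutatorElement_def]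
      exact mul_mem (mul_mem (mul_mem ha' hb') (inv_mem ha')) (inv_mem hb')
    have := hN.ge (Subgroup.mem_top (⟨g, hg⟩ : O))
    exact Subgroup.mem_subgroupOf.mp this

/-- The group generated by one norm has index two. -/
theorem index_closure (hn : 5 ≤ n) {c : ZMod 3} (hc : c ≠ 0) : (Subgroup.closure (rset Q c)).index = 2 := by
  have hfr : 2 ≤ Module.finrank (ZMod 3) (Fin n → ZMod 3) := by rw [Module.finrank_fin_fun]; omega
  obtain ⟨φ, hφ, hidx⟩ := exists_class_hom hQ two_ne hfr hc
  have h4 := index_commutator_odd hQ two_ne hfr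
  have hle : Subgroup.closure (rset Q c) ≤ φ.ker := by
    refine (Subgroup.closure_le _).mpr ?_
    rintro _ ⟨v, hv, rfl⟩
    exact (hφ v (hv ▸ hc)).mpr (hv ▸ IsSquare.mul_self c)
  have hO := commutator_le_closure hQ hn hc
  have hne : Subgroup.closure (rset Q c) ≠ commutator (oGroup Q) := by
    intro e
    obtain ⟨u, hu⟩ := exists_value hQ two_ne hfr c
    have hmem : refl Q u ∈ commutator (oGroup Q) := e ▸ Subgroup.subset_closure ⟨u, hu, rfl⟩
    have h1 : detSign hQ two_ne (refl Q u) = 1 := Abelianization.commutator_subset_ker _ hmem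
    rw [detSign_refl (hu ▸ hc)] at h1
    exact absurd h1 (by decide)
  have h1 := Subgroup.relIndex_mul_index hO
  rw [h4] at h1
  have h2 := Subgroup.relIndex_mul_index hle
  rw [hidx] at h2
  have hr : (commutator (oGroup Q)).relIndex (Subgroup.closure (rset Q c)) ≠ 1 := fun e =>
    hne (le_antisymm (Subgroup.relIndex_eq_one.mp e) hO)
  have hdvd : (Subgroup.closure (rset Q c)).index ∣ 4 := ⟨_, by rw [mul_comm]; exact h1.symm⟩
  have hle4 := Nat.le_of_dvd (by norm_num) hdvd
  generalize (Subgroup.closure (rset Q c)).index = i at *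
  generalize (commutator (oGroup Q)).relIndex (Subgroup.closure (rset Q c)) = r at *
  interval_cases i <;> omega

theorem omega_quasisimple (hn : 5 ≤ n) : Cfsg.IsQuasisimple (commutator (oGroup Q)) := by
  have hfr : 5 ≤ Module.finrank (ZMod 3) (Fin n → ZMod 3) := by rwa [Module.finrank_fin_fun]
  exact ⟨⟨commutator_commutator_eq_top hQ hfr⟩, isSimpleGroup_omega hQ hfr⟩

end CfsgLib.ReflThree
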