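/-
Matrix form of the reflections of one norm over the field with three elements.
-/
import Cfsg.Agent.Spor3T.ReflModThree
import Cfsg.Agent.Quad.Transport
import Cfsg.Agent.Spor3T.CentralQuotient

set_option autoImplicit false
set_option linter.style.haveILetI false
set_option linter.unusedSectionVars false

namespace CfsgLib.ReflThree

open QuadraticMap CfsgLib.Quad

variable {n : ℕ} {Q : QuadraticForm (ZMod 3) (Fin n → ZMod 3)}

/-- The class inside the reflection subgroup. -/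
def rclass (Q : QuadraticForm (ZMod 3) (Fin n → ZMod 3)) (c : ZMod 3) : Set (Cfsg.reflectionSubgroup (⇑Q) c) :=
  {g | (g : Cfsg.isometryGroup (ZMod 3) (⇑Q)) ∈ Cfsg.reflectionsOfNorm (⇑Q) c}

theorem mem_norm_iff (c : ZMod 3) (g : Cfsg.isometryGroup (ZMod 3) (⇑Q)) :
    g ∈ Cfsg.reflectionsOfNorm (⇑Q) c ↔ isoGroupEquiv Q g ∈ rset Q c :=
  exists_congr fun v => and_congr_right fun _ => (isoGroupEquiv_eq_refl_iff Q g v).symm

theorem map_reflectionSubgroup (c : ZMod 3) :
    (Cfsg.reflectionSubgroup (⇑Q) c).map (isoGroupEquiv Q).toMonoidHom = Subgroup.closure (rset Q c) := by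
  rw [Cfsg.reflectionSubgroup, MonoidHom.map_closure]
  congr 1
  ext x
  refine ⟨fun ⟨g, hg, e⟩ => e ▸ (mem_norm_iff c g).mp hg, fun hx => ?_⟩
  exact ⟨(isoGroupEquiv Q).symm x, (mem_norm_iff c _).mpr (by rwa [MulEquiv.apply_symm_apply]),
    MulEquiv.apply_symm_apply _ _⟩

theorem index_reflectionSubgroup (hQ : (polarBilin Q).Nondegenerate) (hn : 5 ≤ n) {c : ZMod 3} (hc : c ≠ 0) :
    (Cfsg.reflectionSubgroup (⇑Q) c).index = 2 := by
  exact (Subgroup.index_map_equiv _ (isoGroupEquiv Q)).symm.trans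
    ((congrArg Subgroup.index (map_reflectionSubgroup c)).trans (index_closure hQ hn hc))

theorem commutator_le (hQ : (polarBilin Q).Nondegenerate) (hn : 5 ≤ n) {c : ZMod 3} (hc : c ≠ 0) :
    commutator (Cfsg.isometryGroup (ZMod 3) (⇑Q)) ≤ Cfsg.reflectionSubgroup (⇑Q) c := by
  intro g hg
  have h := commutator_le_closure hQ hn hc ((mem_commutator_equiv (isoGroupEquiv Q) g).mpr hg)
  rw [← map_reflectionSubgroup] at h
  exact (Subgroup.mem_map_iff_mem (isoGroupEquiv Q).injective).mp h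

theorem rclass_class (hQ : (polarBilin Q).Nondegenerate) (hn : 5 ≤ n) {c : ZMod 3} (hc : c ≠ 0) :
    Cfsg.IsThreeTranspositionClass (rclass Q c) := by
  set R := Cfsg.reflectionSubgroup (⇑Q) c
  set e := isoGroupEquiv Q
  have hfr : 2 ≤ Module.finrank (ZMod 3) (Fin n → ZMod 3) := by rw [Module.finrank_fin_fun]; omega
  obtain ⟨v₀, hv₀⟩ := exists_value hQ two_ne hfr c
  have hinj : ∀ {a b : R}, e a.1 = e b.1 → a = b := fun h => Subtype.ext (e.injective h)
  refine ⟨⟨fun d hd => ?_, fun d hd d' hd' => ?_⟩, ⟨⟨e.symm (refl Q v₀), Subgroup.subset_closure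
    ((mem_norm_iff c _).mpr ⟨v₀, hv₀, MulEquiv.apply_symm_apply _ _⟩)⟩,
    (mem_norm_iff c _).mpr ⟨v₀, hv₀, MulEquiv.apply_symm_apply _ _⟩, Set.ext fun d => ⟨fun hd => ?_, fun hd => ?_⟩⟩, ?_⟩
  · obtain ⟨v, hv, hd⟩ := (mem_norm_iff c _).mp hd
    refine orderOf_eq_prime (hinj ?_) fun h => refl_ne_one (Q := Q) (v := v) (hv ▸ hc) ?_
    · show e (d.1 ^ 2) = e 1
      rw [map_pow, map_one, hd, pow_two, refl_mul_self]
    · rw [← hd, h]; exact map_one e
  · obtain ⟨v, hv, hd⟩ := (mem_norm_iff c _).mp hd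
    obtain ⟨w, hw, hd'⟩ := (mem_norm_iff c _).mp hd'
    refine (prod_pow hc hv hw).imp (fun h => hinj ?_) fun h => hinj ?_ <;>
    · rw [Subgroup.coe_pow, Subgroup.coe_mul, Subgroup.coe_one, map_pow, map_mul, map_one, hd, hd', h]
  · obtain ⟨v, hv, hd⟩ := (mem_norm_iff c _).mp hd
    obtain ⟨g, hg, hgv⟩ := conj_within hQ hn hc hv₀ hv
    have hgR : e.symm g ∈ R := by
      rw [← map_reflectionSubgroup] at hg
      obtain ⟨r, hr, hrg⟩ := hg
      rw [← hrg]
      exact (e.symm_apply_apply r).symm ▸ hr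
    exact isConj_iff.mpr ⟨⟨e.symm g, hgR⟩, hinj (by
      rw [Subgroup.coe_mul, Subgroup.coe_mul, Subgroup.coe_inv, map_mul, map_mul, map_inv, hd, ← hgv,
        MulEquiv.apply_symm_apply, MulEquiv.apply_symm_apply])⟩
  · obtain ⟨g, rfl⟩ := isConj_iff.mp hd
    refine (mem_norm_iff c _).mpr ?_
    rw [Subgroup.coe_mul, Subgroup.coe_mul, Subgroup.coe_inv, map_mul, map_mul, map_inv, MulEquiv.apply_symm_apply]
    exact conj_mem_rset _ ⟨v₀, hv₀, rfl⟩
  · exact Subgroup.closure_closure_coe_preimage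

theorem rclass_two (hQ : (polarBilin Q).Nondegenerate) (hn : 5 ≤ n) {c : ZMod 3} (hc : c ≠ 0) :
    ∃ a ∈ rclass Q c, ∃ b ∈ rclass Q c, a ≠ b := by
  obtain ⟨u, v, hu, hv, huv⟩ := exists_noncomm hQ hn hc
  set e := isoGroupEquiv Q
  have hmem : ∀ {w}, Q w = c → e.symm (refl Q w) ∈ Cfsg.reflectionsOfNorm (⇑Q) c := fun hw =>
    (mem_norm_iff c _).mpr ⟨_, hw, MulEquiv.apply_symm_apply _ _⟩
  refine ⟨⟨_, Subgroup.subset_closure (hmem hu)⟩, hmem hu, ⟨_, Subgroup.subset_closure (hmem hv)⟩, hmem hv, fun h => huv ?_⟩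
  rw [e.symm.injective (congrArg Subtype.val h)]

theorem commutator_map (hQ : (polarBilin Q).Nondegenerate) (hn : 5 ≤ n) {c : ZMod 3} (hc : c ≠ 0) :
    (commutator ↥(Cfsg.reflectionSubgroup (⇑Q) c)).map (Cfsg.reflectionSubgroup (⇑Q) c).subtype =
      commutator (Cfsg.isometryGroup (ZMod 3) (⇑Q)) := by
  have hfr : 5 ≤ Module.finrank (ZMod 3) (Fin n → ZMod 3) := by rwa [Module.finrank_fin_fun]
  rw [Subgroup.map_subtype_commutator]
  refine le_antisymm (Subgroup.commutator_mono le_top le_top) ?_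
  set G := Cfsg.isometryGroup (ZMod 3) (⇑Q)
  have hperf : ⁅commutator G, commutator G⁆ = commutator G := by
    apply Subgroup.map_injective (f := (isoGroupEquiv Q).toMonoidHom) (isoGroupEquiv Q).injective
    rw [Subgroup.map_commutator, commutator_map_equiv]
    have h := congrArg (Subgroup.map (commutator (oGroup Q)).subtype) (commutator_commutator_eq_top hQ hfr)
    rw [Subgroup.map_subtype_commutator, ← MonoidHom.range_eq_map, Subgroup.range_subtype] at h
    exact h
  exact hperf.ge.trans (Subgroup.commutator_mono (commutator_le hQ hn hc) (commutator_le hQ hn hc))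

theorem structure_refl (hQ : (polarBilin Q).Nondegenerate) (hn : 5 ≤ n) {c : ZMod 3} (hc : c ≠ 0) :
    Cfsg.IsQuasisimple (commutator ↥(Cfsg.reflectionSubgroup (⇑Q) c)) ∧
    (commutator ↥(Cfsg.reflectionSubgroup (⇑Q) c)).index ≤ 2 ∧
    Cfsg.generalizedFittingSubgroup ↥(Cfsg.reflectionSubgroup (⇑Q) c) =
      Subgroup.center ↥(Cfsg.reflectionSubgroup (⇑Q) c) ⊔ commutator ↥(Cfsg.reflectionSubgroup (⇑Q) c) ∧
    Cfsg.IsPrimitiveUnderConj (rclass Q c) := by
  set R := Cfsg.reflectionSubgroup (⇑Q) c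
  have hmap := commutator_map hQ hn hc
  have hqs : Cfsg.IsQuasisimple (commutator R) :=
    CfsgLib.Comp.isQuasisimple_of_equiv
      ((((commutator R).equivMapOfInjective R.subtype R.subtype_injective).trans
        (MulEquiv.subgroupCongr hmap)).trans
        (((commutator (Cfsg.isometryGroup (ZMod 3) (⇑Q))).equivMapOfInjective _ (isoGroupEquiv Q).injective).trans
          (MulEquiv.subgroupCongr (commutator_map_equiv (isoGroupEquiv Q))))).symm (omega_quasisimple hQ hn)
  have hidx : (commutator R).index = 2 := by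
    have h1 := Subgroup.relIndex_mul_index (commutator_le hQ hn hc)
    rw [index_reflectionSubgroup hQ hn hc, index_commutator_equiv (isoGroupEquiv Q),
      index_commutator_odd hQ two_ne (by rw [Module.finrank_fin_fun]; omega), ← hmap] at h1
    unfold Subgroup.relIndex Subgroup.subgroupOf at h1
    rw [Subgroup.comap_map_eq_self_of_injective R.subtype_injective] at h1
    exact Nat.eq_of_mul_eq_mul_right two_pos h1
  have hcomp : Cfsg.IsComponent (commutator R) := ⟨Subgroup.Normal.isSubnormal inferInstance, hqs⟩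
  have hD := rclass_class hQ hn hc
  have hD2 := rclass_two hQ hn hc
  have hlay : Cfsg.layer R ≠ ⊥ := fun h => by
    have hb : commutator R = ⊥ := le_bot_iff.mp ((CfsgLib.Comp.component_le_layer hcomp).trans h.le)
    have h2 := CfsgLib.Comp.component_not_solvable hcomp
    rw [hb] at h2
    exact h2 inferInstance
  have h2 : Cfsg.pCore 2 R ≤ Subgroup.center R := by
    by_contra h; exact hlay (CfsgLib.ThreeT.layer_eq_bot_of_two hD h)
  have h3 : Cfsg.pCore 3 R ≤ Subgroup.center R := by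
    by_contra h; exact hlay (CfsgLib.ThreeT.layer_eq_bot_of_three hD h)
  obtain ⟨L, hL, -, -, hF⟩ := CfsgLib.ThreeT.exists_component hD hD2 h2 h3
  rw [CfsgLib.ThreeT.component_unique hD hD2 h2 h3 hL hcomp, sup_comm] at hF
  exact ⟨hqs, hidx.le, hF, CfsgLib.ThreeT.primitive_of_index_le_two hD hD2 h2 h3 hcomp hidx.le⟩

end CfsgLib.ReflThree
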