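import Cfsg.Agent.Spor3T.M22Iso

/-!
Type M(22): for any configuration of nine members the isomorphism with `Cfsg.Spor.Fi22` can be chosen to send
the generators to them.
-/

set_option autoImplicit false
set_option linter.unusedSectionVars false
set_option maxRecDepth 100000
set_option Elab.async false

namespace CfsgLib.ThreeT.Prod

open CfsgLib
open CfsgLib.Coset (ev fl ev_cons ev_nil ev_append genBy checkRels)
open CfsgLib.Coset.Fi22Seven (adjB pairW q3 mir rels9)

variable {G : Type*} [Group G] [Finite G] {D : Set G} (h : Geo22 D) (hprim : Cfsg.IsPrimitiveUnderConj D)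
  (ht : Cfsg.IsOfTypeM22 G D)

include h hprim ht

/-- The generators go to the nine members of a given configuration. -/
theorem exists_iso_seven {g f : G} {w : Fin 6 → G} {x : G} (hS : Seven D g f w x) :
    ∃ e : Cfsg.Spor.Fi22 ≃* G, ∀ i < 9, e (fl Coset.Fi22.Lg i) = fl (nine g f w x) i := by
  have hc := hS.chain
  have hw := hS.mem
  set L := nine g f w x with hL
  set Lg : List Cfsg.Spor.Fi22 := Coset.Fi22.Lg with hLg
  have hfin := Coset.Fi22.card_le.1
  have hsimple := Coset.Fi22.isSimple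
  have hN := Coset.Fi22.card_and_injective.1
  have hG : Nat.card G = 64561751654400 := by rw [(order22 h hprim ht).2]
  -- the pairs
  set Lp : List (G × Cfsg.Spor.Fi22) := (List.range 9).map fun i => (fl L i, fl Lg i) with hLp
  have hfl : ∀ i, fl Lp i = (fl L i, fl Lg i) := by
    intro i
    rcases lt_or_ge i 9 with hi | hi
    · interval_cases i <;> rfl
    · rw [Coset.fl_of_le _ (show Lp.length ≤ i from hi), Coset.fl_of_le _ (show L.length ≤ i from hi),
        Coset.fl_of_le _ (show Lg.length ≤ i from hi)]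
      rfl
  have h1 : ∀ p, (ev Lp p).1 = ev L p := ev_hom (MonoidHom.fst G Cfsg.Spor.Fi22) Lp L fun i => by
    rw [hfl]; rfl
  have h2 : ∀ p, (ev Lp p).2 = ev Lg p := ev_hom (MonoidHom.snd G Cfsg.Spor.Fi22) Lp Lg fun i => by
    rw [hfl]; rfl
  obtain ⟨hR, hRc⟩ := Coset.Fi22Seven.card_le (L := Lp) rfl
    (fun u hu => Prod.ext (by rw [h1]; exact nine_rels h hprim ht hS u hu) (by rw [h2]; exact fi22_rels u hu))
    (fun i => by
      rw [hfl]
      exact Prod.ext (nine_sq h hprim ht hS i) (Coset.Fi22.sq_all i))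
  set R := genBy Lp [0, 1, 2, 3, 4, 5, 6, 7, 8]
  have hmemR : ∀ i < 9, fl Lp i ∈ R := fun i hi => by
    refine Subgroup.subset_closure ?_
    simp only [Coset.lv, Set.mem_setOf_eq, List.mem_map]
    exact ⟨i, by interval_cases i <;> simp, rfl⟩
  let π₁ : ↥R →* G := (MonoidHom.fst G Cfsg.Spor.Fi22).comp R.subtype
  let π₂ : ↥R →* Cfsg.Spor.Fi22 := (MonoidHom.snd G Cfsg.Spor.Fi22).comp R.subtype
  have hp1 : ∀ i (hi : i < 9), π₁ ⟨fl Lp i, hmemR i hi⟩ = fl L i := fun i hi => by
    show (fl Lp i).1 = _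
    rw [hfl]
  have hp2 : ∀ i (hi : i < 9), π₂ ⟨fl Lp i, hmemR i hi⟩ = fl Lg i := fun i hi => by
    show (fl Lp i).2 = _
    rw [hfl]
  have hsurj : Function.Surjective π₂ := by
    rw [← MonoidHom.range_eq_top, eq_top_iff, ← Coset.Fi22.closure_Lg, Subgroup.closure_le]
    intro y hy
    obtain ⟨i, hi, rfl⟩ := List.getElem_of_mem hy
    exact ⟨⟨_, hmemR i hi⟩, (hp2 i hi).trans (List.getD_eq_getElem _ _ hi)⟩
  have hcard2 : Nat.card ↥R = Nat.card π₂.ker * 64561751654400 := by
    rw [Subgroup.card_eq_card_quotient_mul_card_subgroup π₂.ker,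
      Nat.card_congr (QuotientGroup.quotientKerEquivOfSurjective π₂ hsurj).toEquiv, hN, mul_comm]
  have hcard1 : Nat.card ↥R = Nat.card π₁.ker * Nat.card π₁.range := by
    rw [Subgroup.card_eq_card_quotient_mul_card_subgroup π₁.ker,
      Nat.card_congr (QuotientGroup.quotientKerEquivRange π₁).toEquiv, mul_comm]
  have hdisj : ∀ r : ↥R, π₁ r = 1 → π₂ r = 1 → r = 1 := fun r e1 e2 => Subtype.ext (Prod.ext e1 e2)
  have hker : π₁.ker.map π₂ = ⊥ := by
    haveI : (π₁.ker.map π₂).Normal := Subgroup.Normal.map inferInstance π₂ hsurj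
    rcases (inferInstance : (π₁.ker.map π₂).Normal).eq_bot_or_eq_top with e | e
    · exact e
    exfalso
    have hle : 64561751654400 ≤ Nat.card π₁.ker := by
      have := Nat.card_le_card_of_surjective _ (π₂.subgroupMap_surjective π₁.ker)
      rwa [e, Subgroup.card_top, hN] at this
    have hrange : 4 ≤ Nat.card π₁.range := by
      have m0 : w 0 ∈ π₁.range := ⟨_, hp1 0 (by norm_num)⟩
      have m1 : w 1 ∈ π₁.range := ⟨_, hp1 1 (by norm_num)⟩
      have nc : ¬ Commute (w 0) (w 1) := fun q => (hc 0 1 (by decide)).1 q (Or.inl rfl)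
      have d0 : w 0 ≠ 1 := fun e => nc (e ▸ Commute.one_left _)
      have d1 : w 1 ≠ 1 := fun e => nc (e ▸ Commute.one_right _)
      have d01 : w 0 ≠ w 1 := fun e => nc (e ▸ Commute.refl _)
      have dm : w 0 * w 1 ≠ 1 := fun e => nc (by
        have : w 1 = (w 0)⁻¹ := eq_inv_of_mul_eq_one_right e
        rw [this]; exact (Commute.refl _).inv_right)
      have dm0 : w 0 * w 1 ≠ w 0 := fun e => d1 (mul_left_cancel (e.trans (mul_one _).symm))
      have dm1 : w 0 * w 1 ≠ w 1 := fun e => d0 (mul_right_cancel (e.trans (one_mul _).symm))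
      let emb : Fin 4 → ↥π₁.range := ![1, ⟨_, m0⟩, ⟨_, m1⟩, ⟨_, mul_mem m0 m1⟩]
      have hinj : Function.Injective emb := by
        intro a b hab
        have := congrArg Subtype.val hab
        fin_cases a <;> fin_cases b <;>
          simp [emb, d0, d1, d01, dm, dm0, dm1, Ne.symm d0, Ne.symm d1, Ne.symm d01, Ne.symm dm, Ne.symm dm0,
            Ne.symm dm1] at this ⊢
      simpa using Nat.card_le_card_of_injective emb hinj
    nlinarith [hRc, hcard1, hle, hrange]
  have hinj1 : Function.Injective π₁ := by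
    rw [injective_iff_map_eq_one]
    intro r hr
    exact hdisj r hr ((Subgroup.eq_bot_iff_forall _).1 hker _ ⟨r, hr, rfl⟩)
  have hle1 : Nat.card ↥R ≤ 64561751654400 := hG ▸ Nat.card_le_card_of_injective π₁ hinj1
  have hcardR : Nat.card ↥R = 64561751654400 :=
    le_antisymm hle1 (hN ▸ Nat.card_le_card_of_surjective π₂ hsurj)
  haveI := hfin
  have hb2 : Function.Bijective π₂ :=
    (Nat.bijective_iff_surjective_and_card π₂).2 ⟨hsurj, by rw [hcardR, hN]⟩
  have hb1 : Function.Bijective π₁ :=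
    (Nat.bijective_iff_injective_and_card π₁).2 ⟨hinj1, by rw [hcardR, hG]⟩
  let e : Cfsg.Spor.Fi22 ≃* G := (MulEquiv.ofBijective π₂ hb2).symm.trans (MulEquiv.ofBijective π₁ hb1)
  have he : ∀ i (hi : i < 9), e (fl Lg i) = fl L i := by
    intro i hi
    have : (MulEquiv.ofBijective π₂ hb2).symm (fl Lg i) = ⟨fl Lp i, hmemR i hi⟩ := by
      rw [MulEquiv.symm_apply_eq]; exact (hp2 i hi).symm
    simp only [e, MulEquiv.trans_apply, this]
    exact hp1 i hi
  exact ⟨e, he⟩

end CfsgLib.ThreeT.Prod
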