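import Cfsg.Agent.Spor3T.M23Level
import Mathlib.GroupTheory.Perm.Cycle.Type

/-!
Type M(23): every involution is a product of one, two or three commuting transpositions.
-/

set_option autoImplicit false
set_option linter.unusedSectionVars false
set_option linter.style.haveILetI false

namespace CfsgLib.ThreeT.Prod

variable {G : Type*} [Group G] [Finite G] {D : Set G}

variable {d : G} (P : Point23 D d)

include P

/-- An involution centralising the point is a short product. -/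
theorem short_at23 (hD : Cfsg.IsThreeTranspositionGroup D) (hp : Cfsg.IsPrimitiveUnderConj D)
    (h : Cfsg.IsOfTypeM23 G D) {t : G} (ht : t ∈ hsub D d) (ht2 : t * t = 1) (ht1 : t ≠ 1) : Short D t := by
  classical
  set H := hsub D d
  set π := QuotientGroup.mk' (Subgroup.center ↥H) with hπ
  set T : ↥H := ⟨t, ht⟩
  have hone : ∀ x : ↥H, π x = 1 → (x : G) = 1 ∨ (x : G) = d := fun x hx =>
    Level.center_pair (geo23 P) arith23 P.mem ((QuotientGroup.eq_one_iff x).1 hx)
  by_cases hπt : π T = 1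
  · rcases hone T hπt with q | q
    · exact absurd q ht1
    · refine ⟨1, le_rfl, by norm_num, [t], List.nodup_singleton t, rfl, ?_, ?_, by simp⟩
      · intro a ha; rw [List.mem_singleton.1 ha, show t = d from q]; exact P.mem
      · intro a ha b hb; rw [List.mem_singleton.1 ha, List.mem_singleton.1 hb]
  obtain ⟨i, hi1, hi3, m, hmn, hml, hmm, hmc, hmp⟩ := invol_short P.geo P.prim P.type
    (t := π T) (by rw [← map_mul, show T * T = 1 from Subtype.ext ht2, map_one]) hπt
  -- the lift of a factorisation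
  have lift : ∀ m' : List (↥H ⧸ Subgroup.center ↥H), (∀ z ∈ m', z ∈ img D d) → m'.Nodup →
      (∀ z ∈ m', ∀ w ∈ m', Commute z w) → m'.prod = π T →
      ∃ L : List ↥H, L.map π = m' ∧ (L.map ((↑) : ↥H → G)).Nodup ∧
        (∀ x ∈ L.map ((↑) : ↥H → G), x ∈ nb D d) ∧
        (∀ x ∈ L.map ((↑) : ↥H → G), ∀ y ∈ L.map ((↑) : ↥H → G), Commute x y) ∧
        (t = (L.map ((↑) : ↥H → G)).prod ∨ t = (L.map ((↑) : ↥H → G)).prod * d) := by
    intro m' h1 h2 h3 h4
    obtain ⟨L, hmap, hnb, hn, hc⟩ := lift_list23 P m' h1 h2 h3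
    refine ⟨L, hmap, hn, List.forall_mem_map.2 hnb, ?_, ?_⟩
    · intro x hx y hy
      obtain ⟨x', hx', rfl⟩ := List.mem_map.1 hx
      obtain ⟨y', hy', rfl⟩ := List.mem_map.1 hy
      exact hc x' hx' y' hy'
    · have hval : ((L.prod : ↥H) : G) = (L.map ((↑) : ↥H → G)).prod := Subgroup.val_list_prod _ L
      have hq : π (L.prod⁻¹ * T) = 1 := by
        rw [map_mul, map_inv, map_list_prod, hmap, h4, inv_mul_cancel]
      rcases hone _ hq with q | q <;>
        rw [Subgroup.coe_mul, Subgroup.coe_inv, inv_mul_eq_iff_eq_mul, hval] at q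
      · exact Or.inl (by rw [← mul_one (L.map _).prod]; exact q)
      · exact Or.inr q
  obtain ⟨L, hmap, hLn, hLd, hLc, hLt⟩ := lift m hmm hmn hmc hmp
  have hlen : L.length = i := by rw [← hml, ← hmap, List.length_map]
  have hLD : ∀ a ∈ L.map ((↑) : ↥H → G), a ∈ D := fun a ha => (hLd a ha).1
  rcases hLt with q | q
  · rw [q]; exact short_mk hLn (by rw [List.length_map, hlen]; exact hi1) (by rw [List.length_map, hlen]; exact hi3) hLD hLc
  by_cases hi : i ≤ 2
  · have hLdd : Commute (L.map ((↑) : ↥H → G)).prod d := Commute.list_prod_left _ _ fun a ha => (hLd a ha).2.2.symm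
    rw [q, hLdd.eq, ← List.prod_cons]
    refine short_mk (List.nodup_cons.2 ⟨fun q => (hLd d q).2.1 rfl, hLn⟩) (by simp)
      (by rw [List.length_cons, List.length_map, hlen]; omega) ?_ ?_
    · intro a ha
      rcases List.mem_cons.1 ha with rfl | ha
      exacts [P.mem, hLD a ha]
    · intro a ha b hb
      rcases List.mem_cons.1 ha with rfl | ha <;> rcases List.mem_cons.1 hb with rfl | hb
      exacts [Commute.refl _, (hLd b hb).2.2, (hLd a ha).2.2.symm, hLc a ha b hb]
  -- a second factorisation in the image gives three factors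
  have hT3 : Triple (img D d) m := ⟨hmn, by omega, hmm, hmc⟩
  obtain ⟨l₁, l₂, ⟨h₁, e₁⟩, ⟨h₂, e₂⟩, hne, -⟩ := two_triples P.geo.toSetup22 hT3
  obtain ⟨m', hm', em', hm'ne⟩ : ∃ m', Triple (img D d) m' ∧ m'.prod = m.prod ∧ ¬ ∀ x, x ∈ m' ↔ x ∈ m := by
    by_cases h' : ∀ x, x ∈ l₁ ↔ x ∈ m
    · exact ⟨l₂, h₂, e₂, fun h'' => hne fun x => (h' x).trans (h'' x).symm⟩
    · exact ⟨l₁, h₁, e₁, h'⟩
  obtain ⟨L', hmap', hLn', hLd', hLc', hLt'⟩ := lift m' hm'.2.2.1 hm'.1 hm'.2.2.2 (em'.trans hmp)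
  have hlen' : L'.length = 3 := by rw [← hm'.2.1, ← hmap', List.length_map]
  rcases hLt' with q' | q'
  · rw [q']; exact short_mk hLn' (by rw [List.length_map, hlen']; norm_num) (by rw [List.length_map, hlen'])
      (fun a ha => (hLd' a ha).1) hLc'
  exfalso
  have hsame := uniq_le_three hD hp (Or.inl h) (m := 3) le_rfl
    (l := L.map ((↑) : ↥H → G)) (l' := L'.map ((↑) : ↥H → G))
    ⟨hLn, by rw [List.length_map, hlen]; omega, hLD, hLc⟩
    ⟨hLn', by rw [List.length_map, hlen'], fun a ha => (hLd' a ha).1, hLc'⟩ (mul_right_cancel (q.symm.trans q'))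
  refine hm'ne fun x => ?_
  rw [← hmap, ← hmap', List.mem_map, List.mem_map]
  constructor
  · rintro ⟨y, hy, rfl⟩
    obtain ⟨z, hz, e⟩ := List.mem_map.1 ((hsame y).2 (List.mem_map.2 ⟨y, hy, rfl⟩))
    exact ⟨z, hz, congrArg π (Subtype.ext e)⟩
  · rintro ⟨y, hy, rfl⟩
    obtain ⟨z, hz, e⟩ := List.mem_map.1 ((hsame y).1 (List.mem_map.2 ⟨y, hy, rfl⟩))
    exact ⟨z, hz, congrArg π (Subtype.ext e)⟩

/-- Every involution is a short product. -/
theorem invol_short23 (hD : Cfsg.IsThreeTranspositionGroup D) (hp : Cfsg.IsPrimitiveUnderConj D)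
    (h : Cfsg.IsOfTypeM23 G D) {t : G} (ht : orderOf t = 2) : Short D t := by
  classical
  haveI := Fintype.ofFinite G
  haveI : Fact (Nat.Prime 2) := ⟨Nat.prime_two⟩
  have hT := P.base.tt
  have ht2 : t * t = 1 := by rw [← pow_two, ← ht]; exact pow_orderOf_eq_one t
  have ht1 : t ≠ 1 := fun e => by simp [e] at ht
  -- a fixed transposition
  let σ : Equiv.Perm ↥D :=
    { toFun := fun x => ⟨t * x * t⁻¹, hT.conj t x x.2⟩
      invFun := fun x => ⟨t⁻¹ * x * t⁻¹⁻¹, hT.conj t⁻¹ x x.2⟩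
      left_inv := fun x => Subtype.ext (by simp [mul_assoc])
      right_inv := fun x => Subtype.ext (by simp [mul_assoc]) }
  have hσ : σ ^ 2 ^ 1 = 1 := by
    rw [pow_one, pow_two]
    refine Equiv.ext fun x => Subtype.ext ?_
    show t * (t * x * t⁻¹) * t⁻¹ = x
    rw [show t * (t * (x : G) * t⁻¹) * t⁻¹ = (t * t) * x * (t * t)⁻¹ by group, ht2]; group
  have hodd : ¬ 2 ∣ Fintype.card ↥D := by
    rw [← Nat.card_eq_fintype_card, Nat.card_coe_set_eq, ncard23 P]; decide
  obtain ⟨⟨a, ha⟩, hfix⟩ := Equiv.Perm.exists_fixed_point_of_prime hodd hσ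
  have hta : Commute t a := mul_inv_eq_iff_eq_mul.1 (congrArg Subtype.val hfix)
  obtain ⟨g, hg⟩ := hp.1 a ha d P.mem
  have hmem : g * t * g⁻¹ ∈ hsub D d := by
    rw [(Level.centralizer_eq (geo23 P) arith23 (self23 P) P.mem).1, Subgroup.mem_centralizer_singleton_iff, ← hg]
    exact ((commute_conj_iff g t a).2 hta).eq
  obtain ⟨m, h1, h3, l, hn, hl, hm, hc, hprod⟩ := short_at23 P hD hp h hmem
    (by rw [show g * t * g⁻¹ * (g * t * g⁻¹) = g * (t * t) * g⁻¹ by group, ht2]; group)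
    (fun q => ht1 (conj_eq_one_iff.1 q))
  refine ⟨m, h1, h3, l.map (MulAut.conj g⁻¹), hn.map (MulAut.conj g⁻¹).injective, by rw [List.length_map, hl], ?_,
    ?_, ?_⟩
  · intro x hx
    obtain ⟨y, hy, rfl⟩ := List.mem_map.1 hx
    exact hT.conj g⁻¹ y (hm y hy)
  · intro x hx y hy
    obtain ⟨x', hx', rfl⟩ := List.mem_map.1 hx
    obtain ⟨y', hy', rfl⟩ := List.mem_map.1 hy
    exact (hc x' hx' y' hy').map (MulAut.conj g⁻¹)
  · rw [← map_list_prod, hprod]
    show g⁻¹ * (g * t * g⁻¹) * g⁻¹⁻¹ = t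
    group

/-- The number of factors is determined. -/
theorem facs_unique23 {i i' : ℕ} (h1 : 1 ≤ i) (h3 : i ≤ 3) (h1' : 1 ≤ i') (h3' : i' ≤ 3) {x : G}
    (hx : Facs D i x) (hx' : Facs D i' x) : i = i' := by
  have e := (Level.ncard_fix (geo23 P) arith23 h1 h3 hx).symm.trans (Level.ncard_fix (geo23 P) arith23 h1' h3' hx')
  interval_cases i <;> interval_cases i' <;> simp at e ⊢

end CfsgLib.ThreeT.Prod
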