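import Cfsg.Agent.Spor3T.UnitaryCounts
import Cfsg.Agent.Unitary.InvolClass

/-!
Involutions of `PSU₆(2)` are products of at most three commuting transvections.
-/

set_option autoImplicit false
set_option linter.unusedSectionVars false
set_option linter.style.haveILetI false

namespace CfsgLib.ThreeT.SixTwo

open Matrix CfsgLib.Unitary CfsgLib.ThreeT.Prod

variable {F : Type} [Field F] [Finite F] [CharP F 2] (hF : Nat.card F = 2 ^ 2)

local notation "V" => Fin 6 → F
local notation "hh" => Cfsg.hermForm 6 F 2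
local notation "π" => QuotientGroup.mk' (Subgroup.center (Cfsg.SU 6 F 2))

include hF

theorem prod_tv_apply : ∀ l : List V, (∀ u ∈ l, ∀ v ∈ l, hh u v = 0) → ∀ x,
    suMat ((l.map (tv hF)).prod) *ᵥ x = x + (l.map fun v => hh x v • v).sum
  | [], _, x => by simp [suMat_one]
  | v :: l, h, x => by
    have hl : ∀ u ∈ l, ∀ w ∈ l, hh u w = 0 := fun u hu w hw =>
      h u (List.mem_cons_of_mem _ hu) w (List.mem_cons_of_mem _ hw)
    have hs : hh ((l.map fun w => hh x w • w).sum) v = 0 := by
      rw [show hh ((l.map fun w => hh x w • w).sum) v = ((l.map fun w => hh x w • w).map fun y => hh y v).sum from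
        map_list_sum (AddMonoidHom.mk' (fun y => hh y v) fun a b => herm_add_left 6 a b _) _]
      refine List.sum_eq_zero fun z hz => ?_
      obtain ⟨_, hy, rfl⟩ := List.mem_map.1 hz
      obtain ⟨w, hw, rfl⟩ := List.mem_map.1 hy
      rw [herm_smul_left, h w (List.mem_cons_of_mem _ hw) v List.mem_cons_self, mul_zero]
    rw [List.map_cons, List.prod_cons, suMat_mul, ← Matrix.mulVec_mulVec, prod_tv_apply l hl x,
      tv_apply hF (h v List.mem_cons_self v List.mem_cons_self), herm_add_left, hs, add_zero,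
      List.map_cons, List.sum_cons]
    abel

/-- An involution is a product of at most three commuting transvections. -/
theorem invol_prod {x : Cfsg.PSU 6 F 2} (hx : x * x = 1) (hx1 : x ≠ 1) :
    ∃ l : List (Cfsg.PSU 6 F 2), l.Nodup ∧ 1 ≤ l.length ∧ l.length ≤ 3 ∧ (∀ a ∈ l, a ∈ tvSet hF) ∧
      (∀ a ∈ l, ∀ b ∈ l, Commute a b) ∧ l.prod = x := by
  obtain ⟨g, rfl⟩ := QuotientGroup.mk'_surjective _ x
  have hz : g * g ∈ Subgroup.center (Cfsg.SU 6 F 2) := (QuotientGroup.eq_one_iff _).1 (by
    show π (g * g) = 1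
    rw [map_mul]; exact hx)
  set z := g * g with hzdef
  set g' := g * z with hg'
  have hg2 : g' * g' = 1 := by
    have := center_cube hF hz
    rw [pow_succ, pow_two] at this
    calc g' * g' = g * (z * g) * z := by simp only [hg']; group
      _ = g * (g * z) * z := by rw [Subgroup.mem_center_iff.1 hz g]
      _ = g * g * z * z := by group
      _ = 1 := by rw [← hzdef]; exact this
  have hπ : π g' = π g := by
    rw [hg', map_mul, show π z = 1 from (QuotientGroup.eq_one_iff _).2 hz, mul_one]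
  rw [← hπ] at hx1 ⊢
  have hN := Invol.isUDev_of_invol hF hg2
  set N := Matrix.mulVecLin (suMat g' - 1)
  obtain ⟨e, he⟩ := Invol.exists_fam hF hN
  have hs3 : Module.finrank F (LinearMap.range N) ≤ 3 := by
    have := (Invol.linearIndependent_fam hF hN he).fintype_card_le_finrank
    rw [Fintype.card_sum, Fintype.card_fin, Module.finrank_fin_fun] at this
    omega
  have hr : ∀ i j, hh (N (e i)) (N (e j)) = 0 := fun i j => Invol.image_isotropic hF hN _ _
  have hpt : ∀ i, IsPt (N (e i)) := fun i => ⟨fun e0 => by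
    have := he.dual i i
    rw [e0, hh_zero_right hF, if_pos rfl] at this
    exact zero_ne_one this, hr i i⟩
  set L : List V := List.ofFn fun i => N (e i)
  have hL : ∀ u ∈ L, ∀ v ∈ L, hh u v = 0 := fun u hu v hv => by
    obtain ⟨i, rfl⟩ := List.mem_ofFn.1 hu
    obtain ⟨j, rfl⟩ := List.mem_ofFn.1 hv
    exact hr i j
  have hg : g' = (L.map (tv hF)).prod := su_ext fun y => by
    rw [prod_tv_apply hF L hL, List.map_ofFn, List.sum_ofFn, Function.comp_def, ← he.expand y]
    show _ = y + (suMat g' - 1) *ᵥ y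
    rw [Matrix.sub_mulVec, Matrix.one_mulVec, add_sub_cancel]
  refine ⟨L.map fun v => π (tv hF v), ?_, ?_, ?_, ?_, ?_, ?_⟩
  · rw [List.map_ofFn, List.nodup_ofFn]
    intro i j hij
    by_contra hne
    obtain ⟨a, ha⟩ := tv_eq_smul hF (hpt i) (hpt j) (pi_inj hF (tv_sq hF (hr i i)) (tv_sq hF (hr j j)) hij)
    have h1 := he.dual i i
    rw [ha, herm_smul_right hF, he.dual i j, if_neg hne, if_pos rfl, mul_zero] at h1
    exact zero_ne_one h1
  · rw [List.length_map, List.length_ofFn]
    by_contra h0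
    refine hx1 ?_
    have hnil : L = [] := List.eq_nil_of_length_eq_zero (by rw [List.length_ofFn]; omega)
    rw [hg, hnil]
    simp
  · rw [List.length_map, List.length_ofFn]; exact hs3
  · intro a ha
    obtain ⟨v, hv, rfl⟩ := List.mem_map.1 ha
    obtain ⟨i, rfl⟩ := List.mem_ofFn.1 hv
    exact ⟨_, hpt i, rfl⟩
  · intro a ha b hb
    obtain ⟨v, hv, rfl⟩ := List.mem_map.1 ha
    obtain ⟨i, rfl⟩ := List.mem_ofFn.1 hv
    obtain ⟨w, hw, rfl⟩ := List.mem_map.1 hb
    obtain ⟨j, rfl⟩ := List.mem_ofFn.1 hw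
    exact (comm_pi hF (hpt i) (hpt j)).2 (hr i j)
  · rw [hg, map_list_prod, List.map_map]; rfl

end CfsgLib.ThreeT.SixTwo
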