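import Cfsg.Agent.Spor3T.M22Simple
import Cfsg.Agent.Spor3T.UnitaryInvol

/-!
Type M(22): every involution is a product of one, two or three commuting transpositions, and the
number of factors determines the class.
-/

set_option autoImplicit false
set_option linter.unusedSectionVars false
set_option linter.style.haveILetI false

namespace CfsgLib.ThreeT.Prod

variable {G : Type*} [Group G] [Finite G] {D : Set G}

/-- Distinct pairwise commuting members. -/
def Facs (D : Set G) (m : ℕ) (x : G) : Prop :=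
  ∃ l : List G, l.Nodup ∧ l.length = m ∧ (∀ a ∈ l, a ∈ D) ∧ (∀ a ∈ l, ∀ b ∈ l, Commute a b) ∧ l.prod = x

/-- A product of at most three. -/
def Short (D : Set G) (x : G) : Prop := ∃ m, 1 ≤ m ∧ m ≤ 3 ∧ Facs D m x

theorem short_mk {l : List G} (hn : l.Nodup) (h1 : 1 ≤ l.length) (h3 : l.length ≤ 3) (hm : ∀ a ∈ l, a ∈ D)
    (hc : ∀ a ∈ l, ∀ b ∈ l, Commute a b) : Short D l.prod :=
  ⟨l.length, h1, h3, l, hn, rfl, hm, hc, rfl⟩

variable (h : Geo22 D)

include h

theorem sq_prod {l : List G} (hm : ∀ a ∈ l, a ∈ D) (hc : ∀ a ∈ l, ∀ b ∈ l, Commute a b) :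
    l.prod * l.prod = 1 := by
  induction l with
  | nil => simp
  | cons a l ih =>
    have hcl : Commute a l.prod :=
      Commute.list_prod_right _ _ fun z hz => hc a List.mem_cons_self z (List.mem_cons_of_mem _ hz)
    rw [List.prod_cons, show a * l.prod * (a * l.prod) = a * (l.prod * a) * l.prod by group, ← hcl.eq,
      show a * (a * l.prod) * l.prod = (a * a) * (l.prod * l.prod) by group, h.tt.sq a (hm a List.mem_cons_self),
      one_mul, ih (fun x hx => hm x (List.mem_cons_of_mem _ hx))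
        fun x hx y hy => hc x (List.mem_cons_of_mem _ hx) y (List.mem_cons_of_mem _ hy)]

/-- An involution centralising the given point is a short product. -/
theorem short_at {d : G} (hd : d ∈ D) {F : Type} [Field F] [Fintype F] (hF : Fintype.card F = 4)
    (e : ↥(hsub D d) ⧸ Subgroup.center ↥(hsub D d) ≃* Cfsg.PSU 6 F 2) {t : G} (ht : t ∈ hsub D d)
    (ht2 : t * t = 1) (ht1 : t ≠ 1) : Short D t := by
  classical
  have hF' : Nat.card F = 2 ^ 2 := by rw [Nat.card_eq_fintype_card, hF]; rfl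
  haveI : CharP F 2 := charP_two hF
  set H := hsub D d
  set φ : ↥H →* Cfsg.PSU 6 F 2 := e.toMonoidHom.comp (QuotientGroup.mk' (Subgroup.center ↥H)) with hφ
  have hker : ∀ x, φ x = 1 → (x : G) = 1 ∨ (x : G) = d := fun x hx =>
    cent_nb h hd (commute_hsub x.2).symm fun y hy =>
      commute_of_mem_center ((QuotientGroup.eq_one_iff x).1 (e.injective (hx.trans e.map_one.symm))) hy
  have hmod := model_image h hd hF e
  have hlift : ∀ z ∈ SixTwo.tvSet hF', ∃ y : ↥H, (y : G) ∈ nb D d ∧ φ y = z := fun z hz => by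
    obtain ⟨y, hy, rfl⟩ := (hmod ▸ hz : z ∈ φ '' {y : ↥H | (y : G) ∈ nb D d})
    exact ⟨y, hy, rfl⟩
  choose! s hs1 hs2 using hlift
  set σ : Cfsg.PSU 6 F 2 → G := fun z => (s z : G)
  have hlist : ∀ m : List (Cfsg.PSU 6 F 2), (∀ z ∈ m, z ∈ SixTwo.tvSet hF') → m.Nodup →
      (∀ z ∈ m, ∀ w ∈ m, Commute z w) →
      (m.map σ).Nodup ∧ (∀ a ∈ m.map σ, a ∈ nb D d) ∧ (∀ a ∈ m.map σ, ∀ b ∈ m.map σ, Commute a b) ∧
        ∃ y : ↥H, (y : G) = (m.map σ).prod ∧ φ y = m.prod := by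
    intro m hm hn hc
    refine ⟨hn.map_on fun a ha b hb q => by rw [← hs2 a (hm a ha), ← hs2 b (hm b hb), Subtype.ext q], ?_, ?_,
      (m.map s).prod, ?_, ?_⟩
    · intro a ha
      obtain ⟨z, hz, rfl⟩ := List.mem_map.1 ha
      exact hs1 z (hm z hz)
    · intro a ha b hb
      obtain ⟨z, hz, rfl⟩ := List.mem_map.1 ha
      obtain ⟨w, hw, rfl⟩ := List.mem_map.1 hb
      refine (map_commute_iff h.tt (hs1 z (hm z hz)) (hs1 w (hm w hw))).1 ?_
      have q := (hc z hz w hw).map e.symm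
      rw [← hs2 z (hm z hz), ← hs2 w (hm w hw)] at q
      simpa [hφ] using q
    · rw [Subgroup.val_list_prod, List.map_map]; rfl
    · rw [map_list_prod, List.map_map]
      congr 1
      conv_rhs => rw [← List.map_id m]
      exact List.map_congr_left fun z hz => hs2 z (hm z hz)
  -- the trivial cases
  by_cases hφt : φ ⟨t, ht⟩ = 1
  · rcases hker _ hφt with q | q
    · exact absurd q ht1
    · refine ⟨1, le_rfl, by norm_num, [t], List.nodup_singleton t, rfl, ?_, ?_, by simp⟩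
      · intro a ha; rw [List.mem_singleton.1 ha, show t = d from q]; exact hd
      · intro a ha b hb; rw [List.mem_singleton.1 ha, List.mem_singleton.1 hb]
  obtain ⟨m, hmn, hm1, hm3, hmT, hmc, hmp⟩ := SixTwo.invol_prod hF'
    (x := φ ⟨t, ht⟩) (by rw [← map_mul, show (⟨t, ht⟩ : ↥H) * ⟨t, ht⟩ = 1 from Subtype.ext ht2, map_one]) hφt
  obtain ⟨hLn, hLd, hLc, y, hy, hφy⟩ := hlist m hmT hmn hmc
  set L := m.map σ with hLdef
  have hLD : ∀ a ∈ L, a ∈ D := fun a ha => (hLd a ha).1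
  have hL1 : 1 ≤ L.length := by rw [hLdef, List.length_map]; exact hm1
  have hL3 : L.length ≤ 3 := by rw [hLdef, List.length_map]; exact hm3
  have hsq := sq_prod h hLD hLc
  rcases hker (y⁻¹ * ⟨t, ht⟩) (by rw [map_mul, map_inv, hφy, hmp, inv_mul_cancel]) with q | q
  · rw [Subgroup.coe_mul, Subgroup.coe_inv, inv_mul_eq_one, hy] at q
    rw [show t = L.prod from q.symm]
    exact short_mk hLn hL1 hL3 hLD hLc
  rw [Subgroup.coe_mul, Subgroup.coe_inv, inv_mul_eq_iff_eq_mul, hy] at q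
  have hq : t = L.prod * d := q
  have hLdd : Commute L.prod d := Commute.list_prod_left _ _ fun a ha => (hLd a ha).2.2.symm
  by_cases hlen : L.length ≤ 2
  · rw [hq, hLdd.eq, ← List.prod_cons]
    refine short_mk (List.nodup_cons.2 ⟨fun q => (hLd d q).2.1 rfl, hLn⟩) (by simp) (by simp; omega) ?_ ?_
    · intro a ha
      rcases List.mem_cons.1 ha with rfl | ha
      exacts [hd, hLD a ha]
    · intro a ha b hb
      rcases List.mem_cons.1 ha with rfl | ha <;> rcases List.mem_cons.1 hb with rfl | hb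
      exacts [Commute.refl _, (hLd b hb).2.2, (hLd a ha).2.2.symm, hLc a ha b hb]
  obtain ⟨z₁, z₂, z₃, rfl⟩ := List.length_eq_three.1 (show m.length = 3 by rw [hLdef, List.length_map] at hlen; omega)
  have hne : z₁ ≠ z₂ ∧ z₁ ≠ z₃ ∧ z₂ ≠ z₃ := by simpa [List.nodup_cons, and_assoc] using hmn
  have hn := hne
  obtain ⟨hnbc, hnbe, hnce⟩ : σ z₁ ≠ σ z₂ ∧ σ z₁ ≠ σ z₃ ∧ σ z₂ ≠ σ z₃ := by
    have := hLn
    simp only [hLdef, List.map_cons, List.map_nil, List.nodup_cons, List.mem_cons, List.not_mem_nil,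
      or_false, not_or, List.nodup_nil, and_true, not_false_eq_true] at this
    exact ⟨this.1.1, this.1.2, this.2⟩
  have hb : σ z₁ ∈ nb D d := hLd _ (by simp [hLdef])
  have hc : σ z₂ ∈ nb D d := hLd _ (by simp [hLdef])
  have he : σ z₃ ∈ nb D d := hLd _ (by simp [hLdef])
  have cbc : Commute (σ z₁) (σ z₂) := hLc _ (by simp [hLdef]) _ (by simp [hLdef])
  have cbe : Commute (σ z₁) (σ z₃) := hLc _ (by simp [hLdef]) _ (by simp [hLdef])
  have cce : Commute (σ z₂) (σ z₃) := hLc _ (by simp [hLdef]) _ (by simp [hLdef])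
  have hq' : t = σ z₁ * σ z₂ * σ z₃ * d := by rw [hq, hLdef]; simp [mul_assoc]
  by_cases hline : ∀ w ∈ nb D d, Commute w (σ z₁) → Commute w (σ z₂) → Commute w (σ z₃)
  · -- on a line
    obtain ⟨p, q, r, hp, hq₁, hr, hnd, hpw, hprod, huniq⟩ := exists_pentad h.toSetup22 hd hb hc hnbc cbc
    have hqr : ∀ x ∈ [p, q, r], ∀ y ∈ [p, q, r], Commute x y := fun x hx y hy =>
      hpw x (List.mem_cons_of_mem _ (List.mem_cons_of_mem _ hx)) y (List.mem_cons_of_mem _ (List.mem_cons_of_mem _ hy))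
    have hbcm : ∀ x ∈ [p, q, r], Commute (σ z₁ * σ z₂) x := fun x hx =>
      (hpw _ (by simp) x (List.mem_cons_of_mem _ (List.mem_cons_of_mem _ hx))).mul_left
        (hpw _ (by simp) x (List.mem_cons_of_mem _ (List.mem_cons_of_mem _ hx)))
    have hndq : p ≠ q ∧ p ≠ r ∧ q ≠ r := by
      have := hnd.of_cons.of_cons
      simpa [List.nodup_cons, and_assoc] using this
    -- two of them remain
    have key : ∀ x y z, [x, y, z].Perm [p, q, r] → σ z₃ = x → t = [y, z].prod := by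
      intro x y z hperm hx
      have hm' : ∀ w, w ∈ [x, y, z] → w ∈ [p, q, r] := fun w hw => hperm.mem_iff.1 hw
      have hpr : x * (y * z) = p * (q * r) := by
        have := hperm.prod_eq' (List.pairwise_of_forall_mem_list fun a ha b hb => hqr a (hm' a ha) b (hm' b hb))
        simpa using this
      have hdd : d = σ z₁ * σ z₂ * (x * (y * z)) := by rw [hpr, hprod]; group
      have hxx : x * x = 1 := h.tt.sq x (by rw [← hx]; exact he.1)
      have hbb : σ z₁ * σ z₂ * (σ z₁ * σ z₂) = 1 := by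
        rw [← pow_two, cbc.mul_pow, pow_two, pow_two, h.tt.sq _ hb.1, h.tt.sq _ hc.1, one_mul]
      rw [hq', hx, hdd, show σ z₁ * σ z₂ * x * (σ z₁ * σ z₂ * (x * (y * z))) =
        σ z₁ * σ z₂ * (x * (σ z₁ * σ z₂)) * (x * (y * z)) by group,
        ← (hbcm x (hm' x (by simp))).eq, show σ z₁ * σ z₂ * (σ z₁ * σ z₂ * x) * (x * (y * z)) =
        σ z₁ * σ z₂ * (σ z₁ * σ z₂) * (x * x) * (y * z) by group, hbb, hxx]
      simp
    have fin : ∀ y z, y ∈ [p, q, r] → z ∈ [p, q, r] → y ≠ z → t = [y, z].prod → Short D t := by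
      intro y z hy hz hyz e'
      rw [e']
      have hD' : ∀ a ∈ [p, q, r], a ∈ D := by
        intro a ha
        simp only [List.mem_cons, List.not_mem_nil, or_false] at ha
        rcases ha with rfl | rfl | rfl
        exacts [hp.1, hq₁.1, hr.1]
      refine short_mk (by simp [hyz]) (by simp) (by simp) ?_ ?_
      · intro a ha
        simp only [List.mem_cons, List.not_mem_nil, or_false] at ha
        rcases ha with rfl | rfl
        exacts [hD' _ hy, hD' _ hz]
      · intro a ha b hb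
        simp only [List.mem_cons, List.not_mem_nil, or_false] at ha hb
        rcases ha with rfl | rfl <;> rcases hb with rfl | rfl <;> exact hqr _ (by assumption) _ (by assumption)
    rcases huniq (σ z₃) he hnbe.symm hnce.symm cbe.symm cce.symm hline with e' | e' | e'
    · exact fin q r (by simp) (by simp) hndq.2.2 (key p q r (List.Perm.refl _) e')
    · exact fin p r (by simp) (by simp) hndq.2.1 (key q p r (List.Perm.swap _ _ _) e')
    · exact fin p q (by simp) (by simp) hndq.1 (key r p q (by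
        exact (List.Perm.swap p r [q]).trans ((List.Perm.swap q r []).cons p)) e')
  -- a triangle
  push Not at hline
  obtain ⟨w, hw, hw1, hw2, hw3⟩ := hline
  have hmem : ∀ z ∈ [z₁, z₂, z₃], z ∈ SixTwo.tvSet hF' := hmT
  obtain ⟨u₁, hu₁, eu₁⟩ := hmem z₁ (by simp)
  obtain ⟨u₂, hu₂, eu₂⟩ := hmem z₂ (by simp)
  obtain ⟨u₃, hu₃, eu₃⟩ := hmem z₃ (by simp)
  set W : ↥H := ⟨w, Subgroup.subset_closure hw⟩
  obtain ⟨v, hv, ev⟩ : φ W ∈ SixTwo.tvSet hF' := hmod ▸ ⟨W, hw, rfl⟩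
  have hcW : ∀ z ∈ [z₁, z₂, z₃], (Commute w (σ z) ↔ Commute (φ W) z) := fun z hz => by
    conv_rhs => rw [← hs2 z (hmem z hz)]
    refine ⟨fun q => ((map_commute_iff h.tt (x := W) hw (hs1 z (hmem z hz))).2 q).map e.toMonoidHom, fun q => ?_⟩
    exact (map_commute_iff h.tt (x := W) hw (hs1 z (hmem z hz))).1 (by simpa [hφ] using q.map e.symm)
  have v1 := (SixTwo.comm_pi hF' hv hu₁).1 (by rw [ev, eu₁]; exact (hcW z₁ (by simp)).1 hw1)
  have v2 := (SixTwo.comm_pi hF' hv hu₂).1 (by rw [ev, eu₂]; exact (hcW z₂ (by simp)).1 hw2)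
  have v3 : Cfsg.hermForm 6 F 2 v u₃ ≠ 0 := fun q => hw3 ((hcW z₃ (by simp)).2 (by
    rw [← ev, ← eu₃]; exact (SixTwo.comm_pi hF' hv hu₃).2 q))
  let u : Fin 3 → Fin 6 → F := ![u₁, u₂, u₃]
  have hpw : ∀ i, SixTwo.IsPt (u i) := fun i => by fin_cases i <;> assumption
  have hπu : ∀ i, QuotientGroup.mk' (Subgroup.center (Cfsg.SU 6 F 2)) (SixTwo.tv hF' (u i)) = ![z₁, z₂, z₃] i := fun i => by
    fin_cases i <;> assumption
  have huu : ∀ i j, Cfsg.hermForm 6 F 2 (u i) (u j) = 0 := fun i j =>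
    (SixTwo.comm_pi hF' (hpw i) (hpw j)).1 (by
      rw [hπu, hπu]
      exact hmc _ (by fin_cases i <;> simp) _ (by fin_cases j <;> simp))
  have hind : ∀ a : Fin 3 → F, a 0 • u 0 + a 1 • u 1 + a 2 • u 2 = 0 → a = 0 := by
    intro a ha
    have h2 : a 2 = 0 := by
      have := congrArg (fun x => Cfsg.hermForm 6 F 2 v x) ha
      simp [u, SixTwo.hh_add_right hF', CfsgLib.Unitary.herm_smul_right hF', v1, v2, SixTwo.hh_zero_right hF', v3] at this
      exact this
    rw [h2, zero_smul, add_zero] at ha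
    by_cases h0 : a 0 = 0
    · rw [h0, zero_smul, zero_add] at ha
      funext i
      fin_cases i
      exacts [h0, (smul_eq_zero.1 ha).resolve_right hu₂.1, h2]
    · exfalso
      have ha1 : u₁ = -(a 1 / a 0) • u₂ := by
        have := congrArg (fun x => (a 0)⁻¹ • x) ha
        simp only [u, Matrix.cons_val_zero, Matrix.cons_val_one, smul_add, smul_smul, smul_zero,
          inv_mul_cancel₀ h0, one_smul] at this
        rw [eq_neg_of_add_eq_zero_left this, neg_smul, div_eq_mul_inv, mul_comm]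
      refine hn.1 ?_
      rw [← eu₁, ← eu₂, ha1, SixTwo.tv_smul hF' hu₂.2]
      intro q
      exact hu₁.1 (by rw [ha1, q, zero_smul])
  obtain ⟨T, l₁, l₂, hT, hTm, hTc, -, h13, h23, hn1, hn2, ⟨x₀, hx₀, hx₀'⟩, hp1, hp2⟩ :=
    SixTwo.hexads_at hF' huu hind
  have hT' : T = [z₁, z₂, z₃] := by rw [hT, hπu, hπu, hπu]; rfl
  subst hT'
  have h1s : ∀ x ∈ l₁, x ∈ [z₁, z₂, z₃] ++ l₁ ++ l₂ := fun x hx => by simp [hx]
  have h2s : ∀ x ∈ l₂, x ∈ [z₁, z₂, z₃] ++ l₁ ++ l₂ := fun x hx => by simp [hx]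
  -- each hexad gives a factorisation of `L.prod` or of `L.prod * d`
  have hex : ∀ n : List (Cfsg.PSU 6 F 2), n.length = 3 → n.Nodup → (∀ x ∈ n, x ∈ [z₁, z₂, z₃] ++ l₁ ++ l₂) →
      [z₁, z₂, z₃].prod * n.prod = 1 → Triple D (n.map σ) ∧ ((n.map σ).prod = L.prod ∨ (n.map σ).prod = t) := by
    intro n hn3 hnn hns hnp
    obtain ⟨hNn, hNd, hNc, y', hy', hφy'⟩ := hlist n (fun x hx => hTm x (hns x hx)) hnn
      fun a ha b hb => hTc a (hns a ha) b (hns b hb)
    refine ⟨⟨hNn, by rw [List.length_map, hn3], fun a ha => (hNd a ha).1, hNc⟩, ?_⟩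
    have hsq' := sq_prod h (fun a ha => (hNd a ha).1) hNc
    rcases hker (y * y') (by rw [map_mul, hφy, hφy', hnp]) with q | q
    · left
      rw [Subgroup.coe_mul, hy, hy'] at q
      rw [← mul_eq_one_iff_inv_eq.1 q]; exact mul_eq_one_iff_inv_eq.1 hsq
    · right
      rw [Subgroup.coe_mul, hy, hy'] at q
      rw [hq, ← q, ← mul_assoc, hsq, one_mul]
  obtain ⟨hN₁, o₁⟩ := hex l₁ h13 (List.nodup_append.1 hn1).2.1 h1s hp1
  obtain ⟨hN₂, o₂⟩ := hex l₂ h23 (List.nodup_append.1 hn2).2.1 h2s hp2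
  rcases o₁ with o₁ | o₁
  swap
  · exact ⟨3, by norm_num, le_rfl, _, hN₁.1, hN₁.2.1, hN₁.2.2.1, hN₁.2.2.2, o₁⟩
  rcases o₂ with o₂ | o₂
  swap
  · exact ⟨3, by norm_num, le_rfl, _, hN₂.1, hN₂.2.1, hN₂.2.2.1, hN₂.2.2.2, o₂⟩
  -- three factorisations
  exfalso
  have hLT : Triple D L := ⟨hLn, by rw [hLdef]; rfl, hLD, hLc⟩
  obtain ⟨k₁, k₂, -, -, -, hall⟩ := two_triples h.toSetup22 hLT
  have hA := hall L hLT rfl
  have hB := hall _ hN₁ o₁
  have hC := hall _ hN₂ o₂
  have hσ : ∀ {n n' : List (Cfsg.PSU 6 F 2)}, (∀ x ∈ n, x ∈ [z₁, z₂, z₃] ++ l₁ ++ l₂) →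
      (∀ x ∈ n', x ∈ [z₁, z₂, z₃] ++ l₁ ++ l₂) → ∀ z ∈ n,
      (∀ x : G, x ∈ n.map σ ↔ x ∈ n'.map σ) → z ∈ n' := by
    intro n n' hns hns' z hz hiff
    obtain ⟨w', hw', q⟩ := List.mem_map.1 ((hiff (σ z)).1 (List.mem_map.2 ⟨z, hz, rfl⟩))
    have := congrArg φ (Subtype.ext q)
    rw [hs2 w' (hTm w' (hns' w' hw')), hs2 z (hTm z (hns z hz))] at this
    exact this ▸ hw'
  have hts : ∀ x ∈ [z₁, z₂, z₃], x ∈ [z₁, z₂, z₃] ++ l₁ ++ l₂ := fun x hx =>
    List.mem_append_left _ (List.mem_append_left _ hx)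
  have d1 : z₁ ∉ l₁ := fun q => (List.nodup_append.1 hn1).2.2 z₁ (by simp) z₁ q rfl
  have d2 : z₁ ∉ l₂ := fun q => (List.nodup_append.1 hn2).2.2 z₁ (by simp) z₁ q rfl
  rcases hA with a | a <;> rcases hB with b | b <;> rcases hC with c | c <;>
    first
      | exact d1 (hσ hts h1s z₁ (by simp) fun x => (a x).trans (b x).symm)
      | exact d2 (hσ hts h2s z₁ (by simp) fun x => (a x).trans (c x).symm)
      | exact hx₀' (hσ h2s h1s x₀ hx₀ fun x => (c x).trans (b x).symm)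

/-- Every involution fixes a transposition: the action on transpositions is by even permutations. -/
theorem invol_fixes (hp : Cfsg.IsPrimitiveUnderConj D) (ht : Cfsg.IsOfTypeM22 G D) {t : G} (ht2 : t * t = 1) :
    ∃ a ∈ D, Commute t a := by
  classical
  haveI := Fintype.ofFinite G
  haveI := simple22 h hp ht
  by_contra hno
  push Not at hno
  let P : G →* Equiv.Perm ↥D :=
    { toFun := fun g => Equiv.mk (fun x => ⟨g * x * g⁻¹, h.tt.conj g x x.2⟩)
        (fun x => ⟨g⁻¹ * x * g⁻¹⁻¹, h.tt.conj g⁻¹ x x.2⟩) (fun x => Subtype.ext (by simp [mul_assoc]))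
        (fun x => Subtype.ext (by simp [mul_assoc]))
      map_one' := Equiv.ext fun x => Subtype.ext (by simp)
      map_mul' := fun a b => Equiv.ext fun x => Subtype.ext (by simp [mul_assoc]) }
  set f := Equiv.Perm.sign.comp P
  -- the sign is trivial
  have hf : ∀ g, f g = 1 := by
    intro g
    refine MonoidHom.mem_ker.1 (?_ : g ∈ f.ker)
    rcases (inferInstance : f.ker.Normal).eq_bot_or_eq_top with e | e
    · exfalso
      have hle := Nat.card_le_card_of_injective f ((MonoidHom.ker_eq_bot_iff f).1 e)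
      rw [(order22 h hp ht).2, Nat.card_eq_fintype_card (α := ℤˣ)] at hle
      simp at hle
    · rw [e]; exact Subgroup.mem_top g
  have hfree : ∀ x : ↥D, P t x ≠ x := fun x e => hno x x.2 (mul_inv_eq_iff_eq_mul.1 (congrArg Subtype.val e))
  have hsupp : (P t).support = Finset.univ := Finset.eq_univ_of_forall fun x => Equiv.Perm.mem_support.2 (hfree x)
  have hcard : Fintype.card ↥D = 3510 := by
    obtain ⟨d, hd, -⟩ := hp.2.1
    rw [← Nat.card_eq_fintype_card, Nat.card_coe_set_eq, ncard_D h hd]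
  have hpow : P t ^ 2 = 1 := by rw [← map_pow, pow_two, ht2, map_one]
  have hne : P t ≠ 1 := fun e => by
    obtain ⟨x⟩ : Nonempty ↥D := Fintype.card_pos_iff.1 (by rw [hcard]; norm_num)
    exact hfree x (by rw [e]; rfl)
  have hord : orderOf (P t) = 2 := orderOf_eq_prime hpow hne
  obtain ⟨k, hk⟩ := Equiv.Perm.cycleType_prime_order (σ := P t) (by rw [hord]; exact Nat.prime_two)
  have hsum := Equiv.Perm.sum_cycleType (P t)
  rw [hk, hord, Multiset.sum_replicate, hsupp, Finset.card_univ, hcard, smul_eq_mul] at hsum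
  have hsign : f t = (-1 : ℤˣ) ^ (3510 + (k + 1)) := by
    show Equiv.Perm.sign (P t) = _
    rw [Equiv.Perm.sign_of_cycleType, hk, hord, Multiset.sum_replicate, Multiset.card_replicate, smul_eq_mul,
      hsum]
  rw [hf t, show 3510 + (k + 1) = 2 * 2632 + 1 by omega, pow_add, pow_mul] at hsign
  simp at hsign

/-- Every involution is a short product. -/
theorem invol_short (hp : Cfsg.IsPrimitiveUnderConj D) (ht : Cfsg.IsOfTypeM22 G D) {t : G} (ht2 : t * t = 1)
    (ht1 : t ≠ 1) : Short D t := by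
  obtain ⟨a, ha, hta⟩ := invol_fixes h hp ht ht2
  obtain ⟨-, d, hd, c, -, -, ⟨F, _, _, hF, ⟨e⟩⟩, -⟩ := id ht
  obtain ⟨g, hg⟩ := hp.1 a ha d hd
  have hmem : g * t * g⁻¹ ∈ hsub D d := by
    rw [(centralizer_eq h hd).1, Subgroup.mem_centralizer_singleton_iff, ← hg]
    exact ((commute_conj_iff g t a).2 hta).eq
  obtain ⟨m, h1, h3, l, hn, hl, hm, hc, hprod⟩ := short_at h hd hF e hmem
    (by rw [show g * t * g⁻¹ * (g * t * g⁻¹) = g * (t * t) * g⁻¹ by group, ht2]; group)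
    (fun q => ht1 (conj_eq_one_iff.1 q))
  refine ⟨m, h1, h3, l.map (MulAut.conj g⁻¹), hn.map (MulAut.conj g⁻¹).injective, by rw [List.length_map, hl], ?_,
    ?_, ?_⟩
  · intro x hx
    obtain ⟨y, hy, rfl⟩ := List.mem_map.1 hx
    exact h.tt.conj g⁻¹ y (hm y hy)
  · intro x hx y hy
    obtain ⟨x', hx', rfl⟩ := List.mem_map.1 hx
    obtain ⟨y', hy', rfl⟩ := List.mem_map.1 hy
    exact (hc x' hx' y' hy').map (MulAut.conj g⁻¹)
  · rw [← map_list_prod, hprod]
    show g⁻¹ * (g * t * g⁻¹) * g⁻¹⁻¹ = t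
    group

/-- Products with one and the same number of factors are conjugate. -/
theorem facs_conj {m : ℕ} (h1 : 1 ≤ m) (h3 : m ≤ 3) {x y : G} (hx : Facs D m x) (hy : Facs D m y) : IsConj x y := by
  obtain ⟨l, hn, hl, hm, hc, rfl⟩ := hx
  obtain ⟨l', hn', hl', hm', hc', rfl⟩ := hy
  interval_cases m
  · obtain ⟨a, rfl⟩ := List.length_eq_one_iff.1 hl
    obtain ⟨b, rfl⟩ := List.length_eq_one_iff.1 hl'
    obtain ⟨g, hg⟩ := h.conjD a (hm a (by simp)) b (hm' b (by simp)) (h.ne_one a (hm a (by simp)))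
      (h.ne_one b (hm' b (by simp)))
    exact isConj_iff.2 ⟨g, by simpa using hg⟩
  · obtain ⟨a, b, rfl⟩ := List.length_eq_two.1 hl
    obtain ⟨c, e, rfl⟩ := List.length_eq_two.1 hl'
    simp only [List.nodup_cons, List.mem_cons, List.not_mem_nil, or_false, List.nodup_nil, and_true,
      not_false_eq_true] at hn hn'
    have ha := hm a (by simp)
    have hc0 := hm' c (by simp)
    have hb : b ∈ nb D a := ⟨hm b (by simp), Ne.symm hn, hc a (by simp) b (by simp)⟩
    have he : e ∈ nb D c := ⟨hm' e (by simp), Ne.symm hn', hc' c (by simp) e (by simp)⟩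
    obtain ⟨g₁, hg₁⟩ := h.conjD a ha c hc0 (h.ne_one a ha) (h.ne_one c hc0)
    obtain ⟨g₂, hg₂, e₂⟩ := h.near c hc0 _ (nb_conj h.tt hb.1 hb.2.1 hb.2.2 hg₁) e he
    refine isConj_iff.2 ⟨g₂ * g₁, ?_⟩
    simp only [List.prod_cons, List.prod_nil, mul_one]
    calc g₂ * g₁ * (a * b) * (g₂ * g₁)⁻¹ =
          (g₂ * (g₁ * a * g₁⁻¹) * g₂⁻¹) * (g₂ * (g₁ * b * g₁⁻¹) * g₂⁻¹) := by group
      _ = c * e := by rw [hg₁, e₂, (commute_hsub hg₂).eq, mul_inv_cancel_right]
  · obtain ⟨a, b, c, rfl⟩ := List.length_eq_three.1 hl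
    obtain ⟨s, t, u, rfl⟩ := List.length_eq_three.1 hl'
    have hne : a ≠ b ∧ a ≠ c ∧ b ≠ c := by simpa [List.nodup_cons, and_assoc] using hn
    have hne' : s ≠ t ∧ s ≠ u ∧ t ≠ u := by simpa [List.nodup_cons, and_assoc] using hn'
    obtain ⟨g, e1, e2, e3⟩ := triple_conj h (hm' s (by simp))
      (b := t) (c := u) ⟨hm' t (by simp), hne'.1.symm, hc' s (by simp) t (by simp)⟩
      ⟨hm' u (by simp), hne'.2.1.symm, hc' s (by simp) u (by simp)⟩ hne'.2.2 (hc' t (by simp) u (by simp))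
      (hm a (by simp)) ⟨hm b (by simp), hne.1.symm, hc a (by simp) b (by simp)⟩
      ⟨hm c (by simp), hne.2.1.symm, hc a (by simp) c (by simp)⟩ hne.2.2 (hc b (by simp) c (by simp))
    refine isConj_iff.2 ⟨g, ?_⟩
    simp only [List.prod_cons, List.prod_nil, mul_one]
    calc g * (a * (b * c)) * g⁻¹ = g * a * g⁻¹ * (g * b * g⁻¹ * (g * c * g⁻¹)) := by group
      _ = s * (t * u) := by rw [e1, e2, e3]

/-- The centraliser of a product of two. -/
theorem card_cent_pair {a b : G} (ha : a ∈ D) (hb : b ∈ nb D a) :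
    693 * Nat.card ↥(Subgroup.centralizer ({a * b} : Set G)) = 2 * Nat.card ↥(hsub D a) := by
  have hfix : ∀ {g : G}, g ∈ hsub D a → g * a * g⁻¹ = a := fun {g} hg => by
    rw [(commute_hsub hg).eq, mul_inv_cancel_right]
  set S := Subgroup.centralizer ({b} : Set G) ⊓ hsub D a
  have hS : S ≤ Subgroup.centralizer ({a * b} : Set G) := by
    rintro g ⟨h1, h2⟩
    have e1 : Commute g b := Subgroup.mem_centralizer_singleton_iff.1 h1
    exact Subgroup.mem_centralizer_singleton_iff.2 ((commute_hsub h2).mul_right e1).eq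
  have h1 : Nat.card ↥(hsub D a) = 693 * Nat.card ↥S := by
    rw [card_orbit_stab (hsub D a) (Subgroup.centralizer ({b} : Set G)) (fun g => g * b * g⁻¹) (nb D a)
      (fun g _ g' _ => conj_fib) ?_, (h.loc a ha).card_nb]
    ext y
    constructor
    · rintro ⟨g, hg, rfl⟩; exact nb_conj h.tt hb.1 hb.2.1 hb.2.2 (hfix hg)
    · intro hy
      obtain ⟨g, hg, e⟩ := h.near a ha b hb y hy
      exact ⟨g, hg, e⟩
  rw [h1, card_orbit_stab (Subgroup.centralizer ({a * b} : Set G)) S (fun g => (g * a * g⁻¹, g * b * g⁻¹))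
    {(a, b), (b, a)} ?_ ?_, inf_eq_left.2 hS, Set.ncard_pair fun q => hb.2.1 (congrArg Prod.snd q)]
  · ring
  · intro g _ g' _
    simp only [Prod.mk.injEq, conj_fib, S, Subgroup.mem_inf, (centralizer_eq h ha).1]
    tauto
  · ext ⟨p, q⟩
    simp only [Set.mem_image, Set.mem_insert_iff, Set.mem_singleton_iff, Prod.mk.injEq, SetLike.mem_coe,
      Subgroup.mem_centralizer_singleton_iff]
    constructor
    · rintro ⟨g, hg, rfl, rfl⟩
      have hprod : g * a * g⁻¹ * (g * b * g⁻¹) = a * b := by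
        rw [show g * a * g⁻¹ * (g * b * g⁻¹) = g * (a * b) * g⁻¹ by group, hg, mul_inv_cancel_right]
      have hu := uniq_two h.tt h.twinFree h.ne_one (l := [g * a * g⁻¹, g * b * g⁻¹]) (l' := [a, b])
        ⟨by simpa using fun q => hb.2.1 q.symm, rfl, by simpa using ⟨h.tt.conj g a ha, h.tt.conj g b hb.1⟩, by
          simpa [commute_conj_iff] using ⟨hb.2.2, hb.2.2.symm⟩⟩
        ⟨by simpa using hb.2.1.symm, rfl, by simpa using ⟨ha, hb.1⟩, by
          simpa using ⟨hb.2.2, hb.2.2.symm⟩⟩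
        (by simpa using hprod)
      have h1 := (hu (g * a * g⁻¹)).1 (by simp)
      have h2 := (hu (g * b * g⁻¹)).1 (by simp)
      simp only [List.mem_cons, List.not_mem_nil, or_false] at h1 h2
      have hne : g * a * g⁻¹ ≠ g * b * g⁻¹ := fun q => hb.2.1 (mul_left_cancel (mul_right_cancel q)).symm
      rcases h1 with h1 | h1 <;> rcases h2 with h2 | h2
      · exact absurd (h1.trans h2.symm) hne
      · exact Or.inl ⟨h1, h2⟩
      · exact Or.inr ⟨h1, h2⟩
      · exact absurd (h1.trans h2.symm) hne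
    · rintro (⟨hp', hq'⟩ | ⟨hp', hq'⟩) <;> rw [hp', hq']
      · exact ⟨1, by simp, by simp, by simp⟩
      · obtain ⟨g₁, hg₁⟩ := h.conjD a ha b hb.1 (h.ne_one a ha) (h.ne_one b hb.1)
        obtain ⟨g₂, hg₂, e₂⟩ := h.near b hb.1 _ (nb_conj h.tt hb.1 hb.2.1 hb.2.2 hg₁) a (nb_swap h ha hb)
        have e1 : g₂ * g₁ * a * (g₂ * g₁)⁻¹ = b := by
          rw [show g₂ * g₁ * a * (g₂ * g₁)⁻¹ = g₂ * (g₁ * a * g₁⁻¹) * g₂⁻¹ by group, hg₁, (commute_hsub hg₂).eq,
            mul_inv_cancel_right]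
        have e2 : g₂ * g₁ * b * (g₂ * g₁)⁻¹ = a := by
          rw [show g₂ * g₁ * b * (g₂ * g₁)⁻¹ = g₂ * (g₁ * b * g₁⁻¹) * g₂⁻¹ by group, e₂]
        refine ⟨g₂ * g₁, mul_inv_eq_iff_eq_mul.1 ?_, e1, e2⟩
        rw [show g₂ * g₁ * (a * b) * (g₂ * g₁)⁻¹ = g₂ * g₁ * a * (g₂ * g₁)⁻¹ * (g₂ * g₁ * b * (g₂ * g₁)⁻¹) by group,
          e1, e2, hb.2.2.eq]

theorem triple_ne_one {a b c : G} (ha : a ∈ D) (hb : b ∈ D) (hc : c ∈ D) (hab : a ≠ b) (hac : a ≠ c) (hbc : b ≠ c)
    (cab : Commute a b) (cac : Commute a c) (cbc : Commute b c) : a * b * c ≠ 1 := by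
  intro e
  have hcen : a ∈ Subgroup.center G := Subgroup.mem_center_iff.2 fun g =>
    (commute_of_closure (fun x hx => ((commute_triple_iff h.tt ha hb hc hx cab cac cbc hab hac hbc).1
      (e.symm ▸ Commute.one_left x)).1.symm) g (h.class3.2.2 ▸ Subgroup.mem_top g)).eq
  rw [h.center, Subgroup.mem_bot] at hcen
  exact h.ne_one a ha hcen

/-- A short product is an involution. -/
theorem facs_invol {m : ℕ} (h1 : 1 ≤ m) (h3 : m ≤ 3) {x : G} (hx : Facs D m x) : orderOf x = 2 := by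
  obtain ⟨l, hn, hl, hm, hc, rfl⟩ := hx
  refine orderOf_eq_prime (by rw [pow_two]; exact sq_prod h hm hc) fun e => ?_
  interval_cases m
  · obtain ⟨a, rfl⟩ := List.length_eq_one_iff.1 hl
    exact h.ne_one a (hm a (by simp)) (by simpa using e)
  · obtain ⟨a, b, rfl⟩ := List.length_eq_two.1 hl
    simp only [List.prod_cons, List.prod_nil, mul_one] at e
    simp only [List.nodup_cons, List.mem_singleton] at hn
    exact hn.1 (by rw [← mul_eq_one_iff_inv_eq.1 e, h.tt.inv (hm a (by simp))])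
  · obtain ⟨a, b, c, rfl⟩ := List.length_eq_three.1 hl
    have hne : a ≠ b ∧ a ≠ c ∧ b ≠ c := by simpa [List.nodup_cons, and_assoc] using hn
    simp only [List.prod_cons, List.prod_nil, mul_one, ← mul_assoc] at e
    exact triple_ne_one h (hm a (by simp)) (hm b (by simp)) (hm c (by simp)) hne.1 hne.2.1 hne.2.2
      (hc a (by simp) b (by simp)) (hc a (by simp) c (by simp)) (hc b (by simp) c (by simp)) e

/-- Centraliser orders separate the three kinds. -/
theorem facs_card (hp : Cfsg.IsPrimitiveUnderConj D) (ht : Cfsg.IsOfTypeM22 G D) {m : ℕ} (h1 : 1 ≤ m)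
    (h3 : m ≤ 3) {x : G} (hx : Facs D m x) :
    Nat.card ↥(Subgroup.centralizer ({x} : Set G)) =
      if m = 1 then 18393661440 else if m = 2 then 53084160 else 1769472 := by
  obtain ⟨l, hn, hl, hm, hc, rfl⟩ := hx
  have ho := (order22 h hp ht).1
  interval_cases m
  · obtain ⟨a, rfl⟩ := List.length_eq_one_iff.1 hl
    have ha := hm a (by simp)
    rw [show [a].prod = a by simp, ← (centralizer_eq h ha).1, ho a ha]
    simp
  · obtain ⟨a, b, rfl⟩ := List.length_eq_two.1 hl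
    have ha := hm a (by simp)
    simp only [List.nodup_cons, List.mem_singleton] at hn
    have := card_cent_pair h ha (b := b) ⟨hm b (by simp), Ne.symm hn.1, hc a (by simp) b (by simp)⟩
    rw [ho a ha] at this
    rw [show [a, b].prod = a * b by simp]
    simp only [show (2 : ℕ) ≠ 1 by norm_num, if_false, if_true]
    omega
  · obtain ⟨a, b, c, rfl⟩ := List.length_eq_three.1 hl
    have hne : a ≠ b ∧ a ≠ c ∧ b ≠ c := by simpa [List.nodup_cons, and_assoc] using hn
    have ha := hm a (by simp)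
    have := card_cent_triple h ha (b := b) (c := c) ⟨hm b (by simp), hne.1.symm, hc a (by simp) b (by simp)⟩
      ⟨hm c (by simp), hne.2.1.symm, hc a (by simp) c (by simp)⟩ hne.2.2 (hc b (by simp) c (by simp))
    rw [ho a ha] at this
    rw [show [a, b, c].prod = a * b * c by simp [mul_assoc]]
    simp only [show (3 : ℕ) ≠ 1 by norm_num, show (3 : ℕ) ≠ 2 by norm_num, if_false]
    omega

/-- The number of factors is determined. -/
theorem facs_unique (hp : Cfsg.IsPrimitiveUnderConj D) (ht : Cfsg.IsOfTypeM22 G D) {m m' : ℕ} (h1 : 1 ≤ m)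
    (h3 : m ≤ 3) (h1' : 1 ≤ m') (h3' : m' ≤ 3) {x : G} (hx : Facs D m x) (hx' : Facs D m' x) : m = m' := by
  have e := (facs_card h hp ht h1 h3 hx).symm.trans (facs_card h hp ht h1' h3' hx')
  interval_cases m <;> interval_cases m' <;> simp at e ⊢

/-- Products of each length exist. -/
theorem exists_facs {m : ℕ} (h1 : 1 ≤ m) (h3 : m ≤ 3) (hne : D.Nonempty) : ∃ x, Facs D m x := by
  obtain ⟨d, hd⟩ := hne
  obtain ⟨b, hb⟩ : (nb D d).Nonempty :=
    Set.nonempty_of_ncard_ne_zero (by rw [(h.loc d hd).card_nb]; norm_num)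
  obtain ⟨c, hc⟩ : {y | y ∈ nb D d ∧ y ≠ b ∧ Commute y b}.Nonempty :=
    Set.nonempty_of_ncard_ne_zero (by rw [(h.loc d hd).card_pair b hb]; norm_num)
  interval_cases m
  · exact ⟨d, [d], by simp, rfl, by simpa using hd, by simp, by simp⟩
  · exact ⟨d * b, [d, b], by simpa using hb.2.1.symm, rfl, by simpa using ⟨hd, hb.1⟩,
      by simpa using ⟨hb.2.2, hb.2.2.symm⟩, by simp⟩
  · refine ⟨d * b * c, [d, b, c], ?_, rfl, by simpa using ⟨hd, hb.1, hc.1.1⟩, ?_, by simp [mul_assoc]⟩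
    · simp [hb.2.1.symm, hc.1.2.1.symm, hc.2.1.symm]
    · simp only [List.mem_cons, List.not_mem_nil, or_false, forall_eq_or_imp, forall_eq]
      exact ⟨⟨Commute.refl _, hb.2.2, hc.1.2.2⟩, ⟨hb.2.2.symm, Commute.refl _, hc.2.2.symm⟩,
        hc.1.2.2.symm, hc.2.2, Commute.refl _⟩

/-- The transpositions form the only generating class of 3-transpositions. -/
theorem class_unique (hp : Cfsg.IsPrimitiveUnderConj D) (ht : Cfsg.IsOfTypeM22 G D) {D' : Set G}
    (hD' : Cfsg.IsThreeTranspositionClass D') : D' = D := by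
  obtain ⟨hset, ⟨x, hx, hcl⟩, -⟩ := hD'
  have hxD : ∀ y, y ∈ D' ↔ IsConj x y := fun y => by rw [hcl]; rfl
  obtain ⟨m, h1, h3, hfac⟩ := invol_short h hp ht
    (by rw [← pow_two, ← hset.1 x hx]; exact pow_orderOf_eq_one x)
    (fun e => by simpa [e] using hset.1 x hx)
  have hall : ∀ y, Facs D m y → y ∈ D' := fun y hy => (hxD y).2 (facs_conj h h1 h3 hfac hy)
  have hconj : ∀ y, y ∈ D' → Facs D m y := fun y hy => by
    obtain ⟨g, rfl⟩ := isConj_iff.1 ((hxD y).1 hy)
    obtain ⟨l, hn, hl, hm, hc, rfl⟩ := hfac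
    refine ⟨l.map (MulAut.conj g), hn.map (MulAut.conj g).injective, by rw [List.length_map, hl], ?_, ?_, ?_⟩
    · intro z hz
      obtain ⟨w, hw, rfl⟩ := List.mem_map.1 hz
      exact h.tt.conj g w (hm w hw)
    · intro z hz w hw
      obtain ⟨z', hz', rfl⟩ := List.mem_map.1 hz
      obtain ⟨w', hw', rfl⟩ := List.mem_map.1 hw
      exact (hc z' hz' w' hw').map (MulAut.conj g)
    · rw [← map_list_prod]; rfl
  by_cases hm1 : m = 1
  · subst hm1
    ext y
    refine ⟨fun hy => ?_, fun hy => hall y ⟨[y], by simp, rfl, by simpa using hy, by simp, by simp⟩⟩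
    obtain ⟨l, -, hl, hm, -, rfl⟩ := hconj y hy
    obtain ⟨a, rfl⟩ := List.length_eq_one_iff.1 hl
    simpa using hm a (by simp)
  exfalso
  -- two products whose quotient has order six
  obtain ⟨d, hd, -⟩ := hp.2.1
  obtain ⟨b, hb⟩ : (nb D d).Nonempty :=
    Set.nonempty_of_ncard_ne_zero (by rw [(h.loc d hd).card_nb]; norm_num)
  obtain ⟨c, hc, hdc⟩ : {c | c ∈ nb D b ∧ ¬ Commute d c}.Nonempty :=
    Set.nonempty_of_ncard_ne_zero (by rw [ncard_far_nb h hd hb]; norm_num)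
  have hbt : b ∈ tri D d c := ⟨hb, hc.2.2⟩
  obtain ⟨e, he⟩ : {y | y ∈ tri D d c ∧ y ≠ b ∧ Commute y b}.Nonempty :=
    Set.nonempty_of_ncard_ne_zero (by rw [tri_inner h hd hc.1 hdc hbt]; norm_num)
  obtain ⟨f, hf⟩ : {y | y ∈ tri D d c ∧ y ≠ b ∧ y ≠ e ∧ Commute y b ∧ Commute y e}.Nonempty :=
    Set.nonempty_of_ncard_ne_zero (by rw [tri_inner_two h hd hc.1 hdc hbt he.1 he.2.1 he.2.2]; norm_num)
  have hed : Commute e d := he.1.1.2.2.symm
  have hec : Commute e c := he.1.2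
  have hce : c ≠ e := fun q => hdc (q ▸ he.1.1.2.2)
  have hcf : c ≠ f := fun q => hdc (q ▸ hf.1.1.2.2)
  obtain ⟨j, k, hj, hk, hjk⟩ : ∃ j k, j ∈ D' ∧ k ∈ D' ∧ j * k = (d * c) * (b * e) := by
    interval_cases m
    · omega
    · refine ⟨d * b, c * e, hall _ ⟨[d, b], by simpa using hb.2.1.symm, rfl, by simpa using ⟨hd, hb.1⟩,
        by simpa using ⟨hb.2.2, hb.2.2.symm⟩, by simp⟩, hall _ ⟨[c, e], by simpa using hce, rfl,
        by simpa using ⟨hc.1, he.1.1.1⟩, by simpa using ⟨hec.symm, hec⟩, by simp⟩, ?_⟩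
      rw [show d * b * (c * e) = d * (b * c) * e by group, hc.2.2.eq]; group
    · refine ⟨d * b * f, c * e * f, hall _ ⟨[d, b, f], ?_, rfl, by simpa using ⟨hd, hb.1, hf.1.1.1⟩, ?_,
        by simp [mul_assoc]⟩, hall _ ⟨[c, e, f], ?_, rfl, by simpa using ⟨hc.1, he.1.1.1, hf.1.1.1⟩, ?_,
        by simp [mul_assoc]⟩, ?_⟩
      · simp [hb.2.1.symm, hf.1.1.2.1.symm, hf.2.1.symm]
      · simp only [List.mem_cons, List.not_mem_nil, or_false, forall_eq_or_imp, forall_eq]
        exact ⟨⟨Commute.refl _, hb.2.2, hf.1.1.2.2⟩, ⟨hb.2.2.symm, Commute.refl _, hf.2.2.2.1.symm⟩,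
          hf.1.1.2.2.symm, hf.2.2.2.1, Commute.refl _⟩
      · simp [hce, hcf, hf.2.2.1.symm]
      · simp only [List.mem_cons, List.not_mem_nil, or_false, forall_eq_or_imp, forall_eq]
        exact ⟨⟨Commute.refl _, hec.symm, hf.1.2.symm⟩, ⟨hec, Commute.refl _, hf.2.2.2.2.symm⟩,
          hf.1.2, hf.2.2.2.2, Commute.refl _⟩
      · have hfk : Commute f (c * e) := hf.1.2.mul_right hf.2.2.2.2
        calc d * b * f * (c * e * f) = d * b * (f * (c * e)) * f := by group
          _ = d * b * (c * e) * (f * f) := by rw [hfk.eq]; group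
          _ = d * (b * c) * e := by rw [h.tt.sq f hf.1.1.1, mul_one]; group
          _ = d * c * (b * e) := by rw [hc.2.2.eq]; group
  have hcomm : Commute (d * c) (b * e) :=
    (hb.2.2.mul_right hed.symm).mul_left (hc.2.2.symm.mul_right hec.symm)
  have hbe2 : (b * e) ^ 2 = 1 := by
    rw [he.2.2.symm.mul_pow, pow_two, pow_two, h.tt.sq b hb.1, h.tt.sq e he.1.1.1, one_mul]
  have hdc3 := cube_of_not_commute h.class3.1 hd hc.1 hdc
  rcases hset.2 j hj k hk with q | q <;> rw [hjk, hcomm.mul_pow] at q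
  · rw [hbe2, mul_one] at q
    rw [pow_succ, q, one_mul] at hdc3
    exact hdc (by rw [← inv_eq_of_mul_eq_one_right hdc3, h.tt.inv hd])
  · rw [hdc3, one_mul, pow_succ, hbe2, one_mul] at q
    exact he.2.1 (by rw [← inv_eq_of_mul_eq_one_right q, h.tt.inv hb.1])

end CfsgLib.ThreeT.Prod
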