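import Cfsg.Agent.Spor3T.M22Triangle
import Cfsg.Agent.Spor3T.M22Invol

/-!
Type M(22): in the joint centraliser of a non-commuting pair the common neighbours are exactly the
reflections; hence there is a chain of six of them, and no seventh member extends the chain to the
shape of `E₇`.
-/

set_option autoImplicit false
set_option linter.unusedSectionVars false
set_option linter.style.haveILetI false

namespace CfsgLib.ThreeT.Prod

open QuadraticMap CfsgLib.Quad CfsgLib.ReflThree CfsgLib.Forms CfsgLib.QuadStd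

/-! ### The model form -/

/-- The form of the chain, as a function. -/
def chainVal (c : ZMod 3) (x : Fin 6 → ZMod 3) : ZMod 3 :=
  c * (x 0 * x 0 + x 1 * x 1 + x 2 * x 2 + x 3 * x 3 + x 4 * x 4 + x 5 * x 5 +
    (x 0 * x 1 + x 1 * x 2 + x 2 * x 3 + x 3 * x 4 + x 4 * x 5))

/-- The form of the chain. -/
noncomputable def chainForm (c : ZMod 3) : QuadraticForm (ZMod 3) (Fin 6 → ZMod 3) :=
  c • ((proj 0 0 + proj 1 1 + proj 2 2 + proj 3 3 + proj 4 4 + proj 5 5) +
    (proj 0 1 + proj 1 2 + proj 2 3 + proj 3 4 + proj 4 5))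

theorem chainForm_coe (c : ZMod 3) : ⇑(chainForm c) = chainVal c := by
  funext x
  simp [chainForm, chainVal, proj_apply, mul_add]

/-- Adjacency in the chain. -/
abbrev Adj6 (i j : Fin 6) : Prop := i.val + 1 = j.val ∨ j.val + 1 = i.val

theorem chain_gram : ∀ c : ZMod 3, c ≠ 0 → ∀ i j : Fin 6,
    polar (chainVal c) (Pi.single i 1) (Pi.single j 1) = if i = j then 2 * c else if Adj6 i j then c else 0 := by
  unfold QuadraticMap.polar chainVal
  decide +kernel

theorem chain_det : ∀ c : ZMod 3, c ≠ 0 →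
    (Matrix.of fun i j : Fin 6 => if i = j then 2 * c else if Adj6 i j then c else 0).det = 1 := by
  decide +kernel

theorem chain_no_seventh : ∀ c : ZMod 3, c ≠ 0 → ∀ (J : Fin 6), (J = 3 ∨ J = 5) → ∀ x : Fin 6 → ZMod 3,
    chainVal c x = c → (∀ j, j ≠ J → polar (chainVal c) x (Pi.single j 1) = 0) → False := by
  unfold QuadraticMap.polar chainVal
  decide +kernel

theorem chain_values : ∀ c : ZMod 3, c ≠ 0 →
    (Finset.univ.filter fun x : Fin 6 → ZMod 3 => chainVal c x = c).card ≤ 252 := by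
  unfold chainVal
  decide +kernel

theorem chain_nondeg {c : ZMod 3} (hc : c ≠ 0) : (polarBilin (chainForm c)).Nondegenerate := by
  have hdet : (gram (chainForm c) (Pi.basisFun (ZMod 3) (Fin 6))).det = 1 := by
    rw [← chain_det c hc]
    congr 1
    ext i j
    simp only [gram, Matrix.of_apply, Pi.basisFun_apply, chainForm_coe]
    exact chain_gram c hc i j
  have hM : gram (chainForm c) (Pi.basisFun (ZMod 3) (Fin 6)) =
      LinearMap.BilinForm.toMatrix (Pi.basisFun (ZMod 3) (Fin 6)) (polarBilin (chainForm c)) := by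
    ext i j
    rw [LinearMap.BilinForm.toMatrix_apply, polarBilin_apply_apply]
    simp [gram]
  refine LinearMap.BilinForm.nondegenerate_of_det_ne_zero _ (Pi.basisFun (ZMod 3) (Fin 6)) ?_
  rw [← hM, hdet]
  exact one_ne_zero

theorem chain_isometry {Q : QuadraticForm (ZMod 3) (Fin 6 → ZMod 3)} (hQ : (polarBilin Q).Nondegenerate)
    (hd : Cfsg.polarGramDet (⇑Q) = 1) {c : ZMod 3} (hc : c ≠ 0) :
    ∃ g : (Fin 6 → ZMod 3) ≃ₗ[ZMod 3] (Fin 6 → ZMod 3), ∀ v, chainForm c (g v) = Q v := by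
  have h1 : (gram Q (Pi.basisFun (ZMod 3) (Fin 6))).det = 1 := by
    rw [← hd, Cfsg.polarGramDet]
    congr 1
    ext i j
    simp [gram]
  have h2 : (gram (chainForm c) (Pi.basisFun (ZMod 3) (Fin 6))).det = 1 := by
    rw [← chain_det c hc]
    congr 1
    ext i j
    simp only [gram, Matrix.of_apply, Pi.basisFun_apply, chainForm_coe]
    exact chain_gram c hc i j
  exact CfsgLib.QuadStd.isometric_of_disc two_ne hQ (chain_nondeg hc) (Pi.basisFun (ZMod 3) (Fin 6))
    (Pi.basisFun (ZMod 3) (Fin 6)) (by rw [h1, h2, one_mul]; exact IsSquare.one)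

/-! ### A chain with the right products is a frame -/

theorem neg_smul_signs : ∀ (c p : ZMod 3), c ≠ 0 → p ≠ 0 → ∃ s : ZMod 3, s * s = 1 ∧ s * p = c := by decide

theorem chain_frame {Q : QuadraticForm (ZMod 3) (Fin 6 → ZMod 3)} {c : ZMod 3} (hc : c ≠ 0)
    (v : Fin 6 → (Fin 6 → ZMod 3)) (hv : ∀ i, Q (v i) = c)
    (hp : ∀ i j : Fin 6, i ≠ j → (polar Q (v i) (v j) = 0 ↔ ¬ Adj6 i j)) :
    ∃ g : (Fin 6 → ZMod 3) ≃ₗ[ZMod 3] (Fin 6 → ZMod 3), (∀ x, Q (g x) = chainForm c x) ∧
      ∀ i, g (Pi.single i 1) = v i ∨ g (Pi.single i 1) = -v i := by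
  -- signs along the chain
  have hne : ∀ i j : Fin 6, i.val + 1 = j.val → polar Q (v i) (v j) ≠ 0 := fun i j e h =>
    (hp i j (fun e' => by rw [e'] at e; omega)).1 h (Or.inl e)
  obtain ⟨s1, q1, e1⟩ := neg_smul_signs c _ hc (hne 0 1 rfl)
  obtain ⟨t2, q2, e2⟩ := neg_smul_signs c _ hc (hne 1 2 rfl)
  obtain ⟨t3, q3, e3⟩ := neg_smul_signs c _ hc (hne 2 3 rfl)
  obtain ⟨t4, q4, e4⟩ := neg_smul_signs c _ hc (hne 3 4 rfl)
  obtain ⟨t5, q5, e5⟩ := neg_smul_signs c _ hc (hne 4 5 rfl)
  set s : Fin 6 → ZMod 3 := ![1, s1, s1 * t2, s1 * t2 * t3, s1 * t2 * t3 * t4, s1 * t2 * t3 * t4 * t5]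
  have hs : ∀ i, s i * s i = 1 := by
    intro i
    fin_cases i <;> simp [s] <;> grind
  set u : Fin 6 → (Fin 6 → ZMod 3) := fun i => s i • v i with hu
  have hgram : ∀ i j, polar Q (u i) (u j) = polar (chainVal c) (Pi.single i 1) (Pi.single j 1) := by
    intro i j
    rw [chain_gram c hc, hu]
    simp only [polar_smul_left, polar_smul_right, smul_eq_mul]
    by_cases hij : i = j
    · subst hij
      rw [if_pos rfl, polar_self, hv, ← mul_assoc, hs, one_mul, two_nsmul, two_mul]
    rw [if_neg hij]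
    by_cases ha : Adj6 i j
    · rw [if_pos ha]
      have key : ∀ k l : Fin 6, k.val + 1 = l.val → s k * (s l * polar Q (v k) (v l)) = c := by
        intro k l hkl
        fin_cases k <;> fin_cases l <;> simp at hkl <;> simp [s] <;> grind
      rcases ha with e | e
      · linear_combination key i j e
      · linear_combination key j i e + (s i * s j) * (polar_comm (⇑Q) (v i) (v j))
    · rw [if_neg ha, (hp i j hij).2 ha, mul_zero, mul_zero]
  set L : (Fin 6 → ZMod 3) →ₗ[ZMod 3] (Fin 6 → ZMod 3) := (Pi.basisFun (ZMod 3) (Fin 6)).constr (ZMod 3) u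
  have hL : ∀ i, L (Pi.single i 1) = u i := fun i => by
    rw [← Pi.basisFun_apply]
    exact Module.Basis.constr_basis _ _ _ _
  have hbil : (polarBilin Q).compl₁₂ L L = polarBilin (chainForm c) := by
    refine LinearMap.ext_basis (Pi.basisFun (ZMod 3) (Fin 6)) (Pi.basisFun (ZMod 3) (Fin 6)) fun i j => ?_
    simp only [LinearMap.compl₁₂_apply, polarBilin_apply_apply, Pi.basisFun_apply, hL, chainForm_coe]
    exact hgram i j
  have hpol : ∀ x y, polar Q (L x) (L y) = polar (chainForm c) x y := fun x y => by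
    have := congrArg (fun B => B x y) hbil
    simpa only [LinearMap.compl₁₂_apply, polarBilin_apply_apply] using this
  have hQ2 : ∀ x, Q (L x) = chainForm c x := fun x => by
    have h := hpol x x
    rw [polar_self, polar_self, two_nsmul, two_nsmul] at h
    have hcancel : ∀ a b : ZMod 3, a + a = b + b → a = b := by decide
    exact hcancel _ _ h
  have hinj : Function.Injective L := by
    rw [injective_iff_map_eq_zero]
    intro x hx
    refine (chain_nondeg hc).1 x fun y => ?_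
    rw [polarBilin_apply_apply, ← hpol x y, hx]
    simp
  refine ⟨LinearEquiv.ofInjectiveEndo L hinj, hQ2, fun i => ?_⟩
  show L (Pi.single i 1) = _ ∨ L (Pi.single i 1) = _
  rw [hL, hu]
  rcases mul_self_eq_one_iff.1 (hs i) with e | e
  · exact Or.inl (by simp only [e, one_smul])
  · exact Or.inr (by simp only [e, neg_smul, one_smul])

theorem chainVal_single : ∀ c : ZMod 3, ∀ i : Fin 6, chainVal c (Pi.single i 1) = c := by
  unfold chainVal
  decide +kernel

theorem single_ne : ∀ i j : Fin 6, i ≠ j → (Pi.single j 1 : Fin 6 → ZMod 3) ≠ Pi.single i 1 ∧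
    (Pi.single j 1 : Fin 6 → ZMod 3) ≠ -Pi.single i 1 := by
  decide +kernel

theorem adj_separate : ∀ i j : Fin 6, i ≠ j →
    Adj6 i j ∨ ∃ l : Fin 6, l ≠ i ∧ l ≠ j ∧ ((Adj6 i l ∧ ¬ Adj6 j l) ∨ (Adj6 j l ∧ ¬ Adj6 i l)) := by
  decide

theorem adj_neighbour : ∀ J : Fin 6, J = 3 ∨ J = 5 → ∀ j : Fin 6, j ≠ J →
    ∃ k : Fin 6, k ≠ J ∧ k ≠ j ∧ Adj6 j k := by
  decide

/-! ### Commutation in the projective reflection group -/

variable {Q : QuadraticForm (ZMod 3) (Fin 6 → ZMod 3)} {c : ZMod 3}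

/-- The image of a vector. -/
noncomputable def reflR (Q : QuadraticForm (ZMod 3) (Fin 6 → ZMod 3)) (c : ZMod 3) (v : Fin 6 → ZMod 3)
    (hv : Q v = c) : ↥(Cfsg.reflectionSubgroup (⇑Q) c) :=
  ⟨(isoGroupEquiv Q).symm (refl Q v),
    Subgroup.subset_closure ((mem_norm_iff c _).mpr ⟨v, hv, MulEquiv.apply_symm_apply _ _⟩)⟩

theorem commute_of_quot {R : Type*} [Group R] {D : Set R} (hD : Cfsg.IsThreeTranspositionSet D) {r s : R}
    (hr : r ∈ D) (hs : s ∈ D)
    (h : Commute (QuotientGroup.mk' (Subgroup.center R) r) (QuotientGroup.mk' (Subgroup.center R) s)) :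
    Commute r s := by
  have r2 : r * r = 1 := by rw [← pow_two, ← hD.1 r hr, pow_orderOf_eq_one]
  have s2 : s * s = 1 := by rw [← pow_two, ← hD.1 s hs, pow_orderOf_eq_one]
  by_contra hne
  rcases hD.2 r hr s hs with e | e
  · refine hne ?_
    rw [pow_two] at e
    have e' := inv_eq_of_mul_eq_one_right e
    rw [mul_inv_rev, inv_eq_of_mul_eq_one_right r2, inv_eq_of_mul_eq_one_right s2] at e'
    exact e'.symm
  · have hz0 : r * s ∈ Subgroup.center R := by
      rw [← QuotientGroup.ker_mk' (Subgroup.center R), MonoidHom.mem_ker]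
      generalize QuotientGroup.mk' (Subgroup.center R) = π at h ⊢
      have h2 : π (r * s) * π (r * s) = 1 := by
        rw [map_mul, ← pow_two, h.mul_pow, pow_two, pow_two, ← map_mul, ← map_mul, r2, s2, map_one, one_mul]
      have e3 : π (r * s) ^ 3 = 1 := by rw [← map_pow, e, map_one]
      rwa [pow_succ, pow_two, h2, one_mul] at e3
    have hz := Subgroup.mem_center_iff.1 hz0 r
    rw [← mul_assoc, r2, one_mul] at hz
    refine hne ?_
    show r * s = s * r
    calc r * s = r * (r * s * r) := by rw [← hz]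
      _ = (r * r) * (s * r) := by group
      _ = s * r := by rw [r2, one_mul]

theorem proj_commute_iff (hQ : (polarBilin Q).Nondegenerate) (hc : c ≠ 0)
    {r s : ↥(Cfsg.reflectionSubgroup (⇑Q) c)} (hr : r ∈ rclass Q c) (hs : s ∈ rclass Q c) :
    Commute (QuotientGroup.mk' (Subgroup.center ↥(Cfsg.reflectionSubgroup (⇑Q) c)) r)
      (QuotientGroup.mk' (Subgroup.center ↥(Cfsg.reflectionSubgroup (⇑Q) c)) s) ↔ Commute r s :=
  ⟨fun h => commute_of_quot (rclass_class hQ (by norm_num) hc).1 hr hs h, fun h => h.map _⟩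

set_option maxHeartbeats 800000 in
theorem reflR_commute_iff (hQ : (polarBilin Q).Nondegenerate) (hc : c ≠ 0) {u v : Fin 6 → ZMod 3}
    (hu : Q u = c) (hv : Q v = c) (h1 : v ≠ u) (h2 : v ≠ -u) :
    Commute (QuotientGroup.mk' (Subgroup.center ↥(Cfsg.reflectionSubgroup (⇑Q) c)) (reflR Q c u hu))
      (QuotientGroup.mk' (Subgroup.center ↥(Cfsg.reflectionSubgroup (⇑Q) c)) (reflR Q c v hv)) ↔
      polar Q u v = 0 := by
  rw [proj_commute_iff hQ hc (by exact (mem_norm_iff c _).mpr ⟨u, hu, MulEquiv.apply_symm_apply _ _⟩)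
    (by exact (mem_norm_iff c _).mpr ⟨v, hv, MulEquiv.apply_symm_apply _ _⟩),
    ← CfsgLib.ReflThree.commute_iff (hu ▸ hc) (hv ▸ hc) h1 h2]
  constructor
  · intro h
    have := (h.map (Cfsg.reflectionSubgroup (⇑Q) c).subtype).map (isoGroupEquiv Q).toMonoidHom
    simpa [reflR] using this
  · intro h
    exact Subtype.ext (h.map (isoGroupEquiv Q).symm.toMonoidHom).eq

theorem rclass_eq_reflR (r : ↥(Cfsg.reflectionSubgroup (⇑Q) c)) (hr : r ∈ rclass Q c) :
    ∃ v hv, r = reflR Q c v hv := by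
  obtain ⟨v, hv, e⟩ := (mem_norm_iff c _).mp hr
  exact ⟨v, hv, Subtype.ext ((MulEquiv.eq_symm_apply _).2 e)⟩

/-! ### The identification -/

variable {G : Type*} [Group G] [Finite G] {D : Set G} (h : Geo22 D)

include h

/-- If two members have commuting conjugate, they commute. -/
theorem commute_of_conj {k p : G} (hk : k ∈ D) (hp : p ∈ D) (hc : Commute (k * p * k) p) : Commute k p := by
  by_contra hne
  refine hne ?_
  have hc' := hc.eq
  rw [braid0 h.tt hk hp hne] at hc'
  rw [mul_assoc (p * k) p p, h.tt.sq p hp, mul_one, ← mul_assoc, ← mul_assoc, h.tt.sq p hp, one_mul] at hc'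
  exact hc'.symm

theorem conj_list {k x : G} {l : List G} (hk : k ∈ D) (hkx : k * x * k = x) (hl : l.prod = x) :
    (l.map fun p => k * p * k).prod = x := by
  have e : (fun p => k * p * k) = ⇑(MulAut.conj k).toMonoidHom := by
    funext p
    show k * p * k = k * p * k⁻¹
    rw [h.tt.inv hk]
  rw [e, ← map_list_prod, hl]
  show k * x * k⁻¹ = x
  rw [h.tt.inv hk, hkx]

/-- The members of a factorisation of an element fixed by a member commute with it. -/
theorem facs_commute {m : ℕ} (hm : m = 2 ∨ m = 3) {x k : G} (hk : k ∈ D) (hkx : k * x * k = x) {l : List G}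
    (hl : l.Nodup ∧ l.length = m ∧ (∀ a ∈ l, a ∈ D) ∧ (∀ a ∈ l, ∀ b ∈ l, Commute a b)) (hx : l.prod = x) :
    ∀ p ∈ l, Commute k p := by
  classical
  intro p hp
  refine commute_of_conj h hk (hl.2.2.1 p hp) ?_
  set l' := l.map fun p => k * p * k
  have hl' : l'.Nodup ∧ l'.length = m ∧ (∀ a ∈ l', a ∈ D) ∧ (∀ a ∈ l', ∀ b ∈ l', Commute a b) := by
    refine ⟨hl.1.map fun a b e => ?_, by rw [List.length_map]; exact hl.2.1, fun a ha => ?_, fun a ha b hb => ?_⟩
    · exact mul_left_cancel (mul_right_cancel e)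
    · obtain ⟨q, hq, rfl⟩ := List.mem_map.1 ha
      have := h.tt.conj k q (hl.2.2.1 q hq)
      rwa [h.tt.inv hk] at this
    · obtain ⟨q, hq, rfl⟩ := List.mem_map.1 ha
      obtain ⟨r, hr, rfl⟩ := List.mem_map.1 hb
      have := (commute_conj_iff k q r).2 (hl.2.2.2 q hq r hr)
      rwa [h.tt.inv hk] at this
  have hpl : k * p * k ∈ l' := List.mem_map.2 ⟨p, hp, rfl⟩
  have hprod : l'.prod = l.prod := (conj_list h hk hkx hx).trans hx.symm
  rcases hm with rfl | rfl
  · exact hl.2.2.2 _ ((uniq_two h.tt h.twinFree h.ne_one hl' hl hprod _).1 hpl) p hp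
  · rcases triple_eq_or_disjoint h.tt h.twinFree h.ne_one hl' hl hprod with e | e
    · exact hl.2.2.2 _ ((e _).1 hpl) p hp
    · exact e.2 _ hpl p hp

theorem tri_closed {g f : G} {k : G} (hk : k ∈ Subgroup.centralizer ({g, f} : Set G)) {y : G}
    (hy : y ∈ tri D g f) : k * y * k⁻¹ ∈ tri D g f := by
  rw [Subgroup.mem_centralizer_iff] at hk
  have hkg : k * g * k⁻¹ = g := by rw [← (hk g (by simp)), mul_inv_cancel_right]
  have hkf : k * f * k⁻¹ = f := by rw [← (hk f (by simp)), mul_inv_cancel_right]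
  have := (tri_map h (a := g) (d := f) k).subset ⟨y, hy, rfl⟩
  rwa [hkg, hkf] at this

/-- The common neighbours of a far pair form one class of their group. -/
theorem tri_transitive {g f : G} (hg : g ∈ D) (hf : f ∈ D) (hgf : ¬ Commute g f) {t y : G} (ht : t ∈ tri D g f)
    (hy : y ∈ tri D g f) : ∃ k ∈ Subgroup.closure (tri D g f), k * t * k⁻¹ = y := by
  classical
  have step : ∀ {u v : G}, u ∈ tri D g f → v ∈ tri D g f → ¬ Commute u v →
      ∃ k ∈ Subgroup.closure (tri D g f), k * u * k⁻¹ = v := by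
    intro u v hu hv huv
    refine ⟨u * v, mul_mem (Subgroup.subset_closure hu) (Subgroup.subset_closure hv), ?_⟩
    rw [mul_inv_rev, h.tt.inv hu.1.1, h.tt.inv hv.1.1, braid0 h.tt hu.1.1 hv.1.1 huv]
    calc v * u * v * (v * u) = v * u * (v * v) * u := by group
      _ = v := by rw [h.tt.sq v hv.1.1, mul_one, mul_assoc, h.tt.sq u hu.1.1, mul_one]
  by_cases hc : Commute t y
  · by_cases he : t = y
    · exact ⟨1, one_mem _, by simp [he]⟩
    haveI := Fintype.ofFinite G
    obtain ⟨z, hz, htz, hyz⟩ : ∃ z ∈ tri D g f, ¬ Commute z t ∧ ¬ Commute z y := by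
      by_contra hno
      simp only [not_exists, not_and, not_not] at hno
      have hsub : tri D g f ⊆ insert t {z | z ∈ tri D g f ∧ z ≠ t ∧ Commute z t} ∪
          {z | z ∈ tri D g f ∧ z ≠ y ∧ Commute z y ∧ ¬ Commute z t} := by
        intro z hz
        by_cases hzt : Commute z t
        · left
          by_cases e : z = t
          · exact Or.inl e
          · exact Or.inr ⟨hz, e, hzt⟩
        · right
          exact ⟨hz, fun e => hzt (e ▸ hc.symm), hno z hz hzt, hzt⟩
      have h1 := Set.ncard_le_ncard hsub (Set.toFinite _)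
      have h2 := tri_inner h hg hf hgf ht
      have h3 := tri_outer h hg hf hgf ht hy (Ne.symm he) hc.symm
      have h4 := (tri_card h).1 g hg f hf hgf
      have h5 := Set.ncard_union_le (insert t {z | z ∈ tri D g f ∧ z ≠ t ∧ Commute z t})
        {z | z ∈ tri D g f ∧ z ≠ y ∧ Commute z y ∧ ¬ Commute z t}
      have h6 := Set.ncard_insert_le t {z | z ∈ tri D g f ∧ z ≠ t ∧ Commute z t}
      omega
    obtain ⟨k, hk, e⟩ := step ht hz (fun e => htz e.symm)
    obtain ⟨k', hk', e'⟩ := step hz hy hyz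
    exact ⟨k' * k, mul_mem hk' hk, by rw [← e', ← e]; group⟩
  · exact step ht hy hc

set_option maxHeartbeats 1600000 in
/-- The reflection images are the common neighbours. -/
theorem exists_refl_model (hp : Cfsg.IsPrimitiveUnderConj D) (ht : Cfsg.IsOfTypeM22 G D) {g f : G} (hg : g ∈ D)
    (hf : f ∈ D) (hgf : ¬ Commute g f) :
    ∃ (c : ZMod 3) (Q : QuadraticForm (ZMod 3) (Fin 6 → ZMod 3)), c ≠ 0 ∧ (polarBilin Q).Nondegenerate ∧
      Cfsg.polarGramDet (⇑Q) = 1 ∧ ∃ F : (Fin 6 → ZMod 3) → G,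
        (∀ v, Q v = c → F v ∈ tri D g f) ∧ (∀ y ∈ tri D g f, ∃ v, Q v = c ∧ F v = y) ∧
        (∀ v, Q v = c → F (-v) = F v) ∧
        ∀ u v, Q u = c → Q v = c → v ≠ u → v ≠ -u → (F u ≠ F v ∧ (Commute (F u) (F v) ↔ polar Q u v = 0)) := by
  classical
  haveI := Fintype.ofFinite G
  obtain ⟨hKC, -, c, hc, Q, hQ, hd, ⟨e⟩⟩ := pair_centralizer h hp ht hg hf hgf
  set K := Subgroup.closure (tri D g f)
  set R := Cfsg.reflectionSubgroup (⇑Q) c
  set π := QuotientGroup.mk' (Subgroup.center ↥R)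
  let F : (Fin 6 → ZMod 3) → G := fun v => if hv : Q v = c then ((e.symm (π (reflR Q c v hv)) : ↥K) : G) else 1
  have hF : ∀ v (hv : Q v = c), F v = ((e.symm (π (reflR Q c v hv)) : ↥K) : G) := fun v hv => dif_pos hv
  have hFc : ∀ u v (hu : Q u = c) (hv : Q v = c), v ≠ u → v ≠ -u → (Commute (F u) (F v) ↔ polar Q u v = 0) := by
    intro u v hu hv h1 h2
    rw [hF u hu, hF v hv, ← reflR_commute_iff hQ hc hu hv h1 h2]
    constructor
    · intro q
      have q' : Commute (e.symm (π (reflR Q c u hu))) (e.symm (π (reflR Q c v hv))) := Subtype.ext q.eq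
      have q2 := q'.map e
      rwa [e.apply_symm_apply, e.apply_symm_apply] at q2
    · intro q
      exact ((q.map e.symm).map K.subtype)
  have hFinj : ∀ u v, Q u = c → Q v = c → v ≠ u → v ≠ -u → F u ≠ F v := by
    intro u v hu hv h1 h2 q
    rw [hF u hu, hF v hv] at q
    have q1 : π (reflR Q c u hu) = π (reflR Q c v hv) := e.symm.injective (Subtype.ext q)
    have hz : (reflR Q c u hu)⁻¹ * reflR Q c v hv ∈ Subgroup.center ↥R := QuotientGroup.eq.1 q1
    have hpolar : polar Q u v = 0 := (reflR_commute_iff hQ hc hu hv h1 h2).1 (by rw [q1])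
    have ht0 : isoGroupEquiv Q (((reflR Q c u hu)⁻¹ * reflR Q c v hv : ↥R) : Cfsg.isometryGroup (ZMod 3) (⇑Q)) =
        refl Q u * refl Q v := by
      simp [reflR, refl_inv]
    have hfr : 5 ≤ Module.finrank (ZMod 3) (Fin 6 → ZMod 3) := by rw [Module.finrank_fin_fun]; norm_num
    obtain ⟨a, -, ha⟩ := scalar_of_commute hQ hfr (refl Q u * refl Q v) fun t ht' => by
      obtain ⟨r, hr, rfl⟩ := (map_reflectionSubgroup c).ge (commutator_le_closure hQ (by norm_num) hc ht')
      rw [← ht0]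
      show isoGroupEquiv Q r * _ = _ * isoGroupEquiv Q r
      rw [← map_mul, ← map_mul]
      exact congrArg _ (congrArg Subtype.val (Subgroup.mem_center_iff.1 hz ⟨r, hr⟩))
    obtain ⟨z, hz1, hz0⟩ := exists_aniso_perp hQ (U := Submodule.span (ZMod 3) (Set.range ![u, v]))
      (le_trans (Nat.mul_le_mul_left 2 ((finrank_range_le_card _).trans (le_of_eq (Fintype.card_fin 2)))) (by
        rw [Module.finrank_fin_fun]; norm_num))
      (Submodule.subset_span ⟨0, rfl⟩) (hu ▸ hc)
    have huz : polar Q z u = 0 := by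
      rw [polar_comm]; exact hz1 u (Submodule.subset_span ⟨0, rfl⟩)
    have hvz : polar Q z v = 0 := by
      rw [polar_comm]; exact hz1 v (Submodule.subset_span ⟨1, rfl⟩)
    have ez := ha z
    change (refl Q u).1 ((refl Q v).1 z) = a • z at ez
    rw [refl_fix hvz, refl_fix huz] at ez
    have ha1 : a = 1 := by
      by_contra hne
      have : (a - 1) • z = 0 := by rw [sub_smul, one_smul, ← ez, sub_self]
      exact hz0 (by rw [(smul_eq_zero.1 this).resolve_left (sub_ne_zero.2 hne), QuadraticMap.map_zero])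
    have eu := ha u
    change (refl Q u).1 ((refl Q v).1 u) = a • u at eu
    rw [refl_fix hpolar, refl_self (hu ▸ hc), ha1, one_smul] at eu
    refine hc ?_
    have : (2 : ZMod 3) • u = 0 := by rw [two_smul]; exact eq_neg_iff_add_eq_zero.1 eu.symm
    rw [← hu, (smul_eq_zero.1 this).resolve_left two_ne, QuadraticMap.map_zero]
  have hFneg : ∀ v, Q v = c → F (-v) = F v := by
    intro v hv
    have hn : Q (-v) = c := by rw [QuadraticMap.map_neg, hv]
    rw [hF v hv, hF (-v) hn]
    have e1 : reflR Q c (-v) hn = reflR Q c v hv := by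
      refine Subtype.ext ?_
      show (isoGroupEquiv Q).symm (refl Q (-v)) = (isoGroupEquiv Q).symm (refl Q v)
      rw [← neg_one_smul (ZMod 3) v, refl_smul (by decide)]
    rw [e1]
  -- the image class
  set S : Set G := F '' {v | Q v = c} with hSdef
  have hSK : ∀ x ∈ S, x ∈ K := by rintro _ ⟨v, hv, rfl⟩; rw [hF v hv]; exact SetLike.coe_mem _
  have hSinv : ∀ x ∈ S, x * x = 1 := by
    rintro _ ⟨v, hv, rfl⟩
    rw [hF v hv, ← Subgroup.coe_mul, ← map_mul, ← map_mul]
    have : reflR Q c v hv * reflR Q c v hv = 1 :=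
      Subtype.ext ((isoGroupEquiv Q).injective (by
        show isoGroupEquiv Q ((isoGroupEquiv Q).symm (refl Q v) * (isoGroupEquiv Q).symm (refl Q v)) = isoGroupEquiv Q 1
        rw [map_mul, map_one, MulEquiv.apply_symm_apply, refl_mul_self]))
    rw [this, map_one, map_one, Subgroup.coe_one]
  have hSconj : ∀ k ∈ K, ∀ x ∈ S, k * x * k⁻¹ ∈ S := by
    rintro k hk _ ⟨v, hv, rfl⟩
    obtain ⟨r, hr⟩ := QuotientGroup.mk'_surjective (Subgroup.center ↥R) (e ⟨k, hk⟩)
    set T := isoGroupEquiv Q (r : Cfsg.isometryGroup (ZMod 3) (⇑Q))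
    have hTv : Q (T.1 v) = c := (T.2 v).trans hv
    refine ⟨T.1 v, hTv, ?_⟩
    have hr' : r * reflR Q c v hv * r⁻¹ = reflR Q c (T.1 v) hTv := by
      refine Subtype.ext ((isoGroupEquiv Q).injective ?_)
      simp only [reflR, Subgroup.coe_mul, Subgroup.coe_inv, map_mul, map_inv, MulEquiv.apply_symm_apply]
      exact refl_conj T v
    rw [hF _ hTv, hF v hv, ← hr', map_mul, map_mul, map_inv, map_mul, map_mul, map_inv, hr, e.symm_apply_apply]
    simp
  have hStrans : ∀ x ∈ S, ∀ y ∈ S, ∃ k ∈ K, k * x * k⁻¹ = y := by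
    rintro _ ⟨u, hu, rfl⟩ _ ⟨v, hv, rfl⟩
    obtain ⟨T, hT, eT⟩ := conj_within hQ (by norm_num) hc hu hv
    rw [← map_reflectionSubgroup] at hT
    obtain ⟨r, hr, rfl⟩ := hT
    refine ⟨((e.symm (π ⟨r, hr⟩) : ↥K) : G), SetLike.coe_mem _, ?_⟩
    have hr' : (⟨r, hr⟩ : ↥R) * reflR Q c u hu * (⟨r, hr⟩ : ↥R)⁻¹ = reflR Q c v hv := by
      refine Subtype.ext ((isoGroupEquiv Q).injective ?_)
      simp only [reflR, Subgroup.coe_mul, Subgroup.coe_inv, map_mul, map_inv, MulEquiv.apply_symm_apply]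
      exact eT
    rw [hF u hu, hF v hv, ← hr']
    simp
  have hS126 : S.ncard ≤ 126 := by
    obtain ⟨g₀, hg₀⟩ := chain_isometry hQ hd hc
    set V : Finset (Fin 6 → ZMod 3) := Finset.univ.filter fun v => Q v = c
    have hV : V.card ≤ 252 := by
      refine le_trans (Finset.card_le_card_of_injOn (fun v => g₀ v) (fun v hv => ?_) (g₀.injective.injOn))
        (chain_values c hc)
      simp only [V, Finset.coe_filter, Finset.mem_univ, true_and, Set.mem_setOf_eq] at hv ⊢
      rw [← chainForm_coe, hg₀, hv]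
    have hS : S = ↑(V.image F) := by ext x; simp [hSdef, V]
    rw [hS, Set.ncard_coe_finset]
    have hfib : ∀ x ∈ V.image F, 2 ≤ (V.filter fun v => F v = x).card := by
      intro x hx
      obtain ⟨v, hv, rfl⟩ := Finset.mem_image.1 hx
      have hv' : Q v = c := (Finset.mem_filter.1 hv).2
      have hv0 : v ≠ -v := fun q => hc (by
        have h0 : Q v = Q (-v) := congrArg _ q
        have : (2 : ZMod 3) • v = 0 := by rw [two_smul]; exact eq_neg_iff_add_eq_zero.1 q
        rw [(smul_eq_zero.1 this).resolve_left two_ne, QuadraticMap.map_zero] at hv'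
        exact hv'.symm)
      refine le_trans (le_of_eq (Finset.card_pair hv0).symm) (Finset.card_le_card fun w hw => ?_)
      simp only [Finset.mem_insert, Finset.mem_singleton] at hw
      rcases hw with rfl | rfl
      · simp [V, hv']
      · have hn : Q (-v) = c := by rw [QuadraticMap.map_neg, hv']
        exact Finset.mem_filter.2 ⟨by simp [V, hn], hFneg v hv'⟩
    have h2 := Finset.card_eq_sum_card_image F V
    have h3 : (V.image F).card • 2 ≤ V.card := h2.symm ▸ Finset.card_nsmul_le_sum _ _ _ hfib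
    rw [smul_eq_mul] at h3
    omega
  have hS0 : S.Nonempty := by
    obtain ⟨v, hv⟩ := exists_value hQ two_ne (by rw [Module.finrank_fin_fun]; norm_num) c
    exact ⟨F v, v, hv, rfl⟩
  -- some image is a common neighbour
  have hmeet : ∃ x ∈ S, x ∈ tri D g f := by
    by_contra hno
    simp only [not_exists, not_and] at hno
    have hS1 : ∀ x ∈ S, x ≠ 1 := by
      rintro _ ⟨v, hv, rfl⟩ q
      obtain ⟨w₁, w₂, hw1, hw2, hw⟩ := exists_noncomm hQ (by norm_num : 5 ≤ 6) hc
      obtain ⟨k, hk, ek⟩ := hStrans (F v) ⟨v, hv, rfl⟩ (F w₁) ⟨w₁, hw1, rfl⟩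
      obtain ⟨k', hk', ek'⟩ := hStrans (F v) ⟨v, hv, rfl⟩ (F w₂) ⟨w₂, hw2, rfl⟩
      rw [q, mul_one, mul_inv_cancel] at ek ek'
      exact hFinj w₁ w₂ hw1 hw2 (fun e' => hw (by rw [e'])) (fun e' => hw (by
        rw [e', ← neg_one_smul (ZMod 3) w₁, refl_smul (by decide)])) (ek.symm.trans ek')
    have hfacs : ∀ x ∈ S, ∃ l : List G, (l.length = 2 ∨ l.length = 3) ∧
        (l.Nodup ∧ (∀ a ∈ l, a ∈ tri D g f) ∧ ∀ a ∈ l, ∀ b ∈ l, Commute a b) ∧ l.prod = x := by
      intro x hx
      obtain ⟨m, h1, h3, l, hn, hlen, hD', hcm, hprod⟩ := invol_short h hp ht (hSinv x hx) (hS1 x hx)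
      have hfix : ∀ k ∈ ({g, f} : Set G), k ∈ D ∧ k * x * k = x := by
        intro k hk
        have hkD : k ∈ D := by rcases hk with rfl | rfl <;> assumption
        refine ⟨hkD, ?_⟩
        have := Subgroup.mem_centralizer_iff.1 (hKC ▸ hSK x hx) k hk
        rw [this, mul_assoc, h.tt.sq k hkD, mul_one]
      by_cases hm1 : m = 1
      · exfalso
        subst hm1
        obtain ⟨p, rfl⟩ := List.length_eq_one_iff.1 hlen
        simp only [List.prod_cons, List.prod_nil, mul_one] at hprod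
        subst hprod
        have hcg : Commute g p := Subgroup.mem_centralizer_iff.1 (hKC ▸ hSK p hx) g (by simp)
        have hcf : Commute f p := Subgroup.mem_centralizer_iff.1 (hKC ▸ hSK p hx) f (by simp)
        exact hno p hx ⟨⟨hD' p (by simp), fun e' => hgf (e' ▸ hcf).symm, hcg⟩, hcf.symm⟩
      have hm : m = 2 ∨ m = 3 := by omega
      refine ⟨l, hlen ▸ hm, ⟨hn, fun p hp' => ?_, hcm⟩, hprod⟩
      have hcg := facs_commute h hm hg (hfix g (by simp)).2 ⟨hn, hlen, hD', hcm⟩ hprod p hp'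
      have hcf := facs_commute h hm hf (hfix f (by simp)).2 ⟨hn, hlen, hD', hcm⟩ hprod p hp'
      exact ⟨⟨hD' p hp', fun e' => hgf (e' ▸ hcf).symm, hcg⟩, hcf.symm⟩
    -- ordered pairs inside one factorisation
    let Pairs : G → Set (G × G) := fun x => {p | ∃ l : List G, (l.length = 2 ∨ l.length = 3) ∧
      (l.Nodup ∧ (∀ a ∈ l, a ∈ tri D g f) ∧ ∀ a ∈ l, ∀ b ∈ l, Commute a b) ∧ l.prod = x ∧
      p.1 ∈ l ∧ p.2 ∈ l ∧ p.1 ≠ p.2}
    have hpairs : ∀ x ∈ S, (Pairs x).ncard ≤ 12 + 12 := by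
      intro x _
      have off : ∀ l : List G, l.length ≤ 3 → (↑l.toFinset.offDiag : Set (G × G)).ncard ≤ 6 := by
        intro l hl
        rw [Set.ncard_coe_finset, Finset.offDiag_card]
        have := List.toFinset_card_le l
        generalize l.toFinset.card = q at this
        have : q ≤ 3 := by omega
        interval_cases q <;> norm_num
      by_cases h2 : ∃ l₀ : List G, l₀.Nodup ∧ l₀.length = 2 ∧ (∀ a ∈ l₀, a ∈ D) ∧
          (∀ a ∈ l₀, ∀ b ∈ l₀, Commute a b) ∧ l₀.prod = x
      · by_cases h3 : ∃ l₀ : List G, Triple D l₀ ∧ l₀.prod = x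
        · obtain ⟨l₀, a1, a2, a3, a4, a5⟩ := h2
          obtain ⟨l₁, hl₁, b5⟩ := h3
          obtain ⟨u, v, hu, hv, -, hall⟩ := two_triples h.toSetup22 hl₁
          refine le_trans (Set.ncard_le_ncard (t := ↑l₀.toFinset.offDiag ∪ (↑u.toFinset.offDiag ∪ ↑v.toFinset.offDiag))
            ?_ (Set.toFinite _)) ?_
          · rintro ⟨p, q⟩ ⟨l, hlen, ⟨hn, hT, hcm⟩, hprod, hp', hq', hne⟩
            rcases hlen with hlen | hlen
            · left
              have := uniq_two h.tt h.twinFree h.ne_one ⟨hn, hlen, fun a ha => (hT a ha).1.1, hcm⟩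
                ⟨a1, a2, a3, a4⟩ (hprod.trans a5.symm)
              simp [(this p).1 hp', (this q).1 hq', hne]
            · right
              rcases hall l ⟨hn, hlen, fun a ha => (hT a ha).1.1, hcm⟩ (hprod.trans b5.symm) with q' | q'
              · left; simp [(q' p).1 hp', (q' q).1 hq', hne]
              · right; simp [(q' p).1 hp', (q' q).1 hq', hne]
          · have e1 := Set.ncard_union_le (↑l₀.toFinset.offDiag : Set (G × G)) (↑u.toFinset.offDiag ∪ ↑v.toFinset.offDiag)
            have e2 := Set.ncard_union_le (↑u.toFinset.offDiag : Set (G × G)) ↑v.toFinset.offDiag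
            have := off l₀ (by omega)
            have := off u (by rw [hu.1.2.1])
            have := off v (by rw [hv.1.2.1])
            omega
        · obtain ⟨l₀, a1, a2, a3, a4, a5⟩ := h2
          refine le_trans (Set.ncard_le_ncard (t := ↑l₀.toFinset.offDiag) ?_ (Set.toFinite _))
            ((off l₀ (by omega)).trans (by norm_num))
          rintro ⟨p, q⟩ ⟨l, hlen, ⟨hn, hT, hcm⟩, hprod, hp', hq', hne⟩
          rcases hlen with hlen | hlen
          · have := uniq_two h.tt h.twinFree h.ne_one ⟨hn, hlen, fun a ha => (hT a ha).1.1, hcm⟩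
              ⟨a1, a2, a3, a4⟩ (hprod.trans a5.symm)
            simp [(this p).1 hp', (this q).1 hq', hne]
          · exact absurd ⟨l, ⟨hn, hlen, fun a ha => (hT a ha).1.1, hcm⟩, hprod⟩ h3
      · by_cases h3 : ∃ l₀ : List G, Triple D l₀ ∧ l₀.prod = x
        · obtain ⟨l₁, hl₁, b5⟩ := h3
          obtain ⟨u, v, hu, hv, -, hall⟩ := two_triples h.toSetup22 hl₁
          refine le_trans (Set.ncard_le_ncard (t := ↑u.toFinset.offDiag ∪ ↑v.toFinset.offDiag) ?_ (Set.toFinite _)) ?_
          · rintro ⟨p, q⟩ ⟨l, hlen, ⟨hn, hT, hcm⟩, hprod, hp', hq', hne⟩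
            rcases hlen with hlen | hlen
            · exact absurd ⟨l, hn, hlen, fun a ha => (hT a ha).1.1, hcm, hprod⟩ h2
            · rcases hall l ⟨hn, hlen, fun a ha => (hT a ha).1.1, hcm⟩ (hprod.trans b5.symm) with q' | q'
              · left; simp [(q' p).1 hp', (q' q).1 hq', hne]
              · right; simp [(q' p).1 hp', (q' q).1 hq', hne]
          · have e2 := Set.ncard_union_le (↑u.toFinset.offDiag : Set (G × G)) ↑v.toFinset.offDiag
            have := off u (by rw [hu.1.2.1])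
            have := off v (by rw [hv.1.2.1])
            omega
        · refine le_trans (Set.ncard_le_ncard (t := (∅ : Set (G × G))) ?_ (Set.toFinite _)) (by simp)
          rintro ⟨p, q⟩ ⟨l, hlen, ⟨hn, hT, hcm⟩, hprod, -⟩
          rcases hlen with hlen | hlen
          · exact absurd ⟨l, hn, hlen, fun a ha => (hT a ha).1.1, hcm, hprod⟩ h2
          · exact absurd ⟨l, ⟨hn, hlen, fun a ha => (hT a ha).1.1, hcm⟩, hprod⟩ h3
    set P : Set (G × G) := ⋃ x ∈ S, Pairs x
    have hP : P.ncard ≤ 126 * 24 := by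
      have h1 : P = ⋃ x ∈ (Set.toFinite S).toFinset, Pairs x := by simp [P]
      rw [h1]
      refine le_trans (Finset.set_ncard_biUnion_le _ _) ?_
      refine le_trans (Finset.sum_le_card_nsmul _ _ 24 fun x hx => hpairs x (by simpa using hx)) ?_
      rw [smul_eq_mul]
      exact Nat.mul_le_mul_right _ (by rw [← Set.ncard_eq_toFinset_card S]; exact hS126)
    -- conjugation invariance and equal fibres
    have hPconj : ∀ k ∈ K, ∀ p ∈ P, (k * p.1 * k⁻¹, k * p.2 * k⁻¹) ∈ P := by
      intro k hk p hp'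
      simp only [P, Set.mem_iUnion] at hp' ⊢
      obtain ⟨x, hx, l, hlen, ⟨hn, hT, hcm⟩, hprod, h1, h2, hne⟩ := hp'
      refine ⟨k * x * k⁻¹, hSconj k hk x hx, l.map (MulAut.conj k), by rw [List.length_map]; exact hlen,
        ⟨hn.map (MulAut.conj k).injective, fun a ha => ?_, fun a ha b hb => ?_⟩, ?_,
        List.mem_map.2 ⟨_, h1, rfl⟩, List.mem_map.2 ⟨_, h2, rfl⟩, fun q => hne (mul_left_cancel (mul_right_cancel q))⟩
      · obtain ⟨a, ha', rfl⟩ := List.mem_map.1 ha
        exact tri_closed h (hKC ▸ hk) (hT a ha')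
      · obtain ⟨a, ha', rfl⟩ := List.mem_map.1 ha
        obtain ⟨b, hb', rfl⟩ := List.mem_map.1 hb
        exact (hcm a ha' b hb').map (MulAut.conj k)
      · rw [← map_list_prod, hprod]; rfl
    set Qt : G → Set G := fun t => {q | (t, q) ∈ P}
    have hfibre : ∀ t ∈ tri D g f, ∀ y ∈ tri D g f, (Qt t).ncard ≤ (Qt y).ncard := by
      intro t ht' y hy
      obtain ⟨k, hk, rfl⟩ := tri_transitive h hg hf hgf ht' hy
      exact Set.ncard_le_ncard_of_injOn (fun q => k * q * k⁻¹) (fun q hq => hPconj k hk _ hq)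
        (fun a _ b _ q => mul_left_cancel (mul_right_cancel q)) (Set.toFinite _)
    -- one element with a large fibre
    obtain ⟨x₀, hx₀⟩ := hS0
    obtain ⟨l, hlen, ⟨hn, hT, hcm⟩, hprod⟩ := hfacs x₀ hx₀
    obtain ⟨t, q, r, rfl⟩ : ∃ t q r, l = t :: q :: r := by
      match l, hlen with
      | t :: q :: r, _ => exact ⟨t, q, r, rfl⟩
    have htT := hT t (by simp)
    have hqT := hT q (by simp)
    have htq : t ≠ q := fun e' => by simp [e'] at hn
    have hqQ : q ∈ Qt t := by
      show (t, q) ∈ P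
      simp only [P, Set.mem_iUnion]
      exact ⟨x₀, hx₀, t :: q :: r, hlen, ⟨hn, hT, hcm⟩, hprod, by simp, by simp, htq⟩
    have hbig : insert q {y | y ∈ tri D g f ∧ y ≠ t ∧ Commute y t ∧ ¬ Commute y q} ⊆ Qt t := by
      rintro y (rfl | ⟨hy, hyt, hyc, hyq⟩)
      · exact hqQ
      have hk : q * y ∈ K := mul_mem (Subgroup.subset_closure hqT) (Subgroup.subset_closure hy)
      have hqt : Commute q t := hcm q (by simp) t (by simp)
      have := hPconj _ hk (t, q) hqQ
      have e1 : q * y * t * (q * y)⁻¹ = t := by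
        rw [((hqt.mul_left hyc).eq), mul_inv_cancel_right]
      have e2 : q * y * q * (q * y)⁻¹ = y := by
        rw [mul_inv_rev, h.tt.inv hy.1.1, h.tt.inv hqT.1.1, braid0 h.tt hqT.1.1 hy.1.1 (fun q' => hyq q'.symm)]
        calc y * q * y * (y * q) = y * q * (y * y) * q := by group
          _ = y := by rw [h.tt.sq y hy.1.1, mul_one, mul_assoc, h.tt.sq q hqT.1.1, mul_one]
      simp only [e1, e2] at this
      exact this
    have h32 := tri_outer h hg hf hgf hqT htT htq (hcm t (by simp) q (by simp))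
    have h33 : 33 ≤ (Qt t).ncard := by
      refine le_trans ?_ (Set.ncard_le_ncard hbig (Set.toFinite _))
      rw [Set.ncard_insert_of_notMem (fun hm => hm.2.2.2 (Commute.refl q)), h32]
    have hsum : 126 * 33 ≤ P.ncard := by
      have hT126 := (tri_card h).1 g hg f hf hgf
      set TF := (Set.toFinite (tri D g f)).toFinset
      have hTF : TF.card = 126 := by rw [← hT126, Set.ncard_eq_toFinset_card]
      set PF := (Set.toFinite P).toFinset
      rw [Set.ncard_eq_toFinset_card P]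
      have hmaps : ∀ p ∈ PF, p.1 ∈ TF := by
        intro p hp'
        simp only [PF, TF, Set.Finite.mem_toFinset, P, Set.mem_iUnion] at hp' ⊢
        obtain ⟨x, -, l', -, ⟨-, hT', -⟩, -, h1, -⟩ := hp'
        exact hT' _ h1
      rw [Finset.card_eq_sum_card_fiberwise hmaps, ← hTF]
      refine le_trans (le_of_eq (smul_eq_mul _ _).symm) (Finset.card_nsmul_le_sum _ _ _ fun y hy => ?_)
      have hy' : y ∈ tri D g f := (Set.Finite.mem_toFinset _).1 hy
      refine le_trans h33 (le_trans (hfibre t htT y hy') ?_)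
      rw [← Set.ncard_coe_finset]
      refine Set.ncard_le_ncard_of_injOn (fun q => (y, q)) (fun q hq => ?_) (fun a _ b _ q => (Prod.ext_iff.1 q).2)
        (Set.toFinite _)
      exact Finset.mem_coe.2 (Finset.mem_filter.2 ⟨(Set.Finite.mem_toFinset _).2 hq, rfl⟩)
    omega
  obtain ⟨x, hxS, hxT⟩ := hmeet
  refine ⟨c, Q, hc, hQ, hd, F, fun v hv => ?_, fun y hy => ?_, hFneg, fun u v hu hv h1 h2 =>
    ⟨hFinj u v hu hv h1 h2, hFc u v hu hv h1 h2⟩⟩
  · obtain ⟨k, hk, e'⟩ := hStrans x hxS (F v) ⟨v, hv, rfl⟩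
    exact e' ▸ tri_closed h (hKC ▸ hk) hxT
  · obtain ⟨k, hk, e'⟩ := tri_transitive h hg hf hgf hxT hy
    obtain ⟨v, hv, ev⟩ := hSconj k hk x hxS
    exact ⟨v, hv, ev.trans e'⟩

/-- Six common neighbours in a chain. -/
theorem exists_chain (hp : Cfsg.IsPrimitiveUnderConj D) (ht : Cfsg.IsOfTypeM22 G D) {g f : G} (hg : g ∈ D)
    (hf : f ∈ D) (hgf : ¬ Commute g f) :
    ∃ w : Fin 6 → G, (∀ i, w i ∈ tri D g f) ∧ ∀ i j, i ≠ j → (Commute (w i) (w j) ↔ ¬ Adj6 i j) := by
  obtain ⟨c, Q, hc, hQ, hd, F, hF1, -, -, hF3⟩ := exists_refl_model h hp ht hg hf hgf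
  obtain ⟨g₀, hg₀⟩ := chain_isometry hQ hd hc
  have hv : ∀ i, Q (g₀.symm (Pi.single i 1)) = c := fun i => by
    rw [← hg₀, LinearEquiv.apply_symm_apply, chainForm_coe, chainVal_single]
  have hne : ∀ i j : Fin 6, i ≠ j → g₀.symm (Pi.single j 1) ≠ g₀.symm (Pi.single i 1) ∧
      g₀.symm (Pi.single j 1) ≠ -g₀.symm (Pi.single i 1) := by
    intro i j hij
    rw [ne_eq, ← map_neg, ne_eq, g₀.symm.injective.eq_iff, g₀.symm.injective.eq_iff]
    exact single_ne i j hij
  refine ⟨fun i => F (g₀.symm (Pi.single i 1)), fun i => hF1 _ (hv i), fun i j hij => ?_⟩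
  rw [(hF3 _ _ (hv i) (hv j) (hne i j hij).1 (hne i j hij).2).2]
  have e : ∀ u v, polar Q u v = polar (chainVal c) (g₀ u) (g₀ v) := fun u v => by
    simp only [polar, ← chainForm_coe, ← map_add g₀, hg₀]
  rw [e, LinearEquiv.apply_symm_apply, LinearEquiv.apply_symm_apply, chain_gram c hc, if_neg hij]
  by_cases ha : Adj6 i j <;> simp [ha, hc]

/-- No common neighbour extends a chain of six to seven members of shape `E₇`. -/
theorem no_seventh (hp : Cfsg.IsPrimitiveUnderConj D) (ht : Cfsg.IsOfTypeM22 G D) {g f : G} (hg : g ∈ D)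
    (hf : f ∈ D) (hgf : ¬ Commute g f) {w : Fin 6 → G} (hw : ∀ i, w i ∈ tri D g f)
    (hwc : ∀ i j, i ≠ j → (Commute (w i) (w j) ↔ ¬ Adj6 i j)) {J : Fin 6} (hJ : J = 3 ∨ J = 5) {x : G}
    (hx : x ∈ tri D g f) (hxc : ∀ j, j ≠ J → Commute x (w j)) (hxJ : ¬ Commute x (w J)) : False := by
  obtain ⟨c, Q, hc, hQ, hd, F, -, hF2, hF4, hF3⟩ := exists_refl_model h hp ht hg hf hgf
  choose v hv hFv using fun i => hF2 (w i) (hw i)
  obtain ⟨u, hu, hFu⟩ := hF2 x hx
  have hvne : ∀ i j, i ≠ j → w i ≠ w j := by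
    intro i j hij e
    rcases adj_separate i j hij with hk | ⟨l, hli, hlj, ⟨h1, h2⟩ | ⟨h1, h2⟩⟩
    · exact (hwc i j hij).1 (e ▸ Commute.refl (w i)) hk
    · exact (hwc i l hli.symm).1 (e ▸ (hwc j l hlj.symm).2 h2) h1
    · exact (hwc j l hlj.symm).1 (e ▸ (hwc i l hli.symm).2 h2) h1
  have hxw : ∀ j, x ≠ w j := by
    intro j e
    by_cases hj : j = J
    · exact hxJ (by rw [e, hj])
    · obtain ⟨k, hk⟩ := adj_neighbour J hJ j hj
      exact (hwc j k hk.2.1.symm).1 (e ▸ hxc k hk.1) hk.2.2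
  have sep : ∀ {a b : Fin 6 → ZMod 3}, Q a = c → F a ≠ F b → b ≠ a ∧ b ≠ -a := fun {a b} ha hab =>
    ⟨fun e => hab (by rw [e]), fun e => hab (by rw [e, hF4 a ha])⟩
  have hvv : ∀ i j, i ≠ j → v j ≠ v i ∧ v j ≠ -v i := fun i j hij =>
    sep (hv i) (by rw [hFv, hFv]; exact hvne i j hij)
  have hpol : ∀ i j, i ≠ j → (polar Q (v i) (v j) = 0 ↔ ¬ Adj6 i j) := fun i j hij => by
    rw [← (hF3 (v i) (v j) (hv i) (hv j) (hvv i j hij).1 (hvv i j hij).2).2, hFv, hFv]
    exact hwc i j hij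
  obtain ⟨T, hT, hTv⟩ := chain_frame hc v hv hpol
  refine chain_no_seventh c hc J hJ (T.symm u) ?_ fun j hj => ?_
  · rw [← chainForm_coe, ← hT, LinearEquiv.apply_symm_apply, hu]
  · have hs := sep (b := v j) hu (by rw [hFu, hFv]; exact hxw j)
    have hz : polar Q u (v j) = 0 :=
      (hF3 u (v j) hu (hv j) hs.1 hs.2).2.1 (by rw [hFu, hFv]; exact hxc j hj)
    have e : ∀ a b, polar Q (T a) (T b) = polar (chainVal c) a b := fun a b => by
      simp only [polar, ← chainForm_coe, ← map_add T, hT]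
    rw [← e, LinearEquiv.apply_symm_apply]
    rcases hTv j with q | q <;> rw [q]
    · exact hz
    · rw [polar_neg_right, hz, neg_zero]

end CfsgLib.ThreeT.Prod
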