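import Cfsg.Agent.Spor3T.M23FarOmega
import Cfsg.Agent.Spor3T.M23Invol
import Cfsg.Agent.Spor3T.TriRefl

/-!
Type M(23): in the joint centraliser of a non-commuting pair the reflections are common neighbours, so the
common neighbours contain the configuration of a form in seven dimensions.
-/

set_option autoImplicit false
set_option linter.unusedSectionVars false
set_option linter.style.haveILetI false
set_option maxRecDepth 100000

namespace CfsgLib.ThreeT.Prod

open QuadraticMap CfsgLib.Quad CfsgLib.ReflThree CfsgLib.Forms CfsgLib.QuadStd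

/-- A form on a tree of seven roots, as a function. -/
def treeVal (c : ZMod 3) (x : Fin 7 → ZMod 3) : ZMod 3 :=
  c * (x 0 * x 0 + x 1 * x 1 + x 2 * x 2 + x 3 * x 3 + x 4 * x 4 + x 5 * x 5 + x 6 * x 6 +
    (x 0 * x 1 + x 1 * x 2 + x 2 * x 3 + x 3 * x 4 + x 3 * x 5 + x 5 * x 6))

/-- A form on a tree of seven roots. -/
noncomputable def treeForm (c : ZMod 3) : QuadraticForm (ZMod 3) (Fin 7 → ZMod 3) :=
  c • ((proj 0 0 + proj 1 1 + proj 2 2 + proj 3 3 + proj 4 4 + proj 5 5 + proj 6 6) +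
    (proj 0 1 + proj 1 2 + proj 2 3 + proj 3 4 + proj 3 5 + proj 5 6))

theorem treeForm_coe (c : ZMod 3) : ⇑(treeForm c) = treeVal c := by
  funext x
  simp [treeForm, treeVal, proj_apply, mul_add]

/-- The entries of the gram matrix of the tree. -/
def treeTab : Fin 7 → Fin 7 → ZMod 3 :=
  ![![2, 1, 0, 0, 0, 0, 0], ![1, 2, 1, 0, 0, 0, 0], ![0, 1, 2, 1, 0, 0, 0], ![0, 0, 1, 2, 1, 1, 0],
    ![0, 0, 0, 1, 2, 0, 0], ![0, 0, 0, 1, 0, 2, 1], ![0, 0, 0, 0, 0, 1, 2]]

/-- The gram matrix of the tree. -/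
def treeGram (c : ZMod 3) : Matrix (Fin 7) (Fin 7) (ZMod 3) := Matrix.of fun i j => c * treeTab i j

theorem treeGram_apply (c : ZMod 3) (i j : Fin 7) : treeGram c i j = c * treeTab i j := rfl

theorem tree_gram : ∀ c : ZMod 3, ∀ i j : Fin 7,
    polar (treeVal c) (Pi.single i 1) (Pi.single j 1) = treeGram c i j := by
  simp only [treeGram_apply]
  unfold QuadraticMap.polar treeVal treeTab
  decide +kernel

theorem tree_values : ∀ c : ZMod 3, c ≠ 0 →
    (Finset.univ.filter fun x : Fin 7 → ZMod 3 => treeVal c x = c).card ≤ 702 := by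
  unfold treeVal
  decide +kernel

theorem tree_det : ∀ c : ZMod 3, c ≠ 0 → (treeGram c).det = -c := by
  unfold treeGram
  decide +kernel

theorem tree_nondeg {c : ZMod 3} (hc : c ≠ 0) : (polarBilin (treeForm c)).Nondegenerate := by
  have hdet : (gram (treeForm c) (Pi.basisFun (ZMod 3) (Fin 7))).det = -c := by
    rw [← tree_det c hc]
    congr 1
    ext i j
    simp only [gram, Matrix.of_apply, Pi.basisFun_apply, treeForm_coe]
    exact tree_gram c i j
  have hM : gram (treeForm c) (Pi.basisFun (ZMod 3) (Fin 7)) =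
      LinearMap.BilinForm.toMatrix (Pi.basisFun (ZMod 3) (Fin 7)) (polarBilin (treeForm c)) := by
    ext i j
    rw [LinearMap.BilinForm.toMatrix_apply, polarBilin_apply_apply]
    simp [gram]
  refine LinearMap.BilinForm.nondegenerate_of_det_ne_zero _ (Pi.basisFun (ZMod 3) (Fin 7)) ?_
  rw [← hM, hdet]
  exact neg_ne_zero.2 hc

theorem tree_isometry {Q : QuadraticForm (ZMod 3) (Fin 7 → ZMod 3)} (hQ : (polarBilin Q).Nondegenerate)
    {c : ZMod 3} (hc : c ≠ 0) (hd : Cfsg.polarGramDet (⇑Q) = -c) :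
    ∃ g : (Fin 7 → ZMod 3) ≃ₗ[ZMod 3] (Fin 7 → ZMod 3), ∀ v, treeForm c (g v) = Q v := by
  have h1 : (gram Q (Pi.basisFun (ZMod 3) (Fin 7))).det = -c := by
    rw [← hd, Cfsg.polarGramDet]
    congr 1
    ext i j
    simp [gram]
  have h2 : (gram (treeForm c) (Pi.basisFun (ZMod 3) (Fin 7))).det = -c := by
    rw [← tree_det c hc]
    congr 1
    ext i j
    simp only [gram, Matrix.of_apply, Pi.basisFun_apply, treeForm_coe]
    exact tree_gram c i j
  exact CfsgLib.QuadStd.isometric_of_disc two_ne hQ (tree_nondeg hc) (Pi.basisFun (ZMod 3) (Fin 7))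
    (Pi.basisFun (ZMod 3) (Fin 7)) (by rw [h1, h2, neg_mul_neg]; exact ⟨c, rfl⟩)

/-- The class element of a vector in seven dimensions. -/
noncomputable def reflR7 (Q : QuadraticForm (ZMod 3) (Fin 7 → ZMod 3)) (c : ZMod 3) (v : Fin 7 → ZMod 3)
    (hv : Q v = c) : ↥(Cfsg.reflectionSubgroup (⇑Q) c) :=
  ⟨(isoGroupEquiv Q).symm (refl Q v),
    Subgroup.subset_closure ((mem_norm_iff c _).mpr ⟨v, hv, MulEquiv.apply_symm_apply _ _⟩)⟩

theorem reflR7_commute_iff {Q : QuadraticForm (ZMod 3) (Fin 7 → ZMod 3)} {c : ZMod 3}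
    (hQ : (polarBilin Q).Nondegenerate) (hc : c ≠ 0) {u v : Fin 7 → ZMod 3}
    (hu : Q u = c) (hv : Q v = c) (h1 : v ≠ u) (h2 : v ≠ -u) :
    Commute (QuotientGroup.mk' (Subgroup.center ↥(Cfsg.reflectionSubgroup (⇑Q) c)) (reflR7 Q c u hu))
      (QuotientGroup.mk' (Subgroup.center ↥(Cfsg.reflectionSubgroup (⇑Q) c)) (reflR7 Q c v hv)) ↔
      polar Q u v = 0 := by
  have hr : reflR7 Q c u hu ∈ rclass Q c := (mem_norm_iff c _).mpr ⟨u, hu, MulEquiv.apply_symm_apply _ _⟩
  have hs : reflR7 Q c v hv ∈ rclass Q c := (mem_norm_iff c _).mpr ⟨v, hv, MulEquiv.apply_symm_apply _ _⟩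
  rw [← CfsgLib.ReflThree.commute_iff (hu ▸ hc) (hv ▸ hc) h1 h2]
  constructor
  · intro h
    have h' := commute_of_quot (rclass_class hQ (by norm_num) hc).1 hr hs h
    have := (h'.map (Cfsg.reflectionSubgroup (⇑Q) c).subtype).map (isoGroupEquiv Q).toMonoidHom
    simpa [reflR7] using this
  · intro h
    exact (show Commute (reflR7 Q c u hu) (reflR7 Q c v hv) from
      Subtype.ext (h.map (isoGroupEquiv Q).symm.toMonoidHom).eq).map _

variable {G : Type*} [Group G] [Finite G] {D : Set G} {d : G} (P : Point23 D d)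

include P

theorem commute_of_conj23 {k p : G} (hk : k ∈ D) (hp : p ∈ D) (hc : Commute (k * p * k) p) : Commute k p := by
  by_contra hne
  refine hne ?_
  have hT := P.base.tt
  have hc' := hc.eq
  rw [braid0 hT hk hp hne] at hc'
  rw [mul_assoc (p * k) p p, hT.sq p hp, mul_one, ← mul_assoc, ← mul_assoc, hT.sq p hp, one_mul] at hc'
  exact hc'.symm

/-- The members of a short factorisation of an element fixed by a member commute with it. -/
theorem facs_commute23 {m : ℕ} (hm : m = 2 ∨ m = 3) {x k : G} (hk : k ∈ D) (hkx : Commute k x) {l : List G}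
    (hl : l.Nodup ∧ l.length = m ∧ (∀ a ∈ l, a ∈ D) ∧ (∀ a ∈ l, ∀ b ∈ l, Commute a b)) (hx : l.prod = x) :
    ∀ p ∈ l, Commute k p := by
  classical
  have hT := P.base.tt
  intro p hp
  refine commute_of_conj23 P hk (hl.2.2.1 p hp) ?_
  set l' := l.map (MulAut.conj k)
  have hinv : ∀ y, MulAut.conj k y = k * y * k := fun y => by
    show k * y * k⁻¹ = k * y * k
    rw [hT.inv hk]
  have hl' : l'.Nodup ∧ l'.length = m ∧ (∀ a ∈ l', a ∈ D) ∧ (∀ a ∈ l', ∀ b ∈ l', Commute a b) := by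
    refine ⟨hl.1.map (MulAut.conj k).injective, by rw [List.length_map]; exact hl.2.1, fun a ha => ?_,
      fun a ha b hb => ?_⟩
    · obtain ⟨q, hq, rfl⟩ := List.mem_map.1 ha
      exact hT.conj k q (hl.2.2.1 q hq)
    · obtain ⟨q, hq, rfl⟩ := List.mem_map.1 ha
      obtain ⟨r, hr, rfl⟩ := List.mem_map.1 hb
      exact (hl.2.2.2 q hq r hr).map (MulAut.conj k)
  have hprod : l'.prod = l.prod := by
    rw [← map_list_prod, hx]
    show k * x * k⁻¹ = x
    rw [hkx.eq, mul_inv_cancel_right]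
  have hpl : k * p * k ∈ l' := List.mem_map.2 ⟨p, hp, hinv p⟩
  rcases hm with rfl | rfl
  · exact hl.2.2.2 _ ((uniq_two hT P.base.twinFree P.base.ne_one hl' hl hprod _).1 hpl) p hp
  · rcases triple_eq_or_disjoint hT P.base.twinFree P.base.ne_one hl' hl hprod with e | e
    · exact hl.2.2.2 _ ((e _).1 hpl) p hp
    · exact e.2 _ hpl p hp

theorem tri_closed23 {a e k : G} (hk : k ∈ Subgroup.centralizer ({a, e} : Set G)) {y : G}
    (hy : y ∈ tri D a e) : k * y * k⁻¹ ∈ tri D a e := by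
  rw [Subgroup.mem_centralizer_iff] at hk
  have h1 : k * a * k⁻¹ = a := by rw [← (hk a (by simp)), mul_inv_cancel_right]
  have h2 : k * e * k⁻¹ = e := by rw [← (hk e (by simp)), mul_inv_cancel_right]
  have := (Pair.tri_image (a := a) (e := e) P.base.tt k).subset ⟨y, hy, rfl⟩
  rwa [h1, h2] at this

/-- The common neighbours of a far pair form one class of their group. -/
theorem tri_transitive23 {a e : G} (ha : a ∈ D) (he : e ∈ D) (hae : ¬ Commute a e) {t y : G}
    (ht : t ∈ tri D a e) (hy : y ∈ tri D a e) : ∃ k ∈ Subgroup.closure (tri D a e), k * t * k⁻¹ = y := by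
  classical
  have hT := P.base.tt
  have step : ∀ {u v : G}, u ∈ tri D a e → v ∈ tri D a e → ¬ Commute u v →
      ∃ k ∈ Subgroup.closure (tri D a e), k * u * k⁻¹ = v := by
    intro u v hu hv huv
    refine ⟨u * v, mul_mem (Subgroup.subset_closure hu) (Subgroup.subset_closure hv), ?_⟩
    rw [mul_inv_rev, hT.inv hu.1.1, hT.inv hv.1.1, braid0 hT hu.1.1 hv.1.1 huv]
    calc v * u * v * (v * u) = v * u * (v * v) * u := by group
      _ = v := by rw [hT.sq v hv.1.1, mul_one, mul_assoc, hT.sq u hu.1.1, mul_one]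
  by_cases hc : Commute t y
  · by_cases heq : t = y
    · exact ⟨1, one_mem _, by simp [heq]⟩
    obtain ⟨z, hz, htz, hyz⟩ : ∃ z ∈ tri D a e, ¬ Commute z t ∧ ¬ Commute z y := by
      by_contra hno
      simp only [not_exists, not_and, not_not] at hno
      have hsub : tri D a e ⊆ insert t {z | z ∈ tri D a e ∧ z ≠ t ∧ Commute z t} ∪
          {z | z ∈ tri D a e ∧ z ≠ y ∧ Commute z y} := by
        intro z hz
        by_cases hzt : Commute z t
        · left
          by_cases q : z = t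
          · exact Or.inl q
          · exact Or.inr ⟨hz, q, hzt⟩
        · exact Or.inr ⟨hz, fun q => hzt (q ▸ hc.symm), hno z hz hzt⟩
      have h1 := Set.ncard_le_ncard hsub (Set.toFinite _)
      have h2 := Level.tri_inner (geo23 P).toPre arith23 ha he hae ht
      have h3 := Level.tri_inner (geo23 P).toPre arith23 ha he hae hy
      have h4 := (Level.tri_card (geo23 P) arith23).1 a ha e he hae
      have h5 := Set.ncard_union_le (insert t {z | z ∈ tri D a e ∧ z ≠ t ∧ Commute z t})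
        {z | z ∈ tri D a e ∧ z ≠ y ∧ Commute z y}
      have h6 := Set.ncard_insert_le t {z | z ∈ tri D a e ∧ z ≠ t ∧ Commute z t}
      omega
    obtain ⟨k, hk, e1⟩ := step ht hz (fun q => htz q.symm)
    obtain ⟨k', hk', e2⟩ := step hz hy hyz
    exact ⟨k' * k, mul_mem hk' hk, by rw [← e2, ← e1]; group⟩
  · exact step ht hy hc

set_option maxHeartbeats 1600000 in
/-- The reflections are common neighbours. -/
theorem exists_refl_model23 (hD : Cfsg.IsThreeTranspositionGroup D) (hp : Cfsg.IsPrimitiveUnderConj D)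
    (h : Cfsg.IsOfTypeM23 G D) {a e : G} (ha : a ∈ D) (he : e ∈ D) (hae : ¬ Commute a e) :
    ∃ (c : ZMod 3) (Q : QuadraticForm (ZMod 3) (Fin 7 → ZMod 3)), c ≠ 0 ∧ (polarBilin Q).Nondegenerate ∧
      Cfsg.polarGramDet (⇑Q) = -c ∧ ∃ F : (Fin 7 → ZMod 3) → G,
        (∀ v, Q v = c → F v ∈ tri D a e) ∧
        ∀ u v, Q u = c → Q v = c → v ≠ u → v ≠ -u → (Commute (F u) (F v) ↔ polar Q u v = 0) := by
  classical
  haveI := Fintype.ofFinite G
  have hT := P.base.tt
  obtain ⟨hKC, -, -⟩ := pair_centralizer23 P h ha he hae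
  obtain ⟨-, d₀, hd₀, c₀, hc₀, hdc, -, c, hc, Q, hQ, hd, ⟨ε₀⟩⟩ := id h
  obtain ⟨-, hzK, -⟩ := pair_centralizer23 P h hd₀ hc₀ hdc
  obtain ⟨g, hga, hge⟩ := far_pair_conj23 P hd₀ hc₀ hdc ha he hae
  have hset : ({y : G | y ∈ D ∧ y ≠ d₀ ∧ Commute d₀ y} ∩ {y : G | y ∈ D ∧ y ≠ c₀ ∧ Commute c₀ y}) = tri D d₀ c₀ := by
    ext y
    exact ⟨fun hy => ⟨hy.1, hy.2.2.2.symm⟩, fun hy => ⟨hy.1, hy.1.1, fun q => hdc (q ▸ hy.1.2.2), hy.2.symm⟩⟩
  set K₀ := Subgroup.closure ({y : G | y ∈ D ∧ y ≠ d₀ ∧ Commute d₀ y} ∩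
    {y : G | y ∈ D ∧ y ≠ c₀ ∧ Commute c₀ y}) with hK₀
  set K := Subgroup.closure (tri D a e)
  have hK0eq : K₀ = Subgroup.closure (tri D d₀ c₀) := by rw [hK₀, hset]
  have hbot : Subgroup.center ↥K₀ = ⊥ := by
    rw [Subgroup.eq_bot_iff_forall]
    intro x hx
    have hx' : (⟨(x : G), hK0eq ▸ x.2⟩ : ↥(Subgroup.closure (tri D d₀ c₀))) ∈
        Subgroup.center ↥(Subgroup.closure (tri D d₀ c₀)) := Subgroup.mem_center_iff.2 fun y => Subtype.ext
          (congrArg Subtype.val (Subgroup.mem_center_iff.1 hx ⟨y, hK0eq.symm ▸ y.2⟩) : _)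
    rw [hzK, Subgroup.mem_bot] at hx'
    exact Subtype.ext (congrArg Subtype.val hx' : _)
  have hmap : K₀.map (MulAut.conj g).toMonoidHom = K := by
    rw [hK0eq, MonoidHom.map_closure]
    show Subgroup.closure (MulAut.conj g '' tri D d₀ c₀) = K
    rw [Pair.tri_image hT, hga, hge]
  set iK : ↥K₀ ≃* ↥K :=
    (Subgroup.equivMapOfInjective _ _ (MulAut.conj g).injective).trans (MulEquiv.subgroupCongr hmap)
  set ε : ↥K ≃* ↥(Cfsg.reflectionSubgroup (⇑Q) c) ⧸ Subgroup.center ↥(Cfsg.reflectionSubgroup (⇑Q) c) :=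
    iK.symm.trans ((QuotientGroup.quotientBot.symm.trans (QuotientGroup.quotientMulEquivOfEq hbot.symm)).trans ε₀)
  set R := Cfsg.reflectionSubgroup (⇑Q) c
  set π := QuotientGroup.mk' (Subgroup.center ↥R)
  let F : (Fin 7 → ZMod 3) → G := fun v => if hv : Q v = c then ((ε.symm (π (reflR7 Q c v hv)) : ↥K) : G) else 1
  have hF : ∀ v (hv : Q v = c), F v = ((ε.symm (π (reflR7 Q c v hv)) : ↥K) : G) := fun v hv => dif_pos hv
  have hFc : ∀ u v (hu : Q u = c) (hv : Q v = c), v ≠ u → v ≠ -u → (Commute (F u) (F v) ↔ polar Q u v = 0) := by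
    intro u v hu hv h1 h2
    rw [hF u hu, hF v hv, ← reflR7_commute_iff hQ hc hu hv h1 h2]
    constructor
    · intro q
      have q' : Commute (ε.symm (π (reflR7 Q c u hu))) (ε.symm (π (reflR7 Q c v hv))) := Subtype.ext q.eq
      have q2 := q'.map ε
      rwa [ε.apply_symm_apply, ε.apply_symm_apply] at q2
    · intro q
      exact ((q.map ε.symm).map K.subtype)
  have hFneg : ∀ v, Q v = c → F (-v) = F v := by
    intro v hv
    have hn : Q (-v) = c := by rw [QuadraticMap.map_neg, hv]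
    rw [hF v hv, hF (-v) hn]
    have e1 : reflR7 Q c (-v) hn = reflR7 Q c v hv := by
      refine Subtype.ext ?_
      show (isoGroupEquiv Q).symm (refl Q (-v)) = (isoGroupEquiv Q).symm (refl Q v)
      rw [← neg_one_smul (ZMod 3) v, refl_smul (by decide)]
    rw [e1]
  -- the image class
  set S : Set G := F '' {v | Q v = c} with hSdef
  have hSK : ∀ x ∈ S, x ∈ K := by rintro _ ⟨v, hv, rfl⟩; rw [hF v hv]; exact SetLike.coe_mem _
  have hSconj : ∀ k ∈ K, ∀ x ∈ S, k * x * k⁻¹ ∈ S := by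
    rintro k hk _ ⟨v, hv, rfl⟩
    obtain ⟨r, hr⟩ := QuotientGroup.mk'_surjective (Subgroup.center ↥R) (ε ⟨k, hk⟩)
    set T := isoGroupEquiv Q (r : Cfsg.isometryGroup (ZMod 3) (⇑Q))
    have hTv : Q (T.1 v) = c := (T.2 v).trans hv
    refine ⟨T.1 v, hTv, ?_⟩
    have hr' : r * reflR7 Q c v hv * r⁻¹ = reflR7 Q c (T.1 v) hTv := by
      refine Subtype.ext ((isoGroupEquiv Q).injective ?_)
      simp only [reflR7, Subgroup.coe_mul, Subgroup.coe_inv, map_mul, map_inv, MulEquiv.apply_symm_apply]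
      exact refl_conj T v
    rw [hF _ hTv, hF v hv, ← hr', map_mul, map_mul, map_inv, map_mul, map_mul, map_inv, hr, ε.symm_apply_apply]
    simp
  have hStrans : ∀ x ∈ S, ∀ y ∈ S, ∃ k ∈ K, k * x * k⁻¹ = y := by
    rintro _ ⟨u, hu, rfl⟩ _ ⟨v, hv, rfl⟩
    obtain ⟨T, hT', eT⟩ := conj_within hQ (by norm_num) hc hu hv
    rw [← map_reflectionSubgroup] at hT'
    obtain ⟨r, hr, rfl⟩ := hT'
    refine ⟨((ε.symm (π ⟨r, hr⟩) : ↥K) : G), SetLike.coe_mem _, ?_⟩
    have hr' : (⟨r, hr⟩ : ↥R) * reflR7 Q c u hu * (⟨r, hr⟩ : ↥R)⁻¹ = reflR7 Q c v hv := by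
      refine Subtype.ext ((isoGroupEquiv Q).injective ?_)
      simp only [reflR7, Subgroup.coe_mul, Subgroup.coe_inv, map_mul, map_inv, MulEquiv.apply_symm_apply]
      exact eT
    rw [hF u hu, hF v hv, ← hr']
    simp
  have hS351 : S.ncard ≤ 351 := by
    obtain ⟨g₀, hg₀⟩ := tree_isometry hQ hc hd
    set V : Finset (Fin 7 → ZMod 3) := Finset.univ.filter fun v => Q v = c
    have hV : V.card ≤ 702 := by
      refine le_trans (Finset.card_le_card_of_injOn (fun v => g₀ v) (fun v hv => ?_) (g₀.injective.injOn))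
        (tree_values c hc)
      simp only [V, Finset.coe_filter, Finset.mem_univ, true_and, Set.mem_setOf_eq] at hv ⊢
      rw [← treeForm_coe, hg₀, hv]
    have hS : S = ↑(V.image F) := by ext x; simp [hSdef, V]
    rw [hS, Set.ncard_coe_finset]
    have hfib : ∀ x ∈ V.image F, 2 ≤ (V.filter fun v => F v = x).card := by
      intro x hx
      obtain ⟨v, hv, rfl⟩ := Finset.mem_image.1 hx
      have hv' : Q v = c := (Finset.mem_filter.1 hv).2
      have hv0 : v ≠ -v := fun q => hc (by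
        have : (2 : ZMod 3) • v = 0 := by rw [two_smul]; exact eq_neg_iff_add_eq_zero.1 q
        rw [(smul_eq_zero.1 this).resolve_left two_ne, QuadraticMap.map_zero] at hv'
        exact hv'.symm)
      refine le_trans (le_of_eq (Finset.card_pair hv0).symm) (Finset.card_le_card fun w hw => ?_)
      simp only [Finset.mem_insert, Finset.mem_singleton] at hw
      rcases hw with rfl | rfl
      · simp [V, hv']
      · have hn : Q (-v) = c := by rw [QuadraticMap.map_neg, hv']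
        exact Finset.mem_filter.2 ⟨by simp [V, hn], hFneg v hv'⟩
    have h2 := Finset.card_eq_sum_card_image F V
    have h3 : (V.image F).card • 2 ≤ V.card := h2.symm ▸ Finset.card_nsmul_le_sum _ _ _ hfib
    rw [smul_eq_mul] at h3
    omega
  -- some image is a common neighbour
  have hmeet : ∃ x ∈ S, x ∈ tri D a e := by
    by_contra hno
    simp only [not_exists, not_and] at hno
    have hSord : ∀ x ∈ S, orderOf x = 2 := by
      rintro _ ⟨v, hv, rfl⟩
      have hsq : F v * F v = 1 := by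
        rw [hF v hv, ← Subgroup.coe_mul, ← map_mul, ← map_mul]
        have : reflR7 Q c v hv * reflR7 Q c v hv = 1 :=
          Subtype.ext ((isoGroupEquiv Q).injective (by
            show isoGroupEquiv Q ((isoGroupEquiv Q).symm (refl Q v) * (isoGroupEquiv Q).symm (refl Q v)) = isoGroupEquiv Q 1
            rw [map_mul, map_one, MulEquiv.apply_symm_apply, refl_mul_self]))
        rw [this, map_one, map_one, Subgroup.coe_one]
      refine orderOf_eq_prime (by rw [pow_two]; exact hsq) fun q => ?_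
      obtain ⟨w₁, w₂, hw1, hw2, hw⟩ := exists_noncomm hQ (by norm_num : 5 ≤ 7) hc
      obtain ⟨k, hk, ek⟩ := hStrans (F v) ⟨v, hv, rfl⟩ (F w₁) ⟨w₁, hw1, rfl⟩
      obtain ⟨k', hk', ek'⟩ := hStrans (F v) ⟨v, hv, rfl⟩ (F w₂) ⟨w₂, hw2, rfl⟩
      rw [q, mul_one, mul_inv_cancel] at ek ek'
      have hne1 : w₂ ≠ w₁ := fun e' => hw (by rw [e'])
      have hne2 : w₂ ≠ -w₁ := fun e' => hw (by rw [e', ← neg_one_smul (ZMod 3) w₁, refl_smul (by decide)])
      have hpol : polar Q w₁ w₂ = 0 := (hFc w₁ w₂ hw1 hw2 hne1 hne2).1 (by rw [← ek, ← ek'])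
      exact hw ((CfsgLib.ReflThree.commute_iff (hw1 ▸ hc) (hw2 ▸ hc) hne1 hne2).2 hpol).eq
    have hfacs : ∀ x ∈ S, ∃ l : List G, (l.length = 2 ∨ l.length = 3) ∧
        (l.Nodup ∧ (∀ p ∈ l, p ∈ tri D a e) ∧ ∀ p ∈ l, ∀ q ∈ l, Commute p q) ∧ l.prod = x := by
      intro x hx
      obtain ⟨m, h1, h3, l, hn, hlen, hD', hcm, hprod⟩ := invol_short23 P hD hp h (hSord x hx)
      have hxa : ∀ k ∈ ({a, e} : Set G), Commute k x := fun k hk =>
        Subgroup.mem_centralizer_iff.1 (hKC ▸ hSK x hx) k hk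
      by_cases hm1 : m = 1
      · exfalso
        subst hm1
        obtain ⟨p, rfl⟩ := List.length_eq_one_iff.1 hlen
        simp only [List.prod_cons, List.prod_nil, mul_one] at hprod
        subst hprod
        exact hno p hx ⟨⟨hD' p (by simp), fun q => hae (q ▸ (hxa e (by simp))).symm, hxa a (by simp)⟩,
          (hxa e (by simp)).symm⟩
      have hm : m = 2 ∨ m = 3 := by omega
      refine ⟨l, hlen ▸ hm, ⟨hn, fun p hp' => ?_, hcm⟩, hprod⟩
      have hca := facs_commute23 P hm ha (hxa a (by simp)) ⟨hn, hlen, hD', hcm⟩ hprod p hp'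
      have hce := facs_commute23 P hm he (hxa e (by simp)) ⟨hn, hlen, hD', hcm⟩ hprod p hp'
      exact ⟨⟨hD' p hp', fun q => hae (q ▸ hce).symm, hca⟩, hce.symm⟩
    let Fac : G → Set G := fun x => {p | ∃ l : List G, (l.length = 2 ∨ l.length = 3) ∧
      (l.Nodup ∧ (∀ p ∈ l, p ∈ tri D a e) ∧ ∀ p ∈ l, ∀ q ∈ l, Commute p q) ∧ l.prod = x ∧ p ∈ l}
    have hclique : ∀ x, (Fac x).ncard ≤ 7 := by
      intro x
      have hcm : ∀ p ∈ Fac x, ∀ q ∈ Fac x, Commute p q := by
        rintro p ⟨l, hl, ⟨hn, hT1, hcm⟩, hprod, hp'⟩ q ⟨l', hl', ⟨hn', hT2, hcm'⟩, hprod', hq'⟩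
        have hD1 : ∀ y ∈ l, y ∈ D := fun y hy => (hT1 y hy).1.1
        have hD2 : ∀ y ∈ l', y ∈ D := fun y hy => (hT2 y hy).1.1
        have hlen : l.length = l'.length :=
          facs_unique23 P (by omega) (by omega) (by omega) (by omega)
            (x := x) ⟨l, hn, rfl, hD1, hcm, hprod⟩ ⟨l', hn', rfl, hD2, hcm', hprod'⟩
        rcases hl with hl | hl
        · exact hcm' p ((uniq_two hT P.base.twinFree P.base.ne_one ⟨hn, hl, hD1, hcm⟩
            ⟨hn', hlen ▸ hl, hD2, hcm'⟩ (hprod.trans hprod'.symm) p).1 hp') q hq'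
        · rcases triple_eq_or_disjoint hT P.base.twinFree P.base.ne_one (l := l) (l' := l')
            ⟨hn, hl, hD1, hcm⟩ ⟨hn', hlen ▸ hl, hD2, hcm'⟩ (hprod.trans hprod'.symm) with q1 | q1
          · exact hcm' p ((q1 p).1 hp') q hq'
          · exact q1.2 p hp' q hq'
      have hsub : Fac x ⊆ tri D a e := fun p ⟨l, _, ⟨_, hT1, _⟩, _, hp'⟩ => hT1 p hp'
      rw [← width_tri23 P ha he hae]
      exact le_csSup ⟨(tri D a e).ncard, fun n ⟨E, hE, _, _, hn⟩ => hn ▸ Set.ncard_le_ncard hE (Set.toFinite _)⟩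
        ⟨Fac x, hsub, Set.toFinite _, hcm, rfl⟩
    -- ordered pairs inside one factorisation
    set Pr : Set (G × G) := ⋃ x ∈ S, {p : G × G | p.1 ∈ Fac x ∧ p.2 ∈ Fac x ∧ p.1 ≠ p.2} with hPr
    have hP : Pr.ncard ≤ 351 * 42 := by
      have h1 : Pr = ⋃ x ∈ (Set.toFinite S).toFinset, {p : G × G | p.1 ∈ Fac x ∧ p.2 ∈ Fac x ∧ p.1 ≠ p.2} := by
        simp [hPr]
      rw [h1]
      refine le_trans (Finset.set_ncard_biUnion_le _ _) ?_
      refine le_trans (Finset.sum_le_card_nsmul _ _ 42 fun x _ => ?_) ?_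
      · have e1 : {p : G × G | p.1 ∈ Fac x ∧ p.2 ∈ Fac x ∧ p.1 ≠ p.2} =
            ↑((Set.toFinite (Fac x)).toFinset.offDiag) := by ext p; simp [Fac]
        rw [e1, Set.ncard_coe_finset, Finset.offDiag_card, ← Set.ncard_eq_toFinset_card]
        have := hclique x
        generalize (Fac x).ncard = n at this
        interval_cases n <;> norm_num
      · rw [smul_eq_mul]
        exact Nat.mul_le_mul_right _ (by rw [← Set.ncard_eq_toFinset_card S]; exact hS351)
    have hPconj : ∀ k ∈ K, ∀ p ∈ Pr, (k * p.1 * k⁻¹, k * p.2 * k⁻¹) ∈ Pr := by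
      intro k hk p hp'
      simp only [hPr, Set.mem_iUnion] at hp' ⊢
      obtain ⟨x, hx, hp1, hp2, hne⟩ := hp'
      have hmapF : ∀ q ∈ Fac x, k * q * k⁻¹ ∈ Fac (k * x * k⁻¹) := by
        rintro q ⟨l, hl, ⟨hn, hT1, hcm⟩, hprod, hq⟩
        refine ⟨l.map (MulAut.conj k), by rw [List.length_map]; exact hl,
          ⟨hn.map (MulAut.conj k).injective, fun y hy => ?_, fun y hy z hz => ?_⟩, ?_, List.mem_map.2 ⟨q, hq, rfl⟩⟩
        · obtain ⟨y', hy', rfl⟩ := List.mem_map.1 hy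
          exact tri_closed23 P (hKC ▸ hk) (hT1 y' hy')
        · obtain ⟨y', hy', rfl⟩ := List.mem_map.1 hy
          obtain ⟨z', hz', rfl⟩ := List.mem_map.1 hz
          exact (hcm y' hy' z' hz').map (MulAut.conj k)
        · rw [← map_list_prod, hprod]; rfl
      exact ⟨k * x * k⁻¹, hSconj k hk x hx, hmapF _ hp1, hmapF _ hp2,
        fun q => hne (mul_left_cancel (mul_right_cancel q))⟩
    set Qt : G → Set G := fun t => {q | (t, q) ∈ Pr}
    obtain ⟨x₀, hx₀⟩ : S.Nonempty := by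
      obtain ⟨v, hv⟩ := exists_value hQ two_ne (by rw [Module.finrank_fin_fun]; norm_num) c
      exact ⟨F v, v, hv, rfl⟩
    obtain ⟨l, hlen, ⟨hn, hT1, hcm⟩, hprod⟩ := hfacs x₀ hx₀
    obtain ⟨t, q, r, rfl⟩ : ∃ t q r, l = t :: q :: r := by
      match l, hlen with
      | t :: q :: r, _ => exact ⟨t, q, r, rfl⟩
    have htT := hT1 t (by simp)
    have hqT := hT1 q (by simp)
    have htq : t ≠ q := fun q' => by simp [q'] at hn
    have hqQ : q ∈ Qt t := by
      show (t, q) ∈ Pr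
      simp only [hPr, Set.mem_iUnion]
      exact ⟨x₀, hx₀, ⟨_, hlen, ⟨hn, hT1, hcm⟩, hprod, by simp⟩, ⟨_, hlen, ⟨hn, hT1, hcm⟩, hprod, by simp⟩, htq⟩
    have hbig : insert q {y | y ∈ tri D a e ∧ y ≠ t ∧ Commute y t ∧ ¬ Commute y q} ⊆ Qt t := by
      rintro y (rfl | ⟨hy, hyt, hyc, hyq⟩)
      · exact hqQ
      have hk : q * y ∈ K := mul_mem (Subgroup.subset_closure hqT) (Subgroup.subset_closure hy)
      have hqt : Commute q t := hcm q (by simp) t (by simp)
      have := hPconj _ hk (t, q) hqQ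
      have e1 : q * y * t * (q * y)⁻¹ = t := by
        rw [((hqt.mul_left hyc).eq), mul_inv_cancel_right]
      have e2 : q * y * q * (q * y)⁻¹ = y := by
        rw [mul_inv_rev, hT.inv hy.1.1, hT.inv hqT.1.1, braid0 hT hqT.1.1 hy.1.1 (fun q' => hyq q'.symm)]
        calc y * q * y * (y * q) = y * q * (y * y) * q := by group
          _ = y := by rw [hT.sq y hy.1.1, mul_one, mul_assoc, hT.sq q hqT.1.1, mul_one]
      simp only [e1, e2] at this
      exact this
    have h80 := Level.tri_outer (geo23 P).toPre arith23 ha he hae hqT htT htq (hcm t (by simp) q (by simp))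
    have h81 : 81 ≤ (Qt t).ncard := by
      refine le_trans ?_ (Set.ncard_le_ncard hbig (Set.toFinite _))
      rw [Set.ncard_insert_of_notMem (fun hm => hm.2.2.2 (Commute.refl q)), h80]
    have hfibre : ∀ y ∈ tri D a e, (Qt t).ncard ≤ (Qt y).ncard := by
      intro y hy
      obtain ⟨k, hk, rfl⟩ := tri_transitive23 P ha he hae htT hy
      exact Set.ncard_le_ncard_of_injOn (fun q => k * q * k⁻¹) (fun q hq => hPconj k hk _ hq)
        (fun x _ y _ q => mul_left_cancel (mul_right_cancel q)) (Set.toFinite _)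
    have hsum : 351 * 81 ≤ Pr.ncard := by
      set TF := (Set.toFinite (tri D a e)).toFinset
      have hTF : TF.card = 351 := by
        rw [← (Level.tri_card (geo23 P) arith23).1 a ha e he hae, Set.ncard_eq_toFinset_card]
      set PF := (Set.toFinite Pr).toFinset
      rw [Set.ncard_eq_toFinset_card Pr]
      have hmaps : ∀ p ∈ PF, p.1 ∈ TF := by
        intro p hp'
        simp only [PF, TF, Set.Finite.mem_toFinset, hPr, Set.mem_iUnion] at hp' ⊢
        obtain ⟨x, -, ⟨l', -, ⟨-, hT', -⟩, -, h1⟩, -⟩ := hp'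
        exact hT' _ h1
      rw [Finset.card_eq_sum_card_fiberwise hmaps, ← hTF]
      refine le_trans (le_of_eq (smul_eq_mul _ _).symm) (Finset.card_nsmul_le_sum _ _ _ fun y hy => ?_)
      have hy' : y ∈ tri D a e := (Set.Finite.mem_toFinset _).1 hy
      refine le_trans h81 (le_trans (hfibre y hy') ?_)
      rw [← Set.ncard_coe_finset]
      refine Set.ncard_le_ncard_of_injOn (fun q => (y, q)) (fun q hq => ?_) (fun x _ y _ q => (Prod.ext_iff.1 q).2)
        (Set.toFinite _)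
      exact Finset.mem_coe.2 (Finset.mem_filter.2 ⟨(Set.Finite.mem_toFinset _).2 hq, rfl⟩)
    omega
  obtain ⟨x, hxS, hxT⟩ := hmeet
  refine ⟨c, Q, hc, hQ, hd, F, fun v hv => ?_, fun u v hu hv h1 h2 => hFc u v hu hv h1 h2⟩
  obtain ⟨k, hk, e'⟩ := hStrans x hxS (F v) ⟨v, hv, rfl⟩
  exact e' ▸ tri_closed23 P (hKC ▸ hk) hxT

end CfsgLib.ThreeT.Prod
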