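import Cfsg.Agent.Spor3T.M22Extend
import Cfsg.Agent.Spor3T.M22IsoSeven
import Cfsg.Agent.Spor3T.M23Refl
import Cfsg.Agent.Coset.Fi23.Cover

/-!
A group of type M(23) is the group presented as `Cfsg.Spor.Fi23`: ten of its transpositions satisfy the relators,
nine of them lifting a configuration of the M(22) level.
-/

set_option autoImplicit false
set_option linter.unusedSectionVars false
set_option linter.style.haveILetI false
set_option maxRecDepth 100000
set_option Elab.async false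

namespace CfsgLib.ThreeT.Prod

open CfsgLib
open CfsgLib.Coset (ev fl ev_cons ev_nil ev_append powWord pairWord)
open scoped commutatorElement
open QuadraticMap CfsgLib.Quad CfsgLib.ReflThree CfsgLib.Forms CfsgLib.QuadStd

/-- The adjacency table of the eight letters commuting with the far member. -/
def adjB8 : Fin 8 → Fin 8 → Bool :=
  ![![false, true, false, false, false, false, false, false], ![true, false, true, false, false, false, false, false],
    ![false, true, false, true, false, false, false, false], ![false, false, true, false, true, false, true, false],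
    ![false, false, false, true, false, true, false, false], ![false, false, false, false, true, false, false, false],
    ![false, false, false, true, false, false, false, true], ![false, false, false, false, false, false, true, false]]

/-- Adjacency of the eight letters commuting with the far member. -/
abbrev Adj8 (i j : Fin 8) : Prop := adjB8 i j = true

/-- The roots of the eight letters and of one further root. -/
def nineRoots : Fin 9 → Fin 7 → ZMod 3 :=
  ![![1, 0, 0, 0, 0, 0, 0], ![0, 1, 0, 0, 0, 0, 0], ![0, 0, 1, 0, 0, 0, 0], ![0, 0, 0, 1, 0, 0, 0],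
    ![0, 0, 0, 0, 1, 0, 0], ![0, 0, 0, 0, 2, 1, 1], ![0, 0, 0, 0, 0, 1, 0], ![0, 0, 0, 0, 0, 0, 1],
    ![0, 0, 1, 0, 0, 2, 2]]

theorem nineRoots_val : ∀ c : ZMod 3, c ≠ 0 → ∀ i, treeVal c (nineRoots i) = c := by
  unfold treeVal nineRoots
  decide +kernel

theorem nineRoots_ne : ∀ i j : Fin 9, i ≠ j → nineRoots j ≠ nineRoots i ∧ nineRoots j ≠ -nineRoots i := by
  unfold nineRoots
  decide +kernel

theorem nineRoots_eight : ∀ c : ZMod 3, c ≠ 0 → ∀ i j : Fin 8, i ≠ j →
    (polar (treeVal c) (nineRoots i.castSucc) (nineRoots j.castSucc) = 0 ↔ ¬ Adj8 i j) := by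
  unfold QuadraticMap.polar treeVal nineRoots
  decide +kernel

theorem nineRoots_last : ∀ c : ZMod 3, c ≠ 0 → ∀ i : Fin 8,
    (polar (treeVal c) (nineRoots 8) (nineRoots i.castSucc) = 0 ↔ (i ≠ 1 ∧ i ≠ 2)) := by
  unfold QuadraticMap.polar treeVal nineRoots
  decide +kernel

/-- The swap of the two arms of length two. -/
def swap8 : Fin 8 → Fin 8 := ![0, 1, 2, 3, 6, 7, 4, 5]

theorem swap8_adj : ∀ i j, Adj8 (swap8 i) (swap8 j) ↔ Adj8 i j := by decide

theorem swap8_ne : ∀ i j, i ≠ j → swap8 i ≠ swap8 j := by decide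

/-- Adjacency of the ten letters. -/
def adjT (i j : Nat) : Bool :=
  [(0, 1), (1, 2), (2, 3), (3, 4), (4, 5), (5, 6), (6, 7), (3, 8), (8, 9)].contains (i, j) ||
    [(0, 1), (1, 2), (2, 3), (3, 4), (4, 5), (5, 6), (6, 7), (3, 8), (8, 9)].contains (j, i)

theorem pairs_kind : ∀ p ∈ Coset.Fi23.pairs, p.1 < 10 ∧ p.2.1 < 10 ∧
    ((p.1 = p.2.1 ∧ p.2.2 = 1) ∨ (p.1 ≠ p.2.1 ∧ p.2.2 = 2 ∧ adjT p.1 p.2.1 = false) ∨
      (p.1 ≠ p.2.1 ∧ p.2.2 = 3 ∧ adjT p.1 p.2.1 = true)) := by decide +kernel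

/-- The letters of `Fi22` among the ten. -/
def to23 (k : Nat) : Nat := if k < 7 then k else k + 1

/-- The spider word in the letters of `Fi22`. -/
def spider22 : List Nat := powWord ([3, 2, 1, 3, 4, 5, 3, 7, 8], 10)

/-- The second word in the letters of `Fi22`. -/
def coxeter22 : List Nat := powWord ([0, 1, 2, 3, 4, 5, 7], 9)

theorem words22 : spider22 ∈ Coset.Fi22.rels ∧ coxeter22 ∈ Coset.Fi22.rels ∧
    spider22.map to23 = powWord (Coset.Fi23.spider, 10) ∧ coxeter22.map to23 = powWord (Coset.Fi23.coxeter, 9) ∧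
    (∀ k ∈ spider22, k < 9 ∧ k ≠ 6) ∧ (∀ k ∈ coxeter22, k < 9 ∧ k ≠ 6) := by decide +kernel

theorem commute_ev {X : Type*} [Group X] (L : List X) (x : X) :
    ∀ p : List ℕ, (∀ i ∈ p, Commute (fl L i) x) → Commute (ev L p) x
  | [], _ => by simp
  | k :: p, hp => by
    rw [ev_cons]
    exact (hp k (by simp)).mul_left (commute_ev L x p fun i hi => hp i (List.mem_cons_of_mem _ hi))

section

variable {G : Type*} [Group G] [Finite G] {D : Set G} {d : G} (P : Point23 D d)
  (hD : Cfsg.IsThreeTranspositionGroup D) (hp : Cfsg.IsPrimitiveUnderConj D) (h : Cfsg.IsOfTypeM23 G D)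

include P hD hp h

/-- Eight common neighbours of a far pair, and a ninth. -/
theorem exists_eight {x : G} (hx : x ∈ D) (hdx : ¬ Commute d x) :
    ∃ w : Fin 8 → G, ∃ p : G, (∀ i, w i ∈ tri D d x) ∧ p ∈ tri D d x ∧
      (∀ i j, i ≠ j → (Commute (w i) (w j) ↔ ¬ Adj8 i j)) ∧ ∀ i, Commute p (w i) ↔ (i ≠ 1 ∧ i ≠ 2) := by
  obtain ⟨c, Q, hc, hQ, hd, F, hF1, hF3⟩ := exists_refl_model23 P hD hp h P.mem hx hdx
  obtain ⟨g₀, hg₀⟩ := tree_isometry hQ hc hd
  have hv : ∀ i, Q (g₀.symm (nineRoots i)) = c := fun i => by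
    rw [← hg₀, LinearEquiv.apply_symm_apply, treeForm_coe, nineRoots_val c hc]
  have e : ∀ u v, polar Q u v = polar (treeVal c) (g₀ u) (g₀ v) := fun u v => by
    simp only [polar, ← treeForm_coe, ← map_add g₀, hg₀]
  have hcomm : ∀ i j, i ≠ j → (Commute (F (g₀.symm (nineRoots i))) (F (g₀.symm (nineRoots j))) ↔
      polar (treeVal c) (nineRoots i) (nineRoots j) = 0) := by
    intro i j hij
    have h1 := nineRoots_ne i j hij
    rw [hF3 _ _ (hv i) (hv j) (fun q => h1.1 (g₀.symm.injective q))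
      (fun q => h1.2 (g₀.symm.injective (q.trans (map_neg g₀.symm _).symm))), e, LinearEquiv.apply_symm_apply,
      LinearEquiv.apply_symm_apply]
  refine ⟨fun i => F (g₀.symm (nineRoots i.castSucc)), F (g₀.symm (nineRoots 8)), fun i => hF1 _ (hv _),
    hF1 _ (hv _), fun i j hij => ?_, fun i => ?_⟩
  · exact (hcomm _ _ (fun q => hij (Fin.castSucc_injective _ q))).trans (nineRoots_eight c hc i j hij)
  · exact (hcomm _ _ (fun q => by have := congrArg Fin.val q; simp at this; omega)).trans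
      (nineRoots_last c hc i)

/-- The M(22) level has a member extending the eight at one of the arms of length two. -/
theorem exists_nine {x : G} (hx : x ∈ D) (hdx : ¬ Commute d x) :
    ∃ w : Fin 8 → G, ∃ g : G, (∀ i, w i ∈ tri D d x) ∧ g ∈ nb D d ∧
      (∀ i j, i ≠ j → (Commute (w i) (w j) ↔ ¬ Adj8 i j)) ∧ ∀ i, Commute g (w i) ↔ i ≠ 5 := by
  classical
  obtain ⟨w, p, hw, hpT, hwc, hpw⟩ := exists_eight P hD hp h hx hdx
  have hT := P.base.tt
  set π := QuotientGroup.mk' (Subgroup.center ↥(hsub D d))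
  let L : ∀ y : G, y ∈ nb D d → ↥(hsub D d) := fun y hy => ⟨y, Subgroup.subset_closure hy⟩
  have hcm : ∀ y z (hy : y ∈ nb D d) (hz : z ∈ nb D d),
      (Commute (π (L y hy)) (π (L z hz)) ↔ Commute y z) := fun y z hy hz => map_commute_iff hT hy hz
  have hmem : ∀ y (hy : y ∈ nb D d), π (L y hy) ∈ img D d := fun y hy => ⟨L y hy, hy, rfl⟩
  set W : Fin 8 → ↥(hsub D d) ⧸ Subgroup.center ↥(hsub D d) := fun i => π (L (w i) (hw i).1) with hWdef
  have hW : ∀ i j, i ≠ j → (Commute (W i) (W j) ↔ ¬ Adj8 i j) := fun i j hij =>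
    (hcm _ _ (hw i).1 (hw j).1).trans (hwc i j hij)
  have hnbI : ∀ i, i ≠ 0 → Commute (W i) (W 0) → W i ∈ nb (img D d) (W 0) := by
    intro i hi hc
    refine ⟨hmem (w i) (hw i).1, fun q => ?_, hc.symm⟩
    obtain ⟨k, hk⟩ : ∃ k, k ≠ i ∧ k ≠ 0 ∧ ((Adj8 i k ∧ ¬ Adj8 0 k) ∨ (Adj8 0 k ∧ ¬ Adj8 i k)) :=
      (by decide : ∀ i : Fin 8, i ≠ 0 → ∃ k, k ≠ i ∧ k ≠ 0 ∧ ((Adj8 i k ∧ ¬ Adj8 0 k) ∨ (Adj8 0 k ∧ ¬ Adj8 i k))) i hi
    rcases hk.2.2 with ⟨h1, h2⟩ | ⟨h1, h2⟩
    · exact (hW i k hk.1.symm).1 (q ▸ (hW 0 k hk.2.1.symm).2 h2) h1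
    · exact (hW 0 k hk.2.1.symm).1 (q ▸ (hW i k hk.1.symm).2 h2) h1
  set a := W 0 with hadef
  set b := W 1 with hbdef
  have hab : ¬ Commute a b := fun q => (hW 0 1 (by decide)).1 q (by decide)
  set u : Fin 5 → ↥(hsub D d) ⧸ Subgroup.center ↥(hsub D d) := ![W 5, W 4, W 3, W 6, W 7] with hudef
  have hu : ∀ i, u i ∈ tri (img D d) a b := by
    intro i
    fin_cases i <;>
      exact ⟨hnbI _ (by decide) ((hW _ _ (by decide)).2 (by decide)), (hW _ _ (by decide)).2 (by decide)⟩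
  have huc : ∀ i j, i ≠ j → (Commute (u i) (u j) ↔ ¬ Adj5 i j) := by
    intro i j hij
    fin_cases i <;> fin_cases j <;>
      first
        | exact absurd rfl hij
        | exact (hW _ _ (by decide)).trans (by decide)
  have hc : W 2 ∈ nb (img D d) a := hnbI 2 (by decide) ((hW _ _ (by decide)).2 (by decide))
  have hcu : ∀ j, Commute (W 2) (u j) ↔ j ≠ 2 := by
    intro j
    fin_cases j <;> exact (hW _ _ (by decide)).trans (by decide)
  have hpc : ∀ i, Commute (π (L p hpT.1)) (W i) ↔ (i ≠ 1 ∧ i ≠ 2) := fun i =>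
    (hcm _ _ hpT.1 (hw i).1).trans (hpw i)
  have hpa : π (L p hpT.1) ∈ nb (img D d) a := by
    refine ⟨hmem p hpT.1, fun q => ?_, ((hpc 0).2 (by decide)).symm⟩
    exact ((hpc 2).1 (q ▸ (hW 0 2 (by decide)).2 (by decide))).2 rfl
  have hpu : ∀ j, Commute (π (L p hpT.1)) (u j) := by
    intro j
    fin_cases j <;> exact (hpc _).2 (by decide)
  have hpb : ¬ Commute (π (L p hpT.1)) b := fun q => ((hpc 1).1 q).1 rfl
  obtain ⟨g', hg', hg'c, hside⟩ :=
    extend22 P.geo P.prim P.type (hmem (w 0) (hw 0).1) (hmem (w 1) (hw 1).1) hab hu huc hc hcu hpa hpu hpb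
  obtain ⟨G0, hG0, rfl⟩ := hg'.1.1
  have back : ∀ i, Commute (G0 : G) (w i) ↔ Commute (π G0) (W i) := fun i =>
    (map_commute_iff hT hG0 (y := L (w i) (hw i).1) (hw i).1).symm
  have key : ∀ i, Commute (π G0) (W i) ↔ (i = 0 ∨ i = 1 ∨ i = 2 ∨ ∃ j, W i = u j ∧ Commute (π G0) (u j)) := by
    intro i
    constructor
    · intro q
      fin_cases i
      · exact Or.inl rfl
      · exact Or.inr (Or.inl rfl)
      · exact Or.inr (Or.inr (Or.inl rfl))
      · exact Or.inr (Or.inr (Or.inr ⟨2, rfl, q⟩))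
      · exact Or.inr (Or.inr (Or.inr ⟨1, rfl, q⟩))
      · exact Or.inr (Or.inr (Or.inr ⟨0, rfl, q⟩))
      · exact Or.inr (Or.inr (Or.inr ⟨3, rfl, q⟩))
      · exact Or.inr (Or.inr (Or.inr ⟨4, rfl, q⟩))
    · rintro (rfl | rfl | rfl | ⟨j, e, q⟩)
      · exact hg'.1.2.2.symm
      · exact hg'.2
      · exact hg'c
      · rw [e]; exact q
  rcases hside with hs | hs
  · refine ⟨w, G0, hw, hG0, hwc, fun i => ?_⟩
    rw [back]
    constructor
    · intro q e
      subst e
      exact (hs 0).1 q rfl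
    · intro hi
      fin_cases i
      · exact (key _).2 (Or.inl rfl)
      · exact (key _).2 (Or.inr (Or.inl rfl))
      · exact (key _).2 (Or.inr (Or.inr (Or.inl rfl)))
      · exact (hs 2).2 (by decide)
      · exact (hs 1).2 (by decide)
      · exact absurd rfl hi
      · exact (hs 3).2 (by decide)
      · exact (hs 4).2 (by decide)
  · refine ⟨w ∘ swap8, G0, fun i => hw _, hG0, fun i j hij => ?_, fun i => ?_⟩
    · exact (hwc _ _ (swap8_ne i j hij)).trans (not_congr (swap8_adj i j))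
    show Commute (G0 : G) (w (swap8 i)) ↔ _
    rw [back]
    constructor
    · intro q e
      subst e
      exact (hs 4).1 q rfl
    · intro hi
      fin_cases i
      · exact (key _).2 (Or.inl rfl)
      · exact (key _).2 (Or.inr (Or.inl rfl))
      · exact (key _).2 (Or.inr (Or.inr (Or.inl rfl)))
      · exact (hs 2).2 (by decide)
      · exact (hs 3).2 (by decide)
      · exact absurd rfl hi
      · exact (hs 1).2 (by decide)
      · exact (hs 0).2 (by decide)

/-- The presented group is the group, its first generator going to a transposition. -/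
theorem exists_iso_fi23_gen : ∃ e : Cfsg.Spor.Fi23 ≃* G, e (fl Coset.Fi23.Lg 0) ∈ D := by
  classical
  have hT := P.base.tt
  obtain ⟨x, hx, hdx⟩ : {x | x ∈ D ∧ ¬ Commute d x}.Nonempty :=
    Set.nonempty_of_ncard_ne_zero (by rw [far_count23 P P.mem]; norm_num)
  obtain ⟨w, g, hw, hg, hwc, hgw⟩ := exists_nine P hD hp h hx hdx
  set π := QuotientGroup.mk' (Subgroup.center ↥(hsub D d))
  let L : ∀ y : G, y ∈ nb D d → ↥(hsub D d) := fun y hy => ⟨y, Subgroup.subset_closure hy⟩
  have hcm : ∀ {y z : G} (hy : y ∈ nb D d) (hz : z ∈ nb D d),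
      (Commute (π (L y hy)) (π (L z hz)) ↔ Commute y z) := fun hy hz => map_commute_iff hT hy hz
  have hmem : ∀ y (hy : y ∈ nb D d), π (L y hy) ∈ img D d := fun y hy => ⟨L y hy, hy, rfl⟩
  have hinj : ∀ {y z : G} (hy : y ∈ nb D d) (hz : z ∈ nb D d), π (L y hy) = π (L z hz) → y = z :=
    fun hy hz q => mk_inj P hy hz q
  have hwne : ∀ i j, i ≠ j → w i ≠ w j := by
    intro i j hij q
    obtain ⟨k, hk⟩ : ∃ k, (k ≠ i ∧ k ≠ j ∧ ((Adj8 i k ∧ ¬ Adj8 j k) ∨ (Adj8 j k ∧ ¬ Adj8 i k))) ∨ Adj8 i j :=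
      (by decide : ∀ i j : Fin 8, i ≠ j →
        ∃ k, (k ≠ i ∧ k ≠ j ∧ ((Adj8 i k ∧ ¬ Adj8 j k) ∨ (Adj8 j k ∧ ¬ Adj8 i k))) ∨ Adj8 i j) i j hij
    rcases hk with ⟨hki, hkj, ⟨h1, h2⟩ | ⟨h1, h2⟩⟩ | hk
    · exact (hwc i k hki.symm).1 (q ▸ (hwc j k hkj.symm).2 h2) h1
    · exact (hwc j k hkj.symm).1 (q ▸ (hwc i k hki.symm).2 h2) h1
    · exact (hwc i j hij).1 (q ▸ Commute.refl (w i)) hk
  have hgne : ∀ i, g ≠ w i := fun i q => by
    by_cases e : i = 4
    · exact (hwc 4 3 (by decide)).1 (e ▸ q ▸ (hgw 3).2 (by decide)) (by decide)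
    · by_cases e5 : i = 5
      · exact (hgw 5).1 (by rw [q, e5]) rfl
      · exact (hgw 5).1 (q ▸ (hwc i 5 e5).2 ((by decide : ∀ i : Fin 8, i ≠ 4 → i ≠ 5 → ¬ Adj8 i 5) i e e5)) rfl
  -- the configuration of the level below
  set a := π (L (w 0) (hw 0).1)
  set b := π (L (w 1) (hw 1).1)
  set V : Fin 6 → ↥(hsub D d) ⧸ Subgroup.center ↥(hsub D d) :=
    ![π (L g hg), π (L (w 5) (hw 5).1), π (L (w 4) (hw 4).1), π (L (w 3) (hw 3).1), π (L (w 6) (hw 6).1),
      π (L (w 7) (hw 7).1)] with hVdef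
  have cw : ∀ i j, i ≠ j → (Commute (π (L (w i) (hw i).1)) (π (L (w j) (hw j).1)) ↔ ¬ Adj8 i j) := fun i j hij =>
    (hcm (hw i).1 (hw j).1).trans (hwc i j hij)
  have cg : ∀ i, Commute (π (L g hg)) (π (L (w i) (hw i).1)) ↔ i ≠ 5 := fun i =>
    (hcm hg (hw i).1).trans (hgw i)
  have cg' : ∀ i, Commute (π (L (w i) (hw i).1)) (π (L g hg)) ↔ i ≠ 5 := fun i =>
    ⟨fun q => (cg i).1 q.symm, fun q => ((cg i).2 q).symm⟩
  have hnb : ∀ i, i ≠ 0 → i ≠ 1 → π (L (w i) (hw i).1) ∈ nb (img D d) a := fun i h0 h1 =>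
    ⟨hmem (w i) (hw i).1, fun q => hwne i 0 h0 (hinj (hw i).1 (hw 0).1 q), (cw 0 i h0.symm).2 ((by decide : ∀ i : Fin 8, i ≠ 0 → i ≠ 1 → ¬ Adj8 0 i) i h0 h1)⟩
  have hgn : π (L g hg) ∈ nb (img D d) a :=
    ⟨hmem g hg, fun q => hgne 0 (hinj hg (hw 0).1 q), (cg' 0).2 (by decide)⟩
  have hS : Seven (img D d) a b V (π (L (w 2) (hw 2).1)) := by
    refine ⟨fun q => (cw 0 1 (by decide)).1 q (by decide), hmem (w 0) (hw 0).1, hmem (w 1) (hw 1).1, ?_, ?_, hnb 2 (by decide) (by decide),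
      ?_, fun q => (cw 2 3 (by decide)).1 q (by decide)⟩
    · intro i
      fin_cases i
      · exact ⟨hgn, (cg 1).2 (by decide)⟩
      all_goals exact ⟨hnb _ (by decide) (by decide), (cw _ _ (by decide)).2 (by decide)⟩
    · intro i j hij
      fin_cases i <;> fin_cases j <;>
        first
          | exact absurd rfl hij
          | exact (cg _).trans (by decide)
          | exact (cg' _).trans (by decide)
          | exact (cw _ _ (by decide)).trans (by decide)
    · intro j hj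
      fin_cases j
      · exact (cg' 2).2 (by decide)
      all_goals first
        | exact absurd rfl hj
        | exact (cw _ _ (by decide)).2 (by decide)
  obtain ⟨e22, he22⟩ := exists_iso_seven P.geo P.prim P.type (hS.mirror P.geo P.prim P.type)
  -- the lifted nine
  set Y : List ↥(hsub D d) := [L (w 0) (hw 0).1, L (w 1) (hw 1).1, L (w 2) (hw 2).1, L (w 3) (hw 3).1,
    L (w 4) (hw 4).1, L (w 5) (hw 5).1, L g hg, L (w 6) (hw 6).1, L (w 7) (hw 7).1] with hYdef
  set T : List G := [w 0, w 1, w 2, w 3, w 4, w 5, g, x, w 6, w 7] with hTdef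
  have hpe : ∀ i, i < 9 → π (fl Y i) = e22 (fl Coset.Fi22.Lg i) := by
    intro i hi
    rw [he22 i hi]
    interval_cases i <;> rfl
  have hYev : ∀ p : List Nat, (∀ k ∈ p, k < 9) → π (ev Y p) = e22 (ev Coset.Fi22.Lg p) := by
    intro p hp'
    induction p with
    | nil => simp
    | cons k p ih =>
      rw [ev_cons, ev_cons, map_mul, map_mul, hpe k (hp' k (by simp)),
        ih fun i hi => hp' i (List.mem_cons_of_mem _ hi)]
  have hYT : ∀ k < 9, ((fl Y k : ↥(hsub D d)) : G) = fl T (to23 k) := by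
    intro k hk
    interval_cases k <;> rfl
  have hTev : ∀ p : List Nat, (∀ k ∈ p, k < 9) → ((ev Y p : ↥(hsub D d)) : G) = ev T (p.map to23) := by
    intro p hp'
    induction p with
    | nil => simp
    | cons k p ih =>
      rw [ev_cons, List.map_cons, ev_cons, Subgroup.coe_mul, hYT k (hp' k (by simp)),
        ih fun i hi => hp' i (List.mem_cons_of_mem _ hi)]
  have hxY : ∀ k, k < 9 → k ≠ 6 → Commute (fl T (to23 k)) x := by
    intro k hk h6
    interval_cases k
    exacts [(hw 0).2, (hw 1).2, (hw 2).2, (hw 3).2, (hw 4).2, (hw 5).2, absurd rfl h6, (hw 6).2, (hw 7).2]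
  have hword : ∀ p, p ∈ Coset.Fi22.rels → (∀ k ∈ p, k < 9 ∧ k ≠ 6) → ev T (p.map to23) = 1 := by
    intro p hp1 hp2
    have hz : ev Y p ∈ Subgroup.center ↥(hsub D d) := by
      have e1 := hYev p fun k hk => (hp2 k hk).1
      rw [Coset.Fi22.ev_rels p hp1, map_one] at e1
      exact (QuotientGroup.eq_one_iff _).1 e1
    have e2 := hTev p fun k hk => (hp2 k hk).1
    rcases Level.center_pair (geo23 P) arith23 P.mem hz with q | q
    · rw [← e2, q]
    · exfalso
      refine hdx ?_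
      rw [← q, e2]
      refine commute_ev T x _ fun i hi => ?_
      obtain ⟨k, hk, rfl⟩ := List.mem_map.1 hi
      exact hxY k (hp2 k hk).1 (hp2 k hk).2
  -- the last edge
  have hgx : ¬ Commute g x := by
    intro hgx
    set S : Subgroup ↥(hsub D d) := (Subgroup.centralizer ({x} : Set G)).subgroupOf (hsub D d)
    have hmemS : ∀ y : ↥(hsub D d), y ∈ S ↔ Commute (y : G) x := fun y => by
      rw [Subgroup.mem_subgroupOf, Subgroup.mem_centralizer_singleton_iff]; exact Iff.rfl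
    have htop : S.map π = ⊤ := by
      rw [eq_top_iff]
      intro z hz
      clear hz
      obtain ⟨u, rfl⟩ := e22.surjective z
      induction (Coset.Fi22.closure_Lg.symm ▸ Subgroup.mem_top u : u ∈ Subgroup.closure {y | y ∈ Coset.Fi22.Lg})
        using Subgroup.closure_induction with
      | mem y hy =>
        obtain ⟨i, hi, rfl⟩ := List.getElem_of_mem hy
        have hi' : i < 9 := Coset.Fi22.len_Lg ▸ hi
        refine ⟨fl Y i, (hmemS _).2 ?_, ?_⟩
        · rw [hYT i hi']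
          by_cases h6 : i = 6
          · subst h6; exact hgx
          · exact hxY i hi' h6
        · rw [hpe i hi', fl, List.getD_eq_getElem _ _ hi]
      | one => rw [map_one]; exact one_mem _
      | mul p q _ _ hp' hq' => rw [map_mul]; exact mul_mem hp' hq'
      | inv p _ hp' => rw [map_inv]; exact inv_mem hp'
    have hSall : S = ⊤ := by
      have hperf := (quasi23 P P.mem).1
      rw [eq_top_iff, ← Group.IsPerfect.commutator_eq_top (G := ↥(hsub D d)), commutator_def,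
        Subgroup.commutator_le]
      intro u _ v _
      obtain ⟨s, hs, es⟩ := (htop.symm ▸ Subgroup.mem_top (π u) : π u ∈ S.map π)
      obtain ⟨t, ht, et⟩ := (htop.symm ▸ Subgroup.mem_top (π v) : π v ∈ S.map π)
      have hu : s⁻¹ * u ∈ Subgroup.center ↥(hsub D d) := QuotientGroup.eq.1 es
      have hv : t⁻¹ * v ∈ Subgroup.center ↥(hsub D d) := QuotientGroup.eq.1 et
      have e1 : ⁅u, v⁆ = ⁅s, t⁆ := by
        rw [Subgroup.mem_center_iff] at hu hv
        rw [show u = s * (s⁻¹ * u) by group, show v = t * (t⁻¹ * v) by group]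
        set z := s⁻¹ * u
        set z' := t⁻¹ * v
        simp only [commutatorElement_def, mul_inv_rev]
        calc s * z * (t * z') * (z⁻¹ * s⁻¹) * (z'⁻¹ * t⁻¹)
            = s * (z * t) * (z' * (z⁻¹ * s⁻¹)) * (z'⁻¹ * t⁻¹) := by group
          _ = s * (t * z) * ((z⁻¹ * s⁻¹) * z') * (z'⁻¹ * t⁻¹) := by rw [hu t, hv (z⁻¹ * s⁻¹)]
          _ = s * t * s⁻¹ * t⁻¹ := by group
      rw [e1]
      exact S.mul_mem (S.mul_mem (S.mul_mem hs ht) (S.inv_mem hs)) (S.inv_mem ht)
    have hdS : (⟨d, self23 P d P.mem⟩ : ↥(hsub D d)) ∈ S := hSall ▸ Subgroup.mem_top _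
    exact hdx ((hmemS _).1 hdS)
  -- the ten members
  have hTD : ∀ i < 10, fl T i ∈ D := by
    intro i hi
    interval_cases i
    exacts [(hw 0).1.1, (hw 1).1.1, (hw 2).1.1, (hw 3).1.1, (hw 4).1.1, (hw 5).1.1, hg.1, hx, (hw 6).1.1,
      (hw 7).1.1]
  have hgw' : ∀ i, Commute (w i) g ↔ i ≠ 5 := fun i => ⟨fun q => (hgw i).1 q.symm, fun q => ((hgw i).2 q).symm⟩
  have hwx : ∀ i, Commute (w i) x := fun i => (hw i).2
  have hxw : ∀ i, Commute x (w i) := fun i => (hw i).2.symm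
  have hxg : ¬ Commute x g := fun q => hgx q.symm
  have hTadj : ∀ i < 10, ∀ j < 10, i ≠ j → (Commute (fl T i) (fl T j) ↔ adjT i j = false) := by
    intro i hi j hj hij
    interval_cases i <;> interval_cases j <;>
      simp [hTdef, fl, adjT, hwc, hgw, hgw', hwx, hxw, hgx, hxg, Adj8, adjB8] at hij ⊢
  have hrels : ∀ u ∈ Coset.Fi23.pres.rels, ev T u = 1 := by
    rw [Coset.Fi23.rels_eq]
    intro u hu
    rcases List.mem_append.1 (Coset.Fi23.rels_covered u hu) with hu | hu
    · obtain ⟨⟨i, j, m⟩, hm, rfl⟩ := List.mem_map.1 hu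
      obtain ⟨hi, hj, hk⟩ := pairs_kind _ hm
      dsimp only at hi hj hk
      rw [pairWord, powWord, Coset.ev_flatten_replicate, ev_cons, ev_cons, ev_nil, mul_one]
      have sA := hT.sq _ (hTD i hi)
      have sB := hT.sq _ (hTD j hj)
      rcases hk with ⟨rfl, rfl⟩ | ⟨hij, rfl, hf⟩ | ⟨hij, rfl, hf⟩
      · rw [pow_one, sA]
      · rw [((hTadj i hi j hj hij).2 hf).mul_pow, pow_two, pow_two, sA, sB, one_mul]
      · have nc : ¬ Commute (fl T i) (fl T j) := fun q => by
          rw [(hTadj i hi j hj hij).1 q] at hf; simp at hf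
        rcases hT.pair _ (hTD i hi) _ (hTD j hj) with q | q
        · refine absurd ?_ nc
          have hinv : fl T i * fl T j = (fl T i * fl T j)⁻¹ := eq_inv_of_mul_eq_one_left (by rw [← pow_two]; exact q)
          rw [mul_inv_rev, inv_eq_of_mul_eq_one_left sA, inv_eq_of_mul_eq_one_left sB] at hinv
          exact hinv
        · exact q
    · obtain ⟨hs1, hc1, hs2, hc2, hs3, hc3⟩ := words22
      simp only [List.mem_cons, List.not_mem_nil, or_false] at hu
      rcases hu with rfl | rfl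
      · rw [← hs2]; exact hword _ hs1 hs3
      · rw [← hc2]; exact hword _ hc1 hc3
  set φ : Cfsg.Spor.Fi23 →* G := Coset.Fi23.pres.hom Coset.Fi23.pres_ok hrels
  have hφ0 : φ (fl Coset.Fi23.Lg 0) = w 0 :=
    (Coset.PresData.hom_fl Coset.Fi23.pres_ok hrels Cfsg.Spor.Fi23.Gen.a).trans rfl
  haveI := Coset.Fi23.card_le.1
  have hsimple := Coset.Fi23.isSimple
  have hinjφ : Function.Injective φ := by
    rw [← MonoidHom.ker_eq_bot_iff]
    refine (φ.normal_ker).eq_bot_or_eq_top.resolve_right fun q => ?_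
    have : φ (fl Coset.Fi23.Lg 0) = 1 := MonoidHom.mem_ker.1 (q ▸ Subgroup.mem_top _)
    rw [hφ0] at this
    exact P.base.ne_one _ (hw 0).1.1 this
  have hb : Function.Bijective φ := (Nat.bijective_iff_injective_and_card φ).2
    ⟨hinjφ, by rw [Coset.Fi23.card_and_injective.1, card_G23 P]⟩
  refine ⟨MulEquiv.ofBijective φ hb, ?_⟩
  show φ (fl Coset.Fi23.Lg 0) ∈ D
  rw [hφ0]
  exact (hw 0).1.1

end

/-- A group of type M(23) is the presented group, its class going over to the class of the first generator. -/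
theorem exists_iso_fi23 {G : Type*} [Group G] [Finite G] {D : Set G} (hD : Cfsg.IsThreeTranspositionGroup D)
    (hp : Cfsg.IsPrimitiveUnderConj D) (h : Cfsg.IsOfTypeM23 G D) :
    ∃ e : Cfsg.Spor.Fi23 ≃* G, e '' conjugatesOf (fl Coset.Fi23.Lg 0) = D := by
  obtain ⟨d, P⟩ := exists_point23 hD hp h
  obtain ⟨e, he⟩ := exists_iso_fi23_gen P hD hp h
  refine ⟨e, Set.ext fun y => ⟨?_, fun hy => ?_⟩⟩
  · rintro ⟨u, hu, rfl⟩
    obtain ⟨k, rfl⟩ := isConj_iff.1 hu
    rw [map_mul, map_mul, map_inv]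
    exact P.base.tt.conj _ _ he
  · obtain ⟨k, hk⟩ := hp.1 _ he _ hy
    refine ⟨e.symm k * fl Coset.Fi23.Lg 0 * (e.symm k)⁻¹, isConj_iff.2 ⟨_, rfl⟩, ?_⟩
    rw [map_mul, map_mul, map_inv, e.apply_symm_apply, hk]

end CfsgLib.ThreeT.Prod
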