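import Cfsg.Agent.Spor3T.M22Iso

/-! Carrying facts about the presented group over to a group of type M(22). -/

set_option autoImplicit false

namespace CfsgLib.ThreeT.Prod

open CfsgLib
open CfsgLib.Coset (ev fl ev_cons ev_nil)
open CfsgLib.Coset.Fi22Seven (adjB pairW rels9)

theorem fi22_conj_step {i j : ℕ} (hi : i < 9) (hj : j < 9) (hij : i ≠ j) (h : adjB i j = true) :
    IsConj (fl Coset.Fi22.Lg i) (fl Coset.Fi22.Lg j) := by
  set a := fl Coset.Fi22.Lg i
  set b := fl Coset.Fi22.Lg j
  have sa : a * a = 1 := Coset.Fi22.sq_all i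
  have sb : b * b = 1 := Coset.Fi22.sq_all j
  have e : a * (b * (a * (b * (a * b)))) = 1 := by
    have := fi22_rels (pairW i j) (by
      simp only [rels9, List.mem_append, List.mem_flatMap, List.mem_map, List.mem_range]
      exact Or.inl ⟨i, hi, j, hj, rfl⟩)
    simpa [pairW, hij, h] using this
  refine isConj_iff.2 ⟨a * b, ?_⟩
  rw [mul_inv_rev, inv_eq_of_mul_eq_one_right sa, inv_eq_of_mul_eq_one_right sb]
  have h5 : a * b * a * (b * a) = b := by
    calc a * b * a * (b * a) = a * b * a * (b * a) * (b * b) := by rw [sb, mul_one]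
      _ = a * (b * (a * (b * (a * b)))) * b := by simp only [mul_assoc]
      _ = b := by rw [e, one_mul]
  exact h5

/-- The nine generators lie in one class. -/
theorem fi22_gen_conj {l : ℕ} (hl : l < 9) : IsConj Coset.Fi22.t (fl Coset.Fi22.Lg l) := by
  have ht : Coset.Fi22.t = fl Coset.Fi22.Lg 0 := by rw [Coset.Fi22.t, ev_cons, ev_nil, mul_one]
  rw [ht]
  have c1 := fi22_conj_step (i := 0) (j := 1) (by norm_num) (by norm_num) (by norm_num) (by decide)
  have c2 := c1.trans (fi22_conj_step (i := 1) (j := 2) (by norm_num) (by norm_num) (by norm_num) (by decide))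
  have c3 := c2.trans (fi22_conj_step (i := 2) (j := 3) (by norm_num) (by norm_num) (by norm_num) (by decide))
  have c4 := c3.trans (fi22_conj_step (i := 3) (j := 4) (by norm_num) (by norm_num) (by norm_num) (by decide))
  have c5 := c4.trans (fi22_conj_step (i := 4) (j := 5) (by norm_num) (by norm_num) (by norm_num) (by decide))
  have c6 := c5.trans (fi22_conj_step (i := 5) (j := 6) (by norm_num) (by norm_num) (by norm_num) (by decide))
  have c7 := c3.trans (fi22_conj_step (i := 3) (j := 7) (by norm_num) (by norm_num) (by norm_num) (by decide))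
  have c8 := c7.trans (fi22_conj_step (i := 7) (j := 8) (by norm_num) (by norm_num) (by norm_num) (by decide))
  interval_cases l
  exacts [IsConj.refl _, c1, c2, c3, c4, c5, c6, c7, c8]

end CfsgLib.ThreeT.Prod
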