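import Cfsg.Agent.Spor3T.M23Level
import Cfsg.Agent.S0293
import Cfsg.Agent.S0296

/-!
Type M(24): the neighbourhood of a transposition modulo its centre is a group of type M(23) acting
primitively on its transpositions, and the common neighbours of one far pair generate a group with a
simple orthogonal group as a section.
-/

set_option autoImplicit false
set_option linter.unusedSectionVars false
set_option linter.style.haveILetI false

namespace CfsgLib.ThreeT

namespace Prod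

theorem card_pOmega83 : Nat.card (Cfsg.POmega (ZMod 3) (Cfsg.quadFormPlus 4 (ZMod 3))) = 4952179814400 := by
  have h := Cfsg.Agent.S0293.result (F := ZMod 3) (ZMod.card 3) 4 le_rfl
  norm_num [Finset.prod_range_succ] at h
  omega

theorem not_solvable_pOmega83 : ¬ Group.IsSolvable (Cfsg.POmega (ZMod 3) (Cfsg.quadFormPlus 4 (ZMod 3))) := by
  intro hs
  haveI := Cfsg.Agent.S0296.result (F := ZMod 3) 4 le_rfl
  letI : CommGroup (Cfsg.POmega (ZMod 3) (Cfsg.quadFormPlus 4 (ZMod 3))) :=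
    { (inferInstance : Group (Cfsg.POmega (ZMod 3) (Cfsg.quadFormPlus 4 (ZMod 3)))) with
      mul_comm := IsSimpleGroup.comm_iff_isSolvable.2 hs }
  have h := IsSimpleGroup.prime_card (α := Cfsg.POmega (ZMod 3) (Cfsg.quadFormPlus 4 (ZMod 3)))
  rw [card_pOmega83] at h
  exact absurd (h.eq_one_or_self_of_dvd 2 (by norm_num)) (by norm_num)

variable {G : Type*} [Group G] [Finite G] {D : Set G}

/-- What the definition says of the far pair. -/
theorem far24 (h : Cfsg.IsOfTypeM24 G D) : ∃ d ∈ D, ∃ c ∈ D, ¬ Commute d c ∧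
    Cfsg.IsOfTypeM23 (↥(hsub D d) ⧸ Subgroup.center ↥(hsub D d)) (img D d) ∧
    Nat.card (↥(Subgroup.closure (tri D d c)) ⧸ Subgroup.center ↥(Subgroup.closure (tri D d c))) = 29713078886400 ∧
    ¬ Group.IsSolvable (↥(Subgroup.closure (tri D d c)) ⧸ Subgroup.center ↥(Subgroup.closure (tri D d c))) := by
  obtain ⟨-, d, hd, c, hc, hdc, h23, N, hN, ⟨e⟩, ⟨f⟩⟩ := h
  refine ⟨d, hd, c, hc, hdc, h23, ?_⟩
  have hset : ({y : G | y ∈ D ∧ y ≠ d ∧ Commute d y} ∩ {y : G | y ∈ D ∧ y ≠ c ∧ Commute c y}) = tri D d c := by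
    ext y
    exact ⟨fun hy => ⟨hy.1, hy.2.2.2.symm⟩, fun hy => ⟨hy.1, hy.1.1, fun he => hdc (he ▸ hy.1.2.2), hy.2.symm⟩⟩
  rw [← hset]
  refine ⟨?_, fun hs => not_solvable_pOmega83 ?_⟩
  · haveI := hN
    rw [Subgroup.card_eq_card_quotient_mul_card_subgroup N, Nat.card_congr f.toEquiv, Nat.card_congr e.toEquiv,
      card_pOmega83, Nat.card_eq_fintype_card, Fintype.card_perm, Fintype.card_fin]
    norm_num [Nat.factorial]
  · haveI := hs
    exact Group.isSolvable_of_surjective (f := e.toMonoidHom) e.surjective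

theorem nb_nonempty24 (hT : TT0 D) (h : Cfsg.IsOfTypeM24 G D) : ∃ d ∈ D, (nb D d).Nonempty := by
  obtain ⟨d, hd, c, -, -, h23, -, -⟩ := far24 h
  refine ⟨d, hd, ?_⟩
  by_contra hno
  rw [Set.not_nonempty_iff_eq_empty] at hno
  have hK := facts23 (img_tt0 (d := d) hT) img_gen h23
  have h3 := hK.card.trans (Subgroup.card_quotient_dvd_card (Subgroup.center ↥(hsub D d)))
  rw [show Nat.card ↥(hsub D d) = 1 by rw [hsub, hno, Subgroup.closure_empty]; exact Subgroup.card_bot] at h3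
  norm_num at h3

/-- What holds in type M(24) before counting. -/
theorem base24 (hD : Cfsg.IsThreeTranspositionGroup D) (hp : Cfsg.IsPrimitiveUnderConj D)
    (h : Cfsg.IsOfTypeM24 G D) : Level.Base D := by
  have hT := tt0_of_group hD
  have h1 : ∀ a ∈ D, a ≠ 1 := fun a ha e => by simpa [e] using hD.1.1 a ha
  have hcl : Cfsg.IsThreeTranspositionClass D := by
    obtain ⟨a, ha, -⟩ := hp.2.1
    refine ⟨hD.1, ⟨a, ha, Set.ext fun x => ⟨fun hx => isConj_iff.2 (hp.1 a ha x hx), fun hx => ?_⟩⟩, hD.2.2⟩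
    obtain ⟨g, rfl⟩ := isConj_iff.1 hx
    exact hD.2.1 g a ha
  obtain ⟨d₀, hd₀, b, hb⟩ := nb_nonempty24 hT h
  have hw : ∃ a ∈ D, ∃ b ∈ D, a ≠ b ∧ Commute a b := ⟨d₀, hd₀, b, hb.1, fun e => hb.2.1 e.symm, hb.2.2⟩
  have hZ := h.1
  have hcores := cores_of_primitive hcl hZ hp hw
  have hsol := solvable_normal_eq_bot hcl hZ hcores.1 hcores.2
  have hC := connected_of_primitive hcl hp hw
  refine ⟨hcl, hT, h1, hZ, fun a ha b hb _ _ => hp.1 a ha b hb, twinFree_of_primitive hT hD.2.2 hZ hp, hC, ?_,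
    hsol, ?_⟩
  · intro a ha b₁ hb₁ b₂ hb₂
    exact (rank_three_of_connected hcl hsol hC ⟨⟨d₀, hd₀⟩, ⟨b, hb.1⟩, fun e => hb.2.1
      (congrArg Subtype.val e).symm⟩ ha).2.2.1 b₁ hb₁.1 b₂ hb₂.1 hb₁.2.1 hb₂.2.1 hb₁.2.2 hb₂.2.2
  · obtain ⟨d, hd, c, hc, hdc, -, -, hns⟩ := far24 h
    exact ⟨d, hd, c, hc, hdc, hns⟩

/-- The members of the image are not trivial. -/
theorem img_ne_one {d : G} (hT : TT0 D) (hcj : ConjD D) (htf : TwinFree D) (h1 : ∀ a ∈ D, a ≠ 1) (hd : d ∈ D) :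
    ∀ a ∈ img D d, a ≠ 1 := by
  rintro _ ⟨x, hx, rfl⟩ e
  exact not_central hT hcj htf hd (h1 d hd) hx (h1 _ hx.1) fun z hz => central_of_mk_eq_one e hz

/-- In a group of type M(22) every member has the local data. -/
theorem local22_all {Q : Type*} [Group Q] [Finite Q] {E : Set Q} (hI : TT0 E) (hgen : Subgroup.closure E = ⊤)
    (h1E : ∀ a ∈ E, a ≠ 1) (h22 : Cfsg.IsOfTypeM22 Q E) : ∀ a ∈ E, Local E a := by
  have hK := facts22 hI hgen h22
  obtain ⟨-, d', hd', c', -, -, ⟨F, _, _, hF4, ⟨e'⟩⟩, -⟩ := id h22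
  have hne' : (nb E d').Nonempty := by
    by_contra hno
    rw [Set.not_nonempty_iff_eq_empty] at hno
    have hbot : hsub E d' = ⊥ := by
      show Subgroup.closure (nb E d') = ⊥
      rw [hno, Subgroup.closure_empty]
    obtain ⟨-, hcard⟩ := psu_facts hF4
    have h3 := Subgroup.card_quotient_dvd_card (Subgroup.center ↥(hsub E d'))
    rw [Nat.card_congr e'.toEquiv, hcard,
      show Nat.card ↥(hsub E d') = 1 by rw [hbot]; exact Subgroup.card_bot] at h3
    norm_num at h3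
  intro a ha
  obtain ⟨g, rfl⟩ := hK.conjD d' hd' a ha (h1E _ hd') (h1E _ ha)
  exact (local_of_iso hI hK.conjD hK.twinFree h1E hd' hne' hF4 e').conj hI g

/-- The neighbourhood modulo its centre: primitive of type M(23). -/
theorem img_prim24 (hB : Level.Base D) {d : G} (hd : d ∈ D)
    (h23 : Cfsg.IsOfTypeM23 (↥(hsub D d) ⧸ Subgroup.center ↥(hsub D d)) (img D d)) :
    Cfsg.IsThreeTranspositionGroup (img D d) ∧ Cfsg.IsPrimitiveUnderConj (img D d) := by
  have hT := hB.tt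
  have hI := img_tt0 (d := d) hT
  have hK := facts23 hI img_gen h23
  have h1E := img_ne_one hT hB.conjD hB.twinFree hB.ne_one hd
  have hset : Cfsg.IsThreeTranspositionSet (img D d) :=
    ⟨fun a ha => orderOf_eq_prime (by rw [pow_two]; exact hI.sq a ha) (h1E a ha), hI.pair⟩
  obtain ⟨-, d', hd', c', hc', hdc', h22, -⟩ := id h23
  have hcl : Cfsg.IsThreeTranspositionClass (img D d) := by
    refine ⟨hset, ⟨d', hd', Set.ext fun x => ⟨fun hx => isConj_iff.2
      (hK.conjD d' hd' x hx (h1E _ hd') (h1E _ hx)), fun hx => ?_⟩⟩, img_gen⟩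
    obtain ⟨g, rfl⟩ := isConj_iff.1 hx
    exact hI.conj g d' hd'
  -- common neighbours of a non-commuting pair
  have hcommon : ∀ x ∈ img D d, ∀ y ∈ img D d, ¬ Commute x y → ∃ z ∈ img D d, Commute x z ∧ Commute z y := by
    rintro _ ⟨x, hx, rfl⟩ _ ⟨y, hy, rfl⟩ hxy
    have hxy' : ¬ Commute (x : G) y := fun e => hxy ((map_commute_iff hT hx hy).2 e)
    obtain ⟨z, hz, hzd, hcz⟩ := Level.exists_partner hB hx.1 hy.1 hxy'
      (z := d) ⟨⟨hd, fun e => hx.2.1 e.symm, hx.2.2.symm⟩, hy.2.2⟩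
    have hzn : z ∈ nb D d := ⟨hz.1.1, hzd, hcz.symm⟩
    refine ⟨_, ⟨⟨z, Subgroup.subset_closure hzn⟩, hzn, rfl⟩, ?_, ?_⟩
    · exact (map_commute_iff hT hx (y := ⟨z, Subgroup.subset_closure hzn⟩) hzn).2 hz.1.2.2
    · exact (map_commute_iff hT (x := ⟨z, Subgroup.subset_closure hzn⟩) hzn hy).2 hz.2
  have hC : ∀ p q : img D d, Relation.ReflTransGen
      (fun p q : img D d => Commute (p : ↥(hsub D d) ⧸ Subgroup.center ↥(hsub D d)) q) p q := by
    intro p q
    by_cases hc : Commute (p : ↥(hsub D d) ⧸ Subgroup.center ↥(hsub D d)) q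
    · exact Relation.ReflTransGen.single hc
    · obtain ⟨z, hz, h1, h2⟩ := hcommon p p.2 q q.2 hc
      exact (Relation.ReflTransGen.single (b := ⟨z, hz⟩) h1).tail h2
  have h2 : Cfsg.pCore 2 (↥(hsub D d) ⧸ Subgroup.center ↥(hsub D d)) = ⊥ := by
    by_contra hne
    obtain ⟨v, hv, hvd, hq⟩ := exists_twin hcl 2 (by rw [hK.center]; exact fun hle => hne (le_bot_iff.1 hle)) hd'
    exact hvd (hK.twinFree d' hd' v hv (h1E _ hd') (h1E _ hv) fun x hx =>
      ⟨fun hh => ((same_commuting_of_mem_two_core hcl hd' hv hq x hx).2 hh.symm).symm,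
        fun hh => ((same_commuting_of_mem_two_core hcl hd' hv hq x hx).1 hh.symm).symm⟩).symm
  have h3 : Cfsg.pCore 3 (↥(hsub D d) ⧸ Subgroup.center ↥(hsub D d)) = ⊥ := by
    by_contra hne
    obtain ⟨v, hv, hvd, hq⟩ := exists_twin hcl 3 (by rw [hK.center]; exact fun hle => hne (le_bot_iff.1 hle)) hd'
    have hsame := same_others_of_mem_three_core hcl hd' hv hq
    have hdv : ¬ Commute d' v := fun hh => (hsame.subset (show v ∈
      {y | y ∈ img D d ∧ y ≠ d' ∧ Commute d' y} from ⟨hv, hvd, hh⟩)).2.1 rfl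
    obtain ⟨e, he, hde, hev⟩ := hcommon d' hd' v hv hdv
    have hne1 : e ≠ d' := fun q => hdv (q ▸ hev)
    have hne2 : e ≠ v := fun q => hdv (q ▸ hde)
    -- move the common neighbour to the point of type M(22)
    obtain ⟨g, hg⟩ := hK.conjD e he d' hd' (h1E e he) (h1E d' hd')
    have hp := nb_conj hI hd' (fun q => hne1 q.symm) hde.symm hg
    have hq' := nb_conj hI hv (fun q => hne2 q.symm) hev hg
    set p := g * d' * g⁻¹ with hpdef
    set q' := g * v * g⁻¹ with hqdef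
    set P : ↥(hsub (img D d) d') := ⟨p, Subgroup.subset_closure hp⟩
    set V : ↥(hsub (img D d) d') := ⟨q', Subgroup.subset_closure hq'⟩
    set π := QuotientGroup.mk' (Subgroup.center ↥(hsub (img D d) d'))
    have hP : π P ∈ img (img D d) d' := ⟨P, hp, rfl⟩
    have hV : π V ∈ img (img D d) d' := ⟨V, hq', rfl⟩
    have hloc := local22_all (img_tt0 (d := d') hI) img_gen (img_ne_one hI hK.conjD hK.twinFree h1E hd') h22
    have hPV : ¬ Commute (π P) (π V) := fun hh => hdv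
      ((commute_conj_iff g d' v).1 ((map_commute_iff hI (x := P) (y := V) hp hq').1 hh))
    have key : ∀ z ∈ img (img D d) d', z ≠ π P → Commute z (π P) → Commute z (π V) := by
      rintro _ ⟨y, hy, rfl⟩ hne hzP
      have hyp : Commute (y : ↥(hsub D d) ⧸ Subgroup.center ↥(hsub D d)) p := (map_commute_iff hI hy hp).1 hzP
      refine (map_commute_iff hI hy (y := V) hq').2 ?_
      have hy' : g⁻¹ * (y : ↥(hsub D d) ⧸ Subgroup.center ↥(hsub D d)) * g ∈
          {z | z ∈ img D d ∧ z ≠ d' ∧ Commute d' z} := by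
        refine ⟨by simpa using hI.conj g⁻¹ _ hy.1, fun q => hne (congrArg π (Subtype.ext ?_ : y = P)), ?_⟩
        · show (y : ↥(hsub D d) ⧸ Subgroup.center ↥(hsub D d)) = g * d' * g⁻¹
          rw [show (y : ↥(hsub D d) ⧸ Subgroup.center ↥(hsub D d)) =
            g * (g⁻¹ * (y : ↥(hsub D d) ⧸ Subgroup.center ↥(hsub D d)) * g) * g⁻¹ by group]
          exact congrArg (fun t => g * t * g⁻¹) q
        · refine (commute_conj_iff g _ _).1 ?_
          rw [show g * (g⁻¹ * (y : ↥(hsub D d) ⧸ Subgroup.center ↥(hsub D d)) * g) * g⁻¹ =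
            (y : ↥(hsub D d) ⧸ Subgroup.center ↥(hsub D d)) by group]
          exact hyp.symm
      have h5 := (commute_conj_iff g _ _).2 (hsame.subset hy').2.2
      rw [show g * (g⁻¹ * (y : ↥(hsub D d) ⧸ Subgroup.center ↥(hsub D d)) * g) * g⁻¹ =
        (y : ↥(hsub D d) ⧸ Subgroup.center ↥(hsub D d)) by group] at h5
      exact h5.symm
    obtain ⟨a, ha⟩ : (nb (img (img D d) d') (π P)).Nonempty :=
      Set.nonempty_of_ncard_ne_zero (by rw [(hloc _ hP).card_nb]; norm_num)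
    have hPn : π P ∈ nb (img (img D d) d') a := ⟨hP, fun q => ha.2.1 q.symm, ha.2.2.symm⟩
    have hav : Commute a (π V) := key a ha.1 ha.2.1 ha.2.2.symm
    have hVn : π V ∈ nb (img (img D d) d') a := ⟨hV, fun q => hPV (q ▸ ha.2.2), hav⟩
    have hsub' : {y | y ∈ nb (img (img D d) d') a ∧ y ≠ π P ∧ Commute y (π P)} ⊆
        {y | y ∈ nb (img (img D d) d') a ∧ Commute y (π P) ∧ Commute y (π V)} := fun y hy =>
      ⟨hy.1, hy.2.2, key y hy.1.1 hy.2.1 hy.2.2⟩
    have := Set.ncard_le_ncard hsub' (Set.toFinite _)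
    rw [(hloc a ha.1).card_pair _ hPn, (hloc a ha.1).card_line _ hPn _ hVn hPV] at this
    omega
  have hsol := solvable_normal_eq_bot hcl hK.center h2 h3
  exact ⟨⟨hset, hI.conj, img_gen⟩, primitive_of_connected hcl hsol hC
    ⟨d', hd', c', hc', fun q => hdc' (q ▸ Commute.refl d')⟩⟩

/-- The facts at the transposition where type M(23) is given. -/
structure Point24 (D : Set G) (d : G) : Prop where
  mem : d ∈ D
  base : Level.Base D
  below : ∃ e, Point23 (img D d) e
  group : Cfsg.IsThreeTranspositionGroup (img D d)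
  prim : Cfsg.IsPrimitiveUnderConj (img D d)
  type : Cfsg.IsOfTypeM23 (↥(hsub D d) ⧸ Subgroup.center ↥(hsub D d)) (img D d)
  far : ∃ c ∈ D, ¬ Commute d c ∧
    Nat.card (↥(Subgroup.closure (tri D d c)) ⧸ Subgroup.center ↥(Subgroup.closure (tri D d c))) = 29713078886400

theorem exists_point24 (hD : Cfsg.IsThreeTranspositionGroup D) (hp : Cfsg.IsPrimitiveUnderConj D)
    (h : Cfsg.IsOfTypeM24 G D) : ∃ d, Point24 D d := by
  obtain ⟨d, hd, c, hc, hdc, h23, hcard, -⟩ := far24 h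
  obtain ⟨h1, h2⟩ := img_prim24 (base24 hD hp h) hd h23
  exact ⟨d, hd, base24 hD hp h, exists_point23 h1 h2 h23, h1, h2, h23, c, hc, hdc, hcard⟩

end Prod

end CfsgLib.ThreeT
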