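import Cfsg.Agent.Spor3T.M22Cover

/-!
Type M(22): orders, width, and the centraliser of a product of three commuting transpositions.
-/

set_option autoImplicit false
set_option linter.unusedSectionVars false
set_option linter.style.haveILetI false

namespace CfsgLib.ThreeT.Prod

variable {G : Type*} [Group G] [Finite G] {D : Set G}

/-- Orbit times stabiliser inside a subgroup. -/
theorem card_orbit_stab {α : Type*} (H K : Subgroup G) (f : G → α) (X : Set α)
    (hfib : ∀ g ∈ H, ∀ g' ∈ H, (f g = f g' ↔ g⁻¹ * g' ∈ K)) (hX : f '' (H : Set G) = X) :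
    Nat.card ↥H = X.ncard * Nat.card ↥(K ⊓ H) := by
  subst hX
  let φ : ↥H ⧸ K.subgroupOf H → ↥(f '' (H : Set G)) := Quotient.lift
    (fun g => ⟨f g, g, g.2, rfl⟩) fun g g' hgg => Subtype.ext
      ((hfib g g.2 g' g'.2).2 (by
        have := QuotientGroup.eq.1 (Quotient.sound hgg)
        simpa [Subgroup.mem_subgroupOf] using this))
  have hb : Function.Bijective φ := by
    refine ⟨fun u v e => ?_, ?_⟩
    · obtain ⟨g, rfl⟩ := QuotientGroup.mk_surjective u
      obtain ⟨g', rfl⟩ := QuotientGroup.mk_surjective v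
      refine QuotientGroup.eq.2 ?_
      have := (hfib g g.2 g' g'.2).1 (congrArg Subtype.val e)
      simpa [Subgroup.mem_subgroupOf] using this
    · rintro ⟨_, g, hg, rfl⟩
      exact ⟨((⟨g, hg⟩ : ↥H) : ↥H ⧸ K.subgroupOf H), rfl⟩
  rw [Subgroup.card_eq_card_quotient_mul_card_subgroup (K.subgroupOf H), Nat.card_congr (Equiv.ofBijective φ hb),
    Nat.card_coe_set_eq, ← Subgroup.inf_subgroupOf_right,
    Nat.card_congr (Subgroup.subgroupOfEquivOfLe inf_le_right).toEquiv]

theorem conj_fib {g g' b : G} : g * b * g⁻¹ = g' * b * g'⁻¹ ↔ g⁻¹ * g' ∈ Subgroup.centralizer ({b} : Set G) := by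
  rw [Subgroup.mem_centralizer_singleton_iff]
  constructor
  · intro e
    calc g⁻¹ * g' * b = g⁻¹ * (g' * b * g'⁻¹) * g' := by group
      _ = g⁻¹ * (g * b * g⁻¹) * g' := by rw [e]
      _ = b * (g⁻¹ * g') := by group
  · intro e
    calc g * b * g⁻¹ = g * (b * (g⁻¹ * g')) * g'⁻¹ := by group
      _ = g * (g⁻¹ * g' * b) * g'⁻¹ := by rw [e]
      _ = g' * b * g'⁻¹ := by group

theorem card_psu_six {F : Type} [Field F] [Fintype F] (hF : Fintype.card F = 4) :
    Nat.card (Cfsg.PSU 6 F 2) = 9196830720 := by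
  have hF' : Nat.card F = 2 ^ 2 := by rw [Nat.card_eq_fintype_card, hF]; rfl
  have h := CfsgLib.Unitary.card_PSU_mul (F := F) hF' (n := 6) (by norm_num)
  rw [CfsgLib.Unitary.card_GU hF'] at h
  have e : 2 ^ (6 * (6 - 1) / 2) * ∏ i ∈ Finset.range 6,
      (if Even i then 2 ^ (i + 1) + 1 else 2 ^ (i + 1) - 1) = 9 * 9196830720 := by decide +kernel
  rw [e, show Nat.gcd 6 (2 + 1) = 3 by decide] at h
  omega

variable (h : Geo22 D)

include h

/-- The centre of the subgroup generated by the neighbours. -/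
theorem card_center_hsub {d : G} (hd : d ∈ D) : Nat.card (Subgroup.center ↥(hsub D d)) = 2 := by
  set d' : ↥(hsub D d) := ⟨d, self_mem_hsub h hd⟩
  have e : (Subgroup.center ↥(hsub D d) : Set ↥(hsub D d)) = {1, d'} := by
    ext x
    constructor
    · intro hx
      have hall : ∀ y ∈ nb D d, Commute y (x : G) := fun y hy => commute_of_mem_center hx hy
      rcases cent_nb h hd (commute_hsub x.2).symm hall with e | e
      · exact Or.inl (Subtype.ext e)
      · exact Or.inr (Subtype.ext e)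
    · rintro (rfl | rfl)
      · exact one_mem _
      · exact mem_center_hsub fun y hy => hy.2.2.symm
  show Nat.card ↥(Subgroup.center ↥(hsub D d) : Set ↥(hsub D d)) = 2
  rw [Nat.card_coe_set_eq, e]
  exact Set.ncard_pair fun q => h.ne_one d hd (congrArg Subtype.val q).symm

/-- Ordered commuting triples are conjugate. -/
theorem triple_conj {a b c : G} (ha : a ∈ D) (hb : b ∈ nb D a) (hc : c ∈ nb D a) (hbc : b ≠ c)
    (cbc : Commute b c) {s t u : G} (hs : s ∈ D) (ht : t ∈ nb D s) (hu : u ∈ nb D s) (htu : t ≠ u)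
    (ctu : Commute t u) : ∃ g : G, g * s * g⁻¹ = a ∧ g * t * g⁻¹ = b ∧ g * u * g⁻¹ = c := by
  obtain ⟨g₁, hg₁⟩ := h.conjD s hs a ha (h.ne_one s hs) (h.ne_one a ha)
  have ht₁ := nb_conj h.tt ht.1 ht.2.1 ht.2.2 hg₁
  have hu₁ := nb_conj h.tt hu.1 hu.2.1 hu.2.2 hg₁
  obtain ⟨g₂, hg₂, e₂⟩ := h.near a ha _ ht₁ b hb
  set u' := g₂ * (g₁ * u * g₁⁻¹) * g₂⁻¹ with hu'def
  have hg₂a : g₂ * a * g₂⁻¹ = a := by rw [(commute_hsub hg₂).eq, mul_inv_cancel_right]
  have hu' : u' ∈ nb D a := nb_conj h.tt hu₁.1 hu₁.2.1 hu₁.2.2 hg₂a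
  have hu'b : u' ≠ b := fun e => htu (by
    have := e.trans e₂.symm
    exact (mul_left_cancel (mul_right_cancel (mul_left_cancel (mul_right_cancel this)))).symm)
  have cu'b : Commute u' b := by
    rw [← e₂]; exact (commute_conj_iff g₂ _ _).2 ((commute_conj_iff g₁ u t).2 ctu.symm)
  -- an element fixing `a, b` and moving `u'` to `c`
  obtain ⟨g₃, ha₃, hb₃, hc₃⟩ : ∃ g : G, Commute g a ∧ Commute g b ∧ g * u' * g⁻¹ = c := by
    by_cases e : u' = c
    · exact ⟨1, Commute.one_left a, Commute.one_left b, by rw [e]; group⟩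
    by_cases hcc : Commute u' c
    · have hL := h.loc a ha
      obtain ⟨x, ⟨hx, hxb, cxb⟩, hx1, hx2⟩ : ∃ x, (x ∈ nb D a ∧ x ≠ b ∧ Commute x b) ∧
          ¬ Commute u' x ∧ ¬ Commute c x := by
        by_contra hno
        push Not at hno
        have hsub' : {y | y ∈ nb D a ∧ y ≠ b ∧ Commute y b} ⊆
            insert u' {y | y ∈ nb D a ∧ y ≠ b ∧ y ≠ u' ∧ Commute y b ∧ Commute y u'} ∪
            insert c {y | y ∈ nb D a ∧ y ≠ b ∧ y ≠ c ∧ Commute y b ∧ Commute y c} := by
          intro z hz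
          by_cases hzd : Commute u' z
          · left
            by_cases e : z = u'
            · exact Or.inl e
            · exact Or.inr ⟨hz.1, hz.2.1, e, hz.2.2, hzd.symm⟩
          · right
            by_cases e : z = c
            · exact Or.inl e
            · exact Or.inr ⟨hz.1, hz.2.1, e, hz.2.2, (hno z hz hzd).symm⟩
        have h1 := (Set.ncard_le_ncard hsub' (Set.toFinite _)).trans (Set.ncard_union_le _ _)
        rw [hL.card_pair b hb, Set.ncard_insert_of_notMem (fun h' => h'.2.2.1 rfl) (Set.toFinite _),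
          Set.ncard_insert_of_notMem (fun h' => h'.2.2.1 rfl) (Set.toFinite _),
          hL.card_comm b hb u' hu' hu'b.symm cu'b.symm, hL.card_comm b hb c hc hbc cbc] at h1
        omega
      exact ⟨x * u' * c * x, ((hx.2.2.symm.mul_left hu'.2.2.symm).mul_left hc.2.2.symm).mul_left hx.2.2.symm,
        ((cxb.mul_left cu'b).mul_left cbc.symm).mul_left cxb, swap_conj h.tt hu'.1 hc.1 hx.1 hcc hx1 hx2⟩
    · refine ⟨u' * c, hu'.2.2.symm.mul_left hc.2.2.symm, cu'b.mul_left cbc.symm, ?_⟩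
      rw [mul_inv_rev, h.tt.inv hu'.1, h.tt.inv hc.1,
        show u' * c * u' * (c * u') = (u' * c * u') * c * u' by group, braid0 h.tt hu'.1 hc.1 hcc,
        show c * u' * c * c * u' = c * (u' * (c * c) * u') by group, h.tt.sq c hc.1, mul_one,
        h.tt.sq u' hu'.1, mul_one]
  refine ⟨g₃ * g₂ * g₁, ?_, ?_, ?_⟩
  · calc g₃ * g₂ * g₁ * s * (g₃ * g₂ * g₁)⁻¹ = g₃ * (g₂ * (g₁ * s * g₁⁻¹) * g₂⁻¹) * g₃⁻¹ := by group
      _ = a := by rw [hg₁, hg₂a, ha₃.eq, mul_inv_cancel_right]
  · calc g₃ * g₂ * g₁ * t * (g₃ * g₂ * g₁)⁻¹ = g₃ * (g₂ * (g₁ * t * g₁⁻¹) * g₂⁻¹) * g₃⁻¹ := by group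
      _ = b := by rw [e₂, hb₃.eq, mul_inv_cancel_right]
  · calc g₃ * g₂ * g₁ * u * (g₃ * g₂ * g₁)⁻¹ = g₃ * (g₂ * (g₁ * u * g₁⁻¹) * g₂⁻¹) * g₃⁻¹ := by group
      _ = c := hc₃

/-- The order of `hsub d`, by the stabiliser of a commuting triple. -/
theorem card_hsub_eq {a b c : G} (ha : a ∈ D) (hb : b ∈ nb D a) (hc : c ∈ nb D a) (hbc : b ≠ c)
    (cbc : Commute b c) : Nat.card ↥(hsub D a) = 693 * 180 *
      Nat.card ↥(Subgroup.centralizer ({c} : Set G) ⊓ (Subgroup.centralizer ({b} : Set G) ⊓ hsub D a)) := by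
  have hfix : ∀ {g : G}, g ∈ hsub D a → g * a * g⁻¹ = a := fun {g} hg => by
    rw [(commute_hsub hg).eq, mul_inv_cancel_right]
  have hfix' : ∀ {g x : G}, g ∈ Subgroup.centralizer ({x} : Set G) → g * x * g⁻¹ = x := fun {g x} hg => by
    rw [Subgroup.mem_centralizer_singleton_iff.1 hg, mul_inv_cancel_right]
  rw [card_orbit_stab (hsub D a) (Subgroup.centralizer ({b} : Set G)) (fun g => g * b * g⁻¹) (nb D a)
      (fun g _ g' _ => conj_fib) ?_, (h.loc a ha).card_nb,
    card_orbit_stab (Subgroup.centralizer ({b} : Set G) ⊓ hsub D a) (Subgroup.centralizer ({c} : Set G))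
      (fun g => g * c * g⁻¹) {y | y ∈ nb D a ∧ y ≠ b ∧ Commute y b} (fun g _ g' _ => conj_fib) ?_,
    (h.loc a ha).card_pair b hb, mul_assoc]
  · ext y
    constructor
    · rintro ⟨g, ⟨hg1, hg2⟩, rfl⟩
      have e := hfix' hg1
      refine ⟨nb_conj h.tt hc.1 hc.2.1 hc.2.2 (hfix hg2), fun q => hbc ?_, ?_⟩
      · exact (mul_left_cancel (mul_right_cancel (q.trans e.symm))).symm
      · have := (commute_conj_iff g c b).2 cbc.symm
        rwa [e] at this
    · rintro ⟨hy, hyb, cyb⟩
      obtain ⟨g, hga, hgb, hgc⟩ := triple_conj h ha hb hy hyb.symm cyb.symm ha hb hc hbc cbc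
      refine ⟨g, ⟨?_, ?_⟩, hgc⟩
      · exact Subgroup.mem_centralizer_singleton_iff.2 (mul_inv_eq_iff_eq_mul.1 hgb)
      · show g ∈ hsub D a
        rw [(centralizer_eq h ha).1]
        exact Subgroup.mem_centralizer_singleton_iff.2 (mul_inv_eq_iff_eq_mul.1 hga)
  · ext y
    constructor
    · rintro ⟨g, hg, rfl⟩; exact nb_conj h.tt hb.1 hb.2.1 hb.2.2 (hfix hg)
    · intro hy
      obtain ⟨g, hg, e⟩ := h.near a ha b hb y hy
      exact ⟨g, hg, e⟩

/-- Factorisations of a product of three commuting members, in order. -/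
theorem ncard_factor {l₀ : List G} (hl : Triple D l₀) :
    {l : List G | Triple D l ∧ l.prod = l₀.prod}.ncard = 12 := by
  classical
  obtain ⟨l₁, l₂, h₁, h₂, hne, hall⟩ := two_triples h.toSetup22 hl
  have e : {l : List G | Triple D l ∧ l.prod = l₀.prod} =
      ↑(l₁.permutations.toFinset ∪ l₂.permutations.toFinset) := by
    ext l
    simp only [Finset.coe_union, Set.mem_union, Finset.mem_coe, List.mem_toFinset, List.mem_permutations,
      Set.mem_ofPred_eq]
    constructor
    · rintro ⟨ht, hp⟩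
      exact (hall l ht hp).imp (fun q => (List.perm_ext_iff_of_nodup ht.1 h₁.1.1).2 q)
        (fun q => (List.perm_ext_iff_of_nodup ht.1 h₂.1.1).2 q)
    · have key : ∀ {m : List G}, Triple D m → m.prod = l₀.prod → l.Perm m → Triple D l ∧ l.prod = l₀.prod := by
        intro m hm hp q
        have hm' : ∀ x, x ∈ l → x ∈ m := fun x hx => q.mem_iff.1 hx
        have hcm : ∀ x ∈ l, ∀ y ∈ l, Commute x y := fun x hx y hy => hm.2.2.2 x (hm' x hx) y (hm' y hy)
        exact ⟨⟨q.nodup_iff.2 hm.1, q.length_eq.trans hm.2.1, fun x hx => hm.2.2.1 x (hm' x hx), hcm⟩,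
          (q.prod_eq' (List.pairwise_of_forall_mem_list hcm)).trans hp⟩
      rintro (q | q)
      · exact key h₁.1 h₁.2 q
      · exact key h₂.1 h₂.2 q
  rw [e, Set.ncard_coe_finset, Finset.card_union_of_disjoint, List.toFinset_card_of_nodup
    (List.nodup_permutations _ h₁.1.1), List.toFinset_card_of_nodup (List.nodup_permutations _ h₂.1.1),
    List.length_permutations, List.length_permutations, h₁.1.2.1, h₂.1.2.1]
  · rfl
  · rw [Finset.disjoint_left]
    intro l q₁ q₂
    rw [List.mem_toFinset, List.mem_permutations] at q₁ q₂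
    exact hne fun x => (q₁.mem_iff).symm.trans q₂.mem_iff

/-- The centraliser of a product of three commuting members. -/
theorem card_cent_triple {a b c : G} (ha : a ∈ D) (hb : b ∈ nb D a) (hc : c ∈ nb D a) (hbc : b ≠ c)
    (cbc : Commute b c) : 693 * 180 * Nat.card ↥(Subgroup.centralizer ({a * b * c} : Set G)) =
      12 * Nat.card ↥(hsub D a) := by
  have hcm : ∀ x ∈ [a, b, c], ∀ y ∈ [a, b, c], Commute x y := by
    simp only [List.mem_cons, List.not_mem_nil, or_false, forall_eq_or_imp, forall_eq]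
    exact ⟨⟨Commute.refl _, hb.2.2, hc.2.2⟩, ⟨hb.2.2.symm, Commute.refl _, cbc⟩,
      hc.2.2.symm, cbc.symm, Commute.refl _⟩
  have hl : Triple D [a, b, c] := by
    refine ⟨?_, rfl, ?_, hcm⟩
    · simp [List.nodup_cons, hbc, hb.2.1.symm, hc.2.1.symm]
    · simp only [List.mem_cons, List.not_mem_nil, or_false, forall_eq_or_imp, forall_eq]
      exact ⟨ha, hb.1, hc.1⟩
  have hprod : [a, b, c].prod = a * b * c := by simp [mul_assoc]
  set S := Subgroup.centralizer ({c} : Set G) ⊓ (Subgroup.centralizer ({b} : Set G) ⊓ hsub D a)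
  have hS : S ≤ Subgroup.centralizer ({a * b * c} : Set G) := by
    rintro g ⟨h1, h2, h3⟩
    have e1 : Commute g c := Subgroup.mem_centralizer_singleton_iff.1 h1
    have e2 : Commute g b := Subgroup.mem_centralizer_singleton_iff.1 h2
    exact Subgroup.mem_centralizer_singleton_iff.2 (((commute_hsub h3).mul_right e2).mul_right e1).eq
  rw [card_hsub_eq h ha hb hc hbc cbc, card_orbit_stab (Subgroup.centralizer ({a * b * c} : Set G)) S
      (fun g => [g * a * g⁻¹, g * b * g⁻¹, g * c * g⁻¹]) {l : List G | Triple D l ∧ l.prod = [a, b, c].prod}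
      ?_ ?_, ncard_factor h hl, inf_eq_left.2 hS]
  · ring
  · intro g _ g' _
    simp only [List.cons.injEq, and_true, conj_fib, S, Subgroup.mem_inf, (centralizer_eq h ha).1]
    tauto
  · ext l
    constructor
    · rintro ⟨g, hg, rfl⟩
      rw [SetLike.mem_coe, Subgroup.mem_centralizer_singleton_iff] at hg
      refine ⟨⟨?_, rfl, ?_, ?_⟩, ?_⟩
      · have := hl.1.map (f := fun x => g * x * g⁻¹) (fun x y q => mul_left_cancel (mul_right_cancel q))
        simpa using this
      · simp only [List.mem_cons, List.not_mem_nil, or_false, forall_eq_or_imp, forall_eq]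
        exact ⟨h.tt.conj g a ha, h.tt.conj g b hb.1, h.tt.conj g c hc.1⟩
      · simp only [List.mem_cons, List.not_mem_nil, or_false, forall_eq_or_imp, forall_eq, commute_conj_iff]
        exact ⟨⟨Commute.refl _, hb.2.2, hc.2.2⟩, ⟨hb.2.2.symm, Commute.refl _, cbc⟩,
          hc.2.2.symm, cbc.symm, Commute.refl _⟩
      · rw [hprod]
        simp only [List.prod_cons, List.prod_nil, mul_one]
        calc g * a * g⁻¹ * (g * b * g⁻¹ * (g * c * g⁻¹)) = g * (a * b * c) * g⁻¹ := by group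
          _ = a * b * c := by rw [hg, mul_inv_cancel_right]
    · rintro ⟨ht, hp⟩
      obtain ⟨s, t, u, rfl⟩ := List.length_eq_three.1 ht.2.1
      have hn : s ≠ t ∧ s ≠ u ∧ t ≠ u := by simpa [List.nodup_cons, and_assoc] using ht.1
      have hm := ht.2.2.1
      have hcc := ht.2.2.2
      obtain ⟨g, e1, e2, e3⟩ := triple_conj h (hm s (by simp))
        ⟨hm t (by simp), hn.1.symm, hcc s (by simp) t (by simp)⟩
        ⟨hm u (by simp), hn.2.1.symm, hcc s (by simp) u (by simp)⟩ hn.2.2 (hcc t (by simp) u (by simp))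
        ha hb hc hbc cbc
      refine ⟨g, ?_, by simp only [e1, e2, e3]⟩
      rw [SetLike.mem_coe, Subgroup.mem_centralizer_singleton_iff]
      refine mul_inv_eq_iff_eq_mul.1 ?_
      rw [← hprod]
      conv_rhs => rw [← hp]
      simp only [List.prod_cons, List.prod_nil, mul_one]
      calc g * (a * (b * c)) * g⁻¹ = g * a * g⁻¹ * (g * b * g⁻¹ * (g * c * g⁻¹)) := by group
        _ = s * (t * u) := by rw [e1, e2, e3]

/-- The order of the group. -/
theorem order22 (hp : Cfsg.IsPrimitiveUnderConj D) (ht : Cfsg.IsOfTypeM22 G D) :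
    (∀ d ∈ D, Nat.card ↥(hsub D d) = 2 * 9196830720) ∧ Nat.card G = 3510 * (2 * 9196830720) := by
  obtain ⟨-, d₀, hd₀, c, -, -, ⟨F, _, _, hF, ⟨e⟩⟩, -⟩ := id ht
  have h0 : Nat.card ↥(hsub D d₀) = 2 * 9196830720 := by
    rw [Subgroup.card_eq_card_quotient_mul_card_subgroup (Subgroup.center ↥(hsub D d₀)),
      card_center_hsub h hd₀, Nat.card_congr e.toEquiv, card_psu_six hF, mul_comm]
  have hG : ∀ d ∈ D, Nat.card G = 3510 * Nat.card ↥(hsub D d) := fun d hd => by
    rw [Subgroup.card_eq_card_quotient_mul_card_subgroup (hsub D d), (centralizer_eq h hd).2, ncard_D h hd]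
  refine ⟨fun d hd => ?_, by rw [hG d₀ hd₀, h0]⟩
  have := (hG d hd).symm.trans (hG d₀ hd₀)
  omega

end CfsgLib.ThreeT.Prod
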