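import Cfsg.Agent.Spor3T.M22Seven
import Cfsg.Agent.Spor3T.M22Order
import Cfsg.Agent.Coset.Fi22.ThreeTransp
import Cfsg.Agent.Coset.Fi22Seven.Bound

/-!
A group of type M(22) is the group presented as `Cfsg.Spor.Fi22`: nine of its transpositions satisfy the
two seven-point relators, which bound the order of the group they span by three times the order of Fi22.
-/

set_option autoImplicit false
set_option linter.unusedSectionVars false
set_option maxRecDepth 100000
set_option Elab.async false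

namespace CfsgLib.ThreeT.Prod

open CfsgLib
open CfsgLib.Coset (ev fl ev_cons ev_nil ev_append genBy checkRels)
open CfsgLib.Coset.Fi22Seven (adjB pairW q3 mir rels9)

/-! ### Words -/

theorem ev_map_letters {X : Type*} [Group X] (L L' : List X) (m : ℕ → ℕ) :
    ∀ p : List ℕ, (∀ i ∈ p, fl L (m i) = fl L' i) → ev L (p.map m) = ev L' p
  | [], _ => by simp
  | a :: p, hp => by
    rw [List.map_cons, ev_cons, ev_cons, hp a (by simp),
      ev_map_letters L L' m p fun i hi => hp i (List.mem_cons_of_mem _ hi)]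

theorem ev_hom {X Y : Type*} [Group X] [Group Y] (φ : X →* Y) (L : List X) (L' : List Y)
    (h : ∀ i, φ (fl L i) = fl L' i) : ∀ p : List ℕ, φ (ev L p) = ev L' p
  | [] => by simp
  | a :: p => by rw [ev_cons, ev_cons, map_mul, h, ev_hom φ L L' h p]

theorem q3_eq : q3 = sevenW := sevenW_eq.symm

theorem q3_letters : ∀ i ∈ q3, i = 0 ∨ i = 1 ∨ i = 2 ∨ i = 3 ∨ i = 4 ∨ i = 7 ∨ i = 8 := by decide +kernel

theorem mem_rels9 {w : List ℕ} (hw : w ∈ rels9) :
    (∃ i < 9, ∃ j < 9, pairW i j = w) ∨ w = q3 ∨ w = q3.map mir := by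
  simp only [rels9, List.mem_append, List.mem_flatMap, List.mem_map, List.mem_range, List.mem_cons,
    List.not_mem_nil, or_false] at hw
  rcases hw with ⟨i, hi, j, hj, e⟩ | e | e
  · exact Or.inl ⟨i, hi, j, hj, e⟩
  · exact Or.inr (Or.inl e)
  · exact Or.inr (Or.inr e)

/-! ### Nine transpositions -/

section

variable {G : Type*} [Group G] [Finite G] {D : Set G} (h : Geo22 D) (hprim : Cfsg.IsPrimitiveUnderConj D)
  (ht : Cfsg.IsOfTypeM22 G D)

/-- The nine generators. -/
def nine (g f : G) (w : Fin 6 → G) (x : G) : List G := [w 0, w 1, w 2, w 3, x, f, g, w 4, w 5]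

include h hprim ht

/-- The reflected configuration. -/
theorem Seven.mirror {g f : G} {w : Fin 6 → G} {x : G} (hS : Seven D g f w x) :
    Seven D (w 0) (w 1) ![g, f, x, w 3, w 4, w 5] (w 2) := by
  have cg : ∀ i, Commute g (w i) := fun i => (hS.mem i).1.2.2
  have cf : ∀ i, Commute f (w i) := fun i => (hS.mem i).2.symm
  have xg : Commute g x := hS.nbx.2.2
  have xf : ¬ Commute x f := hS.not_commute h hprim ht
  have cc : ∀ i j, i ≠ j → ¬ Adj6 i j → Commute (w i) (w j) := fun i j hij ha => (hS.chain i j hij).2 ha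
  have nc : ∀ i j, i ≠ j → Adj6 i j → ¬ Commute (w i) (w j) := fun i j hij ha q => (hS.chain i j hij).1 q ha
  have mD : ∀ i, w i ∈ D := fun i => (hS.mem i).1.1
  have gf' : ¬ Commute f g := fun q => hS.far q.symm
  have fx' : ¬ Commute f x := fun q => xf q.symm
  have w3x : ¬ Commute (w 3) x := fun q => hS.adj q.symm
  have sep : ∀ {a b c : G}, Commute a c → ¬ Commute b c → b ≠ a := fun h1 h2 e => h2 (e ▸ h1)
  refine ⟨nc 0 1 (by decide) (by decide), mD 0, mD 1, ?_, ?_, ⟨mD 2, ?_, cc 0 2 (by decide) (by decide)⟩, ?_, ?_⟩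
  · intro i
    fin_cases i
    · exact ⟨⟨hS.hg, Ne.symm (hS.mem 0).1.2.1, (cg 0).symm⟩, cg 1⟩
    · exact ⟨⟨hS.hf, sep (cg 0).symm gf', (cf 0).symm⟩, cf 1⟩
    · exact ⟨⟨hS.nbx.1, sep (cf 0).symm xf, (hS.comm 0 (by decide)).symm⟩, hS.comm 1 (by decide)⟩
    · exact ⟨⟨mD 3, sep (cc 0 2 (by decide) (by decide)) (nc 3 2 (by decide) (by decide)),
        cc 0 3 (by decide) (by decide)⟩, cc 3 1 (by decide) (by decide)⟩
    · exact ⟨⟨mD 4, sep (cc 0 5 (by decide) (by decide)) (nc 4 5 (by decide) (by decide)),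
        cc 0 4 (by decide) (by decide)⟩, cc 4 1 (by decide) (by decide)⟩
    · exact ⟨⟨mD 5, sep (cc 0 4 (by decide) (by decide)) (nc 5 4 (by decide) (by decide)),
        cc 0 5 (by decide) (by decide)⟩, cc 5 1 (by decide) (by decide)⟩
  · intro i j hij
    fin_cases i <;> fin_cases j <;>
      simp [Adj6, cg, cf, fun k => (cg k).symm, fun k => (cf k).symm, xg, xg.symm, xf, hS.far,
        fx', gf',
        hS.adj, w3x, hS.comm 4 (by decide), (hS.comm 4 (by decide)).symm,
        hS.comm 5 (by decide), (hS.comm 5 (by decide)).symm, nc 3 4 (by decide) (by decide),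
        nc 4 3 (by decide) (by decide), nc 4 5 (by decide) (by decide), nc 5 4 (by decide) (by decide),
        cc 3 5 (by decide) (by decide), cc 5 3 (by decide) (by decide)] at hij ⊢
  · exact sep (cc 0 3 (by decide) (by decide)) (nc 2 3 (by decide) (by decide))
  · intro j hj
    fin_cases j
    · exact (cg 2).symm
    · exact (cf 2).symm
    · exact (hS.comm 2 (by decide)).symm
    · exact absurd rfl hj
    · exact cc 2 4 (by decide) (by decide)
    · exact cc 2 5 (by decide) (by decide)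
  · exact nc 2 3 (by decide) (by decide)

theorem nine_mem {g f : G} {w : Fin 6 → G} {x : G} (hS : Seven D g f w x) :
    ∀ i < 9, fl (nine g f w x) i ∈ D := by
  intro i hi
  interval_cases i
  exacts [(hS.mem 0).1.1, (hS.mem 1).1.1, (hS.mem 2).1.1, (hS.mem 3).1.1, hS.nbx.1, hS.hf, hS.hg, (hS.mem 4).1.1,
    (hS.mem 5).1.1]

theorem nine_adj {g f : G} {w : Fin 6 → G} {x : G} (hS : Seven D g f w x) :
    ∀ i < 9, ∀ j < 9, i ≠ j → (Commute (fl (nine g f w x) i) (fl (nine g f w x) j) ↔ adjB i j = false) := by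
  have cg : ∀ i, Commute g (w i) := fun i => (hS.mem i).1.2.2
  have cf : ∀ i, Commute f (w i) := fun i => (hS.mem i).2.symm
  have xg : Commute g x := hS.nbx.2.2
  have xf : ¬ Commute x f := hS.not_commute h hprim ht
  have cxw : ∀ j, Commute x (w j) ↔ j ≠ 3 := fun j => ⟨fun q e => hS.adj (e ▸ q), hS.comm j⟩
  have cwx : ∀ j, Commute (w j) x ↔ j ≠ 3 := fun j => ⟨fun q => (cxw j).1 q.symm, fun e => ((cxw j).2 e).symm⟩
  have gf' : ¬ Commute f g := fun q => hS.far q.symm
  have fx' : ¬ Commute f x := fun q => xf q.symm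
  intro i hi j hj hij
  interval_cases i <;> interval_cases j <;>
    simp [nine, fl, adjB, Adj6, hS.chain, cg, cf, fun k => (cg k).symm, fun k => (cf k).symm, xg, xg.symm, xf,
      fx', hS.far, gf', cxw, cwx] at hij ⊢

theorem nine_sq {g f : G} {w : Fin 6 → G} {x : G} (hS : Seven D g f w x) (i : ℕ) :
    fl (nine g f w x) i * fl (nine g f w x) i = 1 := by
  rcases lt_or_ge i 9 with hi | hi
  · exact h.tt.sq _ (nine_mem h hprim ht hS i hi)
  · rw [Coset.fl_of_le _ (show (nine g f w x).length ≤ i from hi), one_mul]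

theorem nine_rels {g f : G} {w : Fin 6 → G} {x : G} (hS : Seven D g f w x) :
    ∀ u ∈ rels9, ev (nine g f w x) u = 1 := by
  intro u hu
  rcases mem_rels9 hu with ⟨i, hi, j, hj, rfl⟩ | rfl | rfl
  · set a := fl (nine g f w x) i with ha
    set b := fl (nine g f w x) j with hb
    have ma := nine_mem h hprim ht hS i hi
    have mb := nine_mem h hprim ht hS j hj
    have sa := h.tt.sq _ ma
    have sb := h.tt.sq _ mb
    by_cases hij : i = j
    · subst hij
      simp [pairW]
      exact sa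
    have hc := nine_adj h hprim ht hS i hi j hj hij
    cases hA : adjB i j
    · have c : a * b = b * a := (hc.2 hA).eq
      simp only [pairW, hA, if_neg hij, Bool.false_eq_true, if_false, ev_cons, ev_nil, mul_one, ← ha, ← hb]
      rw [← mul_assoc b a b, ← c, mul_assoc a b b, sb, mul_one, sa]
    · have nc : ¬ Commute a b := fun q => by simp [hc.1 q] at hA
      simp only [pairW, hA, if_neg hij, if_true, ev_cons, ev_nil, mul_one, ← ha, ← hb]
      rcases h.tt.pair a ma b mb with e | e
      · refine absurd ?_ nc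
        have hinv : a * b = (a * b)⁻¹ := eq_inv_of_mul_eq_one_left (by rw [← pow_two]; exact e)
        rw [mul_inv_rev, inv_eq_of_mul_eq_one_left sa, inv_eq_of_mul_eq_one_left sb] at hinv
        exact hinv
      · rw [← e]
        simp only [pow_succ, pow_zero, one_mul, mul_assoc]
  · have e := hS.relation h hprim ht
    rw [← q3_eq] at e
    rw [← e]
    have := ev_map_letters (nine g f w x) (sevenList w x) id q3 fun i hi => by
      rcases q3_letters i hi with rfl | rfl | rfl | rfl | rfl | rfl | rfl <;> rfl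
    rwa [List.map_id] at this
  · have e := (hS.mirror h hprim ht).relation h hprim ht
    rw [← q3_eq] at e
    rw [← e]
    refine ev_map_letters _ _ mir q3 fun i hi => ?_
    rcases q3_letters i hi with rfl | rfl | rfl | rfl | rfl | rfl | rfl <;> rfl

end

/-! ### The generators of Fi22 -/

theorem fi22_rels : ∀ u ∈ rels9, ev Coset.Fi22.Lg u = 1 := by
  have hb : ((List.range 9).flatMap fun i => (List.range 9).map fun j => pairW i j).all
      (fun w => Coset.Fi22.rels.contains w || Coset.Fi22.rels.contains w.reverse) = true := by decide +kernel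
  have hq : checkRels 3510 12 Coset.Fi22.Top.Tb [q3, q3.map mir] = true := by decide +kernel
  intro u hu
  have hq' : ∀ w ∈ [q3, q3.map mir], (∀ l ∈ w, l < (Coset.Fi22.Lg).length) → ev Coset.Fi22.Lg w = 1 := by
    intro w hw hl
    apply Coset.Fi22.card_and_injective.2
    rw [map_one]
    refine Equiv.ext fun i => ?_
    exact (Coset.Fi22.matches_ρ.fix_iff hl).mpr
      (Nat.eq_of_beq_eq_true (Coset.allList_iff.mp (Coset.of_allBelow hq i i.2) _ hw))
  rcases mem_rels9 hu with ⟨i, hi, j, hj, rfl⟩ | rfl | rfl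
  · have := (List.all_eq_true.1 hb) (pairW i j) (List.mem_flatMap.2
      ⟨i, List.mem_range.2 hi, List.mem_map.2 ⟨j, List.mem_range.2 hj, rfl⟩⟩)
    simp only [Bool.or_eq_true, List.contains_iff_mem] at this
    rcases this with e | e
    · exact Coset.Fi22.ev_rels _ e
    · have := Coset.Fi22.ev_rels _ e
      rwa [Coset.Fi22.ev_rev, inv_eq_one] at this
  · exact hq' _ (by simp) (by decide +kernel)
  · exact hq' _ (by simp) (by decide +kernel)

/-! ### The isomorphism -/

section

variable {G : Type*} [Group G] [Finite G] {D : Set G}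

/-- A group of type M(22) is the presented group, its class going over to the class of the first generator. -/
theorem exists_iso_fi22 (hD : Cfsg.IsThreeTranspositionGroup D) (hprim : Cfsg.IsPrimitiveUnderConj D)
    (ht : Cfsg.IsOfTypeM22 G D) :
    ∃ e : Cfsg.Spor.Fi22 ≃* G, e '' conjugatesOf Coset.Fi22.t = D := by
  have h := geo22 hD hprim ht
  obtain ⟨-, g, hg, f, hf, hgf, -⟩ := id ht
  obtain ⟨w, hw, hc⟩ := exists_chain h hprim ht hg hf hgf
  obtain ⟨F, _, _, _, hF, φ, hM, -⟩ := exists_pair_model h hprim ht hg (hw 0).1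
  obtain ⟨x, hS⟩ := exists_seventh hF hM hg hf hgf hw hc
  set L := nine g f w x with hL
  set Lg : List Cfsg.Spor.Fi22 := Coset.Fi22.Lg with hLg
  have hfin := Coset.Fi22.card_le.1
  have hsimple := Coset.Fi22.isSimple
  have hN := Coset.Fi22.card_and_injective.1
  have hG : Nat.card G = 64561751654400 := by rw [(order22 h hprim ht).2]
  -- the pairs
  set Lp : List (G × Cfsg.Spor.Fi22) := (List.range 9).map fun i => (fl L i, fl Lg i) with hLp
  have hfl : ∀ i, fl Lp i = (fl L i, fl Lg i) := by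
    intro i
    rcases lt_or_ge i 9 with hi | hi
    · interval_cases i <;> rfl
    · rw [Coset.fl_of_le _ (show Lp.length ≤ i from hi), Coset.fl_of_le _ (show L.length ≤ i from hi),
        Coset.fl_of_le _ (show Lg.length ≤ i from hi)]
      rfl
  have h1 : ∀ p, (ev Lp p).1 = ev L p := ev_hom (MonoidHom.fst G Cfsg.Spor.Fi22) Lp L fun i => by
    rw [hfl]; rfl
  have h2 : ∀ p, (ev Lp p).2 = ev Lg p := ev_hom (MonoidHom.snd G Cfsg.Spor.Fi22) Lp Lg fun i => by
    rw [hfl]; rfl
  obtain ⟨hR, hRc⟩ := Coset.Fi22Seven.card_le (L := Lp) rfl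
    (fun u hu => Prod.ext (by rw [h1]; exact nine_rels h hprim ht hS u hu) (by rw [h2]; exact fi22_rels u hu))
    (fun i => by
      rw [hfl]
      exact Prod.ext (nine_sq h hprim ht hS i) (Coset.Fi22.sq_all i))
  set R := genBy Lp [0, 1, 2, 3, 4, 5, 6, 7, 8]
  have hmemR : ∀ i < 9, fl Lp i ∈ R := fun i hi => by
    refine Subgroup.subset_closure ?_
    simp only [Coset.lv, Set.mem_setOf_eq, List.mem_map]
    exact ⟨i, by interval_cases i <;> simp, rfl⟩
  let π₁ : ↥R →* G := (MonoidHom.fst G Cfsg.Spor.Fi22).comp R.subtype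
  let π₂ : ↥R →* Cfsg.Spor.Fi22 := (MonoidHom.snd G Cfsg.Spor.Fi22).comp R.subtype
  have hp1 : ∀ i (hi : i < 9), π₁ ⟨fl Lp i, hmemR i hi⟩ = fl L i := fun i hi => by
    show (fl Lp i).1 = _
    rw [hfl]
  have hp2 : ∀ i (hi : i < 9), π₂ ⟨fl Lp i, hmemR i hi⟩ = fl Lg i := fun i hi => by
    show (fl Lp i).2 = _
    rw [hfl]
  have hsurj : Function.Surjective π₂ := by
    rw [← MonoidHom.range_eq_top, eq_top_iff, ← Coset.Fi22.closure_Lg, Subgroup.closure_le]
    intro y hy
    obtain ⟨i, hi, rfl⟩ := List.getElem_of_mem hy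
    exact ⟨⟨_, hmemR i hi⟩, (hp2 i hi).trans (List.getD_eq_getElem _ _ hi)⟩
  have hcard2 : Nat.card ↥R = Nat.card π₂.ker * 64561751654400 := by
    rw [Subgroup.card_eq_card_quotient_mul_card_subgroup π₂.ker,
      Nat.card_congr (QuotientGroup.quotientKerEquivOfSurjective π₂ hsurj).toEquiv, hN, mul_comm]
  have hcard1 : Nat.card ↥R = Nat.card π₁.ker * Nat.card π₁.range := by
    rw [Subgroup.card_eq_card_quotient_mul_card_subgroup π₁.ker,
      Nat.card_congr (QuotientGroup.quotientKerEquivRange π₁).toEquiv, mul_comm]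
  have hdisj : ∀ r : ↥R, π₁ r = 1 → π₂ r = 1 → r = 1 := fun r e1 e2 => Subtype.ext (Prod.ext e1 e2)
  have hker : π₁.ker.map π₂ = ⊥ := by
    haveI : (π₁.ker.map π₂).Normal := Subgroup.Normal.map inferInstance π₂ hsurj
    rcases (inferInstance : (π₁.ker.map π₂).Normal).eq_bot_or_eq_top with e | e
    · exact e
    exfalso
    have hle : 64561751654400 ≤ Nat.card π₁.ker := by
      have := Nat.card_le_card_of_surjective _ (π₂.subgroupMap_surjective π₁.ker)
      rwa [e, Subgroup.card_top, hN] at this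
    have hrange : 4 ≤ Nat.card π₁.range := by
      have m0 : w 0 ∈ π₁.range := ⟨_, hp1 0 (by norm_num)⟩
      have m1 : w 1 ∈ π₁.range := ⟨_, hp1 1 (by norm_num)⟩
      have nc : ¬ Commute (w 0) (w 1) := fun q => (hc 0 1 (by decide)).1 q (Or.inl rfl)
      have d0 : w 0 ≠ 1 := fun e => nc (e ▸ Commute.one_left _)
      have d1 : w 1 ≠ 1 := fun e => nc (e ▸ Commute.one_right _)
      have d01 : w 0 ≠ w 1 := fun e => nc (e ▸ Commute.refl _)
      have dm : w 0 * w 1 ≠ 1 := fun e => nc (by
        have : w 1 = (w 0)⁻¹ := eq_inv_of_mul_eq_one_right e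
        rw [this]; exact (Commute.refl _).inv_right)
      have dm0 : w 0 * w 1 ≠ w 0 := fun e => d1 (mul_left_cancel (e.trans (mul_one _).symm))
      have dm1 : w 0 * w 1 ≠ w 1 := fun e => d0 (mul_right_cancel (e.trans (one_mul _).symm))
      let emb : Fin 4 → ↥π₁.range := ![1, ⟨_, m0⟩, ⟨_, m1⟩, ⟨_, mul_mem m0 m1⟩]
      have hinj : Function.Injective emb := by
        intro a b hab
        have := congrArg Subtype.val hab
        fin_cases a <;> fin_cases b <;>
          simp [emb, d0, d1, d01, dm, dm0, dm1, Ne.symm d0, Ne.symm d1, Ne.symm d01, Ne.symm dm, Ne.symm dm0,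
            Ne.symm dm1] at this ⊢
      simpa using Nat.card_le_card_of_injective emb hinj
    nlinarith [hRc, hcard1, hle, hrange]
  have hinj1 : Function.Injective π₁ := by
    rw [injective_iff_map_eq_one]
    intro r hr
    exact hdisj r hr ((Subgroup.eq_bot_iff_forall _).1 hker _ ⟨r, hr, rfl⟩)
  have hle1 : Nat.card ↥R ≤ 64561751654400 := hG ▸ Nat.card_le_card_of_injective π₁ hinj1
  have hcardR : Nat.card ↥R = 64561751654400 :=
    le_antisymm hle1 (hN ▸ Nat.card_le_card_of_surjective π₂ hsurj)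
  haveI := hfin
  have hb2 : Function.Bijective π₂ :=
    (Nat.bijective_iff_surjective_and_card π₂).2 ⟨hsurj, by rw [hcardR, hN]⟩
  have hb1 : Function.Bijective π₁ :=
    (Nat.bijective_iff_injective_and_card π₁).2 ⟨hinj1, by rw [hcardR, hG]⟩
  let e : Cfsg.Spor.Fi22 ≃* G := (MulEquiv.ofBijective π₂ hb2).symm.trans (MulEquiv.ofBijective π₁ hb1)
  have he : ∀ i (hi : i < 9), e (fl Lg i) = fl L i := by
    intro i hi
    have : (MulEquiv.ofBijective π₂ hb2).symm (fl Lg i) = ⟨fl Lp i, hmemR i hi⟩ := by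
      rw [MulEquiv.symm_apply_eq]; exact (hp2 i hi).symm
    simp only [e, MulEquiv.trans_apply, this]
    exact hp1 i hi
  have het : e Coset.Fi22.t = w 0 := by
    rw [Coset.Fi22.t, ev_cons, ev_nil, mul_one]
    exact he 0 (by norm_num)
  refine ⟨e, Set.ext fun y => ⟨?_, fun hy => ?_⟩⟩
  · rintro ⟨u, hu, rfl⟩
    obtain ⟨k, rfl⟩ := isConj_iff.1 hu
    rw [map_mul, map_mul, map_inv, het]
    exact h.tt.conj _ _ (hw 0).1.1
  · obtain ⟨k, hk⟩ := hprim.1 _ (hw 0).1.1 _ hy
    refine ⟨e.symm k * Coset.Fi22.t * (e.symm k)⁻¹, isConj_iff.2 ⟨_, rfl⟩, ?_⟩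
    rw [map_mul, map_mul, map_inv, het, e.apply_symm_apply, hk]

end

end CfsgLib.ThreeT.Prod
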