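import Cfsg.Agent.Spor3T.LevelLoc
import Cfsg.Agent.Spor3T.M22Invol

/-!
One level of the chain as a group: perfectness of the centralisers, simplicity, commuting triples,
short products and uniqueness of the class.
-/

set_option autoImplicit false
set_option linter.unusedSectionVars false
set_option linter.style.haveILetI false

namespace CfsgLib.ThreeT.Level

open CfsgLib.ThreeT.Prod

variable {G : Type*} [Group G] {D : Set G}

/-- `a` is a product of six pairwise commuting neighbours. -/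
def Six (D : Set G) (a : G) : Prop :=
  ∃ l : List G, l.length = 6 ∧ (∀ b ∈ l, b ∈ nb D a) ∧ (∀ b ∈ l, ∀ c ∈ l, Commute b c) ∧ l.prod = a

theorem Six.conj (hD : TT0 D) {a : G} (h : Six D a) (g : G) : Six D (g * a * g⁻¹) := by
  obtain ⟨l, hl, hm, hc, rfl⟩ := h
  refine ⟨l.map (MulAut.conj g), by rw [List.length_map, hl], ?_, ?_, ?_⟩
  · intro b hb
    obtain ⟨b', hb', rfl⟩ := List.mem_map.1 hb
    have := (hm b' hb')
    exact nb_conj hD this.1 this.2.1 this.2.2 rfl
  · intro b hb c hc'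
    obtain ⟨b', hb', rfl⟩ := List.mem_map.1 hb
    obtain ⟨c', hc'', rfl⟩ := List.mem_map.1 hc'
    exact (hc b' hb' c' hc'').map (MulAut.conj g)
  · rw [← map_list_prod]; rfl

theorem Six.self {a : G} (h : Six D a) : a ∈ hsub D a := by
  obtain ⟨l, -, hm, -, e⟩ := h
  have hmem : l.prod ∈ hsub D a := list_prod_mem fun b hb => Subgroup.subset_closure (hm b hb)
  rwa [e] at hmem

section

variable [Finite G] {n k l m r w c : ℕ} (h : Geo D n k l m r w) (hA : Arith n k l m r w c)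

include h hA

theorem nb_nonempty {a : G} (ha : a ∈ D) : (nb D a).Nonempty :=
  Set.nonempty_of_ncard_ne_zero (by rw [(h.loc a ha).card_nb]; have := hA.k_lt; omega)

theorem center_pair {d : G} (hd : d ∈ D) {x : ↥(hsub D d)} (hx : x ∈ Subgroup.center ↥(hsub D d)) :
    (x : G) = 1 ∨ (x : G) = d :=
  cent_nb h.toPre hA hd (commute_hsub x.2).symm fun _ hy => commute_of_mem_center hx hy

/-- A centraliser with perfect central quotient and containing six-fold relations is perfect. -/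
theorem perfect_hsub {d : G} (hd : d ∈ D) (hsix : Six D d)
    (hperf : commutator (↥(hsub D d) ⧸ Subgroup.center ↥(hsub D d)) = ⊤) :
    commutator ↥(hsub D d) = ⊤ := by
  set H := hsub D d
  obtain ⟨b₀, hb₀⟩ := nb_nonempty h hA hd
  set ξ := Abelianization.of (⟨b₀, Subgroup.subset_closure hb₀⟩ : ↥H)
  have hall : ∀ b : ↥H, (b : G) ∈ nb D d → Abelianization.of b = ξ := by
    intro b hb
    obtain ⟨g, hg, e⟩ := h.near d hd b₀ hb₀ b hb
    rw [show b = (⟨g, hg⟩ : ↥H) * ⟨b₀, Subgroup.subset_closure hb₀⟩ * (⟨g, hg⟩ : ↥H)⁻¹ from Subtype.ext e.symm,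
      map_mul, map_mul, map_inv, mul_right_comm, mul_inv_cancel, one_mul]
  have hξ : ξ * ξ = 1 := by
    rw [← map_mul, show (⟨b₀, Subgroup.subset_closure hb₀⟩ : ↥H) * ⟨b₀, Subgroup.subset_closure hb₀⟩ = 1
      from Subtype.ext (h.tt.sq b₀ hb₀.1), map_one]
  have hd' : (⟨d, hsix.self⟩ : ↥H) ∈ commutator ↥H := by
    obtain ⟨ls, hls, hm, -, e⟩ := hsix
    rw [← Abelianization.ker_of, MonoidHom.mem_ker]
    have key : ∀ ls : List G, (∀ b ∈ ls, b ∈ nb D d) → ∀ hp : ls.prod ∈ H,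
        Abelianization.of (⟨ls.prod, hp⟩ : ↥H) = ξ ^ ls.length := by
      intro ls
      induction ls with
      | nil =>
        intro _ hp
        rw [show (⟨([] : List G).prod, hp⟩ : ↥H) = 1 from Subtype.ext rfl, map_one, List.length_nil, pow_zero]
      | cons b ls ih =>
        intro hb hp
        have hb' := hb b List.mem_cons_self
        have hls' : ∀ x ∈ ls, x ∈ nb D d := fun x hx => hb x (List.mem_cons_of_mem _ hx)
        have hp' : ls.prod ∈ H := list_prod_mem fun x hx => Subgroup.subset_closure (hls' x hx)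
        rw [show (⟨(b :: ls).prod, hp⟩ : ↥H) = ⟨b, Subgroup.subset_closure hb'⟩ * ⟨ls.prod, hp'⟩ from
          Subtype.ext List.prod_cons, map_mul, hall _ hb', ih hls' hp', List.length_cons, pow_succ']
    have := key ls hm (e.symm ▸ Six.self ⟨ls, hls, hm, by assumption, e⟩)
    simp only [hls, e] at this
    rw [this, show (6 : ℕ) = 2 * 3 from rfl, pow_mul, pow_two, hξ, one_pow]
  rw [eq_top_iff]
  intro x _
  have hx : QuotientGroup.mk' (Subgroup.center ↥H) x ∈
      (commutator ↥H).map (QuotientGroup.mk' (Subgroup.center ↥H)) := by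
    rw [commutator_def, Subgroup.map_commutator, Subgroup.map_top_of_surjective _ (QuotientGroup.mk'_surjective _),
      ← commutator_def, hperf]
    exact Subgroup.mem_top _
  obtain ⟨y, hy, e⟩ := hx
  have hz : y⁻¹ * x ∈ Subgroup.center ↥H := QuotientGroup.eq.1 e
  rcases center_pair h hA hd hz with q | q
  · rw [show x = y * 1 by rw [show (1 : ↥H) = y⁻¹ * x from Subtype.ext q.symm, mul_inv_cancel_left], mul_one]
    exact hy
  · rw [show x = y * ⟨d, hsix.self⟩ by
      rw [show (⟨d, hsix.self⟩ : ↥H) = y⁻¹ * x from Subtype.ext q.symm, mul_inv_cancel_left]]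
    exact mul_mem hy hd'

theorem center_hsub_eq {d : G} (hd : d ∈ D) :
    Subgroup.center ↥(hsub D d) = (Subgroup.zpowers d).subgroupOf (hsub D d) := by
  ext x
  rw [Subgroup.mem_subgroupOf]
  constructor
  · intro hx
    rcases center_pair h hA hd hx with e | e <;> rw [e]
    exacts [one_mem _, Subgroup.mem_zpowers d]
  · intro hx
    obtain ⟨i, hi⟩ := Subgroup.mem_zpowers_iff.1 hx
    refine mem_center_hsub fun y hy => ?_
    rw [← hi]
    exact (hy.2.2.symm).zpow_right i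

theorem card_center (hself : ∀ a ∈ D, a ∈ hsub D a) {d : G} (hd : d ∈ D) :
    Nat.card ↥(Subgroup.center ↥(hsub D d)) = 2 := by
  rw [center_hsub_eq h hA hd,
    Nat.card_congr (Subgroup.subgroupOfEquivOfLe ((Subgroup.zpowers_le).2 (hself d hd))).toEquiv,
    Nat.card_zpowers, orderOf_eq_prime (by rw [pow_two]; exact h.tt.sq d hd) (h.ne_one d hd)]

/-- With perfect centralisers the group is simple. -/
theorem simple_of (hp : Cfsg.IsPrimitiveUnderConj D) (hself : ∀ a ∈ D, a ∈ hsub D a)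
    (hperf : ∀ a ∈ D, commutator ↥(hsub D a) = ⊤) : IsSimpleGroup G := by
  obtain ⟨d, hd, -⟩ := hp.2.1
  haveI : Nontrivial G := ⟨⟨d, 1, h.ne_one d hd⟩⟩
  refine ⟨fun N hN => ?_⟩
  by_contra hbad
  push Not at hbad
  obtain ⟨hbot, htop⟩ := hbad
  -- `N` is transitive on `D`
  let B : Set G := {x | ∃ n ∈ N, n * d * n⁻¹ = x}
  have hBD : B ⊆ D := by rintro _ ⟨n, -, rfl⟩; exact h.tt.conj n d hd
  have horb : ∀ g : G, ∀ x, x ∈ (fun y => g * y * g⁻¹) '' B ↔ ∃ n ∈ N, n * (g * d * g⁻¹) * n⁻¹ = x := by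
    intro g x
    constructor
    · rintro ⟨_, ⟨n, hn, rfl⟩, rfl⟩
      exact ⟨g * n * g⁻¹, hN.conj_mem n hn g, by group⟩
    · rintro ⟨n, hn, rfl⟩
      refine ⟨_, ⟨g⁻¹ * n * g⁻¹⁻¹, hN.conj_mem n hn g⁻¹, rfl⟩, ?_⟩
      group
  rcases hp.2.2 B hBD (fun g => by
    by_cases hd' : Disjoint ((fun y => g * y * g⁻¹) '' B) B
    · exact Or.inr hd'
    · left
      obtain ⟨x, hx, hxB⟩ := Set.not_disjoint_iff.1 hd'
      obtain ⟨n, hn, e1⟩ := (horb g x).1 hx
      obtain ⟨m, hm, e2⟩ := hxB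
      have key : g * d * g⁻¹ = n⁻¹ * m * d * (n⁻¹ * m)⁻¹ := by
        rw [show n⁻¹ * m * d * (n⁻¹ * m)⁻¹ = n⁻¹ * (m * d * m⁻¹) * n by group, e2, ← e1]; group
      ext z
      rw [horb g z]
      constructor
      · rintro ⟨k, hk, rfl⟩
        exact ⟨k * (n⁻¹ * m), mul_mem hk (mul_mem (inv_mem hn) hm), by rw [key]; group⟩
      · rintro ⟨k, hk, rfl⟩
        exact ⟨k * (n⁻¹ * m)⁻¹, mul_mem hk (inv_mem (mul_mem (inv_mem hn) hm)), by rw [key]; group⟩) with hB | hB
  · -- trivial action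
    have hcd : ∀ x ∈ D, ∀ n ∈ N, Commute n x := by
      intro x hx n hn
      obtain ⟨g, rfl⟩ := hp.1 d hd x hx
      have e : g⁻¹ * n * g⁻¹⁻¹ * d * (g⁻¹ * n * g⁻¹⁻¹)⁻¹ = d :=
        hB ⟨_, hN.conj_mem n hn g⁻¹, rfl⟩ ⟨1, one_mem _, by group⟩
      have := (commute_conj_iff g _ d).2 (show Commute (g⁻¹ * n * g⁻¹⁻¹) d from mul_inv_eq_iff_eq_mul.1 e)
      rwa [show g * (g⁻¹ * n * g⁻¹⁻¹) * g⁻¹ = n by group] at this
    refine hbot (le_bot_iff.1 fun n hn => ?_)
    rw [← h.center, Subgroup.mem_center_iff]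
    exact fun y => (commute_of_closure (fun x hx => (hcd x hx n hn).symm) y
      (h.class3.2.2 ▸ Subgroup.mem_top y)).eq
  have hnd : d ∉ N := fun hdN => htop (eq_top_iff.2 (by
    rw [← h.class3.2.2, Subgroup.closure_le]
    intro x hx
    obtain ⟨g, rfl⟩ := hp.1 d hd x hx
    exact hN.conj_mem d hdN g))
  set H := hsub D d
  have hdec : ∀ g : G, ∃ n ∈ N, n⁻¹ * g ∈ H := by
    intro g
    obtain ⟨n, hn, e⟩ : g * d * g⁻¹ ∈ B := hB.symm ▸ h.tt.conj g d hd
    refine ⟨n, hn, ?_⟩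
    rw [show H = hsub D d from rfl, (centralizer_eq h hA hself hd).1]
    exact (conj_fib).1 e
  set π := QuotientGroup.mk' N
  have hsurj : ∀ q : G ⧸ N, ∃ k ∈ H, π k = q := by
    intro q
    obtain ⟨g, rfl⟩ := QuotientGroup.mk'_surjective N q
    obtain ⟨n, hn, hk⟩ := hdec g
    refine ⟨n⁻¹ * g, hk, ?_⟩
    rw [map_mul, map_inv, show π n = 1 from (QuotientGroup.eq_one_iff n).2 hn, inv_one, one_mul]
  -- all members have the same central image
  have hcen : ∀ x ∈ D, π x = π d := by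
    intro x hx
    obtain ⟨g, rfl⟩ := hp.1 d hd x hx
    obtain ⟨k, hk, e⟩ := hsurj (π g)
    rw [map_mul, map_mul, map_inv, ← e, ← map_inv, ← map_mul, ← map_mul, (commute_hsub hk).eq, mul_inv_cancel_right]
  -- `d` is in the derived subgroup of `H`, so `π d` would be trivial
  have hab : ∀ u ∈ (⊤ : Subgroup G), Commute (π u) (π d) ∧ π u ∈ Subgroup.zpowers (π d) := by
    rw [← h.class3.2.2]
    intro u hu
    induction hu using Subgroup.closure_induction with
    | mem x hx => rw [hcen x hx]; exact ⟨Commute.refl _, Subgroup.mem_zpowers _⟩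
    | one => rw [map_one]; exact ⟨Commute.one_left _, one_mem _⟩
    | mul u v _ _ hu hv => rw [map_mul]; exact ⟨hu.1.mul_left hv.1, mul_mem hu.2 hv.2⟩
    | inv u _ hu => rw [map_inv]; exact ⟨hu.1.inv_left, inv_mem hu.2⟩
  have hcomm : (commutator ↥H).map (π.comp H.subtype) = ⊥ := by
    rw [commutator_def, Subgroup.map_commutator, eq_bot_iff, Subgroup.commutator_le]
    rintro _ ⟨u, -, rfl⟩ _ ⟨v, -, rfl⟩
    rw [Subgroup.mem_bot]
    obtain ⟨i, hi⟩ := Subgroup.mem_zpowers_iff.1 (hab (u : G) (Subgroup.mem_top _)).2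
    obtain ⟨j, hj⟩ := Subgroup.mem_zpowers_iff.1 (hab (v : G) (Subgroup.mem_top _)).2
    refine commutatorElement_eq_one_iff_commute.2 ?_
    show Commute (π (u : G)) (π (v : G))
    rw [← hi, ← hj]
    exact Commute.zpow_zpow (Commute.refl _) i j
  rw [hperf d hd] at hcomm
  refine hnd ((QuotientGroup.eq_one_iff d).1 ?_)
  have : π d ∈ (⊤ : Subgroup ↥H).map (π.comp H.subtype) :=
    ⟨⟨d, hself d hd⟩, Subgroup.mem_top _, rfl⟩
  rw [hcomm, Subgroup.mem_bot] at this
  exact this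

/-- Ordered commuting triples are conjugate. -/
theorem triple_conj {a b c' : G} (ha : a ∈ D) (hb : b ∈ nb D a) (hc : c' ∈ nb D a) (hbc : b ≠ c')
    (cbc : Commute b c') {s t u : G} (hs : s ∈ D) (ht : t ∈ nb D s) (hu : u ∈ nb D s) (htu : t ≠ u)
    (ctu : Commute t u) : ∃ g : G, g * s * g⁻¹ = a ∧ g * t * g⁻¹ = b ∧ g * u * g⁻¹ = c' := by
  obtain ⟨g₁, hg₁⟩ := h.conjD s hs a ha (h.ne_one s hs) (h.ne_one a ha)
  have ht₁ := nb_conj h.tt ht.1 ht.2.1 ht.2.2 hg₁
  have hu₁ := nb_conj h.tt hu.1 hu.2.1 hu.2.2 hg₁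
  obtain ⟨g₂, hg₂, e₂⟩ := h.near a ha _ ht₁ b hb
  set u' := g₂ * (g₁ * u * g₁⁻¹) * g₂⁻¹ with hu'def
  have hg₂a : g₂ * a * g₂⁻¹ = a := by rw [(commute_hsub hg₂).eq, mul_inv_cancel_right]
  have hu' : u' ∈ nb D a := nb_conj h.tt hu₁.1 hu₁.2.1 hu₁.2.2 hg₂a
  have hu'b : u' ≠ b := fun e => htu (by
    have := e.trans e₂.symm
    exact (mul_left_cancel (mul_right_cancel (mul_left_cancel (mul_right_cancel this)))).symm)
  have cu'b : Commute u' b := by
    rw [← e₂]; exact (commute_conj_iff g₂ _ _).2 ((commute_conj_iff g₁ u t).2 ctu.symm)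
  -- an element fixing `a, b` and moving `u'` to `c'`
  obtain ⟨g₃, ha₃, hb₃, hc₃⟩ : ∃ g : G, Commute g a ∧ Commute g b ∧ g * u' * g⁻¹ = c' := by
    by_cases e : u' = c'
    · exact ⟨1, Commute.one_left a, Commute.one_left b, by rw [e]; group⟩
    by_cases hcc : Commute u' c'
    · have hL := h.loc a ha
      obtain ⟨x, ⟨hx, hxb, cxb⟩, hx1, hx2⟩ : ∃ x, (x ∈ nb D a ∧ x ≠ b ∧ Commute x b) ∧
          ¬ Commute u' x ∧ ¬ Commute c' x := by
        by_contra hno
        push Not at hno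
        have hsub' : {y | y ∈ nb D a ∧ y ≠ b ∧ Commute y b} ⊆
            insert u' {y | y ∈ nb D a ∧ y ≠ b ∧ y ≠ u' ∧ Commute y b ∧ Commute y u'} ∪
            insert c' {y | y ∈ nb D a ∧ y ≠ b ∧ y ≠ c' ∧ Commute y b ∧ Commute y c'} := by
          intro z hz
          by_cases hzd : Commute u' z
          · left
            by_cases e : z = u'
            · exact Or.inl e
            · exact Or.inr ⟨hz.1, hz.2.1, e, hz.2.2, hzd.symm⟩
          · right
            by_cases e : z = c'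
            · exact Or.inl e
            · exact Or.inr ⟨hz.1, hz.2.1, e, hz.2.2, (hno z hz hzd).symm⟩
        have h1 := (Set.ncard_le_ncard hsub' (Set.toFinite _)).trans (Set.ncard_union_le _ _)
        rw [hL.card_pair b hb, Set.ncard_insert_of_notMem (fun h' => h'.2.2.1 rfl) (Set.toFinite _),
          Set.ncard_insert_of_notMem (fun h' => h'.2.2.1 rfl) (Set.toFinite _),
          hL.card_comm b hb u' hu' hu'b.symm cu'b.symm, hL.card_comm b hb c' hc hbc cbc] at h1
        have := hA.l_lt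
        omega
      exact ⟨x * u' * c' * x, ((hx.2.2.symm.mul_left hu'.2.2.symm).mul_left hc.2.2.symm).mul_left hx.2.2.symm,
        ((cxb.mul_left cu'b).mul_left cbc.symm).mul_left cxb, swap_conj h.tt hu'.1 hc.1 hx.1 hcc hx1 hx2⟩
    · refine ⟨u' * c', hu'.2.2.symm.mul_left hc.2.2.symm, cu'b.mul_left cbc.symm, ?_⟩
      rw [mul_inv_rev, h.tt.inv hu'.1, h.tt.inv hc.1,
        show u' * c' * u' * (c' * u') = (u' * c' * u') * c' * u' by group, braid0 h.tt hu'.1 hc.1 hcc,
        show c' * u' * c' * c' * u' = c' * (u' * (c' * c') * u') by group, h.tt.sq c' hc.1, mul_one,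
        h.tt.sq u' hu'.1, mul_one]
  refine ⟨g₃ * g₂ * g₁, ?_, ?_, ?_⟩
  · calc g₃ * g₂ * g₁ * s * (g₃ * g₂ * g₁)⁻¹ = g₃ * (g₂ * (g₁ * s * g₁⁻¹) * g₂⁻¹) * g₃⁻¹ := by group
      _ = a := by rw [hg₁, hg₂a, ha₃.eq, mul_inv_cancel_right]
  · calc g₃ * g₂ * g₁ * t * (g₃ * g₂ * g₁)⁻¹ = g₃ * (g₂ * (g₁ * t * g₁⁻¹) * g₂⁻¹) * g₃⁻¹ := by group
      _ = b := by rw [e₂, hb₃.eq, mul_inv_cancel_right]
  · calc g₃ * g₂ * g₁ * u * (g₃ * g₂ * g₁)⁻¹ = g₃ * (g₂ * (g₁ * u * g₁⁻¹) * g₂⁻¹) * g₃⁻¹ := by group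
      _ = c' := hc₃

/-- Products with one and the same number of factors, at most three, are conjugate. -/
theorem facs_conj {i : ℕ} (h1 : 1 ≤ i) (h3 : i ≤ 3) {x y : G} (hx : Facs D i x) (hy : Facs D i y) : IsConj x y := by
  obtain ⟨l, hn, hl, hm, hc, rfl⟩ := hx
  obtain ⟨l', hn', hl', hm', hc', rfl⟩ := hy
  interval_cases i
  · obtain ⟨a, rfl⟩ := List.length_eq_one_iff.1 hl
    obtain ⟨b, rfl⟩ := List.length_eq_one_iff.1 hl'
    obtain ⟨g, hg⟩ := h.conjD a (hm a (by simp)) b (hm' b (by simp)) (h.ne_one a (hm a (by simp)))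
      (h.ne_one b (hm' b (by simp)))
    exact isConj_iff.2 ⟨g, by simpa using hg⟩
  · obtain ⟨a, b, rfl⟩ := List.length_eq_two.1 hl
    obtain ⟨c, e, rfl⟩ := List.length_eq_two.1 hl'
    simp only [List.nodup_cons, List.mem_cons, List.not_mem_nil, or_false, List.nodup_nil, and_true,
      not_false_eq_true] at hn hn'
    have ha := hm a (by simp)
    have hc0 := hm' c (by simp)
    have hb : b ∈ nb D a := ⟨hm b (by simp), Ne.symm hn, hc a (by simp) b (by simp)⟩
    have he : e ∈ nb D c := ⟨hm' e (by simp), Ne.symm hn', hc' c (by simp) e (by simp)⟩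
    obtain ⟨g₁, hg₁⟩ := h.conjD a ha c hc0 (h.ne_one a ha) (h.ne_one c hc0)
    obtain ⟨g₂, hg₂, e₂⟩ := h.near c hc0 _ (nb_conj h.tt hb.1 hb.2.1 hb.2.2 hg₁) e he
    refine isConj_iff.2 ⟨g₂ * g₁, ?_⟩
    simp only [List.prod_cons, List.prod_nil, mul_one]
    calc g₂ * g₁ * (a * b) * (g₂ * g₁)⁻¹ =
          (g₂ * (g₁ * a * g₁⁻¹) * g₂⁻¹) * (g₂ * (g₁ * b * g₁⁻¹) * g₂⁻¹) := by group
      _ = c * e := by rw [hg₁, e₂, (commute_hsub hg₂).eq, mul_inv_cancel_right]
  · obtain ⟨a, b, c, rfl⟩ := List.length_eq_three.1 hl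
    obtain ⟨s, t, u, rfl⟩ := List.length_eq_three.1 hl'
    have hne : a ≠ b ∧ a ≠ c ∧ b ≠ c := by simpa [List.nodup_cons, and_assoc] using hn
    have hne' : s ≠ t ∧ s ≠ u ∧ t ≠ u := by simpa [List.nodup_cons, and_assoc] using hn'
    obtain ⟨g, e1, e2, e3⟩ := triple_conj h hA (hm' s (by simp))
      (b := t) (c' := u) ⟨hm' t (by simp), hne'.1.symm, hc' s (by simp) t (by simp)⟩
      ⟨hm' u (by simp), hne'.2.1.symm, hc' s (by simp) u (by simp)⟩ hne'.2.2 (hc' t (by simp) u (by simp))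
      (hm a (by simp)) ⟨hm b (by simp), hne.1.symm, hc a (by simp) b (by simp)⟩
      ⟨hm c (by simp), hne.2.1.symm, hc a (by simp) c (by simp)⟩ hne.2.2 (hc b (by simp) c (by simp))
    refine isConj_iff.2 ⟨g, ?_⟩
    simp only [List.prod_cons, List.prod_nil, mul_one]
    calc g * (a * (b * c)) * g⁻¹ = g * a * g⁻¹ * (g * b * g⁻¹ * (g * c * g⁻¹)) := by group
      _ = s * (t * u) := by rw [e1, e2, e3]

/-- How many members commute with a short product. -/
theorem ncard_fix {i : ℕ} (h1 : 1 ≤ i) (h3 : i ≤ 3) {x : G} (hx : Facs D i x) :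
    {y | y ∈ D ∧ Commute x y}.ncard = if i = 1 then n + 1 else if i = 2 then k + 2 else l + 3 := by
  obtain ⟨ls, hn, hl, hm, hc, rfl⟩ := hx
  interval_cases i
  · obtain ⟨a, rfl⟩ := List.length_eq_one_iff.1 hl
    have ha := hm a (by simp)
    have e : {y | y ∈ D ∧ Commute [a].prod y} = insert a (nb D a) := by
      ext y
      simp only [List.prod_cons, List.prod_nil, mul_one, Set.mem_ofPred_eq, Set.mem_insert_iff, nb]
      constructor
      · intro hy
        by_cases e : y = a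
        exacts [Or.inl e, Or.inr ⟨hy.1, e, hy.2⟩]
      · rintro (rfl | hy)
        exacts [⟨ha, Commute.refl _⟩, ⟨hy.1, hy.2.2⟩]
    rw [e, Set.ncard_insert_of_notMem (fun q => q.2.1 rfl) (Set.toFinite _), (h.loc a ha).card_nb, if_pos rfl]
  · obtain ⟨a, b, rfl⟩ := List.length_eq_two.1 hl
    have hne : a ≠ b := by simpa using hn
    have ha := hm a (by simp)
    have hb : b ∈ nb D a := ⟨hm b (by simp), hne.symm, hc a (by simp) b (by simp)⟩
    have e : {y | y ∈ D ∧ Commute [a, b].prod y} =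
        insert a (insert b {y | y ∈ nb D a ∧ y ≠ b ∧ Commute y b}) := by
      ext y
      simp only [List.prod_cons, List.prod_nil, mul_one, Set.mem_ofPred_eq, Set.mem_insert_iff]
      constructor
      · rintro ⟨hy, hc'⟩
        rw [commute_mul_iff0 h.tt ha hb.1 hy hb.2.2 hne] at hc'
        by_cases e : y = a
        · exact Or.inl e
        by_cases e' : y = b
        · exact Or.inr (Or.inl e')
        exact Or.inr (Or.inr ⟨⟨hy, e, hc'.1⟩, e', hc'.2.symm⟩)
      · have key : ∀ y ∈ D, Commute a y → Commute b y → y ∈ D ∧ Commute (a * b) y := fun y hy p q =>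
          ⟨hy, p.mul_left q⟩
        rintro (rfl | rfl | hy)
        exacts [key _ ha (Commute.refl _) hb.2.2.symm, key _ hb.1 hb.2.2 (Commute.refl _),
          key _ hy.1.1 hy.1.2.2 hy.2.2.symm]
    rw [e, Set.ncard_insert_of_notMem (by
        rintro (q | q)
        exacts [hne q, q.1.2.1 rfl]) (Set.toFinite _),
      Set.ncard_insert_of_notMem (fun q => q.2.1 rfl) (Set.toFinite _), (h.loc a ha).card_pair b hb]
    simp
  · obtain ⟨a, b, d, rfl⟩ := List.length_eq_three.1 hl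
    have hne : a ≠ b ∧ a ≠ d ∧ b ≠ d := by simpa [List.nodup_cons, and_assoc] using hn
    have ha := hm a (by simp)
    have hb : b ∈ nb D a := ⟨hm b (by simp), hne.1.symm, hc a (by simp) b (by simp)⟩
    have hd : d ∈ nb D a := ⟨hm d (by simp), hne.2.1.symm, hc a (by simp) d (by simp)⟩
    have hbd : Commute b d := hc b (by simp) d (by simp)
    have e : {y | y ∈ D ∧ Commute [a, b, d].prod y} =
        insert a (insert b (insert d {y | y ∈ nb D a ∧ y ≠ b ∧ y ≠ d ∧ Commute y b ∧ Commute y d})) := by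
      ext y
      simp only [List.prod_cons, List.prod_nil, mul_one, Set.mem_ofPred_eq, Set.mem_insert_iff, ← mul_assoc]
      constructor
      · rintro ⟨hy, hc'⟩
        rw [commute_triple_iff h.tt ha hb.1 hd.1 hy hb.2.2 hd.2.2 hbd hne.1 hne.2.1 hne.2.2] at hc'
        by_cases e : y = a
        · exact Or.inl e
        by_cases e' : y = b
        · exact Or.inr (Or.inl e')
        by_cases e'' : y = d
        · exact Or.inr (Or.inr (Or.inl e''))
        exact Or.inr (Or.inr (Or.inr ⟨⟨hy, e, hc'.1⟩, e', e'', hc'.2.1.symm, hc'.2.2.symm⟩))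
      · have key : ∀ y ∈ D, Commute a y → Commute b y → Commute d y → y ∈ D ∧ Commute (a * b * d) y :=
          fun y hy p q r => ⟨hy, (p.mul_left q).mul_left r⟩
        rintro (rfl | rfl | rfl | hy)
        exacts [key _ ha (Commute.refl _) hb.2.2.symm hd.2.2.symm, key _ hb.1 hb.2.2 (Commute.refl _) hbd.symm,
          key _ hd.1 hd.2.2 hbd (Commute.refl _), key _ hy.1.1 hy.1.2.2 hy.2.2.2.1.symm hy.2.2.2.2.symm]
    rw [e, Set.ncard_insert_of_notMem (by
        rintro (q | q | q)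
        exacts [hne.1 q, hne.2.1 q, q.1.2.1 rfl]) (Set.toFinite _),
      Set.ncard_insert_of_notMem (by
        rintro (q | q)
        exacts [hne.2.2 q, q.2.1 rfl]) (Set.toFinite _),
      Set.ncard_insert_of_notMem (fun q => q.2.2.1 rfl) (Set.toFinite _),
      (h.loc a ha).card_comm b hb d hd hne.2.2 hbd]
    simp

/-- A short product is not trivial. -/
theorem facs_ne_one {i : ℕ} (h1 : 1 ≤ i) (h3 : i ≤ 3) (hk : k + 1 < n) (hl : l + 1 < k) {x : G}
    (hx : Facs D i x) : x ≠ 1 := by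
  intro e
  obtain ⟨ls, hn, hlen, hm, hc, hprod⟩ := id hx
  obtain ⟨a, ha⟩ := List.exists_mem_of_ne_nil ls (by intro q; simp [q] at hlen; omega)
  have hfix := ncard_fix h hA h1 h3 hx
  subst e
  simp only [Commute.one_left, and_true, Set.ofPred_mem_eq] at hfix
  obtain ⟨b, hb⟩ := nb_nonempty h hA (hm a ha)
  obtain ⟨y, hy⟩ : {y | y ∈ nb D b ∧ ¬ Commute a y}.Nonempty :=
    Set.nonempty_of_ncard_ne_zero (by rw [ncard_far_nb h.toPre hA (hm a ha) hb]; omega)
  have hlt : n + 1 < D.ncard := by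
    have hsub' : insert y (insert a (nb D a)) ⊆ D :=
      Set.insert_subset hy.1.1 (Set.insert_subset (hm a ha) fun z hz => hz.1)
    have := Set.ncard_le_ncard hsub' (Set.toFinite _)
    rw [Set.ncard_insert_of_notMem (by
        rintro (q | q)
        exacts [hy.2 (q ▸ Commute.refl a), hy.2 q.2.2]) (Set.toFinite _),
      Set.ncard_insert_of_notMem (fun q => q.2.1 rfl) (Set.toFinite _), (h.loc a (hm a ha)).card_nb] at this
    omega
  split_ifs at hfix <;> omega

theorem facs_orderOf {i : ℕ} (h1 : 1 ≤ i) (h3 : i ≤ 3) (hk : k + 1 < n) (hl : l + 1 < k) {x : G}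
    (hx : Facs D i x) : orderOf x = 2 := by
  obtain ⟨ls, hn, hlen, hm, hc, rfl⟩ := id hx
  refine orderOf_eq_prime ?_ (facs_ne_one h hA h1 h3 hk hl hx)
  have : ∀ ls : List G, (∀ a ∈ ls, a ∈ D) → (∀ a ∈ ls, ∀ b ∈ ls, Commute a b) → ls.prod ^ 2 = 1 := by
    intro ls
    induction ls with
    | nil => simp
    | cons a ls ih =>
      intro hm hc
      rw [List.prod_cons, (Commute.list_prod_right _ _ fun z hz => hc a List.mem_cons_self z
        (List.mem_cons_of_mem _ hz)).mul_pow, pow_two a, h.tt.sq a (hm a List.mem_cons_self), one_mul,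
        ih (fun z hz => hm z (List.mem_cons_of_mem _ hz))
          fun z hz z' hz' => hc z (List.mem_cons_of_mem _ hz) z' (List.mem_cons_of_mem _ hz')]
  exact this ls hm hc

/-- Products of each length up to three exist. -/
theorem exists_facs {i : ℕ} (h1 : 1 ≤ i) (h3 : i ≤ 3) (hk : 0 < k) {d : G} (hd : d ∈ D) :
    ∃ x, Facs D i x := by
  obtain ⟨b, hb⟩ := nb_nonempty h hA hd
  obtain ⟨e, he⟩ : {y | y ∈ nb D d ∧ y ≠ b ∧ Commute y b}.Nonempty :=
    Set.nonempty_of_ncard_ne_zero (by rw [(h.loc d hd).card_pair b hb]; omega)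
  interval_cases i
  · exact ⟨d, [d], by simp, rfl, by simpa using hd, by simp, by simp⟩
  · exact ⟨d * b, [d, b], by simpa using hb.2.1.symm, rfl, by simpa using ⟨hd, hb.1⟩,
      by simpa using ⟨hb.2.2, hb.2.2.symm⟩, by simp⟩
  · refine ⟨d * b * e, [d, b, e], ?_, rfl, by simpa using ⟨hd, hb.1, he.1.1⟩, ?_, by simp [mul_assoc]⟩
    · simp [hb.2.1.symm, he.1.2.1.symm, he.2.1.symm]
    · simp only [List.mem_cons, List.not_mem_nil, or_false, forall_eq_or_imp, forall_eq]
      exact ⟨⟨Commute.refl _, hb.2.2, he.1.2.2⟩, ⟨hb.2.2.symm, Commute.refl _, he.2.2.symm⟩,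
        he.1.2.2.symm, he.2.2, Commute.refl _⟩

/-- If every involution is a short product, the members form the only generating class. -/
theorem class_unique {d : G} (hd : d ∈ D) (hinv : ∀ t : G, orderOf t = 2 → Short D t) {D' : Set G}
    (hD' : Cfsg.IsThreeTranspositionClass D') : D' = D := by
  obtain ⟨hset, ⟨x, hx, hcl⟩, -⟩ := hD'
  have hxD : ∀ y, y ∈ D' ↔ IsConj x y := fun y => by rw [hcl]; rfl
  obtain ⟨i, h1, h3, hfac⟩ := hinv x (hset.1 x hx)
  have hall : ∀ y, Facs D i y → y ∈ D' := fun y hy => (hxD y).2 (facs_conj h hA h1 h3 hfac hy)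
  have hconj : ∀ y, y ∈ D' → Facs D i y := fun y hy => by
    obtain ⟨g, rfl⟩ := isConj_iff.1 ((hxD y).1 hy)
    obtain ⟨l, hn, hl, hm, hc, rfl⟩ := hfac
    refine ⟨l.map (MulAut.conj g), hn.map (MulAut.conj g).injective, by rw [List.length_map, hl], ?_, ?_, ?_⟩
    · intro z hz
      obtain ⟨w, hw, rfl⟩ := List.mem_map.1 hz
      exact h.tt.conj g w (hm w hw)
    · intro z hz w hw
      obtain ⟨z', hz', rfl⟩ := List.mem_map.1 hz
      obtain ⟨w', hw', rfl⟩ := List.mem_map.1 hw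
      exact (hc z' hz' w' hw').map (MulAut.conj g)
    · rw [← map_list_prod]; rfl
  by_cases hm1 : i = 1
  · subst hm1
    ext y
    refine ⟨fun hy => ?_, fun hy => hall y ⟨[y], by simp, rfl, by simpa using hy, by simp, by simp⟩⟩
    obtain ⟨l, -, hl, hm, -, rfl⟩ := hconj y hy
    obtain ⟨a, rfl⟩ := List.length_eq_one_iff.1 hl
    simpa using hm a (by simp)
  exfalso
  -- two products whose quotient has order six
  obtain ⟨b, hb⟩ := nb_nonempty h hA hd
  obtain ⟨x₀, hc, hdc⟩ : {y | y ∈ nb D b ∧ ¬ Commute d y}.Nonempty :=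
    Set.nonempty_of_ncard_ne_zero (by rw [ncard_far_nb h.toPre hA hd hb]; have := hA.k_lt; omega)
  have hbt : b ∈ tri D d x₀ := ⟨hb, hc.2.2⟩
  obtain ⟨e, he⟩ : {y | y ∈ tri D d x₀ ∧ y ≠ b ∧ Commute y b}.Nonempty :=
    Set.nonempty_of_ncard_ne_zero (by rw [tri_inner h.toPre hA hd hc.1 hdc hbt]; have := hA.m_pos; omega)
  obtain ⟨f, hf⟩ : {y | y ∈ tri D d x₀ ∧ y ≠ b ∧ y ≠ e ∧ Commute y b ∧ Commute y e}.Nonempty :=
    Set.nonempty_of_ncard_ne_zero (by
      rw [tri_inner_two h.toPre hA hd hc.1 hdc hbt he.1 he.2.1 he.2.2]; have := hA.r_pos; omega)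
  have hed : Commute e d := he.1.1.2.2.symm
  have hec : Commute e x₀ := he.1.2
  have hce : x₀ ≠ e := fun q => hdc (q ▸ he.1.1.2.2)
  have hcf : x₀ ≠ f := fun q => hdc (q ▸ hf.1.1.2.2)
  obtain ⟨p, q, hp, hq, hpq⟩ : ∃ p q, p ∈ D' ∧ q ∈ D' ∧ p * q = (d * x₀) * (b * e) := by
    interval_cases i
    · omega
    · refine ⟨d * b, x₀ * e, hall _ ⟨[d, b], by simpa using hb.2.1.symm, rfl, by simpa using ⟨hd, hb.1⟩,
        by simpa using ⟨hb.2.2, hb.2.2.symm⟩, by simp⟩, hall _ ⟨[x₀, e], by simpa using hce, rfl,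
        by simpa using ⟨hc.1, he.1.1.1⟩, by simpa using ⟨hec.symm, hec⟩, by simp⟩, ?_⟩
      rw [show d * b * (x₀ * e) = d * (b * x₀) * e by group, hc.2.2.eq]; group
    · refine ⟨d * b * f, x₀ * e * f, hall _ ⟨[d, b, f], ?_, rfl, by simpa using ⟨hd, hb.1, hf.1.1.1⟩, ?_,
        by simp [mul_assoc]⟩, hall _ ⟨[x₀, e, f], ?_, rfl, by simpa using ⟨hc.1, he.1.1.1, hf.1.1.1⟩, ?_,
        by simp [mul_assoc]⟩, ?_⟩
      · simp [hb.2.1.symm, hf.1.1.2.1.symm, hf.2.1.symm]
      · simp only [List.mem_cons, List.not_mem_nil, or_false, forall_eq_or_imp, forall_eq]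
        exact ⟨⟨Commute.refl _, hb.2.2, hf.1.1.2.2⟩, ⟨hb.2.2.symm, Commute.refl _, hf.2.2.2.1.symm⟩,
          hf.1.1.2.2.symm, hf.2.2.2.1, Commute.refl _⟩
      · simp [hce, hcf, hf.2.2.1.symm]
      · simp only [List.mem_cons, List.not_mem_nil, or_false, forall_eq_or_imp, forall_eq]
        exact ⟨⟨Commute.refl _, hec.symm, hf.1.2.symm⟩, ⟨hec, Commute.refl _, hf.2.2.2.2.symm⟩,
          hf.1.2, hf.2.2.2.2, Commute.refl _⟩
      · have hfk : Commute f (x₀ * e) := hf.1.2.mul_right hf.2.2.2.2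
        calc d * b * f * (x₀ * e * f) = d * b * (f * (x₀ * e)) * f := by group
          _ = d * b * (x₀ * e) * (f * f) := by rw [hfk.eq]; group
          _ = d * (b * x₀) * e := by rw [h.tt.sq f hf.1.1.1, mul_one]; group
          _ = d * x₀ * (b * e) := by rw [hc.2.2.eq]; group
  have hcomm : Commute (d * x₀) (b * e) :=
    (hb.2.2.mul_right hed.symm).mul_left (hc.2.2.symm.mul_right hec.symm)
  have hbe2 : (b * e) ^ 2 = 1 := by
    rw [he.2.2.symm.mul_pow, pow_two, pow_two, h.tt.sq b hb.1, h.tt.sq e he.1.1.1, one_mul]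
  have hdc3 := cube_of_not_commute h.class3.1 hd hc.1 hdc
  rcases hset.2 p hp q hq with q' | q' <;> rw [hpq, hcomm.mul_pow] at q'
  · rw [hbe2, mul_one] at q'
    rw [pow_succ, q', one_mul] at hdc3
    exact hdc (by rw [← inv_eq_of_mul_eq_one_right hdc3, h.tt.inv hd])
  · rw [hdc3, one_mul, pow_succ, hbe2, one_mul] at q'
    exact he.2.1 (by rw [← inv_eq_of_mul_eq_one_right q', h.tt.inv hb.1])

end

end CfsgLib.ThreeT.Level
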