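import Cfsg.Agent.Spor3T.M22Triangle
import Cfsg.Agent.Spor3T.LevelGroup

/-!
One level of the chain: the normaliser of the group of order three generated by a far pair.
-/

set_option autoImplicit false
set_option linter.unusedSectionVars false
set_option linter.style.haveILetI false

namespace CfsgLib.ThreeT.Pair

open CfsgLib.ThreeT.Prod

variable {G : Type*} [Group G] [Finite G] {D : Set G} {n k l m r w c : ℕ} (h : Level.Pre D n k l m r)
  (hA : Level.Arith n k l m r w c)

include h hA

/-- Members centralising `ad` are the common neighbours. -/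
theorem tri_eq_cent {a d : G} (ha : a ∈ D) (hd : d ∈ D) (had : ¬ Commute a d) :
    D ∩ (Subgroup.centralizer ((Subgroup.zpowers (a * d) : Subgroup G) : Set G) : Set G) = tri D a d := by
  ext y
  constructor
  · rintro ⟨hy, hc⟩
    have hyc : Commute (a * d) y := Subgroup.mem_centralizer_iff.1 hc _ (Subgroup.mem_zpowers _)
    have hyne : y ≠ a := fun e => had (by
      subst e
      show y * d = d * y
      have e1 := hyc.eq
      rw [← mul_assoc y y d, h.tt.sq y hy, one_mul] at e1
      calc y * d = y * d * y * y := by rw [mul_assoc _ y y, h.tt.sq y hy, mul_one]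
        _ = d * y := by rw [e1])
    by_cases hay : Commute a y
    · refine ⟨⟨hy, hyne, hay⟩, ?_⟩
      have h2 : Commute (a * (a * d)) y := hay.mul_left hyc
      rw [← mul_assoc, h.tt.sq a ha, one_mul] at h2
      exact h2.symm
    exfalso
    -- `a y a` would centralise and invert `ad`
    have e1 : a * y * a = y * a * y := braid0 h.tt ha hy hay
    have h1 : a * (a * d) * a = d * a := by rw [← mul_assoc a a d, h.tt.sq a ha, one_mul]
    have hinv : (a * y * a) * (a * d) * (a * y * a) = d * a := by
      rw [e1, show y * a * y * (a * d) * (y * a * y) = y * a * (y * (a * d)) * (y * a * y) by group, ← hyc.eq,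
        show y * a * (a * d * y) * (y * a * y) = y * (a * (a * d) * (y * y) * a) * y by group, h.tt.sq y hy,
        mul_one, h1]
      have h3 : Commute (d * a) y := by
        have := hyc.inv_left
        rwa [mul_inv_rev, h.tt.inv ha, h.tt.inv hd] at this
      rw [← h3.eq, mul_assoc, h.tt.sq y hy, mul_one]
    have hcen : (a * y * a) * (a * d) * (a * y * a) = a * d := by
      have h3 : Commute (d * a) y := by
        have := hyc.inv_left
        rwa [mul_inv_rev, h.tt.inv ha, h.tt.inv hd] at this
      calc (a * y * a) * (a * d) * (a * y * a) = a * y * (a * (a * d) * a) * y * a := by group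
        _ = a * (y * (d * a)) * y * a := by rw [h1]; group
        _ = a * (d * a * y) * y * a := by rw [h3.eq]
        _ = a * d * (a * (y * y) * a) := by group
        _ = a * d := by rw [h.tt.sq y hy, mul_one, h.tt.sq a ha, mul_one]
    exact had (hcen.symm.trans hinv)
  · intro hy
    refine ⟨hy.1.1, Subgroup.mem_centralizer_iff.2 ?_⟩
    rintro _ ⟨k, rfl⟩
    exact ((hy.1.2.2.mul_left hy.2.symm).zpow_left k).eq

/-- A member inverting `ad` and commuting with all common neighbours is on the line. -/
theorem inverting_on_line {a d x : G} (ha : a ∈ D) (hd : d ∈ D) (had : ¬ Commute a d) (hx : x ∈ D)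
    (hinv : x * (a * d) * x = d * a) (hall : ∀ z ∈ tri D a d, Commute z x) :
    x = a ∨ x = d ∨ x = a * d * a := by
  by_cases hax : Commute a x
  · by_contra hne
    push Not at hne
    have e1 : x * (a * d) * x = a * (x * d * x) := by
      rw [show x * (a * d) * x = x * a * d * x by group, ← hax.eq]; group
    rw [hinv] at e1
    have e2 : x * d * x = a * d * a := by
      rw [← cancel2 h.tt ha (x * d * x), ← e1]; group
    by_cases hxd : Commute x d
    · rw [hxd.eq, mul_assoc, h.tt.sq x hx, mul_one, braid0 h.tt ha hd had] at e2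
      refine had ?_
      show a * d = d * a
      nth_rewrite 1 [e2]
      rw [show a * (d * a * d) = (a * d * a) * d by group, braid0 h.tt ha hd had,
        mul_assoc (d * a) d d, h.tt.sq d hd, mul_one]
    · rw [braid0 h.tt hx hd hxd, braid0 h.tt ha hd had] at e2
      exact hne.1 (mul_left_cancel (mul_right_cancel e2))
  · exact Or.inr (Level.line_eq h hA ha hd hx had hax hall)

/-- The normaliser. -/
theorem normalizer_eq {a d : G} (ha : a ∈ D)
    (hd : d ∈ D) (had : ¬ Commute a d)
    (hK : Subgroup.closure (tri D a d) = Subgroup.centralizer ({a, d} : Set G))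
    (hZ : Subgroup.center ↥(Subgroup.closure (tri D a d)) = ⊥) :
    (∀ x ∈ Subgroup.closure ({a, d} : Set G), ∀ y ∈ Subgroup.closure (tri D a d), x * y = y * x) ∧
      Subgroup.closure ({a, d} : Set G) ⊓ Subgroup.closure (tri D a d) = ⊥ ∧
      Subgroup.closure ({a, d} : Set G) ⊔ Subgroup.closure (tri D a d) =
        Subgroup.normalizer ((Subgroup.zpowers (a * d) : Subgroup G) : Set G) := by
  set S := Subgroup.closure ({a, d} : Set G)
  set K := Subgroup.closure (tri D a d) with hKdef
  have hcomm : ∀ x ∈ S, ∀ y ∈ K, x * y = y * x := by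
    intro x hx y hy
    rw [hK, CfsgLib.ThreeT.Prod.mem_pair_centralizer] at hy
    exact (commute_of_closure (S := {a, d}) (x := y) (by rintro z (rfl | rfl); exacts [hy.1.symm, hy.2.symm]) x hx).eq
  refine ⟨hcomm, ?_, ?_⟩
  · rw [Subgroup.eq_bot_iff_forall]
    rintro x ⟨hxS, hxK⟩
    have : (⟨x, hxK⟩ : ↥K) ∈ Subgroup.center ↥K :=
      Subgroup.mem_center_iff.2 fun y => Subtype.ext (hcomm x hxS y y.2).symm
    rw [hZ, Subgroup.mem_bot] at this
    exact congrArg Subtype.val this
  set X := Subgroup.zpowers (a * d)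
  have haS : a ∈ S := Subgroup.subset_closure (Or.inl rfl)
  have hdS : d ∈ S := Subgroup.subset_closure (Or.inr rfl)
  have hinvad : (a * d)⁻¹ = d * a := by rw [mul_inv_rev, h.tt.inv ha, h.tt.inv hd]
  refine le_antisymm (sup_le ?_ ?_) fun g hg => ?_
  · refine (Subgroup.closure_le _).2 ?_
    have key : ∀ x : G, x * x = 1 → x * (a * d) * x = d * a → x ∈ Subgroup.normalizer (X : Set G) := by
      intro x hx2 hx
      have hxi : x⁻¹ = x := inv_eq_of_mul_eq_one_right hx2
      rw [Subgroup.mem_normalizer_iff]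
      intro y
      have hfwd : ∀ y ∈ X, x * y * x⁻¹ ∈ X := by
        intro y hy
        obtain ⟨k, rfl⟩ := hy
        show x * (a * d) ^ k * x⁻¹ ∈ X
        rw [← conj_zpow, hxi, hx, ← hinvad]
        exact zpow_mem (inv_mem (Subgroup.mem_zpowers _)) k
      refine ⟨hfwd y, fun hy => ?_⟩
      have := hfwd _ hy
      rwa [hxi, show x * (x * y * x) * x = (x * x) * y * (x * x) by group, hx2, one_mul, mul_one] at this
    rintro x (rfl | rfl)
    · exact key x (h.tt.sq x ha) (by rw [← mul_assoc x x d, h.tt.sq x ha, one_mul])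
    · exact key x (h.tt.sq x hd) (by rw [show x * (a * x) * x = x * a * (x * x) by group, h.tt.sq x hd, mul_one])
  · intro y hy
    rw [hK, CfsgLib.ThreeT.Prod.mem_pair_centralizer] at hy
    rw [Subgroup.mem_normalizer_iff]
    intro z
    have hc : ∀ z ∈ X, Commute y z := by
      rintro _ ⟨k, rfl⟩; exact (hy.1.mul_right hy.2).zpow_right k
    constructor
    · intro hz; rwa [(hc z hz).eq, mul_inv_cancel_right]
    · intro hz
      have h2 := (hc _ hz).inv_left.eq
      have h3 : z = y * z * y⁻¹ := by
        calc z = y⁻¹ * (y * z * y⁻¹) * y := by group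
          _ = y * z * y⁻¹ * y⁻¹ * y := by rw [h2]
          _ = y * z * y⁻¹ := by group
      rwa [h3]
  -- an element of the normaliser
  rw [Subgroup.mem_normalizer_iff] at hg
  have hT : ∀ g : G, (∀ y, y ∈ X ↔ g * y * g⁻¹ ∈ X) → ∀ z ∈ tri D a d, g⁻¹ * z * g ∈ tri D a d := by
    intro g hg z hz
    rw [← tri_eq_cent h hA ha hd had] at hz ⊢
    refine ⟨by simpa using h.tt.conj g⁻¹ z hz.1, Subgroup.mem_centralizer_iff.2 fun y hy => ?_⟩
    have := Subgroup.mem_centralizer_iff.1 hz.2 _ ((hg y).1 hy)
    calc y * (g⁻¹ * z * g) = g⁻¹ * (g * y * g⁻¹ * z) * g := by group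
      _ = g⁻¹ * (z * (g * y * g⁻¹)) * g := by rw [this]
      _ = g⁻¹ * z * g * y := by group
  have hline : ∀ g : G, (∀ y, y ∈ X ↔ g * y * g⁻¹ ∈ X) → ∀ u, (u = a ∨ u = d) →
      g * u * g⁻¹ = a ∨ g * u * g⁻¹ = d ∨ g * u * g⁻¹ = a * d * a := by
    intro g hg u hu
    have hu0 : u ∈ D := by rcases hu with rfl | rfl <;> assumption
    have huinv : ∀ y ∈ X, u * y * u = y⁻¹ := by
      rintro _ ⟨k, rfl⟩
      show u * (a * d) ^ k * u = ((a * d) ^ k)⁻¹
      nth_rewrite 2 [← h.tt.inv hu0]
      rw [← conj_zpow, ← inv_zpow, h.tt.inv hu0]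
      congr 1
      rw [hinvad]
      rcases hu with rfl | rfl
      · rw [← mul_assoc u u d, h.tt.sq u ha, one_mul]
      · rw [show u * (a * u) * u = u * a * (u * u) by group, h.tt.sq u hd, mul_one]
    refine inverting_on_line h hA ha hd had (h.tt.conj g u hu0) ?_ fun z hz => ?_
    · have hm : g⁻¹ * (a * d) * g ∈ X := by
        rw [hg (g⁻¹ * (a * d) * g), show g * (g⁻¹ * (a * d) * g) * g⁻¹ = a * d by group]
        exact Subgroup.mem_zpowers _
      calc g * u * g⁻¹ * (a * d) * (g * u * g⁻¹) = g * (u * (g⁻¹ * (a * d) * g) * u) * g⁻¹ := by group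
        _ = g * (g⁻¹ * (a * d) * g)⁻¹ * g⁻¹ := by rw [huinv _ hm]
        _ = (a * d)⁻¹ := by group
        _ = d * a := hinvad
    · have h1 := hT g hg z hz
      have hcu : Commute (g⁻¹ * z * g) u := by
        rcases hu with rfl | rfl
        exacts [h1.1.2.2.symm, h1.2]
      have := (commute_conj_iff g _ u).2 hcu
      rwa [show g * (g⁻¹ * z * g) * g⁻¹ = z by group] at this
  -- move `a` back
  obtain ⟨s, hs, hsa⟩ : ∃ s ∈ S, s * a * s⁻¹ = g * a * g⁻¹ := by
    rcases hline g hg a (Or.inl rfl) with e | e | e <;> rw [e]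
    · exact ⟨1, one_mem _, by group⟩
    · refine ⟨a * d, mul_mem haS hdS, ?_⟩
      rw [hinvad, show a * d * a * (d * a) = (a * d * a) * d * a by group, braid0 h.tt ha hd had,
        show d * a * d * d * a = d * (a * (d * d) * a) by group, h.tt.sq d hd, mul_one, h.tt.sq a ha, mul_one]
    · refine ⟨d * a, mul_mem hdS haS, ?_⟩
      rw [mul_inv_rev, h.tt.inv ha, h.tt.inv hd, show d * a * a * (a * d) = d * (a * a) * a * d by group,
        h.tt.sq a ha, mul_one, braid0 h.tt ha hd had]
  have hsN : s ∈ Subgroup.normalizer (X : Set G) := by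
    have : S ≤ Subgroup.normalizer (X : Set G) := by
      refine (Subgroup.closure_le _).2 ?_
      intro x hx
      rw [SetLike.mem_coe, Subgroup.mem_normalizer_iff]
      have hxD : x ∈ D := by rcases hx with rfl | rfl <;> assumption
      have hxi := h.tt.inv hxD
      have hfwd : ∀ y ∈ X, x * y * x⁻¹ ∈ X := by
        rintro _ ⟨k, rfl⟩
        show x * (a * d) ^ k * x⁻¹ ∈ X
        rw [← conj_zpow, hxi]
        have : x * (a * d) * x = d * a := by
          rcases hx with rfl | rfl
          · rw [← mul_assoc x x d, h.tt.sq x ha, one_mul]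
          · rw [show x * (a * x) * x = x * a * (x * x) by group, h.tt.sq x hd, mul_one]
        rw [this, ← hinvad]
        exact zpow_mem (inv_mem (Subgroup.mem_zpowers _)) k
      intro y
      refine ⟨hfwd y, fun hy => ?_⟩
      have := hfwd _ hy
      rwa [hxi, show x * (x * y * x) * x = (x * x) * y * (x * x) by group, h.tt.sq x hxD, one_mul, mul_one] at this
    exact this hs
  set g' := s⁻¹ * g
  have hg' : ∀ y, y ∈ X ↔ g' * y * g'⁻¹ ∈ X := fun y => by
    rw [Subgroup.mem_normalizer_iff] at hsN
    rw [hg y, hsN (g' * y * g'⁻¹), show s * (g' * y * g'⁻¹) * s⁻¹ = g * y * g⁻¹ by simp only [g']; group]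
  have hg'a : Commute g' a := mul_inv_eq_iff_eq_mul.1 (by
    rw [show g' * a * g'⁻¹ = s⁻¹ * (g * a * g⁻¹) * s by simp only [g']; group, ← hsa]; group)
  obtain ⟨k, hk, r, hr, e⟩ : ∃ k ∈ S, ∃ r ∈ K, g' = k * r := by
    rcases hline g' hg' d (Or.inr rfl) with e | e | e
    · refine absurd ?_ had
      have e2 : g' * d * g'⁻¹ = g' * a * g'⁻¹ := by rw [e, hg'a.eq, mul_inv_cancel_right]
      rw [mul_left_cancel (mul_right_cancel e2)]
    · exact ⟨1, one_mem _, g', by rw [hK, CfsgLib.ThreeT.Prod.mem_pair_centralizer]; exact ⟨hg'a, mul_inv_eq_iff_eq_mul.1 e⟩,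
        by rw [one_mul]⟩
    · refine ⟨a, haS, a * g', ?_, by rw [cancel2 h.tt ha]⟩
      rw [hK, CfsgLib.ThreeT.Prod.mem_pair_centralizer]
      refine ⟨(Commute.refl a).mul_left hg'a, mul_inv_eq_iff_eq_mul.1 ?_⟩
      rw [show a * g' * d * (a * g')⁻¹ = a * (g' * d * g'⁻¹) * a⁻¹ by group, e, h.tt.inv ha,
        show a * (a * d * a) * a = (a * a) * d * (a * a) by group, h.tt.sq a ha, one_mul, mul_one]
  rw [show g = s * k * r by rw [mul_assoc, ← e]; simp only [g']; group]
  exact mul_mem (Subgroup.mem_sup_left (mul_mem hs hk)) (Subgroup.mem_sup_right hr)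

/-- The group generated by a non-commuting pair. -/
theorem pair_equiv_perm {a d : G} (ha : a ∈ D) (hd : d ∈ D) (had : ¬ Commute a d)
    (hbot : ∀ x ∈ Subgroup.closure ({a, d} : Set G), Commute x a → Commute x d → x = 1) :
    Nonempty (↥(Subgroup.closure ({a, d} : Set G)) ≃* Equiv.Perm (Fin 3)) := by
  classical
  haveI := Fintype.ofFinite G
  set S := Subgroup.closure ({a, d} : Set G)
  set L : Set G := {a, d, a * d * a}
  have had' : a ≠ d := fun e => had (e ▸ Commute.refl a)
  have hza : a * d * a ≠ a := fun e => had' (by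
    have q : a * (a * d * a) * a = a * a * a := by rw [e]
    rw [show a * (a * d * a) * a = (a * a) * d * (a * a) by group, h.tt.sq a ha, one_mul, mul_one, one_mul] at q
    exact q.symm)
  have hzd : a * d * a ≠ d := fun e => had (by
    show a * d = d * a
    nth_rewrite 2 [← e]
    rw [mul_assoc (a * d) a a, h.tt.sq a ha, mul_one])
  have hL3 : L.ncard = 3 := by
    rw [Set.ncard_insert_of_notMem (by
      simp only [Set.mem_insert_iff, Set.mem_singleton_iff, not_or]; exact ⟨had', hza.symm⟩),
      Set.ncard_pair hzd.symm]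
  have hcl : ∀ g ∈ S, ∀ x ∈ L, g * x * g⁻¹ ∈ L := by
    intro g hg
    induction hg using Subgroup.closure_induction with
    | mem u hu =>
      have e1 := h.tt.inv ha
      have e2 := h.tt.inv hd
      have b := braid0 h.tt ha hd had
      intro x hx
      simp only [L, Set.mem_insert_iff, Set.mem_singleton_iff] at hx ⊢
      rcases hu with rfl | rfl
      · rcases hx with rfl | rfl | rfl
        · left; group
        · right; right; rw [e1]
        · right; left; rw [e1, show u * (u * d * u) * u = (u * u) * d * (u * u) by group, h.tt.sq u ha, one_mul, mul_one]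
      · rcases hx with rfl | rfl | rfl
        · right; right; rw [e2, b]
        · right; left; group
        · left
          rw [e2, b, show u * (u * a * u) * u = (u * u) * a * (u * u) by group, h.tt.sq u hd, one_mul, mul_one]
    | one => intro x hx; simpa using hx
    | mul u v _ _ hu hv =>
      intro x hx
      rw [show u * v * x * (u * v)⁻¹ = u * (v * x * v⁻¹) * u⁻¹ by group]
      exact hu _ (hv x hx)
    | inv u _ hu =>
      intro x hx
      have himg : (fun y => u * y * u⁻¹) '' L = L := Set.eq_of_subset_of_ncard_le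
        (Set.image_subset_iff.2 fun y hy => hu y hy)
        (le_of_eq (Set.ncard_image_of_injective _ fun p q e => mul_left_cancel (mul_right_cancel e)).symm) (Set.toFinite _)
      obtain ⟨y, hy, rfl⟩ := himg.ge hx
      rwa [show u⁻¹ * (u * y * u⁻¹) * u⁻¹⁻¹ = y by group]
  let P : ↥S →* Equiv.Perm ↥L :=
    { toFun := fun g => Equiv.mk (fun x => ⟨g * x * g⁻¹, hcl g g.2 x x.2⟩)
        (fun x => ⟨(g : G)⁻¹ * x * (g : G)⁻¹⁻¹, hcl _ (inv_mem g.2) x x.2⟩)
        (fun x => Subtype.ext (by simp [mul_assoc])) (fun x => Subtype.ext (by simp [mul_assoc]))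
      map_one' := Equiv.ext fun x => Subtype.ext (by simp)
      map_mul' := fun u v => Equiv.ext fun x => Subtype.ext (by simp [mul_assoc]) }
  have hinj : Function.Injective P := by
    rw [injective_iff_map_eq_one]
    intro g hg
    have hfix : ∀ x ∈ L, Commute (g : G) x := fun x hx =>
      mul_inv_eq_iff_eq_mul.1 (congrArg Subtype.val (Equiv.congr_fun hg ⟨x, hx⟩))
    exact Subtype.ext (hbot g g.2 (hfix a (Or.inl rfl)) (hfix d (Or.inr (Or.inl rfl))))
  -- six elements
  have haS : a ∈ S := Subgroup.subset_closure (Or.inl rfl)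
  have hdS : d ∈ S := Subgroup.subset_closure (Or.inr rfl)
  have hsix : ({1, a, d, a * d, d * a, a * d * a} : Finset G).card = 6 := by
    have h1a : (1 : G) ≠ a := (h.ne_one a ha).symm
    have h1d : (1 : G) ≠ d := (h.ne_one d hd).symm
    have had1 : a * d ≠ 1 := fun e => had' (by rw [← h.tt.inv ha]; exact inv_eq_of_mul_eq_one_right e)
    have hda1 : d * a ≠ 1 := fun e => had' (by rw [← h.tt.inv hd]; exact (inv_eq_of_mul_eq_one_right e).symm)
    have hz1 : a * d * a ≠ 1 := fun e => h.ne_one _ (h.tt.conj' hd ha) e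
    have e1 : a * d ≠ a := fun e => h1d (mul_left_cancel (a := a) (by rw [mul_one, e]))
    have e2 : a * d ≠ d := fun e => h1a (mul_right_cancel (b := d) (by rw [one_mul, e]))
    have e3 : d * a ≠ a := fun e => h1d (mul_right_cancel (b := a) (by rw [one_mul, e]))
    have e4 : d * a ≠ d := fun e => h1a (mul_left_cancel (a := d) (by rw [mul_one, e]))
    have e5 : a * d ≠ d * a := had
    have e6 : a * d * a ≠ a * d := fun e => h1a (mul_left_cancel (a := a * d) (by rw [mul_one, e]))
    have e7 : a * d * a ≠ d * a := fun e => e2 (mul_right_cancel e)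
    simp [h1a, h1d, had', had1.symm, hda1.symm, hz1.symm, hza.symm, hzd.symm, e1.symm, e2.symm, e3.symm, e4.symm,
      e5, e6.symm, e7.symm]
  have hge : 6 ≤ Nat.card ↥S := by
    rw [← hsix, ← Set.ncard_coe_finset, ← SetLike.coe_sort_coe, Nat.card_coe_set_eq]
    refine Set.ncard_le_ncard ?_ (Set.toFinite _)
    intro x hx
    simp only [Finset.coe_insert, Finset.coe_singleton, Set.mem_insert_iff, Set.mem_singleton_iff] at hx
    rcases hx with rfl | rfl | rfl | rfl | rfl | rfl
    exacts [one_mem S, haS, hdS, mul_mem haS hdS, mul_mem hdS haS, mul_mem (mul_mem haS hdS) haS]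
  have hL : Fintype.card ↥L = 3 := by rw [← Nat.card_eq_fintype_card, Nat.card_coe_set_eq, hL3]
  have hb : Function.Bijective P := by
    refine hinj.bijective_of_nat_card_le ?_
    rw [Nat.card_perm, Nat.card_eq_fintype_card, hL]
    exact hge
  exact ⟨(MulEquiv.ofBijective P hb).trans (Fintype.equivFinOfCardEq hL).permCongrHom⟩

end CfsgLib.ThreeT.Pair
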