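import Cfsg.Agent.Spor3T.ReflModThreeMatrix
import Cfsg.Agent.Quad.Orders
import Cfsg.Agent.Quad.Concrete
import Cfsg.Agent.QuadStd.Disc

/-!
The projective reflection group of a six-dimensional space of discriminant one over three elements
has order at least `6531840`.
-/

set_option autoImplicit false
set_option linter.style.haveILetI false
set_option linter.unusedSectionVars false

namespace CfsgLib.ReflThree

open QuadraticMap CfsgLib.Quad CfsgLib.Forms CfsgLib.QuadStd

theorem aniso_plane : ∀ z₁ z₂ : ZMod 3, z₁ ^ 2 + 0 * z₁ * z₂ + 1 * z₂ ^ 2 = 0 → z₁ = 0 ∧ z₂ = 0 := by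
  decide

/-- An isometry commuting with the commutator subgroup is a scalar. -/
theorem scalar_of_commute {F : Type*} [Field F] [Finite F] {V : Type*} [AddCommGroup V] [Module F V]
    [FiniteDimensional F V] {Q : QuadraticForm F V} (hQ : (polarBilin Q).Nondegenerate)
    (hn : 5 ≤ Module.finrank F V) (g : oGroup Q) (hg : ∀ t ∈ commutator (oGroup Q), t * g = g * t) :
    ∃ c : F, c * c = 1 ∧ ∀ v, g.1 v = c • v := by
  refine eq_scalar_of_fix hQ hn fun u hu => ?_
  rcases eq_or_ne u 0 with rfl | hu0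
  · exact ⟨0, by simp⟩
  have hfixu : ∀ a, polar Q u a = 0 → (siegel Q u a).1 (g.1 u) = g.1 u := fun a hua => by
    have h := congrArg (fun t : oGroup Q => t.1 u) (hg _ (siegel_mem_commutator hQ hn hu hua))
    change (siegel Q u a).1 (g.1 u) = g.1 ((siegel Q u a).1 u) at h
    rw [h, siegel_apply hu hua, hua, polar_self, hu, smul_zero]
    simp
  set x := g.1 u
  have hL : Module.finrank F (Submodule.span F {u}) = 1 := finrank_span_singleton hu0
  have hperp := finrank_perpS hQ (Submodule.span F {u})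
  have hxu : polar Q x u = 0 := by
    by_contra hne
    have hle : perpS Q (Submodule.span F {u}) ≤ Submodule.span F {u} := fun a ha => by
      have hua : polar Q u a = 0 := ha u (Submodule.mem_span_singleton_self u)
      have h := hfixu a hua
      rw [siegel_apply hu hua] at h
      refine Submodule.mem_span_singleton.mpr
        ⟨(polar Q x u)⁻¹ * (polar Q x a + Q a * polar Q x u), ?_⟩
      have h' : polar Q x u • a = (polar Q x a + Q a * polar Q x u) • u := by
        rw [add_sub_assoc, add_eq_left, sub_eq_zero] at h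
        exact h
      rw [← smul_smul, ← h', smul_smul, inv_mul_cancel₀ hne, one_smul]
    have h2 := Submodule.finrank_mono hle
    omega
  have hxmem : x ∈ perpS Q (perpS Q (Submodule.span F {u})) := fun a ha => by
    have hua : polar Q u a = 0 := ha u (Submodule.mem_span_singleton_self u)
    have h := hfixu a hua
    rw [siegel_apply hu hua, hxu, zero_smul, add_zero, mul_zero, add_zero, sub_eq_self,
      smul_eq_zero] at h
    rw [polar_comm]
    exact h.resolve_right hu0
  rw [perpS_perpS hQ] at hxmem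
  obtain ⟨t, ht⟩ := Submodule.mem_span_singleton.mp hxmem
  exact ⟨t, ht.symm⟩

variable {Q : QuadraticForm (ZMod 3) (Fin 6 → ZMod 3)}

theorem card_oGroup_six (hQ : (polarBilin Q).Nondegenerate) (hd : Cfsg.polarGramDet (⇑Q) = 1) :
    Nat.card (oGroup Q) = 26127360 := by
  let r : ((Fin 2 ⊕ Fin 2) ⊕ Fin 2) ≃ Fin 6 :=
    (Equiv.sumCongr (finSumFinEquiv : Fin 2 ⊕ Fin 2 ≃ Fin 4) (Equiv.refl (Fin 2))).trans finSumFinEquiv
  let c := (Pi.basisFun (ZMod 3) ((Fin 2 ⊕ Fin 2) ⊕ Fin 2)).reindex r
  let P := minusQ 2 (0 : ZMod 3) 1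
  have hg : gram P c = !![0, 0, 1, 0, 0, 0; 0, 0, 0, 1, 0, 0; 1, 0, 0, 0, 0, 0; 0, 1, 0, 0, 0, 0;
      0, 0, 0, 0, 2, 0; 0, 0, 0, 0, 0, 2] := by
    ext i j
    simp only [gram, Matrix.of_apply, c, P, Module.Basis.reindex_apply, Pi.basisFun_apply, minusQ_coe,
      minus_polar]
    revert i j
    decide +kernel
  have hdet : (gram P c).det = 1 := by rw [hg]; decide +kernel
  have hgq : (gram Q (Pi.basisFun (ZMod 3) (Fin 6))).det = 1 := by
    rw [← hd, Cfsg.polarGramDet]
    congr 1
    ext i j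
    simp [gram]
  obtain ⟨g, hgiso⟩ := isometric_of_disc two_ne hQ (minusQ_nondeg aniso_plane 2)
    (Pi.basisFun (ZMod 3) (Fin 6)) c (by rw [hgq, hdet, one_mul]; exact IsSquare.one)
  rw [Nat.card_congr (oGroupCongr (Q := Q) (Q' := P) g hgiso).toEquiv]
  have h := card_oGroup_minus (q := 3) (Nat.card_zmod 3) aniso_plane 2
  have e : (2 * ((3 : ℕ) : ℤ) ^ ((2 + 1) * 2) * (((3 : ℕ) : ℤ) ^ (2 + 1) + 1) *
      ∏ i ∈ Finset.range 2, (((3 : ℕ) : ℤ) ^ (2 * (i + 1)) - 1)) = 26127360 := by decide +kernel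
  rw [e] at h
  exact_mod_cast h

theorem card_proj_six (hQ : (polarBilin Q).Nondegenerate) (hd : Cfsg.polarGramDet (⇑Q) = 1) {c : ZMod 3}
    (hc : c ≠ 0) : 6531840 ≤ Nat.card (↥(Cfsg.reflectionSubgroup (⇑Q) c) ⧸
      Subgroup.center ↥(Cfsg.reflectionSubgroup (⇑Q) c)) := by
  set R := Cfsg.reflectionSubgroup (⇑Q) c
  have hR : Nat.card ↥R = 13063680 := by
    have h := Subgroup.card_mul_index R
    rw [index_reflectionSubgroup hQ (by norm_num) hc, Nat.card_congr (isoGroupEquiv Q).toEquiv,
      card_oGroup_six hQ hd] at h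
    omega
  have hfr : 5 ≤ Module.finrank (ZMod 3) (Fin 6 → ZMod 3) := by rw [Module.finrank_fin_fun]; norm_num
  have hsc : ∀ z ∈ Subgroup.center ↥R, ∃ a : ZMod 3, (a = 1 ∨ a = -1) ∧
      ∀ v, (isoGroupEquiv Q (z : Cfsg.isometryGroup (ZMod 3) (⇑Q))).1 v = a • v := by
    intro z hz
    obtain ⟨a, ha, hv⟩ := scalar_of_commute hQ hfr (isoGroupEquiv Q (z : Cfsg.isometryGroup (ZMod 3) (⇑Q)))
      fun t ht => by
      obtain ⟨r, hr, rfl⟩ := (map_reflectionSubgroup c).ge (commutator_le_closure hQ (by norm_num) hc ht)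
      show isoGroupEquiv Q r * _ = _ * isoGroupEquiv Q r
      rw [← map_mul, ← map_mul]
      exact congrArg _ (congrArg Subtype.val (Subgroup.mem_center_iff.1 hz ⟨r, hr⟩))
    exact ⟨a, mul_self_eq_one_iff.1 ha, hv⟩
  choose f hf1 hf2 using fun z : ↥(Subgroup.center ↥R) => hsc z.1 z.2
  have hinj : Function.Injective fun z : ↥(Subgroup.center ↥R) => decide (f z = 1) := by
    intro z w e
    have hfe : f z = f w := by
      simp only [decide_eq_decide] at e
      rcases hf1 z with h1 | h1 <;> rcases hf1 w with h2 | h2 <;> rw [h1, h2] at e ⊢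
      · exact absurd (e.1 rfl) (by decide)
      · exact absurd (e.2 rfl) (by decide)
    refine Subtype.ext (Subtype.ext ((isoGroupEquiv Q).injective (Subtype.ext (LinearEquiv.ext fun v => ?_))))
    rw [hf2, hf2, hfe]
  have hZ : Nat.card ↥(Subgroup.center ↥R) ≤ 2 := by
    have := Nat.card_le_card_of_injective _ hinj
    simpa using this
  have h := Subgroup.card_eq_card_quotient_mul_card_subgroup (Subgroup.center ↥R)
  rw [hR] at h
  generalize Nat.card (↥R ⧸ Subgroup.center ↥R) = A at h ⊢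
  generalize Nat.card ↥(Subgroup.center ↥R) = B at h hZ
  interval_cases B <;> omega

end CfsgLib.ReflThree
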