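import Cfsg.Agent.Spor3T.M22Width
import Cfsg.Agent.Spor3T.ReflOrderSix

/-!
Type M(22): a non-commuting pair, its joint centraliser, and the normaliser of the group of order
three it generates.
-/

set_option autoImplicit false
set_option linter.unusedSectionVars false
set_option linter.style.haveILetI false

namespace CfsgLib.ThreeT.Prod

variable {G : Type*} [Group G] [Finite G] {D : Set G} (h : Geo22 D)

include h

/-- Non-commuting pairs are conjugate. -/
theorem far_pair_conj {a d a' d' : G} (ha : a ∈ D) (hd : d ∈ D) (had : ¬ Commute a d) (ha' : a' ∈ D)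
    (hd' : d' ∈ D) (had' : ¬ Commute a' d') : ∃ g : G, g * a * g⁻¹ = a' ∧ g * d * g⁻¹ = d' := by
  obtain ⟨g, hg⟩ := h.conjD a ha a' ha' (h.ne_one a ha) (h.ne_one a' ha')
  have hfar : ¬ Commute a' (g * d * g⁻¹) := fun e => had ((commute_conj_iff g a d).1 (by rwa [hg]))
  obtain ⟨k, hk, e⟩ := far_trans h ha' (h.tt.conj g d hd) hd' hfar had'
  refine ⟨k * g, ?_, ?_⟩
  · rw [show k * g * a * (k * g)⁻¹ = k * (g * a * g⁻¹) * k⁻¹ by group, hg, (commute_hsub hk).eq,
      mul_inv_cancel_right]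
  · rw [show k * g * d * (k * g)⁻¹ = k * (g * d * g⁻¹) * k⁻¹ by group, e]

theorem tri_map {a d : G} (g : G) :
    MulAut.conj g '' tri D a d = tri D (g * a * g⁻¹) (g * d * g⁻¹) := by
  ext y
  obtain ⟨y, rfl⟩ := (MulAut.conj g).surjective y
  rw [(MulAut.conj g).injective.mem_set_image]
  show _ ↔ MulAut.conj g y ∈ nb D (MulAut.conj g a) ∧ Commute (MulAut.conj g y) (MulAut.conj g d)
  rw [mem_nb_conj h.tt]
  exact and_congr Iff.rfl (commute_conj_iff g y d).symm

/-- The group generated by the common neighbours of a non-commuting pair. -/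
theorem pair_centralizer (hp : Cfsg.IsPrimitiveUnderConj D) (ht : Cfsg.IsOfTypeM22 G D) {a d : G} (ha : a ∈ D)
    (hd : d ∈ D) (had : ¬ Commute a d) :
    Subgroup.closure (tri D a d) = Subgroup.centralizer ({a, d} : Set G) ∧
      Subgroup.center ↥(Subgroup.closure (tri D a d)) = ⊥ ∧
      ∃ c : ZMod 3, c ≠ 0 ∧ Cfsg.IsProjReflectionGroupModThree ↥(Subgroup.closure (tri D a d)) 6 1 c := by
  obtain ⟨-, d₀, hd₀, c₀, hc₀, hdc, -, c₃, hc₃, Q, hQ, hdet, hne⟩ := id ht
  have hset : ({y : G | y ∈ D ∧ y ≠ d₀ ∧ Commute d₀ y} ∩ {y : G | y ∈ D ∧ y ≠ c₀ ∧ Commute c₀ y}) = tri D d₀ c₀ := by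
    ext y
    exact ⟨fun hy => ⟨hy.1, hy.2.2.2.symm⟩, fun hy => ⟨hy.1, hy.1.1, fun he => hdc (he ▸ hy.1.2.2), hy.2.symm⟩⟩
  obtain ⟨e⟩ := hne
  obtain ⟨g, hga, hgd⟩ := far_pair_conj h hd₀ hc₀ hdc ha hd had
  set K₀ := Subgroup.closure ({y : G | y ∈ D ∧ y ≠ d₀ ∧ Commute d₀ y} ∩ {y : G | y ∈ D ∧ y ≠ c₀ ∧ Commute c₀ y}) with hK₀
  set K := Subgroup.closure (tri D a d)
  have hmap : K₀.map (MulAut.conj g).toMonoidHom = K := by
    rw [hK₀, MonoidHom.map_closure, hset]
    show Subgroup.closure (MulAut.conj g '' tri D d₀ c₀) = K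
    rw [tri_map h g, hga, hgd]
  set iK : ↥K₀ ≃* ↥K :=
    (Subgroup.equivMapOfInjective _ _ (MulAut.conj g).injective).trans (MulEquiv.subgroupCongr hmap)
  set C := Subgroup.centralizer ({a, d} : Set G)
  have hKC : K ≤ C := by
    refine (Subgroup.closure_le _).2 fun y hy => Subgroup.mem_centralizer_iff.2 ?_
    rintro z (rfl | rfl)
    · exact hy.1.2.2.eq
    · exact hy.2.symm.eq
  -- the order of the joint centraliser
  have hC : Nat.card ↥C = 6531840 := by
    have h1 := card_orbit_stab (hsub D a) (Subgroup.centralizer ({d} : Set G)) (fun g => g * d * g⁻¹)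
      {x | x ∈ D ∧ ¬ Commute a x} (fun g _ g' _ => conj_fib) (by
        ext y
        constructor
        · rintro ⟨k, hk, rfl⟩
          refine ⟨h.tt.conj k d hd, fun q => had ?_⟩
          rw [← commute_conj_iff k, (commute_hsub hk).eq, mul_inv_cancel_right]
          exact q
        · intro hy
          obtain ⟨k, hk, e⟩ := far_trans h ha hd hy.1 had hy.2
          exact ⟨k, hk, e⟩)
    rw [(order22 h hp ht).1 a ha, (tri_card h).2 a ha] at h1
    have e2 : Subgroup.centralizer ({d} : Set G) ⊓ hsub D a = C := by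
      rw [(centralizer_eq h ha).1]
      ext x
      simp only [Subgroup.mem_inf, C, Subgroup.mem_centralizer_iff, Set.mem_singleton_iff, Set.mem_insert_iff,
        forall_eq_or_imp, forall_eq]
      exact and_comm
    rw [e2] at h1
    omega
  have hR := CfsgLib.ReflThree.card_proj_six hQ hdet hc₃
  rw [← Nat.card_congr e.toEquiv] at hR
  have hle : Nat.card ↥K ≤ Nat.card ↥C :=
    Nat.card_le_card_of_injective _ (Subgroup.inclusion_injective hKC)
  have hK0 := Subgroup.card_eq_card_quotient_mul_card_subgroup (Subgroup.center ↥K₀)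
  have hK0' : Nat.card ↥K₀ = Nat.card ↥K := Nat.card_congr iK.toEquiv
  have hpos : 0 < Nat.card ↥(Subgroup.center ↥K₀) := Nat.card_pos
  have hR' : 6531840 ≤ Nat.card (↥K₀ ⧸ Subgroup.center ↥K₀) := hR
  have hone : Nat.card ↥(Subgroup.center ↥K₀) = 1 := by
    by_contra hne
    have h2 : 6531840 * 2 ≤ Nat.card ↥K₀ := hK0.symm ▸ Nat.mul_le_mul hR' (by omega)
    omega
  have hbot : Subgroup.center ↥K₀ = ⊥ := Subgroup.card_eq_one.1 hone
  have hcard : Nat.card ↥K = 6531840 := by
    rw [hone, mul_one] at hK0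
    omega
  refine ⟨Subgroup.eq_of_le_of_card_ge hKC (by rw [hC, hcard]), ?_, c₃, hc₃, Q, hQ, hdet, ?_⟩
  · rw [Subgroup.eq_bot_iff_forall]
    intro x hx
    have : iK.symm x ∈ Subgroup.center ↥K₀ := Subgroup.mem_center_iff.2 fun y => iK.injective (by
      rw [map_mul, map_mul, iK.apply_symm_apply]; exact Subgroup.mem_center_iff.1 hx (iK y))
    rw [hbot, Subgroup.mem_bot] at this
    rw [← iK.apply_symm_apply x, this, map_one]
  · exact ⟨iK.symm.trans ((QuotientGroup.quotientBot.symm.trans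
      (QuotientGroup.quotientMulEquivOfEq hbot.symm)).trans e)⟩

/-- Members centralising `ad` are the common neighbours. -/
theorem tri_eq_cent {a d : G} (ha : a ∈ D) (hd : d ∈ D) (had : ¬ Commute a d) :
    D ∩ (Subgroup.centralizer ((Subgroup.zpowers (a * d) : Subgroup G) : Set G) : Set G) = tri D a d := by
  ext y
  constructor
  · rintro ⟨hy, hc⟩
    have hyc : Commute (a * d) y := Subgroup.mem_centralizer_iff.1 hc _ (Subgroup.mem_zpowers _)
    have hyne : y ≠ a := fun e => had (by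
      subst e
      show y * d = d * y
      have e1 := hyc.eq
      rw [← mul_assoc y y d, h.tt.sq y hy, one_mul] at e1
      calc y * d = y * d * y * y := by rw [mul_assoc _ y y, h.tt.sq y hy, mul_one]
        _ = d * y := by rw [e1])
    by_cases hay : Commute a y
    · refine ⟨⟨hy, hyne, hay⟩, ?_⟩
      have h2 : Commute (a * (a * d)) y := hay.mul_left hyc
      rw [← mul_assoc, h.tt.sq a ha, one_mul] at h2
      exact h2.symm
    exfalso
    -- `a y a` would centralise and invert `ad`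
    have e1 : a * y * a = y * a * y := braid0 h.tt ha hy hay
    have h1 : a * (a * d) * a = d * a := by rw [← mul_assoc a a d, h.tt.sq a ha, one_mul]
    have hinv : (a * y * a) * (a * d) * (a * y * a) = d * a := by
      rw [e1, show y * a * y * (a * d) * (y * a * y) = y * a * (y * (a * d)) * (y * a * y) by group, ← hyc.eq,
        show y * a * (a * d * y) * (y * a * y) = y * (a * (a * d) * (y * y) * a) * y by group, h.tt.sq y hy,
        mul_one, h1]
      have h3 : Commute (d * a) y := by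
        have := hyc.inv_left
        rwa [mul_inv_rev, h.tt.inv ha, h.tt.inv hd] at this
      rw [← h3.eq, mul_assoc, h.tt.sq y hy, mul_one]
    have hcen : (a * y * a) * (a * d) * (a * y * a) = a * d := by
      have h3 : Commute (d * a) y := by
        have := hyc.inv_left
        rwa [mul_inv_rev, h.tt.inv ha, h.tt.inv hd] at this
      calc (a * y * a) * (a * d) * (a * y * a) = a * y * (a * (a * d) * a) * y * a := by group
        _ = a * (y * (d * a)) * y * a := by rw [h1]; group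
        _ = a * (d * a * y) * y * a := by rw [h3.eq]
        _ = a * d * (a * (y * y) * a) := by group
        _ = a * d := by rw [h.tt.sq y hy, mul_one, h.tt.sq a ha, mul_one]
    exact had (hcen.symm.trans hinv)
  · intro hy
    refine ⟨hy.1.1, Subgroup.mem_centralizer_iff.2 ?_⟩
    rintro _ ⟨k, rfl⟩
    exact ((hy.1.2.2.mul_left hy.2.symm).zpow_left k).eq

/-- A member inverting `ad` and commuting with all common neighbours is on the line. -/
theorem inverting_on_line {a d x : G} (ha : a ∈ D) (hd : d ∈ D) (had : ¬ Commute a d) (hx : x ∈ D)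
    (hinv : x * (a * d) * x = d * a) (hall : ∀ z ∈ tri D a d, Commute z x) :
    x = a ∨ x = d ∨ x = a * d * a := by
  by_cases hax : Commute a x
  · by_contra hne
    push Not at hne
    have e1 : x * (a * d) * x = a * (x * d * x) := by
      rw [show x * (a * d) * x = x * a * d * x by group, ← hax.eq]; group
    rw [hinv] at e1
    have e2 : x * d * x = a * d * a := by
      rw [← cancel2 h.tt ha (x * d * x), ← e1]; group
    by_cases hxd : Commute x d
    · rw [hxd.eq, mul_assoc, h.tt.sq x hx, mul_one, braid0 h.tt ha hd had] at e2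
      refine had ?_
      show a * d = d * a
      nth_rewrite 1 [e2]
      rw [show a * (d * a * d) = (a * d * a) * d by group, braid0 h.tt ha hd had,
        mul_assoc (d * a) d d, h.tt.sq d hd, mul_one]
    · rw [braid0 h.tt hx hd hxd, braid0 h.tt ha hd had] at e2
      exact hne.1 (mul_left_cancel (mul_right_cancel e2))
  · exact Or.inr (line_eq h ha hd hx had hax hall)

omit h in
theorem mem_pair_centralizer {a d g : G} :
    g ∈ Subgroup.centralizer ({a, d} : Set G) ↔ Commute g a ∧ Commute g d := by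
  simp only [Subgroup.mem_centralizer_iff, Set.mem_insert_iff, Set.mem_singleton_iff, forall_eq_or_imp, forall_eq]
  exact and_congr ⟨Eq.symm, Eq.symm⟩ ⟨Eq.symm, Eq.symm⟩

/-- The normaliser. -/
theorem normalizer_eq (hp : Cfsg.IsPrimitiveUnderConj D) (ht : Cfsg.IsOfTypeM22 G D) {a d : G} (ha : a ∈ D)
    (hd : d ∈ D) (had : ¬ Commute a d) :
    (∀ x ∈ Subgroup.closure ({a, d} : Set G), ∀ y ∈ Subgroup.closure (tri D a d), x * y = y * x) ∧
      Subgroup.closure ({a, d} : Set G) ⊓ Subgroup.closure (tri D a d) = ⊥ ∧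
      Subgroup.closure ({a, d} : Set G) ⊔ Subgroup.closure (tri D a d) =
        Subgroup.normalizer ((Subgroup.zpowers (a * d) : Subgroup G) : Set G) := by
  obtain ⟨hK, hZ, -⟩ := pair_centralizer h hp ht ha hd had
  set S := Subgroup.closure ({a, d} : Set G)
  set K := Subgroup.closure (tri D a d) with hKdef
  have hcomm : ∀ x ∈ S, ∀ y ∈ K, x * y = y * x := by
    intro x hx y hy
    rw [hK, mem_pair_centralizer] at hy
    exact (commute_of_closure (S := {a, d}) (x := y) (by rintro z (rfl | rfl); exacts [hy.1.symm, hy.2.symm]) x hx).eq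
  refine ⟨hcomm, ?_, ?_⟩
  · rw [Subgroup.eq_bot_iff_forall]
    rintro x ⟨hxS, hxK⟩
    have : (⟨x, hxK⟩ : ↥K) ∈ Subgroup.center ↥K :=
      Subgroup.mem_center_iff.2 fun y => Subtype.ext (hcomm x hxS y y.2).symm
    rw [hZ, Subgroup.mem_bot] at this
    exact congrArg Subtype.val this
  set X := Subgroup.zpowers (a * d)
  have haS : a ∈ S := Subgroup.subset_closure (Or.inl rfl)
  have hdS : d ∈ S := Subgroup.subset_closure (Or.inr rfl)
  have hinvad : (a * d)⁻¹ = d * a := by rw [mul_inv_rev, h.tt.inv ha, h.tt.inv hd]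
  refine le_antisymm (sup_le ?_ ?_) fun g hg => ?_
  · refine (Subgroup.closure_le _).2 ?_
    have key : ∀ x : G, x * x = 1 → x * (a * d) * x = d * a → x ∈ Subgroup.normalizer (X : Set G) := by
      intro x hx2 hx
      have hxi : x⁻¹ = x := inv_eq_of_mul_eq_one_right hx2
      rw [Subgroup.mem_normalizer_iff]
      intro y
      have hfwd : ∀ y ∈ X, x * y * x⁻¹ ∈ X := by
        intro y hy
        obtain ⟨k, rfl⟩ := hy
        show x * (a * d) ^ k * x⁻¹ ∈ X
        rw [← conj_zpow, hxi, hx, ← hinvad]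
        exact zpow_mem (inv_mem (Subgroup.mem_zpowers _)) k
      refine ⟨hfwd y, fun hy => ?_⟩
      have := hfwd _ hy
      rwa [hxi, show x * (x * y * x) * x = (x * x) * y * (x * x) by group, hx2, one_mul, mul_one] at this
    rintro x (rfl | rfl)
    · exact key x (h.tt.sq x ha) (by rw [← mul_assoc x x d, h.tt.sq x ha, one_mul])
    · exact key x (h.tt.sq x hd) (by rw [show x * (a * x) * x = x * a * (x * x) by group, h.tt.sq x hd, mul_one])
  · intro y hy
    rw [hK, mem_pair_centralizer] at hy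
    rw [Subgroup.mem_normalizer_iff]
    intro z
    have hc : ∀ z ∈ X, Commute y z := by
      rintro _ ⟨k, rfl⟩; exact (hy.1.mul_right hy.2).zpow_right k
    constructor
    · intro hz; rwa [(hc z hz).eq, mul_inv_cancel_right]
    · intro hz
      have h2 := (hc _ hz).inv_left.eq
      have h3 : z = y * z * y⁻¹ := by
        calc z = y⁻¹ * (y * z * y⁻¹) * y := by group
          _ = y * z * y⁻¹ * y⁻¹ * y := by rw [h2]
          _ = y * z * y⁻¹ := by group
      rwa [h3]
  -- an element of the normaliser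
  rw [Subgroup.mem_normalizer_iff] at hg
  have hT : ∀ g : G, (∀ y, y ∈ X ↔ g * y * g⁻¹ ∈ X) → ∀ z ∈ tri D a d, g⁻¹ * z * g ∈ tri D a d := by
    intro g hg z hz
    rw [← tri_eq_cent h ha hd had] at hz ⊢
    refine ⟨by simpa using h.tt.conj g⁻¹ z hz.1, Subgroup.mem_centralizer_iff.2 fun y hy => ?_⟩
    have := Subgroup.mem_centralizer_iff.1 hz.2 _ ((hg y).1 hy)
    calc y * (g⁻¹ * z * g) = g⁻¹ * (g * y * g⁻¹ * z) * g := by group
      _ = g⁻¹ * (z * (g * y * g⁻¹)) * g := by rw [this]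
      _ = g⁻¹ * z * g * y := by group
  have hline : ∀ g : G, (∀ y, y ∈ X ↔ g * y * g⁻¹ ∈ X) → ∀ u, (u = a ∨ u = d) →
      g * u * g⁻¹ = a ∨ g * u * g⁻¹ = d ∨ g * u * g⁻¹ = a * d * a := by
    intro g hg u hu
    have hu0 : u ∈ D := by rcases hu with rfl | rfl <;> assumption
    have huinv : ∀ y ∈ X, u * y * u = y⁻¹ := by
      rintro _ ⟨k, rfl⟩
      show u * (a * d) ^ k * u = ((a * d) ^ k)⁻¹
      nth_rewrite 2 [← h.tt.inv hu0]
      rw [← conj_zpow, ← inv_zpow, h.tt.inv hu0]
      congr 1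
      rw [hinvad]
      rcases hu with rfl | rfl
      · rw [← mul_assoc u u d, h.tt.sq u ha, one_mul]
      · rw [show u * (a * u) * u = u * a * (u * u) by group, h.tt.sq u hd, mul_one]
    refine inverting_on_line h ha hd had (h.tt.conj g u hu0) ?_ fun z hz => ?_
    · have hm : g⁻¹ * (a * d) * g ∈ X := by
        rw [hg (g⁻¹ * (a * d) * g), show g * (g⁻¹ * (a * d) * g) * g⁻¹ = a * d by group]
        exact Subgroup.mem_zpowers _
      calc g * u * g⁻¹ * (a * d) * (g * u * g⁻¹) = g * (u * (g⁻¹ * (a * d) * g) * u) * g⁻¹ := by group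
        _ = g * (g⁻¹ * (a * d) * g)⁻¹ * g⁻¹ := by rw [huinv _ hm]
        _ = (a * d)⁻¹ := by group
        _ = d * a := hinvad
    · have h1 := hT g hg z hz
      have hcu : Commute (g⁻¹ * z * g) u := by
        rcases hu with rfl | rfl
        exacts [h1.1.2.2.symm, h1.2]
      have := (commute_conj_iff g _ u).2 hcu
      rwa [show g * (g⁻¹ * z * g) * g⁻¹ = z by group] at this
  -- move `a` back
  obtain ⟨s, hs, hsa⟩ : ∃ s ∈ S, s * a * s⁻¹ = g * a * g⁻¹ := by
    rcases hline g hg a (Or.inl rfl) with e | e | e <;> rw [e]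
    · exact ⟨1, one_mem _, by group⟩
    · refine ⟨a * d, mul_mem haS hdS, ?_⟩
      rw [hinvad, show a * d * a * (d * a) = (a * d * a) * d * a by group, braid0 h.tt ha hd had,
        show d * a * d * d * a = d * (a * (d * d) * a) by group, h.tt.sq d hd, mul_one, h.tt.sq a ha, mul_one]
    · refine ⟨d * a, mul_mem hdS haS, ?_⟩
      rw [mul_inv_rev, h.tt.inv ha, h.tt.inv hd, show d * a * a * (a * d) = d * (a * a) * a * d by group,
        h.tt.sq a ha, mul_one, braid0 h.tt ha hd had]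
  have hsN : s ∈ Subgroup.normalizer (X : Set G) := by
    have : S ≤ Subgroup.normalizer (X : Set G) := by
      refine (Subgroup.closure_le _).2 ?_
      intro x hx
      rw [SetLike.mem_coe, Subgroup.mem_normalizer_iff]
      have hxD : x ∈ D := by rcases hx with rfl | rfl <;> assumption
      have hxi := h.tt.inv hxD
      have hfwd : ∀ y ∈ X, x * y * x⁻¹ ∈ X := by
        rintro _ ⟨k, rfl⟩
        show x * (a * d) ^ k * x⁻¹ ∈ X
        rw [← conj_zpow, hxi]
        have : x * (a * d) * x = d * a := by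
          rcases hx with rfl | rfl
          · rw [← mul_assoc x x d, h.tt.sq x ha, one_mul]
          · rw [show x * (a * x) * x = x * a * (x * x) by group, h.tt.sq x hd, mul_one]
        rw [this, ← hinvad]
        exact zpow_mem (inv_mem (Subgroup.mem_zpowers _)) k
      intro y
      refine ⟨hfwd y, fun hy => ?_⟩
      have := hfwd _ hy
      rwa [hxi, show x * (x * y * x) * x = (x * x) * y * (x * x) by group, h.tt.sq x hxD, one_mul, mul_one] at this
    exact this hs
  set g' := s⁻¹ * g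
  have hg' : ∀ y, y ∈ X ↔ g' * y * g'⁻¹ ∈ X := fun y => by
    rw [Subgroup.mem_normalizer_iff] at hsN
    rw [hg y, hsN (g' * y * g'⁻¹), show s * (g' * y * g'⁻¹) * s⁻¹ = g * y * g⁻¹ by simp only [g']; group]
  have hg'a : Commute g' a := mul_inv_eq_iff_eq_mul.1 (by
    rw [show g' * a * g'⁻¹ = s⁻¹ * (g * a * g⁻¹) * s by simp only [g']; group, ← hsa]; group)
  obtain ⟨k, hk, r, hr, e⟩ : ∃ k ∈ S, ∃ r ∈ K, g' = k * r := by
    rcases hline g' hg' d (Or.inr rfl) with e | e | e
    · refine absurd ?_ had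
      have e2 : g' * d * g'⁻¹ = g' * a * g'⁻¹ := by rw [e, hg'a.eq, mul_inv_cancel_right]
      rw [mul_left_cancel (mul_right_cancel e2)]
    · exact ⟨1, one_mem _, g', by rw [hK, mem_pair_centralizer]; exact ⟨hg'a, mul_inv_eq_iff_eq_mul.1 e⟩,
        by rw [one_mul]⟩
    · refine ⟨a, haS, a * g', ?_, by rw [cancel2 h.tt ha]⟩
      rw [hK, mem_pair_centralizer]
      refine ⟨(Commute.refl a).mul_left hg'a, mul_inv_eq_iff_eq_mul.1 ?_⟩
      rw [show a * g' * d * (a * g')⁻¹ = a * (g' * d * g'⁻¹) * a⁻¹ by group, e, h.tt.inv ha,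
        show a * (a * d * a) * a = (a * a) * d * (a * a) by group, h.tt.sq a ha, one_mul, mul_one]
  rw [show g = s * k * r by rw [mul_assoc, ← e]; simp only [g']; group]
  exact mul_mem (Subgroup.mem_sup_left (mul_mem hs hk)) (Subgroup.mem_sup_right hr)

/-- The group generated by a non-commuting pair. -/
theorem pair_equiv_perm {a d : G} (ha : a ∈ D) (hd : d ∈ D) (had : ¬ Commute a d)
    (hbot : ∀ x ∈ Subgroup.closure ({a, d} : Set G), Commute x a → Commute x d → x = 1) :
    Nonempty (↥(Subgroup.closure ({a, d} : Set G)) ≃* Equiv.Perm (Fin 3)) := by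
  classical
  haveI := Fintype.ofFinite G
  set S := Subgroup.closure ({a, d} : Set G)
  set L : Set G := {a, d, a * d * a}
  have had' : a ≠ d := fun e => had (e ▸ Commute.refl a)
  have hza : a * d * a ≠ a := fun e => had' (by
    have q : a * (a * d * a) * a = a * a * a := by rw [e]
    rw [show a * (a * d * a) * a = (a * a) * d * (a * a) by group, h.tt.sq a ha, one_mul, mul_one, one_mul] at q
    exact q.symm)
  have hzd : a * d * a ≠ d := fun e => had (by
    show a * d = d * a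
    nth_rewrite 2 [← e]
    rw [mul_assoc (a * d) a a, h.tt.sq a ha, mul_one])
  have hL3 : L.ncard = 3 := by
    rw [Set.ncard_insert_of_notMem (by
      simp only [Set.mem_insert_iff, Set.mem_singleton_iff, not_or]; exact ⟨had', hza.symm⟩),
      Set.ncard_pair hzd.symm]
  have hcl : ∀ g ∈ S, ∀ x ∈ L, g * x * g⁻¹ ∈ L := by
    intro g hg
    induction hg using Subgroup.closure_induction with
    | mem u hu =>
      have e1 := h.tt.inv ha
      have e2 := h.tt.inv hd
      have b := braid0 h.tt ha hd had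
      intro x hx
      simp only [L, Set.mem_insert_iff, Set.mem_singleton_iff] at hx ⊢
      rcases hu with rfl | rfl
      · rcases hx with rfl | rfl | rfl
        · left; group
        · right; right; rw [e1]
        · right; left; rw [e1, show u * (u * d * u) * u = (u * u) * d * (u * u) by group, h.tt.sq u ha, one_mul, mul_one]
      · rcases hx with rfl | rfl | rfl
        · right; right; rw [e2, b]
        · right; left; group
        · left
          rw [e2, b, show u * (u * a * u) * u = (u * u) * a * (u * u) by group, h.tt.sq u hd, one_mul, mul_one]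
    | one => intro x hx; simpa using hx
    | mul u v _ _ hu hv =>
      intro x hx
      rw [show u * v * x * (u * v)⁻¹ = u * (v * x * v⁻¹) * u⁻¹ by group]
      exact hu _ (hv x hx)
    | inv u _ hu =>
      intro x hx
      have himg : (fun y => u * y * u⁻¹) '' L = L := Set.eq_of_subset_of_ncard_le
        (Set.image_subset_iff.2 fun y hy => hu y hy)
        (le_of_eq (Set.ncard_image_of_injective _ fun p q e => mul_left_cancel (mul_right_cancel e)).symm) (Set.toFinite _)
      obtain ⟨y, hy, rfl⟩ := himg.ge hx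
      rwa [show u⁻¹ * (u * y * u⁻¹) * u⁻¹⁻¹ = y by group]
  let P : ↥S →* Equiv.Perm ↥L :=
    { toFun := fun g => Equiv.mk (fun x => ⟨g * x * g⁻¹, hcl g g.2 x x.2⟩)
        (fun x => ⟨(g : G)⁻¹ * x * (g : G)⁻¹⁻¹, hcl _ (inv_mem g.2) x x.2⟩)
        (fun x => Subtype.ext (by simp [mul_assoc])) (fun x => Subtype.ext (by simp [mul_assoc]))
      map_one' := Equiv.ext fun x => Subtype.ext (by simp)
      map_mul' := fun u v => Equiv.ext fun x => Subtype.ext (by simp [mul_assoc]) }
  have hinj : Function.Injective P := by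
    rw [injective_iff_map_eq_one]
    intro g hg
    have hfix : ∀ x ∈ L, Commute (g : G) x := fun x hx =>
      mul_inv_eq_iff_eq_mul.1 (congrArg Subtype.val (Equiv.congr_fun hg ⟨x, hx⟩))
    exact Subtype.ext (hbot g g.2 (hfix a (Or.inl rfl)) (hfix d (Or.inr (Or.inl rfl))))
  -- six elements
  have haS : a ∈ S := Subgroup.subset_closure (Or.inl rfl)
  have hdS : d ∈ S := Subgroup.subset_closure (Or.inr rfl)
  have hsix : ({1, a, d, a * d, d * a, a * d * a} : Finset G).card = 6 := by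
    have h1a : (1 : G) ≠ a := (h.ne_one a ha).symm
    have h1d : (1 : G) ≠ d := (h.ne_one d hd).symm
    have had1 : a * d ≠ 1 := fun e => had' (by rw [← h.tt.inv ha]; exact inv_eq_of_mul_eq_one_right e)
    have hda1 : d * a ≠ 1 := fun e => had' (by rw [← h.tt.inv hd]; exact (inv_eq_of_mul_eq_one_right e).symm)
    have hz1 : a * d * a ≠ 1 := fun e => h.ne_one _ (h.tt.conj' hd ha) e
    have e1 : a * d ≠ a := fun e => h1d (mul_left_cancel (a := a) (by rw [mul_one, e]))
    have e2 : a * d ≠ d := fun e => h1a (mul_right_cancel (b := d) (by rw [one_mul, e]))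
    have e3 : d * a ≠ a := fun e => h1d (mul_right_cancel (b := a) (by rw [one_mul, e]))
    have e4 : d * a ≠ d := fun e => h1a (mul_left_cancel (a := d) (by rw [mul_one, e]))
    have e5 : a * d ≠ d * a := had
    have e6 : a * d * a ≠ a * d := fun e => h1a (mul_left_cancel (a := a * d) (by rw [mul_one, e]))
    have e7 : a * d * a ≠ d * a := fun e => e2 (mul_right_cancel e)
    simp [h1a, h1d, had', had1.symm, hda1.symm, hz1.symm, hza.symm, hzd.symm, e1.symm, e2.symm, e3.symm, e4.symm,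
      e5, e6.symm, e7.symm]
  have hge : 6 ≤ Nat.card ↥S := by
    rw [← hsix, ← Set.ncard_coe_finset, ← SetLike.coe_sort_coe, Nat.card_coe_set_eq]
    refine Set.ncard_le_ncard ?_ (Set.toFinite _)
    intro x hx
    simp only [Finset.coe_insert, Finset.coe_singleton, Set.mem_insert_iff, Set.mem_singleton_iff] at hx
    rcases hx with rfl | rfl | rfl | rfl | rfl | rfl
    exacts [one_mem S, haS, hdS, mul_mem haS hdS, mul_mem hdS haS, mul_mem (mul_mem haS hdS) haS]
  have hL : Fintype.card ↥L = 3 := by rw [← Nat.card_eq_fintype_card, Nat.card_coe_set_eq, hL3]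
  have hb : Function.Bijective P := by
    refine hinj.bijective_of_nat_card_le ?_
    rw [Nat.card_perm, Nat.card_eq_fintype_card, hL]
    exact hge
  exact ⟨(MulEquiv.ofBijective P hb).trans (Fintype.equivFinOfCardEq hL).permCongrHom⟩

/-- At most six common neighbours commute pairwise. -/
theorem no_tri_clique {a d : G} (ha : a ∈ D) (hd : d ∈ D) (had : ¬ Commute a d) {C : Set G} (hC : C ⊆ tri D a d)
    (hcC : ∀ x ∈ C, ∀ y ∈ C, Commute x y) : C.ncard ≠ 7 := by
  classical
  haveI := Fintype.ofFinite G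
  intro hn
  set T := (tri D a d).toFinset
  set Cf := C.toFinset
  set Out := T \ Cf
  have hCN : Cf ⊆ T := fun z hz => Set.mem_toFinset.2 (hC (Set.mem_toFinset.1 hz))
  have hCf : Cf.card = 7 := by rw [← Set.ncard_eq_toFinset_card', hn]
  have hT : T.card = 126 := by rw [← Set.ncard_eq_toFinset_card', (tri_card h).1 a ha d hd had]
  have hOut : Out.card = 119 := by rw [Finset.card_sdiff_of_subset hCN, hT, hCf]
  have hadj : ∀ {x y : G}, x ∈ Cf → y ∈ Cf → Commute x y := fun hx hy =>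
    hcC _ (Set.mem_toFinset.1 hx) _ (Set.mem_toFinset.1 hy)
  have hdeg : ∀ c ∈ Cf, (Out.filter fun z => Commute z c).card = 39 := by
    intro c hc
    have h1 := tri_inner h ha hd had (hC (Set.mem_toFinset.1 hc))
    rw [Set.ncard_eq_toFinset_card'] at h1
    have e : (Out.filter fun z => Commute z c) ∪ Cf.erase c =
        {y | y ∈ tri D a d ∧ y ≠ c ∧ Commute y c}.toFinset := by
      ext z
      simp only [Finset.mem_union, Finset.mem_filter, Out, Finset.mem_sdiff, Finset.mem_erase, Set.mem_toFinset,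
        Set.mem_ofPred_eq, T]
      constructor
      · rintro (⟨⟨h1, h2⟩, h3⟩ | ⟨h1, h2⟩)
        · exact ⟨h1, fun e => h2 (e ▸ hc), h3⟩
        · exact ⟨hC (Set.mem_toFinset.1 h2), h1, hadj h2 hc⟩
      · rintro ⟨h1, h2, h3⟩
        by_cases hz : z ∈ Cf
        · exact Or.inr ⟨h2, hz⟩
        · exact Or.inl ⟨⟨h1, hz⟩, h3⟩
    have hdisj : Disjoint (Out.filter fun z => Commute z c) (Cf.erase c) :=
      Finset.disjoint_left.2 fun z hz hz' =>
        (Finset.mem_sdiff.1 (Finset.mem_filter.1 hz).1).2 (Finset.mem_of_mem_erase hz')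
    rw [← e, Finset.card_union_of_disjoint hdisj, Finset.card_erase_of_mem hc, hCf] at h1
    omega
  have hpair : ∀ c ∈ Cf, ∀ c' ∈ Cf, ((Out.filter fun z => Commute z c).filter fun z => Commute z c').card =
      if c = c' then 39 else 7 := by
    intro c hc c' hc'
    split_ifs with e
    · subst e; rw [Finset.filter_filter]; simp only [and_self]; exact hdeg c hc
    have h1 := tri_inner_two h ha hd had (hC (Set.mem_toFinset.1 hc)) (hC (Set.mem_toFinset.1 hc')) (Ne.symm e)
      (hadj hc' hc)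
    rw [Set.ncard_eq_toFinset_card'] at h1
    have e1 : ((Out.filter fun z => Commute z c).filter fun z => Commute z c') ∪ (Cf.erase c).erase c' =
        {y | y ∈ tri D a d ∧ y ≠ c ∧ y ≠ c' ∧ Commute y c ∧ Commute y c'}.toFinset := by
      ext z
      simp only [Finset.mem_union, Finset.mem_filter, Out, Finset.mem_sdiff, Finset.mem_erase, Set.mem_toFinset,
        Set.mem_ofPred_eq, T]
      constructor
      · rintro (⟨⟨⟨h1, h2⟩, h3⟩, h4⟩ | ⟨h1, h2, h3⟩)
        · exact ⟨h1, fun e => h2 (e ▸ hc), fun e => h2 (e ▸ hc'), h3, h4⟩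
        · exact ⟨hC (Set.mem_toFinset.1 h3), h2, h1, hadj h3 hc, hadj h3 hc'⟩
      · rintro ⟨h1, h2, h3, h4, h5⟩
        by_cases hz : z ∈ Cf
        · exact Or.inr ⟨h3, h2, hz⟩
        · exact Or.inl ⟨⟨⟨h1, hz⟩, h4⟩, h5⟩
    have hdisj : Disjoint ((Out.filter fun z => Commute z c).filter fun z => Commute z c')
        ((Cf.erase c).erase c') :=
      Finset.disjoint_left.2 fun z hz hz' => (Finset.mem_sdiff.1 (Finset.mem_filter.1
        (Finset.mem_filter.1 hz).1).1).2 (Finset.mem_of_mem_erase (Finset.mem_of_mem_erase hz'))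
    rw [← e1, Finset.card_union_of_disjoint hdisj,
      Finset.card_erase_of_mem (Finset.mem_erase.2 ⟨Ne.symm e, hc'⟩), Finset.card_erase_of_mem hc, hCf] at h1
    omega
  set m : G → ℕ := fun z => (Cf.filter fun c => Commute z c).card with hm
  have hone : ∑ z ∈ Out, m z = 7 * 39 := by
    have h1 : ∑ z ∈ Out, (Cf.filter fun c => Commute z c).card =
        ∑ c ∈ Cf, (Out.filter fun z => Commute z c).card :=
      Finset.sum_card_bipartiteAbove_eq_sum_card_bipartiteBelow (fun z c => Commute z c)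
    rw [Finset.sum_congr rfl hdeg, Finset.sum_const, hCf, smul_eq_mul] at h1
    exact h1
  have htwo : ∑ z ∈ Out, m z ^ 2 = 7 * (39 + 6 * 7) := by
    have e : ∀ z, m z ^ 2 = ∑ c ∈ Cf, (if Commute z c then m z else 0) := fun z => by
      rw [← Finset.sum_filter, Finset.sum_const, smul_eq_mul, pow_two]
    have hrow : ∀ c ∈ Cf, ∑ z ∈ Out, (if Commute z c then m z else 0) = 39 + 6 * 7 := by
      intro c hc
      have h1 : ∑ z ∈ Out.filter (fun z => Commute z c), (Cf.filter fun c' => Commute z c').card =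
          ∑ c' ∈ Cf, ((Out.filter fun z => Commute z c).filter fun z => Commute z c').card :=
        Finset.sum_card_bipartiteAbove_eq_sum_card_bipartiteBelow (fun z c' => Commute z c')
      rw [← Finset.sum_filter]
      refine h1.trans ?_
      rw [Finset.sum_congr rfl (hpair c hc), ← Finset.sum_erase_add _ _ hc, if_pos rfl,
        Finset.sum_congr rfl fun c' hc' => if_neg (Finset.ne_of_mem_erase hc').symm, Finset.sum_const,
        Finset.card_erase_of_mem hc, hCf, smul_eq_mul]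
    rw [Finset.sum_congr rfl fun z _ => e z, Finset.sum_comm, Finset.sum_congr rfl hrow, Finset.sum_const, hCf,
      smul_eq_mul]
  have hcs := sq_sum_le_card_mul_sum_sq (s := Out) (f := m)
  rw [hone, htwo, hOut] at hcs
  norm_num at hcs

/-- Six common neighbours commute pairwise. -/
theorem exists_tri_clique {a d : G} (ha : a ∈ D) (hd : d ∈ D) (had : ¬ Commute a d) :
    ∃ C, C ⊆ tri D a d ∧ (∀ x ∈ C, ∀ y ∈ C, Commute x y) ∧ C.ncard = 6 := by
  classical
  obtain ⟨b, hb⟩ : (nb D a).Nonempty :=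
    Set.nonempty_of_ncard_ne_zero (by rw [(h.loc a ha).card_nb]; norm_num)
  obtain ⟨c, hc⟩ : {y | y ∈ nb D a ∧ y ≠ b ∧ Commute y b}.Nonempty :=
    Set.nonempty_of_ncard_ne_zero (by rw [(h.loc a ha).card_pair b hb]; norm_num)
  set X := {y | y ∈ nb D a ∧ y ≠ b ∧ y ≠ c ∧ Commute y b ∧ Commute y c}
  have hX : X.ncard = 51 := (h.loc a ha).card_comm b hb c hc.1 hc.2.1.symm hc.2.2.symm
  obtain ⟨y₁, hy₁, y₂, hy₂, hy⟩ : ∃ y₁ ∈ X, ∃ y₂ ∈ X, ¬ Commute y₁ y₂ := by
    by_contra hno
    push Not at hno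
    obtain ⟨C, hC, hn⟩ := Set.exists_subset_card_eq (s := X) (n := 22) (by omega)
    exact no_clique h ha (C := C) (fun x hx => (hC hx).1) (fun x hx y hy => hno x (hC hx) y (hC hy)) hn
  obtain ⟨p, q, r, hp, hq, hr, hnd, hpw, hprod, -⟩ := exists_pentad h.toSetup22 ha hb hc.1 hc.2.1.symm hc.2.2.symm
  simp only [List.mem_cons, List.not_mem_nil, or_false, forall_eq_or_imp, forall_eq] at hpw
  obtain ⟨⟨-, cbc, cbp, cbq, cbr⟩, ⟨-, -, ccp, ccq, ccr⟩, ⟨-, -, -, cpq, cpr⟩, ⟨-, -, -, -, cqr⟩, -⟩ := hpw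
  simp only [List.nodup_cons, List.mem_cons, List.not_mem_nil, or_false, not_or, not_false_eq_true,
    List.nodup_nil, and_true, and_assoc] at hnd
  obtain ⟨nbc, nbp, nbq, nbr, ncp, ncq, ncr, npq, npr, nqr⟩ := hnd
  have hxy : ∀ y ∈ X, Commute y p ∧ Commute y q ∧ Commute y r := by
    intro y hy
    have h1 : Commute y (b * c * p * q * r) := by rw [← hprod]; exact hy.1.2.2.symm
    have h2 : Commute y (p * q * r) := by
      have h3 := (hy.2.2.2.1.mul_right hy.2.2.2.2).inv_right.mul_right h1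
      rwa [show (b * c)⁻¹ * (b * c * p * q * r) = p * q * r by group] at h3
    exact (fun z => ⟨z.1.symm, z.2.1.symm, z.2.2.symm⟩)
      ((commute_triple_iff h.tt hp.1 hq.1 hr.1 hy.1.1 cpq cpr cqr npq npr nqr).1 h2.symm)
  set C : Finset G := {a, b, c, p, q, r}
  have hCcard : C.card = 6 := by
    simp [C, hb.2.1.symm, hc.1.2.1.symm, hp.2.1.symm, hq.2.1.symm, hr.2.1.symm, nbc, nbp, nbq, nbr, ncp, ncq,
      ncr, npq, npr, nqr]
  have hCc : ∀ x ∈ C, ∀ y ∈ C, Commute x y := by
    simp only [C, Finset.mem_insert, Finset.mem_singleton, forall_eq_or_imp, forall_eq]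
    exact ⟨⟨Commute.refl _, hb.2.2, hc.1.2.2, hp.2.2, hq.2.2, hr.2.2⟩,
      ⟨hb.2.2.symm, Commute.refl _, cbc, cbp, cbq, cbr⟩, ⟨hc.1.2.2.symm, cbc.symm, Commute.refl _, ccp, ccq, ccr⟩,
      ⟨hp.2.2.symm, cbp.symm, ccp.symm, Commute.refl _, cpq, cpr⟩,
      ⟨hq.2.2.symm, cbq.symm, ccq.symm, cpq.symm, Commute.refl _, cqr⟩,
      hr.2.2.symm, cbr.symm, ccr.symm, cpr.symm, cqr.symm, Commute.refl _⟩
  have hboth : ∀ x ∈ C, Commute y₁ x ∧ Commute y₂ x := by
    simp only [C, Finset.mem_insert, Finset.mem_singleton, forall_eq_or_imp, forall_eq]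
    exact ⟨⟨hy₁.1.2.2.symm, hy₂.1.2.2.symm⟩, ⟨hy₁.2.2.2.1, hy₂.2.2.2.1⟩, ⟨hy₁.2.2.2.2, hy₂.2.2.2.2⟩,
      ⟨(hxy _ hy₁).1, (hxy _ hy₂).1⟩, ⟨(hxy _ hy₁).2.1, (hxy _ hy₂).2.1⟩, (hxy _ hy₁).2.2, (hxy _ hy₂).2.2⟩
  have hCD : ∀ x ∈ C, x ∈ D := by
    simp only [C, Finset.mem_insert, Finset.mem_singleton, forall_eq_or_imp, forall_eq]
    exact ⟨ha, hb.1, hc.1.1, hp.1, hq.1, hr.1⟩
  have hCsub : (C : Set G) ⊆ tri D y₁ y₂ := fun x hx =>
    ⟨⟨hCD x hx, fun e => hy (e ▸ (hboth x hx).2).symm, (hboth x hx).1⟩, (hboth x hx).2.symm⟩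
  obtain ⟨g, hg₁, hg₂⟩ := far_pair_conj h hy₁.1.1 hy₂.1.1 hy ha hd had
  refine ⟨MulAut.conj g '' (C : Set G), ?_, ?_, ?_⟩
  · rw [← hg₁, ← hg₂, ← tri_map h g]; exact Set.image_mono hCsub
  · rintro _ ⟨x, hx, rfl⟩ _ ⟨y, hy, rfl⟩; exact (hCc x hx y hy).map (MulAut.conj g)
  · rw [Set.ncard_image_of_injective _ (MulAut.conj g).injective, Set.ncard_coe_finset, hCcard]

/-- The common neighbours have width six. -/
theorem width_tri {a d : G} (ha : a ∈ D) (hd : d ∈ D) (had : ¬ Commute a d) :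
    Cfsg.commutingWidth (tri D a d) = 6 := by
  refine IsGreatest.csSup_eq ⟨?_, ?_⟩
  · obtain ⟨C, hC, hcC, hn⟩ := exists_tri_clique h ha hd had
    exact ⟨C, hC, Set.toFinite _, hcC, hn⟩
  · rintro n ⟨E, hE, -, hcE, rfl⟩
    by_contra hgt
    push Not at hgt
    obtain ⟨C, hC, hn⟩ := Set.exists_subset_card_eq (s := E) (n := 7) (by omega)
    exact no_tri_clique h ha hd had (C := C) (hC.trans hE) (fun x hx y hy => hcE x (hC hx) y (hC hy)) hn

/-- Conjugates of the group of order three inside the joint centraliser. -/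
theorem conjugates_in_pair (hp : Cfsg.IsPrimitiveUnderConj D) (ht : Cfsg.IsOfTypeM22 G D) {a d : G} (ha : a ∈ D)
    (hd : d ∈ D) (had : ¬ Commute a d) :
    (∃ g : G, (Subgroup.zpowers (a * d)).map (MulAut.conj g).toMonoidHom ≤ Subgroup.closure (tri D a d)) ∧
    ∀ g g' : G, (Subgroup.zpowers (a * d)).map (MulAut.conj g).toMonoidHom ≤ Subgroup.closure (tri D a d) →
      (Subgroup.zpowers (a * d)).map (MulAut.conj g').toMonoidHom ≤ Subgroup.closure (tri D a d) →
      ∃ k ∈ Subgroup.closure (tri D a d),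
        ((Subgroup.zpowers (a * d)).map (MulAut.conj g).toMonoidHom).map (MulAut.conj k).toMonoidHom =
          (Subgroup.zpowers (a * d)).map (MulAut.conj g').toMonoidHom := by
  classical
  have hK := (pair_centralizer h hp ht ha hd had).1
  set K := Subgroup.closure (tri D a d) with hKdef
  obtain ⟨b, hb⟩ := tri_nonempty h ha hd had
  -- a non-neighbour inside
  have hfar : ∀ b ∈ tri D a d, ∀ b' ∈ tri D a d, Commute b b' →
      ∃ y ∈ tri D a d, ¬ Commute b y ∧ ¬ Commute b' y := by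
    intro b hb b' hb' hbb
    by_contra hno
    push Not at hno
    have hsub' : tri D a d ⊆ insert b {y | y ∈ tri D a d ∧ y ≠ b ∧ Commute y b} ∪
        insert b' {y | y ∈ tri D a d ∧ y ≠ b' ∧ Commute y b'} := by
      intro z hz
      by_cases hzb : Commute b z
      · left
        by_cases e : z = b
        · exact Or.inl e
        · exact Or.inr ⟨hz, e, hzb.symm⟩
      · right
        by_cases e : z = b'
        · exact Or.inl e
        · exact Or.inr ⟨hz, e, (hno z hz hzb).symm⟩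
    have h1 := (Set.ncard_le_ncard hsub' (Set.toFinite _)).trans (Set.ncard_union_le _ _)
    rw [(tri_card h).1 a ha d hd had, Set.ncard_insert_of_notMem (fun h' => h'.2.1 rfl) (Set.toFinite _),
      Set.ncard_insert_of_notMem (fun h' => h'.2.1 rfl) (Set.toFinite _), tri_inner h ha hd had hb,
      tri_inner h ha hd had hb'] at h1
    omega
  have hTK : ∀ y ∈ tri D a d, y ∈ K := fun y hy => Subgroup.subset_closure hy
  have hswap : ∀ b ∈ tri D a d, ∀ b' ∈ tri D a d, ¬ Commute b b' →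
      b * b' ∈ K ∧ b * b' * b * (b * b')⁻¹ = b' := by
    intro b hb b' hb' hne
    refine ⟨mul_mem (hTK b hb) (hTK b' hb'), ?_⟩
    rw [mul_inv_rev, h.tt.inv hb.1.1, h.tt.inv hb'.1.1,
      show b * b' * b * (b' * b) = (b * b' * b) * b' * b by group, braid0 h.tt hb.1.1 hb'.1.1 hne,
      show b' * b * b' * b' * b = b' * (b * (b' * b') * b) by group, h.tt.sq b' hb'.1.1, mul_one,
      h.tt.sq b hb.1.1, mul_one]
  have htrans : ∀ b ∈ tri D a d, ∀ b' ∈ tri D a d, ∃ k ∈ K, k * b * k⁻¹ = b' := by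
    intro b hb b' hb'
    by_cases hc : Commute b b'
    · obtain ⟨y, hy, h1, h2⟩ := hfar b hb b' hb' hc
      obtain ⟨k₁, e₁⟩ := hswap b hb y hy h1
      obtain ⟨k₂, e₂⟩ := hswap y hy b' hb' (fun q => h2 q.symm)
      refine ⟨y * b' * (b * y), mul_mem k₂ k₁, ?_⟩
      rw [show y * b' * (b * y) * b * (y * b' * (b * y))⁻¹ = y * b' * (b * y * b * (b * y)⁻¹) * (y * b')⁻¹ by group,
        e₁, e₂]
    · exact ⟨_, hswap b hb b' hb' hc⟩
  have hstab : ∀ k ∈ K, ∀ y ∈ tri D a d, k * y * k⁻¹ ∈ tri D a d := by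
    intro k hk y hy
    rw [hK, mem_pair_centralizer] at hk
    have hmem : k * y * k⁻¹ ∈ (fun z => k * z * k⁻¹) '' tri D a d := ⟨y, hy, rfl⟩
    rwa [tri_conj h hk.1, show k * d * k⁻¹ = d by rw [hk.2.eq, mul_inv_cancel_right]] at hmem
  -- ordered pairs
  have hpairs : ∀ {u v u' v' : G}, u ∈ tri D a d → v ∈ tri D a d → ¬ Commute u v → u' ∈ tri D a d →
      v' ∈ tri D a d → ¬ Commute u' v' → ∃ k ∈ K, k * u * k⁻¹ = u' ∧ k * v * k⁻¹ = v' := by
    intro u v u' v' hu hv huv hu' hv' huv'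
    obtain ⟨k₁, hk₁, e₁⟩ := htrans u hu u' hu'
    have hv₁ := hstab k₁ hk₁ v hv
    obtain ⟨d₁, hd₁, c₁, hc₁, hdc₁, htr⟩ := exists_tri_trans h
    obtain ⟨t, ht1, ht2⟩ := far_pair_conj h hd₁ hc₁ hdc₁ ha hd had
    have hti : ∀ y ∈ tri D a d, t⁻¹ * y * t ∈ tri D d₁ c₁ := by
      intro y hy
      rw [← ht1, ← ht2, ← tri_map h t] at hy
      obtain ⟨z, hz, rfl⟩ := hy
      show t⁻¹ * (t * z * t⁻¹) * t ∈ _
      rwa [show t⁻¹ * (t * z * t⁻¹) * t = z by group]
    have hnc : ∀ {p q : G}, ¬ Commute p q → ¬ Commute (t⁻¹ * p * t) (t⁻¹ * q * t) := fun hne e => hne (by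
      simpa [mul_assoc] using (commute_conj_iff t _ _).2 e)
    have hfar1 : ¬ Commute u' (k₁ * v * k₁⁻¹) := by rw [← e₁]; exact fun e => huv ((commute_conj_iff k₁ u v).1 e)
    obtain ⟨m, hm1, hm2, hmb, hmy⟩ := htr _ (hti u' hu') _ (hti _ hv₁) _ (hti v' hv') (hnc hfar1) (hnc huv')
    refine ⟨t * m * t⁻¹ * k₁, mul_mem ?_ hk₁, ?_, ?_⟩
    · rw [hK, mem_pair_centralizer, ← ht1, ← ht2]
      exact ⟨(commute_conj_iff t m d₁).2 hm1, (commute_conj_iff t m c₁).2 (mul_inv_eq_iff_eq_mul.1 hm2)⟩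
    · rw [show t * m * t⁻¹ * k₁ * u * (t * m * t⁻¹ * k₁)⁻¹ = t * (m * (t⁻¹ * (k₁ * u * k₁⁻¹) * t) * m⁻¹) * t⁻¹ by group,
        e₁, hmb]
      group
    · rw [show t * m * t⁻¹ * k₁ * v * (t * m * t⁻¹ * k₁)⁻¹ = t * (m * (t⁻¹ * (k₁ * v * k₁⁻¹) * t) * m⁻¹) * t⁻¹ by group,
        hmy]
      group
  constructor
  · obtain ⟨y, hy, hby, -⟩ := hfar b hb b hb (Commute.refl b)
    obtain ⟨g, hga, hgd⟩ := far_pair_conj h ha hd had hb.1.1 hy.1.1 hby
    refine ⟨g, ?_⟩
    rw [MonoidHom.map_zpowers, Subgroup.zpowers_le]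
    show g * (a * d) * g⁻¹ ∈ K
    rw [show g * (a * d) * g⁻¹ = g * a * g⁻¹ * (g * d * g⁻¹) by group, hga, hgd]
    exact mul_mem (hTK b hb) (hTK y hy)
  intro g g' hg hg'
  have hmem : ∀ g : G, (Subgroup.zpowers (a * d)).map (MulAut.conj g).toMonoidHom ≤ K →
      g * a * g⁻¹ ∈ tri D a d ∧ g * d * g⁻¹ ∈ tri D a d := by
    intro g hg
    have hgK : g * (a * d) * g⁻¹ ∈ K := hg ⟨a * d, Subgroup.mem_zpowers _, rfl⟩
    rw [hK, mem_pair_centralizer] at hgK
    have key : ∀ x ∈ D, Commute (g * (a * d) * g⁻¹) x → Commute x (g * a * g⁻¹) ∧ Commute x (g * d * g⁻¹) ∧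
        x ≠ g * a * g⁻¹ ∧ x ≠ g * d * g⁻¹ := by
      intro x hx hc
      have hx' : g⁻¹ * x * g ∈ tri D a d := by
        rw [← tri_eq_cent h ha hd had]
        refine ⟨by simpa using h.tt.conj g⁻¹ x hx, Subgroup.mem_centralizer_iff.2 ?_⟩
        rintro _ ⟨k, rfl⟩
        have h2 : Commute (a * d) (g⁻¹ * x * g) := by
          have := (commute_conj_iff g⁻¹ _ _).2 hc
          simpa [mul_assoc] using this
        exact (h2.zpow_left k).eq
      refine ⟨?_, ?_, fun e => hx'.1.2.1 (by rw [e]; group), fun e => had ?_⟩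
      · have := (commute_conj_iff g _ _).2 hx'.1.2.2.symm
        rwa [show g * (g⁻¹ * x * g) * g⁻¹ = x by group] at this
      · have := (commute_conj_iff g _ _).2 hx'.2
        rwa [show g * (g⁻¹ * x * g) * g⁻¹ = x by group] at this
      · have h3 := hx'.1.2.2
        rwa [e, show g⁻¹ * (g * d * g⁻¹) * g = d by group] at h3
    obtain ⟨a1, a2, a3, a4⟩ := key a ha hgK.1
    obtain ⟨d1, d2, -, -⟩ := key d hd hgK.2
    exact ⟨⟨⟨h.tt.conj g a ha, a3.symm, a1⟩, d1.symm⟩, ⟨h.tt.conj g d hd, a4.symm, a2⟩, d2.symm⟩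
  obtain ⟨h1, h2⟩ := hmem g hg
  obtain ⟨h1', h2'⟩ := hmem g' hg'
  obtain ⟨k, hk, e1, e2⟩ := hpairs h1 h2 (fun e => had ((commute_conj_iff g a d).1 e)) h1' h2'
    (fun e => had ((commute_conj_iff g' a d).1 e))
  refine ⟨k, hk, ?_⟩
  rw [MonoidHom.map_zpowers, MonoidHom.map_zpowers, MonoidHom.map_zpowers]
  congr 1
  show k * (g * (a * d) * g⁻¹) * k⁻¹ = g' * (a * d) * g'⁻¹
  calc k * (g * (a * d) * g⁻¹) * k⁻¹ = k * (g * a * g⁻¹) * k⁻¹ * (k * (g * d * g⁻¹) * k⁻¹) := by group
    _ = g' * a * g'⁻¹ * (g' * d * g'⁻¹) := by rw [e1, e2]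
    _ = g' * (a * d) * g'⁻¹ := by group

end CfsgLib.ThreeT.Prod
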