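import Cfsg.Agent.Spor3T.LevelGroup
import Cfsg.Agent.Spor3T.M22Triangle

/-!
The width of the common neighbours of a far pair, one level up from the neighbourhood of a member.
-/

set_option autoImplicit false
set_option linter.unusedSectionVars false
set_option linter.style.haveILetI false

namespace CfsgLib.ThreeT.Pair

open CfsgLib.ThreeT.Prod

variable {G : Type*} [Group G] [Finite G] {D : Set G}

/-- The common neighbours transported by conjugation. -/
theorem tri_image (hT : TT0 D) {a e : G} (g : G) :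
    MulAut.conj g '' tri D a e = tri D (g * a * g⁻¹) (g * e * g⁻¹) := by
  ext y
  obtain ⟨y, rfl⟩ := (MulAut.conj g).surjective y
  rw [(MulAut.conj g).injective.mem_set_image]
  show _ ↔ MulAut.conj g y ∈ nb D (MulAut.conj g a) ∧ Commute (MulAut.conj g y) (MulAut.conj g e)
  rw [mem_nb_conj hT]
  exact and_congr Iff.rfl (commute_conj_iff g y e).symm

theorem width_step {d : G} (hB : Level.Base D) (hd : d ∈ D)
    (hne : ∀ a ∈ D, ∀ e ∈ D, ¬ Commute a e → (tri D a e).Nonempty) {W : ℕ}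
    (hW : ∀ a' ∈ img D d, ∀ e' ∈ img D d, ¬ Commute a' e' → Cfsg.commutingWidth (tri (img D d) a' e') = W) :
    ∀ a ∈ D, ∀ e ∈ D, ¬ Commute a e → Cfsg.commutingWidth (tri D a e) = W + 1 := by
  classical
  intro a ha e he hae
  have hT := hB.tt
  have hinj : ∀ {x y : ↥(hsub D d)}, (x : G) ∈ nb D d → (y : G) ∈ nb D d →
      (x : ↥(hsub D d) ⧸ Subgroup.center ↥(hsub D d)) = y → (x : G) = y := fun {x y} hx hy q => by
    by_contra hne
    exact not_central hT hB.conjD hB.twinFree hd (hB.ne_one d hd) hx (hB.ne_one _ hx.1) fun z hz =>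
      central_of_mk_eq hT hx hy hne q hz
  set π := QuotientGroup.mk' (Subgroup.center ↥(hsub D d))
  -- a clique through a given common neighbour, moved to the point
  have key : ∀ b ∈ tri D a e, ∃ (a' e' : ↥(hsub D d)) (g : G), (a' : G) ∈ nb D d ∧ (e' : G) ∈ nb D d ∧
      (a' : G) = g * a * g⁻¹ ∧ (e' : G) = g * e * g⁻¹ ∧ g * b * g⁻¹ = d ∧
      ¬ Commute (π a') (π e') := by
    intro b hb
    obtain ⟨g, hg⟩ := hB.conjD b hb.1.1 d hd (hB.ne_one b hb.1.1) (hB.ne_one d hd)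
    have h1 : g * a * g⁻¹ ∈ nb D d := nb_conj hT ha (fun q => hb.1.2.1 q.symm) hb.1.2.2.symm hg
    have h2 : g * e * g⁻¹ ∈ nb D d := nb_conj hT he (fun q => hae (q ▸ hb.1.2.2)) hb.2 hg
    exact ⟨⟨_, Subgroup.subset_closure h1⟩, ⟨_, Subgroup.subset_closure h2⟩, g, h1, h2, rfl, rfl, hg,
      fun q => hae ((commute_conj_iff g a e).1 ((map_commute_iff hT (x := ⟨_, Subgroup.subset_closure h1⟩)
        (y := ⟨_, Subgroup.subset_closure h2⟩) h1 h2).1 q))⟩
  refine IsGreatest.csSup_eq ⟨?_, ?_⟩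
  · obtain ⟨b, hb⟩ := hne a ha e he hae
    obtain ⟨a', e', g, ha', he', ea, ee, hg, hfar⟩ := key b hb
    have hw := hW _ ⟨a', ha', rfl⟩ _ ⟨e', he', rfl⟩ hfar
    rw [Cfsg.commutingWidth] at hw
    obtain ⟨F, hF, -, hFc, hFn⟩ := hw ▸ Nat.sSup_mem (s := {n | ∃ F : Set (↥(hsub D d) ⧸ Subgroup.center ↥(hsub D d)),
        F ⊆ tri (img D d) (π a') (π e') ∧ F.Finite ∧ (∀ a ∈ F, ∀ b ∈ F, Commute a b) ∧ F.ncard = n})
      ⟨0, ∅, Set.empty_subset _, Set.finite_empty, by simp, Set.ncard_empty _⟩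
      ⟨(img D d).ncard, fun n ⟨F, hF, _, _, hn⟩ => hn ▸ Set.ncard_le_ncard (fun z hz => (hF hz).1.1) (Set.toFinite _)⟩
    set T : Set ↥(hsub D d) := {x | (x : G) ∈ nb D d ∧ π x ∈ F}
    have hTF : π '' T = F := by
      ext z
      constructor
      · rintro ⟨x, hx, rfl⟩; exact hx.2
      · intro hz
        obtain ⟨x, hx, rfl⟩ := (hF hz).1.1
        exact ⟨x, ⟨hx, hz⟩, rfl⟩
    have hTn : T.ncard = W := by
      rw [← Set.InjOn.ncard_image (f := π) fun x hx y hy q => Subtype.ext (hinj hx.1 hy.1 q), hTF, hFn]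
    set C : Set G := insert d (((↑) : ↥(hsub D d) → G) '' T)
    have hC : C ⊆ tri D (g * a * g⁻¹) (g * e * g⁻¹) := by
      rintro x (rfl | ⟨x, hx, rfl⟩)
      · exact ⟨⟨hd, fun q => ha'.2.1 (ea.trans q.symm), by rw [← ea]; exact ha'.2.2.symm⟩,
          by rw [← ee]; exact he'.2.2⟩
      · have h := hF hx.2
        refine ⟨⟨hx.1.1, fun q => h.1.2.1 (congrArg π (Subtype.ext (q.trans ea.symm))), ?_⟩, ?_⟩
        · rw [← ea]; exact (map_commute_iff hT ha' hx.1).1 h.1.2.2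
        · rw [← ee]; exact (map_commute_iff hT hx.1 he').1 h.2
    refine ⟨MulAut.conj g⁻¹ '' C, ?_, Set.toFinite _, ?_, ?_⟩
    · refine (Set.image_mono hC).trans (le_of_eq ?_)
      rw [tri_image hT]
      congr 1 <;> group
    · rintro _ ⟨x, hx, rfl⟩ _ ⟨y, hy, rfl⟩
      refine Commute.map ?_ (MulAut.conj g⁻¹)
      rcases hx with rfl | ⟨x, hx, rfl⟩ <;> rcases hy with rfl | ⟨y, hy, rfl⟩
      exacts [Commute.refl _, hy.1.2.2, hx.1.2.2.symm, (map_commute_iff hT hx.1 hy.1).1 (hFc _ hx.2 _ hy.2)]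
    · rw [Set.ncard_image_of_injective _ (MulAut.conj g⁻¹).injective,
        Set.ncard_insert_of_notMem (by rintro ⟨x, hx, q⟩; exact hx.1.2.1 q) (Set.toFinite _),
        Set.ncard_image_of_injective _ Subtype.val_injective, hTn]
  · rintro n ⟨C, hC, -, hcC, rfl⟩
    rcases C.eq_empty_or_nonempty with rfl | ⟨b, hb⟩
    · simp
    obtain ⟨a', e', g, ha', he', ea, ee, hg, hfar⟩ := key b (hC hb)
    have hw := hW _ ⟨a', ha', rfl⟩ _ ⟨e', he', rfl⟩ hfar
    rw [Cfsg.commutingWidth] at hw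
    set T : Set ↥(hsub D d) := {x | (x : G) ∈ nb D d ∧ g⁻¹ * (x : G) * g ∈ C}
    have hTc : ((↑) : ↥(hsub D d) → G) '' T = MulAut.conj g '' (C \ {b}) := by
      ext z
      constructor
      · rintro ⟨x, hx, rfl⟩
        refine ⟨g⁻¹ * x * g, ⟨hx.2, fun q => hx.1.2.1 ?_⟩, by show g * (g⁻¹ * x * g) * g⁻¹ = x; group⟩
        rw [Set.mem_singleton_iff] at q
        calc (x : G) = g * (g⁻¹ * x * g) * g⁻¹ := by group
          _ = d := by rw [q, hg]
      · rintro ⟨y, hy, rfl⟩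
        have hy' : g * y * g⁻¹ ∈ nb D d := nb_conj hT (hC hy.1).1.1 hy.2 (hcC b hb y hy.1) hg
        refine ⟨⟨g * y * g⁻¹, Subgroup.subset_closure hy'⟩, ⟨hy', ?_⟩, rfl⟩
        show g⁻¹ * (g * y * g⁻¹) * g ∈ C
        rw [show g⁻¹ * (g * y * g⁻¹) * g = y by group]; exact hy.1
    have h1 : T.ncard + 1 = C.ncard := by
      rw [← Set.ncard_image_of_injective T Subtype.val_injective, hTc,
        Set.ncard_image_of_injective _ (MulAut.conj g).injective, Set.ncard_sdiff_singleton_add_one hb]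
    have hcx : ∀ x : ↥(hsub D d), ∀ u : G, (g⁻¹ * (x : G) * g) ∈ C → Commute (g⁻¹ * (x : G) * g) u →
        Commute (x : G) (g * u * g⁻¹) := fun x u _ hc => by
      have := (commute_conj_iff g _ _).2 hc
      rwa [show g * (g⁻¹ * (x : G) * g) * g⁻¹ = x by group] at this
    have h2 : (π '' T).ncard ≤ W := by
      rw [← hw]
      refine le_csSup ⟨(img D d).ncard, fun n ⟨F, hF, _, _, hn⟩ => hn ▸ Set.ncard_le_ncard (fun z hz => (hF hz).1.1) (Set.toFinite _)⟩ ?_
      refine ⟨π '' T, ?_, Set.toFinite _, ?_, rfl⟩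
      · rintro _ ⟨x, hx, rfl⟩
        have hz := hC hx.2
        refine ⟨⟨⟨x, hx.1, rfl⟩, fun q => hz.1.2.1 ?_, ?_⟩, ?_⟩
        · rw [hinj hx.1 ha' q, ea]; group
        · refine (map_commute_iff hT ha' hx.1).2 ?_
          rw [ea]; exact (hcx x a hx.2 hz.1.2.2.symm).symm
        · refine (map_commute_iff hT hx.1 he').2 ?_
          rw [ee]; exact hcx x e hx.2 hz.2
      · rintro _ ⟨x, hx, rfl⟩ _ ⟨y, hy, rfl⟩
        refine (map_commute_iff hT hx.1 hy.1).2 ?_
        have := hcx x _ hx.2 (hcC _ hx.2 _ hy.2)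
        rwa [show g * (g⁻¹ * (y : G) * g) * g⁻¹ = y by group] at this
    rw [Set.InjOn.ncard_image (f := π) fun x hx y hy q => Subtype.ext (hinj hx.1 hy.1 q)] at h2
    omega

end CfsgLib.ThreeT.Pair
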