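import Cfsg.Agent.Spor3T.M24Big
import Cfsg.Agent.Spor3T.PairNorm
import Cfsg.Agent.Spor3T.PairWidth
import Cfsg.Agent.Comp.Layer

/-!
Type M(24): the joint centraliser of a non-commuting pair is `PΩ⁺(8,3)` extended by the symmetric group of
degree three.
-/

set_option autoImplicit false
set_option linter.unusedSectionVars false
set_option linter.style.haveILetI false

namespace CfsgLib.ThreeT.Prod

/-- The generalised Fitting subgroup of an almost simple group is the simple subgroup. -/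
theorem gfit_simple {L : Type*} [Group L] [Finite L] (N : Subgroup L) [hN : N.Normal] [IsSimpleGroup ↥N]
    (hns : ¬ Group.IsSolvable ↥N) (hC : Subgroup.centralizer (N : Set L) = ⊥) :
    Cfsg.generalizedFittingSubgroup L = N := by
  have hbot : ∀ K : Subgroup L, K.Normal → K ⊓ N = ⊥ → K = ⊥ := by
    intro K hK hKN
    haveI := hK
    rw [eq_bot_iff, ← hC]
    refine CfsgLib.Comp.le_centralizer_of_commutator_eq_bot ?_
    rw [eq_bot_iff, ← hKN]
    exact Subgroup.commutator_le_inf K N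
  have hcases : ∀ K : Subgroup L, K.Normal → K ⊓ N = ⊥ ∨ N ≤ K := by
    intro K hK
    haveI := hK
    rcases (IsSimpleGroup.eq_bot_or_eq_top_of_normal (K.subgroupOf N) inferInstance) with h | h
    · left
      rw [Subgroup.subgroupOf_eq_bot] at h
      exact disjoint_iff.1 h
    · exact Or.inr (Subgroup.subgroupOf_eq_top.1 h)
  haveI hFn : (Cfsg.fittingSubgroup L).Normal := by
    rw [CfsgLib.Comp.fitting_eq_iSup_pCore]; infer_instance
  have hF : Cfsg.fittingSubgroup L = ⊥ := by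
    rcases hcases _ hFn with h | h
    · exact hbot _ hFn h
    · exfalso
      refine hns ?_
      haveI := CfsgLib.Comp.fitting_isSolvable (G := L)
      exact Group.isSolvable_of_isSolvable_injective (f := Subgroup.inclusion h) (Subgroup.inclusion_injective h)
  refine le_antisymm (CfsgLib.Comp.Fstar_le_of_self_centralizing N (hF ▸ bot_le) (hC ▸ bot_le)) ?_
  by_contra hle
  have h1 := CfsgLib.Comp.centralizer_Fstar_le (G := L)
  have h3 : (Cfsg.generalizedFittingSubgroup L).Normal := by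
    have hc : ∀ e : L ≃* L, (Cfsg.generalizedFittingSubgroup L).map e.toMonoidHom ≤
      Cfsg.generalizedFittingSubgroup L := fun e => CfsgLib.Comp.map_Fstar_le e
    exact ⟨fun x hx g => hc (MulAut.conj g) ⟨x, hx, rfl⟩⟩
  haveI := h3
  have h4 := hbot _ h3 ((hcases _ h3).resolve_right hle)
  rw [h4] at h1
  have h5 : N ≤ Subgroup.centralizer ((⊥ : Subgroup L) : Set L) := fun x _ z hz => by
    rw [Subgroup.mem_bot.1 hz, one_mul, mul_one]
  rw [h4] at hle
  exact hle (h5.trans h1)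

theorem perm_three_cube : ∀ s t : Equiv.Perm (Fin 3), s ^ 3 = 1 → t ^ 3 = 1 → t ≠ 1 →
    s = 1 ∨ s = t ∨ s = t ^ 2 := by decide +kernel

theorem perm_three_invert : ∀ s t : Equiv.Perm (Fin 3), s * s = 1 → s ≠ 1 → t ^ 3 = 1 → t ≠ 1 →
    s * t ≠ t * s := by decide +kernel

variable {G : Type*} [Group G] [Finite G] {D : Set G} {d : G} (P : Point24 D d)

include P

theorem far_pair_conj24 {a e a' e' : G} (ha : a ∈ D) (he : e ∈ D) (hae : ¬ Commute a e) (ha' : a' ∈ D)
    (he' : e' ∈ D) (hae' : ¬ Commute a' e') : ∃ g : G, g * a * g⁻¹ = a' ∧ g * e * g⁻¹ = e' := by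
  obtain ⟨g, hg⟩ := P.base.conjD a ha a' ha' (P.base.ne_one a ha) (P.base.ne_one a' ha')
  have hfar : ¬ Commute a' (g * e * g⁻¹) := fun q => hae ((commute_conj_iff g a e).1 (by rwa [hg]))
  obtain ⟨k, hk, q⟩ := Level.far_trans P.base ha' (P.base.tt.conj g e he) he' hfar hae'
  refine ⟨k * g, ?_, ?_⟩
  · rw [show k * g * a * (k * g)⁻¹ = k * (g * a * g⁻¹) * k⁻¹ by group, hg,
      (Level.commute_of_far P.base hk).eq, mul_inv_cancel_right]
  · rw [show k * g * e * (k * g)⁻¹ = k * (g * e * g⁻¹) * k⁻¹ by group, q]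

/-- The group of the common neighbours is the joint centraliser, with trivial centre. -/
theorem pair_centralizer24 {a e : G} (ha : a ∈ D) (he : e ∈ D) (hae : ¬ Commute a e) :
    Subgroup.closure (tri D a e) = Subgroup.centralizer ({a, e} : Set G) ∧
      Subgroup.center ↥(Subgroup.closure (tri D a e)) = ⊥ := by
  classical
  obtain ⟨c₀, hc₀, hdc, hcard⟩ := P.far
  obtain ⟨g, hga, hge⟩ := far_pair_conj24 P P.mem hc₀ hdc ha he hae
  set K₀ := Subgroup.closure (tri D d c₀)
  set K := Subgroup.closure (tri D a e)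
  have hmap : K₀.map (MulAut.conj g).toMonoidHom = K := by
    rw [MonoidHom.map_closure]
    show Subgroup.closure (MulAut.conj g '' tri D d c₀) = K
    rw [Pair.tri_image P.base.tt, hga, hge]
  set iK : ↥K₀ ≃* ↥K :=
    (Subgroup.equivMapOfInjective _ _ (MulAut.conj g).injective).trans (MulEquiv.subgroupCongr hmap)
  set C := Subgroup.centralizer ({a, e} : Set G)
  have hKC : K ≤ C := by
    refine (Subgroup.closure_le _).2 fun y hy => Subgroup.mem_centralizer_iff.2 ?_
    rintro z (rfl | rfl)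
    · exact hy.1.2.2.eq
    · exact hy.2.symm.eq
  have hC : Nat.card ↥C = 29713078886400 := by
    rw [← card_far_cent24 P ha he hae, hsub_eq24 P ha]
    refine Nat.card_congr (Equiv.subtypeEquivRight fun x => ?_)
    simp only [Subgroup.mem_inf, C, Subgroup.mem_centralizer_iff, Set.mem_singleton_iff, Set.mem_insert_iff,
      forall_eq_or_imp, forall_eq]
    exact and_comm
  have hle : Nat.card ↥K ≤ Nat.card ↥C :=
    Nat.card_le_card_of_injective _ (Subgroup.inclusion_injective hKC)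
  have hK0 := Subgroup.card_eq_card_quotient_mul_card_subgroup (Subgroup.center ↥K₀)
  rw [hcard] at hK0
  have hK0' : Nat.card ↥K₀ = Nat.card ↥K := Nat.card_congr iK.toEquiv
  have hpos : 0 < Nat.card ↥(Subgroup.center ↥K₀) := Nat.card_pos
  have hone : Nat.card ↥(Subgroup.center ↥K₀) = 1 := by omega
  have hbot : Subgroup.center ↥K₀ = ⊥ := Subgroup.card_eq_one.1 hone
  rw [hone] at hK0
  refine ⟨Subgroup.eq_of_le_of_card_ge hKC (by omega), ?_⟩
  rw [Subgroup.eq_bot_iff_forall]
  intro x hx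
  have : iK.symm x ∈ Subgroup.center ↥K₀ := Subgroup.mem_center_iff.2 fun y => iK.injective (by
    rw [map_mul, map_mul, iK.apply_symm_apply]; exact Subgroup.mem_center_iff.1 hx (iK y))
  rw [hbot, Subgroup.mem_bot] at this
  rw [← iK.apply_symm_apply x, this, map_one]

/-- The common neighbours have width eight. -/
theorem width_tri24 {a e : G} (ha : a ∈ D) (he : e ∈ D) (hae : ¬ Commute a e) :
    Cfsg.commutingWidth (tri D a e) = 8 := by
  obtain ⟨q, P'⟩ := P.below
  refine Pair.width_step P.base P.mem (fun a ha e he hae => Level.tri_nonempty (geo24 P).toPre arith24 ha he hae)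
    (W := 7) ?_ a ha e he hae
  refine Pair.width_step P'.base P'.mem (fun a ha e he hae => Level.tri_nonempty (geo23 P').toPre arith23 ha he hae)
    (W := 6) fun a' ha' e' he' hae' => width_tri P'.geo ha' he' hae'

set_option maxHeartbeats 1600000 in
/-- Nothing centralises a normal subgroup with quotient the symmetric group of degree three and trivial centre. -/
theorem pair_cent_bot24 {a e : G} (ha : a ∈ D) (he : e ∈ D) (hae : ¬ Commute a e)
    (N : Subgroup ↥(Subgroup.closure (tri D a e))) [hNn : N.Normal]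
    (φ : ↥(Subgroup.closure (tri D a e)) →* Equiv.Perm (Fin 3)) (hsurj : Function.Surjective φ)
    (hφ : ∀ x, φ x = 1 ↔ x ∈ N)
    (hCN : ∀ x ∈ Subgroup.centralizer (N : Set ↥(Subgroup.closure (tri D a e))), x ∈ N → x = 1) :
    Subgroup.centralizer (N : Set ↥(Subgroup.closure (tri D a e))) = ⊥ := by
  classical
  have hT := P.base.tt
  set C := Subgroup.centralizer (N : Set ↥(Subgroup.closure (tri D a e)))
  by_contra hne
  have hCn : C.Normal := ⟨fun z hz g y hy => by
    have h1 := hz _ (hNn.conj_mem y hy g⁻¹)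
    rw [inv_inv] at h1
    calc y * (g * z * g⁻¹) = g * (g⁻¹ * y * g * z) * g⁻¹ := by group
      _ = g * (z * (g⁻¹ * y * g)) * g⁻¹ := by rw [h1]
      _ = g * z * g⁻¹ * y := by group⟩
  -- an element of order three in it
  obtain ⟨x, hxC, hx3, hx1⟩ : ∃ x ∈ C, φ x ^ 3 = 1 ∧ φ x ≠ 1 := by
    obtain ⟨c, hc, hc1⟩ := (Subgroup.bot_or_exists_ne_one C).resolve_left hne
    have hc' : φ c ≠ 1 := fun q => hc1 (hCN c hc ((hφ c).1 q))
    by_cases h3 : φ c ^ 3 = 1
    · exact ⟨c, hc, h3, hc'⟩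
    -- an involution of the image: a commutator with some element
    obtain ⟨k, hk⟩ : ∃ k, φ c * φ k * (φ c)⁻¹ * (φ k)⁻¹ ≠ 1 := by
      by_contra hno
      push Not at hno
      have hall : ∀ t : Equiv.Perm (Fin 3), φ c * t = t * φ c := fun t => by
        obtain ⟨k, rfl⟩ := hsurj t
        exact mul_inv_eq_iff_eq_mul.1 (mul_inv_eq_one.1 (hno k))
      exact hc' ((show ∀ σ : Equiv.Perm (Fin 3), (∀ t, σ * t = t * σ) → σ = 1 by decide +kernel) _ hall)
    refine ⟨c * k * c⁻¹ * k⁻¹, ?_, ?_, by rwa [map_mul, map_mul, map_mul, map_inv, map_inv]⟩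
    · rw [mul_assoc c k c⁻¹, mul_assoc c (k * c⁻¹) k⁻¹]
      exact mul_mem hc (hCn.conj_mem _ (inv_mem hc) k)
    · rw [map_mul, map_mul, map_mul, map_inv, map_inv]
      generalize φ c = s
      generalize φ k = t
      revert s t
      decide +kernel
  have hconj : ∀ k : ↥(Subgroup.closure (tri D a e)), k * x * k⁻¹ = x ∨ k * x * k⁻¹ = x ^ 2 := by
    intro k
    have hkC := hCn.conj_mem x hxC k
    have h3 : φ (k * x * k⁻¹) ^ 3 = 1 := by rw [map_mul, map_mul, map_inv, conj_pow, hx3]; group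
    have heq : ∀ y ∈ C, φ (k * x * k⁻¹) = φ y → k * x * k⁻¹ = y := fun y hy q =>
      inv_mul_eq_one.1 (hCN _ (mul_mem (inv_mem hkC) hy) ((hφ _).1 (by rw [map_mul, map_inv, q, inv_mul_cancel])))
    rcases perm_three_cube _ _ h3 hx3 hx1 with q | q | q
    · exfalso
      refine hx1 ?_
      rw [map_mul, map_mul, map_inv, mul_inv_eq_one, mul_eq_left] at q
      exact q
    · exact Or.inl (heq x hxC q)
    · exact Or.inr (heq _ (pow_mem hxC 2) (by rw [q, map_pow]))
  set T : Set ↥(Subgroup.closure (tri D a e)) := {y | (y : G) ∈ tri D a e}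
  have hTsq : ∀ y ∈ T, φ y * φ y = 1 := fun y hy => by
    rw [← map_mul, show y * y = 1 from Subtype.ext (hT.sq _ hy.1.1), map_one]
  have hbraid : ∀ y ∈ T, ∀ z ∈ T, ¬ Commute (y : G) z → y * z * y = z * y * z := fun y hy z hz hnc =>
    Subtype.ext (braid0 hT hy.1.1 hz.1.1 hnc)
  -- no member lies in the simple subgroup
  have hout : ∀ y ∈ T, φ y ≠ 1 := by
    intro u hu hu1
    have hcomm : ∀ y ∈ T, φ y ≠ 1 → ∀ z ∈ T, φ z = 1 → Commute (z : G) y := by
      intro y hy hy1 z hz hz1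
      by_contra hnc
      have h := congrArg φ (hbraid z hz y hy hnc)
      simp only [map_mul, hz1, one_mul, mul_one, hTsq y hy] at h
      exact hy1 h
    obtain ⟨v, hv, hv1⟩ : ∃ v ∈ T, φ v ≠ 1 := by
      by_contra hno
      push Not at hno
      have hle : (⊤ : Subgroup ↥(Subgroup.closure (tri D a e))) ≤ φ.ker := by
        intro k _
        obtain ⟨k, hk⟩ := k
        induction hk using Subgroup.closure_induction with
        | mem y hy => exact hno ⟨y, Subgroup.subset_closure hy⟩ hy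
        | one => exact one_mem _
        | mul u v hu hv pu pv => exact mul_mem (pu (Subgroup.mem_top _)) (pv (Subgroup.mem_top _))
        | inv u hu pu => exact inv_mem (pu (Subgroup.mem_top _))
      exact hx1 (hle (Subgroup.mem_top x))
    have hsplit : tri D a e ⊆ insert (u : G) {y | y ∈ tri D a e ∧ y ≠ u ∧ Commute y (u : G)} ∪
        insert (v : G) {y | y ∈ tri D a e ∧ y ≠ v ∧ Commute y (v : G)} := by
      intro y hy
      set y' : ↥(Subgroup.closure (tri D a e)) := ⟨y, Subgroup.subset_closure hy⟩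
      by_cases hy1 : φ y' = 1
      · right
        by_cases q : y = v
        · exact Or.inl q
        · exact Or.inr ⟨hy, q, hcomm v hv hv1 y' hy hy1⟩
      · left
        by_cases q : y = u
        · exact Or.inl q
        · exact Or.inr ⟨hy, q, (hcomm y' hy hy1 u hu hu1).symm⟩
    have h1 := (Set.ncard_le_ncard hsplit (Set.toFinite _)).trans (Set.ncard_union_le _ _)
    rw [(Level.tri_card (geo24 P) arith24).1 a ha e he hae,
      Set.ncard_insert_of_notMem (fun h' => h'.2.1 rfl) (Set.toFinite _),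
      Set.ncard_insert_of_notMem (fun h' => h'.2.1 rfl) (Set.toFinite _),
      Level.tri_inner (geo24 P).toPre arith24 ha he hae hu,
      Level.tri_inner (geo24 P).toPre arith24 ha he hae hv] at h1
    omega
  have hinv : ∀ y ∈ T, ¬ Commute x y := fun y hy hxy =>
    perm_three_invert _ _ (hTsq y hy) (hout y hy) hx3 hx1 (hxy.map φ).symm.eq
  have hsame : ∀ y ∈ T, ∀ z ∈ T, Commute (y : G) z → φ y = φ z := by
    intro y hy z hz hc
    exact perm_three_facts.2 _ _ (hTsq y hy) (hout y hy) (hTsq z hz) (hout z hz)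
      ((show Commute y z from Subtype.ext hc.eq).map φ).eq
  obtain ⟨b, hb⟩ := Level.tri_nonempty (geo24 P).toPre arith24 ha he hae
  obtain ⟨y, hy⟩ : {y | y ∈ tri D a e ∧ y ≠ b ∧ Commute y b}.Nonempty :=
    Set.nonempty_of_ncard_ne_zero (by rw [Level.tri_inner (geo24 P).toPre arith24 ha he hae hb]; norm_num)
  obtain ⟨z, hz⟩ : {z | z ∈ tri D a e ∧ z ≠ b ∧ z ≠ y ∧ Commute z b ∧ Commute z y}.Nonempty :=
    Set.nonempty_of_ncard_ne_zero (by
      rw [Level.tri_inner_two (geo24 P).toPre arith24 ha he hae hb hy.1 hy.2.1 hy.2.2]; norm_num)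
  set b' : ↥(Subgroup.closure (tri D a e)) := ⟨b, Subgroup.subset_closure hb⟩
  set y' : ↥(Subgroup.closure (tri D a e)) := ⟨y, Subgroup.subset_closure hy.1⟩
  set z' : ↥(Subgroup.closure (tri D a e)) := ⟨z, Subgroup.subset_closure hz.1⟩
  have hxinv : ∀ w ∈ T, w * x * w⁻¹ = x ^ 2 := fun w hw => (hconj w).resolve_left fun q =>
    hinv w hw (mul_inv_eq_iff_eq_mul.1 q).symm
  -- the product of the two commutes with the conjugate of `b`
  have hyzN : y' * z' ∈ N := (hφ _).1 (by
    rw [map_mul, hsame y' hy.1 z' hz.1 hz.2.2.2.2.symm]; exact hTsq z' hz.1)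
  have h1 : Commute (y' * z') x := hxC _ hyzN
  have h2 : Commute (y' * z') b' :=
    (show Commute y' b' from Subtype.ext hy.2.2.eq).mul_left (show Commute z' b' from Subtype.ext hz.2.2.2.1.eq)
  have h3 : Commute (y' * z') (x * b' * x⁻¹) := (h1.mul_right h2).mul_right h1.inv_right
  have h4 : Commute (y * z) ((x : G) * b * (x : G)⁻¹) := congrArg Subtype.val h3.eq
  have hxbD : (x : G) * b * (x : G)⁻¹ ∈ D := hT.conj _ b hb.1.1
  have h5 := ((commute_mul_iff0 hT hy.1.1.1 hz.1.1.1 hxbD hz.2.2.2.2.symm hz.2.2.1.symm).1 h4).1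
  have h6 : Commute y' (x * b' * x⁻¹) := Subtype.ext h5.eq
  -- but it inverts `x`
  have e1 : y' * (x * b' * x⁻¹) * y'⁻¹ = x ^ 2 * b' * (x ^ 2)⁻¹ := by
    have hyb : y' * b' * y'⁻¹ = b' := by
      rw [(show Commute y' b' from Subtype.ext hy.2.2.eq).eq, mul_inv_cancel_right]
    rw [← hxinv y' hy.1, show y' * (x * b' * x⁻¹) * y'⁻¹ = y' * x * y'⁻¹ * (y' * b' * y'⁻¹) * (y' * x * y'⁻¹)⁻¹ by
      group, hyb]
  rw [h6.eq, mul_inv_cancel_right, pow_two] at e1
  refine hinv b' hb ?_
  show x * b' = b' * x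
  calc x * b' = x⁻¹ * (x * x * b' * (x * x)⁻¹) * x * x := by group
    _ = x⁻¹ * (x * b' * x⁻¹) * x * x := by rw [← e1]
    _ = b' * x := by group

set_option maxHeartbeats 1600000 in
/-- The simple subgroup and the quotient by it. -/
theorem pair_structure24 (h24 : Cfsg.IsOfTypeM24 G D) {a e : G} (ha : a ∈ D) (he : e ∈ D) (hae : ¬ Commute a e) :
    Nonempty (↥(Cfsg.generalizedFittingSubgroup ↥(Subgroup.closure (tri D a e))) ≃*
        Cfsg.POmega (ZMod 3) (Cfsg.quadFormPlus 4 (ZMod 3))) ∧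
      ∃ _ : (Cfsg.generalizedFittingSubgroup ↥(Subgroup.closure (tri D a e))).Normal,
        Nonempty (↥(Subgroup.closure (tri D a e)) ⧸ Cfsg.generalizedFittingSubgroup ↥(Subgroup.closure (tri D a e)) ≃*
          Equiv.Perm (Fin 3)) := by
  classical
  have hT := P.base.tt
  obtain ⟨-, d₁, hd₁, c₁, hc₁, hdc₁, -, hex⟩ := h24
  have hset : ({y : G | y ∈ D ∧ y ≠ d₁ ∧ Commute d₁ y} ∩ {y : G | y ∈ D ∧ y ≠ c₁ ∧ Commute c₁ y}) = tri D d₁ c₁ := by
    ext y
    exact ⟨fun hy => ⟨hy.1, hy.2.2.2.symm⟩, fun hy => ⟨hy.1, hy.1.1, fun q => hdc₁ (q ▸ hy.1.2.2), hy.2.symm⟩⟩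
  obtain ⟨N₀, hN₀, ⟨p⟩, ⟨f⟩⟩ := hex
  haveI := hN₀
  have hb₁ : Subgroup.center ↥(Subgroup.closure ({y : G | y ∈ D ∧ y ≠ d₁ ∧ Commute d₁ y} ∩
      {y : G | y ∈ D ∧ y ≠ c₁ ∧ Commute c₁ y})) = ⊥ :=
    (show ∀ S, S = tri D d₁ c₁ → Subgroup.center ↥(Subgroup.closure S) = ⊥ by
      rintro _ rfl; exact (pair_centralizer24 P hd₁ hc₁ hdc₁).2) _ hset
  obtain ⟨g, hga, hge⟩ := far_pair_conj24 P hd₁ hc₁ hdc₁ ha he hae
  set K₁ := Subgroup.closure ({y : G | y ∈ D ∧ y ≠ d₁ ∧ Commute d₁ y} ∩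
    {y : G | y ∈ D ∧ y ≠ c₁ ∧ Commute c₁ y}) with hK₁
  set K := Subgroup.closure (tri D a e) with hKdef
  have hmap : K₁.map (MulAut.conj g).toMonoidHom = K := by
    rw [hK₁, hset, MonoidHom.map_closure]
    show Subgroup.closure (MulAut.conj g '' tri D d₁ c₁) = K
    rw [Pair.tri_image hT, hga, hge]
  set ι : ↥K ≃* ↥K₁ ⧸ Subgroup.center ↥K₁ :=
    ((Subgroup.equivMapOfInjective _ _ (MulAut.conj g).injective).trans (MulEquiv.subgroupCongr hmap)).symm.trans
      (QuotientGroup.quotientBot.symm.trans (QuotientGroup.quotientMulEquivOfEq hb₁.symm))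
  set N : Subgroup ↥K := N₀.comap ι.toMonoidHom
  haveI hNn : N.Normal := hN₀.comap _
  let eN : ↥N ≃* ↥N₀ := (ι.subgroupMap N).trans
    (MulEquiv.subgroupCongr (Subgroup.map_comap_eq_self_of_surjective ι.surjective N₀))
  let pN := eN.trans p
  haveI := Cfsg.Agent.S0296.result (F := ZMod 3) 4 le_rfl
  haveI : IsSimpleGroup ↥N := pN.isSimpleGroup
  have hns : ¬ Group.IsSolvable ↥N := fun hs => not_solvable_pOmega83 (by
    haveI := hs
    exact Group.isSolvable_of_surjective (f := pN.toMonoidHom) pN.surjective)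
  let eQ : ↥K ⧸ N ≃* Equiv.Perm (Fin 3) :=
    (QuotientGroup.congr N N₀ ι (Subgroup.map_comap_eq_self_of_surjective ι.surjective N₀)).trans f
  -- nothing centralises the simple subgroup
  let φ : ↥K →* Equiv.Perm (Fin 3) := eQ.toMonoidHom.comp (QuotientGroup.mk' N)
  have hφ : ∀ x, φ x = 1 ↔ x ∈ N := fun x => by
    show eQ (QuotientGroup.mk' N x) = 1 ↔ _
    rw [eQ.map_eq_one_iff]; exact QuotientGroup.eq_one_iff x
  set C := Subgroup.centralizer (N : Set ↥K)
  have hCN : ∀ x ∈ C, x ∈ N → x = 1 := by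
    intro x hx hxN
    have hz : (⟨x, hxN⟩ : ↥N) ∈ Subgroup.center ↥N :=
      Subgroup.mem_center_iff.2 fun y => Subtype.ext (hx y y.2)
    have hc : Subgroup.center ↥N = ⊥ := (IsSimpleGroup.eq_bot_or_eq_top_of_normal _ inferInstance).resolve_right
      fun htop => hns (Group.isSolvable_of_comm fun u v => Subgroup.mem_center_iff.1 (htop ▸ Subgroup.mem_top v : v ∈ Subgroup.center ↥N) u)
    rw [hc, Subgroup.mem_bot] at hz
    exact congrArg Subtype.val hz
  have hcen : Subgroup.center ↥K = ⊥ := (pair_centralizer24 P ha he hae).2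
  have hC : C = ⊥ := pair_cent_bot24 P ha he hae N φ (eQ.surjective.comp (QuotientGroup.mk'_surjective N)) hφ hCN
  have hG := gfit_simple N hns hC
  rw [hG]
  exact ⟨⟨pN⟩, hNn, ⟨eQ⟩⟩

end CfsgLib.ThreeT.Prod
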