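import Cfsg.Agent.Spor3T.M24Parity
import Cfsg.Agent.Perm.MinimalNormal
import Cfsg.Prelude.Def_Local

/-!
Type M(24): the commutator subgroup is simple of index two and equals the layer.
-/

set_option autoImplicit false
set_option linter.unusedSectionVars false
set_option linter.style.haveILetI false

namespace CfsgLib.ThreeT.Prod

open CfsgLib.ThreeT.Parity
open scoped commutatorElement

variable {G : Type*} [Group G] [Finite G] {D : Set G} {d : G} (P : Point24 D d)

include P

/-- Elements of the commutator subgroup are even products. -/
theorem commutator_even24 {g : G} (hg : g ∈ commutator G) : Wd D g 0 := by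
  have hsq := P.base.tt.sq
  have hall : ∀ x : G, ∃ p, Wd D x p := fun x =>
    Wd.of_closure hsq (P.base.class3.2.2 ▸ Subgroup.mem_top x)
  rw [commutator_def, Subgroup.commutator_def] at hg
  induction hg using Subgroup.closure_induction with
  | mem x hx =>
    obtain ⟨a, -, b, -, rfl⟩ := hx
    obtain ⟨p, hp⟩ := hall a
    obtain ⟨q, hq⟩ := hall b
    have h := ((hp.mul hq).mul (Wd.inv hsq hp)).mul (Wd.inv hsq hq)
    rw [commutatorElement_def]
    rwa [show p + q + p + q = (0 : ZMod 2) by clear h hp hq; revert p q; decide] at h
  | one => exact Wd.one D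
  | mul u v _ _ hu hv => simpa using hu.mul hv
  | inv u _ hu => exact Wd.inv hsq hu

/-- The transpositions lie outside the commutator subgroup. -/
theorem notMem_commutator24 {a : G} (ha : a ∈ D) : a ∉ commutator G := fun h => by
  have := Wd.eq P.base.tt.sq (even24 P) (commutator_even24 P h) (Wd.single ha)
  exact absurd this (by decide)

/-- The commutator subgroup has index two. -/
theorem index_commutator24 : (commutator G).index = 2 := by
  refine Subgroup.index_eq_two_iff.mpr ⟨d, fun g => ?_⟩
  have hd := notMem_commutator24 P P.mem
  have hd2 := P.base.tt.sq d P.mem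
  have hor : g ∈ commutator G ∨ g * d ∈ commutator G := by
    induction (P.base.class3.2.2 ▸ Subgroup.mem_top g : g ∈ Subgroup.closure D) using
      Subgroup.closure_induction with
    | mem z hz => exact Or.inr (CfsgLib.ThreeT.mul_mem_commutator P.base.class3 hz P.mem)
    | one => exact Or.inl (one_mem _)
    | mul x y _ _ hx hy =>
      have hn : ∀ m ∈ commutator G, d * m * d ∈ commutator G := fun m hm => by
        have h := (inferInstance : (commutator G).Normal).conj_mem m hm d
        rwa [P.base.tt.inv P.mem] at h
      rcases hx with hx | hx <;> rcases hy with hy | hy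
      · exact Or.inl (mul_mem hx hy)
      · exact Or.inr (by rw [mul_assoc]; exact mul_mem hx hy)
      · refine Or.inr ?_
        have := mul_mem hx (hn y hy)
        rwa [show x * d * (d * y * d) = x * (d * d) * (y * d) by group, hd2, mul_one, ← mul_assoc] at this
      · refine Or.inl ?_
        have := mul_mem hx (hn _ hy)
        rwa [show x * d * (d * (y * d) * d) = x * (d * d) * y * (d * d) by group, hd2, mul_one, mul_one] at this
    | inv x _ hx =>
      rcases hx with hx | hx
      · exact Or.inl (inv_mem hx)
      · refine Or.inr ?_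
        have h := (inferInstance : (commutator G).Normal).conj_mem _ (inv_mem hx) d
        rwa [show d * (x * d)⁻¹ * d⁻¹ = (d * d⁻¹) * x⁻¹ * d⁻¹ by group, mul_inv_cancel, one_mul,
          P.base.tt.inv P.mem] at h
  rcases hor with h | h
  · refine Or.inr ⟨h, fun h' => hd ?_⟩
    have := mul_mem (inv_mem h) h'
    rwa [inv_mul_cancel_left] at this
  · refine Or.inl ⟨h, fun h' => hd ?_⟩
    have := mul_mem (inv_mem h') h
    rwa [inv_mul_cancel_left] at this

/-- The commutator subgroup is simple. -/
theorem simple_commutator24 (hp : Cfsg.IsPrimitiveUnderConj D) : IsSimpleGroup ↥(commutator G) := by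
  set N := commutator G
  have hidx := index_commutator24 P
  have hcardG := order24 P
  have hcard : Nat.card ↥N * 2 = Nat.card G := hidx ▸ N.card_mul_index
  have hN : N ≠ ⊥ := fun e => by
    rw [e, Subgroup.card_bot, hcardG] at hcard
    norm_num at hcard
  obtain ⟨S, iS, m, hS, hm, ⟨e⟩⟩ := CfsgLib.MinimalNormal.exists_mulEquiv_pi_simple N hN fun M hM hMN => by
    refine or_iff_not_imp_left.2 fun hM0 => le_antisymm hMN ?_
    haveI := hM
    exact (normal_of_primitive P.base.class3 P.base.center hp M hM0 P.mem).1
  have hpow : Nat.card ↥N = Nat.card S ^ m := by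
    rw [Nat.card_congr e.toEquiv, Nat.card_fun, Nat.card_fin]
  have h29 : 29 ∣ Nat.card S := by
    refine (by norm_num : Nat.Prime 29).dvd_of_dvd_pow (n := m) ?_
    rw [← hpow]
    omega
  obtain rfl : m = 1 := by
    by_contra hne
    have h2 : 29 ^ 2 ∣ Nat.card ↥N := hpow ▸ (pow_dvd_pow 29 (show 2 ≤ m by omega)).trans (pow_dvd_pow_of_dvd h29 m)
    norm_num at h2
    omega
  haveI := hS
  exact CfsgLib.MinimalNormal.isSimpleGroup_iff_of_mulEquiv ((MulEquiv.piUnique fun _ : Fin 1 => S).symm.trans e.symm)

/-- The layer is the commutator subgroup. -/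
theorem layer_eq24 (hp : Cfsg.IsPrimitiveUnderConj D) : Cfsg.layer G = commutator G := by
  set N := commutator G
  haveI hs := simple_commutator24 P hp
  have hna : ¬ Group.IsSolvable ↥N := fun h => by
    have hb := P.base.nosol N inferInstance h
    exact (Subgroup.nontrivial_iff_ne_bot N).1 hs.toNontrivial hb
  have hperf : commutator ↥N = ⊤ := by
    refine ((inferInstance : (commutator ↥N).Normal)).eq_bot_or_eq_top.resolve_left fun hb => hna ?_
    letI : CommGroup ↥N := { (inferInstance : Group ↥N) with
      mul_comm := fun a b => by
        refine commutatorElement_eq_one_iff_commute.1 ?_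
        rw [← Subgroup.mem_bot, ← hb, commutator_def]
        exact Subgroup.commutator_mem_commutator (Subgroup.mem_top a) (Subgroup.mem_top b) }
    infer_instance
  have hcenter : Subgroup.center ↥N = ⊥ :=
    (inferInstance : (Subgroup.center ↥N).Normal).eq_bot_or_eq_top.resolve_right fun h => hna (by
      letI : CommGroup ↥N := { (inferInstance : Group ↥N) with
        mul_comm := fun a b => (Subgroup.mem_center_iff.1 (h ▸ Subgroup.mem_top b) a) }
      infer_instance)
  have hcomp : Cfsg.IsComponent N := by
    refine ⟨Subgroup.Normal.isSubnormal inferInstance, ⟨hperf⟩, ?_⟩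
    haveI := ((QuotientGroup.quotientMulEquivOfEq hcenter).trans (QuotientGroup.quotientBot (G := ↥N))).toEquiv.nontrivial
    exact IsSimpleGroup.isSimpleGroup_of_surjective
      ((QuotientGroup.quotientMulEquivOfEq hcenter).trans (QuotientGroup.quotientBot (G := ↥N))).symm.toMonoidHom
      ((QuotientGroup.quotientMulEquivOfEq hcenter).trans (QuotientGroup.quotientBot (G := ↥N))).symm.surjective
  refine le_antisymm (sSup_le fun K hK => ?_) (le_sSup hcomp)
  have h := hK.2.1.commutator_eq_top
  rw [show K = ⁅K, K⁆ by
    conv_lhs => rw [← Subgroup.range_subtype K, MonoidHom.range_eq_map, ← h, commutator_def,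
      Subgroup.map_commutator, ← MonoidHom.range_eq_map, Subgroup.range_subtype]]
  exact Subgroup.commutator_mono le_top le_top

end CfsgLib.ThreeT.Prod
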