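import Cfsg.Agent.Spor3T.M22Thompson

/-!
Type M(22): the position of a member with respect to 22 commuting ones: it commutes with none or with six of
them, and the 1024 of the first kind are permuted regularly by the group the 22 generate.
-/

set_option autoImplicit false
set_option linter.unusedSectionVars false
set_option linter.style.haveILetI false

namespace CfsgLib.ThreeT.Prod

variable {G : Type*} [Group G] [Finite G] {D C : Set G} (h : Geo22 D)

include h

/-- Every Sylow 2-subgroup contains 22 pairwise commuting members. -/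
theorem sylow_clique {d : G} (hd : d ∈ D) (T : Sylow 2 G) :
    (∀ x ∈ {x : G | x ∈ D ∧ x ∈ (T : Subgroup G)}, ∀ y ∈ {x : G | x ∈ D ∧ x ∈ (T : Subgroup G)}, Commute x y) ∧
      {x : G | x ∈ D ∧ x ∈ (T : Subgroup G)}.ncard = 22 := by
  haveI : Fact (2 : ℕ).Prime := ⟨Nat.prime_two⟩
  have hc : ∀ x ∈ {x : G | x ∈ D ∧ x ∈ (T : Subgroup G)}, ∀ y ∈ {x : G | x ∈ D ∧ x ∈ (T : Subgroup G)},
      Commute x y := fun x hx y hy =>
    ThreeT.commute_of_two_group h.class3.1 hx.1 hy.1 T.isPGroup' hx.2 hy.2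
  refine ⟨hc, ?_⟩
  obtain ⟨C₀, hC₀, hcC₀, hn₀⟩ := (h.loc d hd).clique
  set C₁ : Set G := insert d C₀
  have hC₁ : C₁ ⊆ D := Set.insert_subset hd fun x hx => (hC₀ hx).1
  have hcC₁ : ∀ x ∈ C₁, ∀ y ∈ C₁, Commute x y := by
    intro a ha b hb
    rcases ha with rfl | ha <;> rcases hb with rfl | hb
    exacts [Commute.refl _, (hC₀ hb).2.2, (hC₀ ha).2.2.symm, hcC₀ a ha b hb]
  have hn₁ : C₁.ncard = 22 := by
    rw [Set.ncard_insert_of_notMem (fun hm => (hC₀ hm).2.1 rfl) (Set.toFinite _), hn₀]
  have hp₁ : IsPGroup 2 ↥(Subgroup.closure C₁) := fun g => ⟨1, by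
    have key : ∀ x ∈ Subgroup.closure C₁, x * x = 1 := by
      intro x hx
      induction hx using Subgroup.closure_induction with
      | mem y hy => exact h.tt.sq y (hC₁ hy)
      | one => simp
      | mul u v hu hv hu2 hv2 =>
        have huv : Commute u v := (commute_of_closure (fun y hy =>
          (commute_of_closure (fun z hz => hcC₁ z hz y hy) u hu).symm) v hv).symm
        rw [← pow_two, huv.mul_pow, pow_two, pow_two, hu2, hv2, one_mul]
      | inv u _ hu => rw [← mul_inv_rev, hu, inv_one]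
    exact Subtype.ext (by simpa [pow_two] using key g g.2)⟩
  obtain ⟨T₀, hT₀⟩ := hp₁.exists_le_sylow
  obtain ⟨g, hg⟩ := MulAction.exists_smul_eq G T₀ T
  refine le_antisymm ?_ ?_
  · have hb : BddAbove {n : ℕ | ∃ E : Set G, E ⊆ D ∧ E.Finite ∧ (∀ a ∈ E, ∀ b ∈ E, Commute a b) ∧ E.ncard = n} :=
      ⟨D.ncard, fun n ⟨E, hE, _, _, e⟩ => e ▸ Set.ncard_le_ncard hE (Set.toFinite _)⟩
    rw [← width22 h hd]
    exact le_csSup hb ⟨_, fun x hx => hx.1, Set.toFinite _, hc, rfl⟩
  · rw [← hn₁, ← Set.ncard_image_of_injective C₁ (MulAut.conj g).injective]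
    refine Set.ncard_le_ncard ?_ (Set.toFinite _)
    rintro _ ⟨x, hx, rfl⟩
    refine ⟨h.tt.conj g x (hC₁ hx), ?_⟩
    rw [← hg]
    exact Subgroup.smul_mem_pointwise_smul x (MulAut.conj g) _ (hT₀ (Subgroup.subset_closure hx))

variable (hp : Cfsg.IsPrimitiveUnderConj D) (ht : Cfsg.IsOfTypeM22 G D)
  (hcC : ∀ x ∈ C, ∀ y ∈ C, Commute x y) (hC : C ⊆ D) (hn : C.ncard = 22)

include hcC hC

theorem clique_closure_sq : ∀ x ∈ Subgroup.closure C, x * x = 1 := by
  intro x hx
  induction hx using Subgroup.closure_induction with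
  | mem y hy => exact h.tt.sq y (hC hy)
  | one => simp
  | mul u v hu hv hu2 hv2 =>
    have huv : Commute u v := (commute_of_closure (fun y hy =>
      (commute_of_closure (fun z hz => hcC z hz y hy) u hu).symm) v hv).symm
    rw [← pow_two, huv.mul_pow, pow_two, pow_two, hu2, hv2, one_mul]
  | inv u _ hu => rw [← mul_inv_rev, hu, inv_one]

/-- A member commuting with a product of some of the 22 commutes with the factors. -/
theorem comm_factors {s : Finset ↥C} (h1 : 1 ≤ s.card) (h3 : s.card ≤ 3) {y : G} (hy : y ∈ D)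
    (hc : Commute (cprod hcC s) y) : ∀ x ∈ s, Commute (x : G) y := by
  intro x hx
  obtain ⟨hnd, hlen, hm, hcm⟩ := toList_props hcC hC s
  rw [cprod_toList] at hc
  have hxl : (x : G) ∈ s.toList.map Subtype.val := mem_toList_map.2 hx
  generalize s.toList.map Subtype.val = l at hnd hlen hm hcm hc hxl
  rcases Nat.lt_or_ge l.length 2 with q | q
  · obtain ⟨b, rfl⟩ := List.length_eq_one_iff.1 (show l.length = 1 by omega)
    rw [List.mem_singleton.1 hxl]; simpa using hc
  rcases Nat.lt_or_ge l.length 3 with q' | q'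
  · obtain ⟨b, c, rfl⟩ := List.length_eq_two.1 (show l.length = 2 by omega)
    have hne : b ≠ c := by simpa using hnd
    have := (commute_mul_iff0 h.tt (hm b (by simp)) (hm c (by simp)) hy (hcm b (by simp) c (by simp)) hne).1
      (by simpa using hc)
    simp only [List.mem_cons, List.not_mem_nil, or_false] at hxl
    rcases hxl with e | e <;> rw [e]
    exacts [this.1, this.2]
  · obtain ⟨b, c, e, rfl⟩ := List.length_eq_three.1 (show l.length = 3 by omega)
    have hne : b ≠ c ∧ b ≠ e ∧ c ≠ e := by simpa [List.nodup_cons, and_assoc] using hnd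
    have := (commute_triple_iff h.tt (hm b (by simp)) (hm c (by simp)) (hm e (by simp)) hy
      (hcm b (by simp) c (by simp)) (hcm b (by simp) e (by simp)) (hcm c (by simp) e (by simp))
      hne.1 hne.2.1 hne.2.2).1 (by simpa [mul_assoc] using hc)
    simp only [List.mem_cons, List.not_mem_nil, or_false] at hxl
    rcases hxl with q | q | q <;> rw [q]
    exacts [this.1, this.2.1, this.2.2]

include hp ht hn

/-- A member outside commutes with at most six. -/
theorem six_le [Fintype ↥C] [DecidableEq ↥C] {y : G} (hy : y ∈ D) (hyC : y ∉ C) {S : Finset ↥C}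
    (hS : ∀ x ∈ S, Commute (x : G) y) : S.card ≤ 6 := by
  classical
  by_contra hcon
  push Not at hcon
  have hB := sys22 hcC h hC hn
  set U := Finset.univ.filter fun x : ↥C => Commute (x : G) y
  have hmU : ∀ {x : ↥C}, x ∈ U ↔ Commute (x : G) y := fun {x} => by simp [U]
  -- closed under blocks
  have hcl : ∀ {H : Finset ↥C}, IsBlock hcC H → ∀ {a b c : ↥C}, a ≠ b → a ≠ c → b ≠ c → a ∈ H → b ∈ H →
      c ∈ H → a ∈ U → b ∈ U → c ∈ U → ∀ x ∈ H, x ∈ U := by
    intro H hH a b c hab hac hbc ha hb hc ua ub uc x hx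
    set s : Finset ↥C := {a, b, c}
    have hs : s.card = 3 := Finset.card_eq_three.2 ⟨a, b, c, hab, hac, hbc, rfl⟩
    by_cases hxs : x ∈ s
    · simp only [s, Finset.mem_insert, Finset.mem_singleton] at hxs
      rcases hxs with rfl | rfl | rfl <;> assumption
    have hsub : s ⊆ H := by simp [s, Finset.insert_subset_iff, ha, hb, hc]
    have hst : s ∪ H \ s = H := Finset.union_sdiff_of_subset hsub
    have e : cprod hcC (H \ s) = cprod hcC s := by
      have := hH.2
      rw [← hst, cprod_union hcC Finset.disjoint_sdiff] at this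
      rw [← mul_eq_one_iff_inv_eq.1 this]
      exact mul_eq_one_iff_inv_eq.1 (cprod_sq hcC h hC s)
    have hsy : Commute (cprod hcC s) y := (Finset.noncommProd_commute s Subtype.val _ y fun z hz => by
      simp only [s, Finset.mem_insert, Finset.mem_singleton] at hz
      rcases hz with rfl | rfl | rfl <;> exact (hmU.1 (by assumption)).symm).symm
    have h3 : (H \ s).card = 3 := by rw [Finset.card_sdiff_of_subset hsub, hH.1, hs]
    exact hmU.2 (comm_factors h hcC hC (by omega) (by omega) hy (e ▸ hsy) x (Finset.mem_sdiff.2 ⟨hx, hxs⟩))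
  obtain ⟨a, b, c, ha, hb, hc, hab, hac, hbc⟩ := Block22.three_mem (S := S) (by omega)
  obtain ⟨H, hH, hHa, hHb, hHc⟩ := hB.ex hab hac hbc
  have hHU := hcl hH hab hac hbc hHa hHb hHc (hmU.2 (hS a ha)) (hmU.2 (hS b hb)) (hmU.2 (hS c hc))
  obtain ⟨p, hpS, hp'⟩ : ∃ p ∈ S, p ∉ H := by
    by_contra hn'
    push Not at hn'
    have := Finset.card_le_card hn'
    rw [hH.1] at this
    omega
  refine hyC (clique_max hcC h hC hn hy fun v hv => ?_)
  suffices hw : ∀ w : ↥C, w ∈ U from (hmU.1 (hw ⟨v, hv⟩)).symm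
  intro w
  by_cases hwH : w ∈ H
  · exact hHU w hwH
  by_cases hwp : w = p
  · rw [hwp]; exact hmU.2 (hS p hpS)
  have hap : p ≠ a := fun e => hp' (e ▸ hHa)
  obtain ⟨B, hBk, hBp, hBw, hBa⟩ := hB.ex (a := p) (b := w) (c := a) (fun e => hwp e.symm) hap
    (fun e => hwH (e ▸ hHa))
  obtain ⟨b', hb'a, hb'H, hb'B, -⟩ := Block22.second hB hH hBk (fun e => hp' (e ▸ hBp)) hHa hBa
  exact hcl hBk hap (fun e : p = b' => hp' (e ▸ hb'H)) hb'a.symm hBp hBa hb'B (hmU.2 (hS p hpS))
    (hHU a hHa) (hHU b' hb'H) w hBw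

/-- The members commuting with none of the 22. -/
theorem far_count : {z | z ∈ D ∧ ∀ v ∈ C, ¬ Commute z v}.ncard = 1024 := by
  classical
  haveI := Fintype.ofFinite G
  haveI := Fintype.ofFinite ↥C
  set Cf := C.toFinset
  set Df := D.toFinset
  set Out := Df \ Cf
  have hCD : Cf ⊆ Df := Set.toFinset_subset_toFinset.2 hC
  have hCf : Cf.card = 22 := by rw [← Set.ncard_eq_toFinset_card', hn]
  obtain ⟨d, hdC⟩ : C.Nonempty := Set.nonempty_of_ncard_ne_zero (by omega)
  have hOut : Out.card = 3488 := by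
    rw [Finset.card_sdiff_of_subset hCD, hCf, ← Set.ncard_eq_toFinset_card', ncard_D h (hC hdC)]
  have hadj : ∀ {x y : G}, x ∈ Cf → y ∈ Cf → Commute x y := fun hx hy =>
    hcC _ (Set.mem_toFinset.1 hx) _ (Set.mem_toFinset.1 hy)
  have hdeg : ∀ c ∈ Cf, (Out.filter fun z => Commute z c).card = 672 := by
    intro c hc
    have hcD := hC (Set.mem_toFinset.1 hc)
    have h1 := (h.loc c hcD).card_nb
    rw [Set.ncard_eq_toFinset_card'] at h1
    have e : (Out.filter fun z => Commute z c) ∪ Cf.erase c = (nb D c).toFinset := by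
      ext z
      simp only [Finset.mem_union, Finset.mem_filter, Out, Finset.mem_sdiff, Finset.mem_erase, Set.mem_toFinset,
        Df]
      constructor
      · rintro (⟨⟨h1, h2⟩, h3⟩ | ⟨h1, h2⟩)
        · exact ⟨h1, fun e => h2 (e ▸ hc), h3.symm⟩
        · exact ⟨hC (Set.mem_toFinset.1 h2), h1, (hadj h2 hc).symm⟩
      · rintro ⟨h1, h2, h3⟩
        by_cases hz : z ∈ Cf
        · exact Or.inr ⟨h2, hz⟩
        · exact Or.inl ⟨⟨h1, hz⟩, h3.symm⟩
    have hdisj : Disjoint (Out.filter fun z => Commute z c) (Cf.erase c) :=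
      Finset.disjoint_left.2 fun z hz hz' =>
        (Finset.mem_sdiff.1 (Finset.mem_filter.1 hz).1).2 (Finset.mem_of_mem_erase hz')
    rw [← e, Finset.card_union_of_disjoint hdisj, Finset.card_erase_of_mem hc, hCf] at h1
    omega
  have hpair : ∀ c ∈ Cf, ∀ c' ∈ Cf, ((Out.filter fun z => Commute z c).filter fun z => Commute z c').card =
      if c = c' then 672 else 160 := by
    intro c hc c' hc'
    split_ifs with e
    · subst e; rw [Finset.filter_filter]; simp only [and_self]; exact hdeg c hc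
    have hcD := hC (Set.mem_toFinset.1 hc)
    have h1 := (h.loc c hcD).card_pair c' ⟨hC (Set.mem_toFinset.1 hc'), Ne.symm e, hadj hc hc'⟩
    rw [Set.ncard_eq_toFinset_card'] at h1
    have e1 : ((Out.filter fun z => Commute z c).filter fun z => Commute z c') ∪ (Cf.erase c).erase c' =
        {y | y ∈ nb D c ∧ y ≠ c' ∧ Commute y c'}.toFinset := by
      ext z
      simp only [Finset.mem_union, Finset.mem_filter, Out, Finset.mem_sdiff, Finset.mem_erase, Set.mem_toFinset,
        Set.mem_ofPred_eq, Df]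
      constructor
      · rintro (⟨⟨⟨h1, h2⟩, h3⟩, h4⟩ | ⟨h1, h2, h3⟩)
        · exact ⟨⟨h1, fun e => h2 (e ▸ hc), h3.symm⟩, fun e => h2 (e ▸ hc'), h4⟩
        · exact ⟨⟨hC (Set.mem_toFinset.1 h3), h2, (hadj h3 hc).symm⟩, h1, hadj h3 hc'⟩
      · rintro ⟨⟨h1, h2, h3⟩, h4, h5⟩
        by_cases hz : z ∈ Cf
        · exact Or.inr ⟨h4, h2, hz⟩
        · exact Or.inl ⟨⟨⟨h1, hz⟩, h3.symm⟩, h5⟩
    have hdisj : Disjoint ((Out.filter fun z => Commute z c).filter fun z => Commute z c')
        ((Cf.erase c).erase c') :=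
      Finset.disjoint_left.2 fun z hz hz' => (Finset.mem_sdiff.1 (Finset.mem_filter.1
        (Finset.mem_filter.1 hz).1).1).2 (Finset.mem_of_mem_erase (Finset.mem_of_mem_erase hz'))
    rw [← e1, Finset.card_union_of_disjoint hdisj,
      Finset.card_erase_of_mem (Finset.mem_erase.2 ⟨Ne.symm e, hc'⟩), Finset.card_erase_of_mem hc, hCf] at h1
    omega
  set m : G → ℕ := fun z => (Cf.filter fun c => Commute z c).card with hm
  have hone : ∑ z ∈ Out, m z = 22 * 672 := by
    have h1 : ∑ z ∈ Out, (Cf.filter fun c => Commute z c).card =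
        ∑ c ∈ Cf, (Out.filter fun z => Commute z c).card :=
      Finset.sum_card_bipartiteAbove_eq_sum_card_bipartiteBelow (fun z c => Commute z c)
    rw [Finset.sum_congr rfl hdeg, Finset.sum_const, hCf, smul_eq_mul] at h1
    exact h1
  have htwo : ∑ z ∈ Out, m z * m z = 22 * (672 + 21 * 160) := by
    have e : ∀ z, m z * m z = ∑ c ∈ Cf, (if Commute z c then m z else 0) := fun z => by
      rw [← Finset.sum_filter, Finset.sum_const, smul_eq_mul]
    have hrow : ∀ c ∈ Cf, ∑ z ∈ Out, (if Commute z c then m z else 0) = 672 + 21 * 160 := by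
      intro c hc
      have h1 : ∑ z ∈ Out.filter (fun z => Commute z c), (Cf.filter fun c' => Commute z c').card =
          ∑ c' ∈ Cf, ((Out.filter fun z => Commute z c).filter fun z => Commute z c').card :=
        Finset.sum_card_bipartiteAbove_eq_sum_card_bipartiteBelow (fun z c' => Commute z c')
      rw [← Finset.sum_filter]
      refine h1.trans ?_
      rw [Finset.sum_congr rfl (hpair c hc), ← Finset.sum_erase_add _ _ hc, if_pos rfl,
        Finset.sum_congr rfl fun c' hc' => if_neg (Finset.ne_of_mem_erase hc').symm, Finset.sum_const,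
        Finset.card_erase_of_mem hc, hCf, smul_eq_mul]
    rw [Finset.sum_congr rfl fun z _ => e z, Finset.sum_comm, Finset.sum_congr rfl hrow, Finset.sum_const, hCf,
      smul_eq_mul]
  have hsix : ∀ z ∈ Out, m z ≤ 6 := by
    intro z hz
    simp only [Out, Finset.mem_sdiff, Df, Cf, Set.mem_toFinset] at hz
    refine le_trans ?_ (six_le h hp ht hcC hC hn hz.1 hz.2
      (S := Finset.univ.filter fun x : ↥C => Commute z x) fun x hx => (Finset.mem_filter.1 hx).2.symm)
    refine (Finset.card_le_card (t := (Finset.univ.filter fun x : ↥C => Commute z x).image Subtype.val) ?_).trans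
      Finset.card_image_le
    intro c hc
    obtain ⟨hc, hzc⟩ := Finset.mem_filter.1 hc
    exact Finset.mem_image.2 ⟨⟨c, Set.mem_toFinset.1 hc⟩, Finset.mem_filter.2 ⟨Finset.mem_univ _, hzc⟩, rfl⟩
  have heq : ∀ z ∈ Out, m z * m z = 6 * m z := by
    refine (Finset.sum_eq_sum_iff_of_le fun z hz => Nat.mul_le_mul_right _ (hsix z hz)).1 ?_
    rw [← Finset.mul_sum, htwo, hone]
    try norm_num
  have hval : ∀ z ∈ Out, m z = if m z = 0 then 0 else 6 := fun z hz => by
    split_ifs with q
    · exact q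
    · exact Nat.eq_of_mul_eq_mul_right (Nat.pos_of_ne_zero q) (heq z hz)
  have hnz : 6 * (Out.filter fun z => ¬ m z = 0).card = 14784 := by
    rw [Finset.sum_congr rfl hval, Finset.sum_ite, Finset.sum_const_zero, zero_add, Finset.sum_const,
      smul_eq_mul] at hone
    omega
  have hsplit := Finset.card_filter_add_card_filter_not (s := Out) (fun z => m z = 0)
  rw [Set.ncard_eq_toFinset_card']
  have e : {z | z ∈ D ∧ ∀ v ∈ C, ¬ Commute z v}.toFinset = Out.filter fun z => m z = 0 := by
    ext z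
    simp only [Set.mem_toFinset, Set.mem_ofPred_eq, Finset.mem_filter, Out, Finset.mem_sdiff, Df, Cf, hm,
      Finset.card_eq_zero, Finset.filter_eq_empty_iff]
    exact ⟨fun q => ⟨⟨q.1, fun hz => q.2 z hz (Commute.refl z)⟩, fun {x} hx => q.2 x hx⟩,
      fun q => ⟨q.1.1, fun v hv => q.2 v hv⟩⟩
  rw [e]
  omega

/-- Only the identity of the group generated fixes such a member. -/
theorem far_free {z : G} (hz : z ∈ D) (hzC : ∀ v ∈ C, ¬ Commute z v) {e : G} (he : e ∈ Subgroup.closure C)
    (hez : Commute e z) : e = 1 := by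
  by_contra hne
  haveI := Fintype.ofFinite ↥C
  obtain ⟨s, h1, h3, rfl⟩ := exists_short_cprod hcC h hp ht hC hn (clique_closure_sq h hcC hC e he) hne
    fun v hv => commute_of_closure (fun y hy => hcC y hy v hv) e he
  obtain ⟨x, hx⟩ : s.Nonempty := Finset.card_pos.1 (by omega)
  exact hzC x x.2 (comm_factors h hcC hC h1 h3 hz hez x hx).symm

/-- The neighbours of the first kind are the conjugates by the products of two. -/
theorem far_nb {z w : G} (hz : z ∈ D) (hzC : ∀ v ∈ C, ¬ Commute z v) (hw : w ∈ nb D z)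
    (hwC : ∀ v ∈ C, ¬ Commute w v) : ∃ a ∈ C, ∃ b ∈ C, a ≠ b ∧ w = a * b * z * (a * b)⁻¹ := by
  classical
  haveI := Fintype.ofFinite G
  haveI := Fintype.ofFinite ↥C
  have hC22 : Fintype.card ↥C = 22 := by rw [← Nat.card_eq_fintype_card, Nat.card_coe_set_eq, hn]
  set P := (Finset.univ : Finset ↥C).powersetCard 2
  set f : Finset ↥C → G := fun s => cprod hcC s * z * (cprod hcC s)⁻¹
  have hpair : ∀ s ∈ P, ∃ a ∈ C, ∃ b ∈ C, a ≠ b ∧ cprod hcC s = a * b := fun s hs => by
    obtain ⟨a, b, hab, rfl⟩ := Finset.card_eq_two.1 (Finset.mem_powersetCard.1 hs).2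
    refine ⟨a, a.2, b, b.2, fun e => hab (Subtype.ext e), ?_⟩
    rw [show ({a, b} : Finset ↥C) = {a} ∪ {b} from rfl, cprod_union hcC (by simpa using hab)]
    simp [cprod]
  set Z := {x | x ∈ nb D z ∧ ∀ v ∈ C, ¬ Commute x v}.toFinset
  have hsub : P.image f ⊆ Z := by
    intro y hy
    obtain ⟨s, hs, rfl⟩ := Finset.mem_image.1 hy
    obtain ⟨a, ha, b, hb, hab, e⟩ := hpair s hs
    simp only [f, e]
    have hK : a * b ∈ Subgroup.closure C := mul_mem (Subgroup.subset_closure ha) (Subgroup.subset_closure hb)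
    refine Set.mem_toFinset.2 ⟨⟨h.tt.conj _ z hz, fun q => ?_, ?_⟩, fun v hv q => hzC v hv ?_⟩
    · have := far_free h hp ht hcC hC hn hz hzC hK (mul_inv_eq_iff_eq_mul.1 q)
      exact hab (by rw [mul_eq_one_iff_inv_eq.1 this |>.symm, h.tt.inv (hC ha)])
    · have b1 := braid0 h.tt (hC ha) hz (fun q => hzC a ha q.symm)
      have b2 := braid0 h.tt (hC hb) hz (fun q => hzC b hb q.symm)
      have hba : a * b * a = b := by rw [(hcC a ha b hb).eq, mul_assoc, h.tt.sq a (hC ha), mul_one]
      have hw' : a * b * z * (a * b)⁻¹ = a * b * z * b * a := by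
        rw [mul_inv_rev, h.tt.inv (hC ha), h.tt.inv (hC hb)]; group
      rw [hw']
      have key : z * (a * b * z * b * a) * z = a * b * z * b * a := by
        calc z * (a * b * z * b * a) * z = z * a * (b * z * b) * a * z := by group
          _ = (z * a * z) * b * (z * a * z) := by rw [b2]; group
          _ = a * z * (a * b * a) * z * a := by rw [← b1]; group
          _ = a * (b * z * b) * a := by rw [hba, b2]; group
          _ = _ := by group
      calc z * (a * b * z * b * a) = z * (a * b * z * b * a) * (z * z) := by rw [h.tt.sq z hz, mul_one]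
        _ = (z * (a * b * z * b * a) * z) * z := by group
        _ = _ := by rw [key]
    · have hv' : (a * b) * v * (a * b)⁻¹ = v := by
        rw [((hcC a ha v hv).mul_left (hcC b hb v hv)).eq, mul_inv_cancel_right]
      rw [← hv'] at q
      exact (commute_conj_iff _ z v).1 q
  have hinj : (P.image f).card = 231 := by
    rw [Finset.card_image_of_injOn, Finset.card_powersetCard, Finset.card_univ, hC22]
    · rfl
    intro s hs t ht' q
    have hK : (cprod hcC t)⁻¹ * cprod hcC s ∈ Subgroup.closure C := mul_mem (inv_mem (cprod_mem hcC t)) (cprod_mem hcC s)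
    have := far_free h hp ht hcC hC hn hz hzC hK (by
      refine mul_inv_eq_iff_eq_mul.1 ?_
      simp only [f] at q
      calc (cprod hcC t)⁻¹ * cprod hcC s * z * ((cprod hcC t)⁻¹ * cprod hcC s)⁻¹
          = (cprod hcC t)⁻¹ * (cprod hcC s * z * (cprod hcC s)⁻¹) * cprod hcC t := by group
        _ = z := by rw [q]; group)
    rw [inv_mul_eq_one] at this
    have hs2 := (Finset.mem_powersetCard.1 hs).2
    have ht2 := (Finset.mem_powersetCard.1 ht').2
    exact cprod_short hcC h hp ht hC (by omega) (by omega) (by omega) (by omega) this.symm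
  -- at most 231 neighbours of the first kind
  set R := (nb D z).toFinset.filter fun y => ¬ ∀ v ∈ C, ¬ Commute y v
  have hR : 462 ≤ R.card := by
    have h1 : ∑ y ∈ R, ((Finset.univ : Finset ↥C).filter fun x : ↥C => Commute y x).card =
        ∑ x : ↥C, (R.filter fun y => Commute y (x : G)).card :=
      Finset.sum_card_bipartiteAbove_eq_sum_card_bipartiteBelow (fun y (x : ↥C) => Commute y (x : G))
    have h2 : ∀ x : ↥C, (R.filter fun y => Commute y (x : G)).card = 126 := by
      intro x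
      rw [← (tri_card h).1 z hz x (hC x.2) (hzC x x.2), Set.ncard_eq_toFinset_card']
      congr 1
      ext y
      simp only [R, Finset.mem_filter, Set.mem_toFinset, Set.mem_ofPred_eq]
      exact ⟨fun q => ⟨q.1.1, q.2⟩, fun q => ⟨⟨q.1, fun r => r x x.2 q.2⟩, q.2⟩⟩
    have h3 : ∀ y ∈ R, ((Finset.univ : Finset ↥C).filter fun x : ↥C => Commute y x).card ≤ 6 := by
      intro y hy
      simp only [R, Finset.mem_filter, Set.mem_toFinset] at hy
      exact six_le h hp ht hcC hC hn hy.1.1 (fun q => hzC y q hy.1.2.2)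
        fun x hx => (Finset.mem_filter.1 hx).2.symm
    rw [Finset.sum_congr rfl fun x _ => h2 x, Finset.sum_const, Finset.card_univ, hC22, smul_eq_mul] at h1
    have h4 := Finset.sum_le_card_nsmul R _ 6 h3
    rw [h1, smul_eq_mul] at h4
    omega
  have hZR : Z.card + R.card ≤ 693 := by
    rw [← (h.loc z hz).card_nb, Set.ncard_eq_toFinset_card', ← Finset.card_union_of_disjoint]
    · exact Finset.card_le_card (Finset.union_subset (fun y hy => Set.mem_toFinset.2 (Set.mem_toFinset.1 hy).1)
        (Finset.filter_subset _ _))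
    · exact Finset.disjoint_left.2 fun y hy hy' => (Finset.mem_filter.1 hy').2 (Set.mem_toFinset.1 hy).2
  have hZ : P.image f = Z := Finset.eq_of_subset_of_card_le hsub (by omega)
  have : w ∈ P.image f := hZ ▸ Set.mem_toFinset.2 ⟨hw, hwC⟩
  obtain ⟨s, hs, rfl⟩ := Finset.mem_image.1 this
  obtain ⟨a, ha, b, hb, hab, e⟩ := hpair s hs
  exact ⟨a, ha, b, hb, hab, by simp only [f, e]⟩

/-- An involutory automorphism permuting the members and the 22 fixes a member. -/
theorem exists_fixed (φ : MulAut G) (hφ : ∀ x, φ (φ x) = x) (hφD : ∀ x ∈ D, φ x ∈ D)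
    (hφC : ∀ x ∈ C, φ x ∈ C) : ∃ x ∈ D, φ x = x := by
  by_contra hno
  push Not at hno
  have hcom : ∀ x ∈ D, Commute x (φ x) := by
    intro x hx
    by_contra hnc
    refine hno (x * φ x * x) (h.tt.conj' (hφD x hx) hx) ?_
    rw [map_mul, map_mul, hφ, braid0 h.tt hx (hφD x hx) hnc]
  obtain ⟨z, hz, hzC⟩ : {z | z ∈ D ∧ ∀ v ∈ C, ¬ Commute z v}.Nonempty :=
    Set.nonempty_of_ncard_ne_zero (by rw [far_count h hp ht hcC hC hn]; norm_num)
  have hwC : ∀ v ∈ C, ¬ Commute (φ z) v := fun v hv q => hzC _ (hφC v hv) (by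
    have := q.map φ
    rwa [hφ] at this)
  obtain ⟨a, ha, b, hb, hab, e⟩ := far_nb h hp ht hcC hC hn hz hzC ⟨hφD z hz, hno z hz, hcom z hz⟩ hwC
  have hmem : ∀ {u v : G}, u ∈ C → v ∈ C → u * v ∈ Subgroup.closure C := fun hu hv =>
    mul_mem (Subgroup.subset_closure hu) (Subgroup.subset_closure hv)
  -- the pair is invariant
  have hfz : φ (a * b) * (a * b) = 1 := by
    refine far_free h hp ht hcC hC hn hz hzC (mul_mem ?_ (hmem ha hb)) (mul_inv_eq_iff_eq_mul.1 ?_)
    · rw [map_mul]; exact hmem (hφC a ha) (hφC b hb)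
    · have := congrArg φ e
      rw [hφ] at this
      simp only [map_mul, map_inv] at this ⊢
      conv_rhs => rw [this, e]
      group
  rw [map_mul] at hfz
  have hfe : φ a * φ b = a * b := by
    rw [mul_eq_one_iff_eq_inv.1 hfz, mul_inv_rev, h.tt.inv (hC ha), h.tt.inv (hC hb), (hcC a ha b hb).eq]
  haveI := Fintype.ofFinite ↥C
  classical
  have hpr : ∀ {u v : G} (hu : u ∈ C) (hv : v ∈ C), u ≠ v →
      cprod hcC {(⟨u, hu⟩ : ↥C), ⟨v, hv⟩} = u * v := fun {u v} hu hv huv => by
    rw [show ({⟨u, hu⟩, ⟨v, hv⟩} : Finset ↥C) = {⟨u, hu⟩} ∪ {⟨v, hv⟩} from rfl,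
      cprod_union hcC (by simpa using huv)]
    simp [cprod]
  have hφne : φ a ≠ φ b := φ.injective.ne hab
  have hs := cprod_short hcC h hp ht hC (s := {⟨φ a, hφC a ha⟩, ⟨φ b, hφC b hb⟩}) (t := {⟨a, ha⟩, ⟨b, hb⟩})
    (by rw [Finset.card_pair (by simpa using hφne)]; norm_num) (by rw [Finset.card_pair (by simpa using hφne)])
    (by rw [Finset.card_pair (by simpa using hab)]; norm_num) (by rw [Finset.card_pair (by simpa using hab)]; norm_num)
    (by rw [hpr _ _ hφne, hpr _ _ hab, hfe])
  have hφa : φ a = b := by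
    have : (⟨φ a, hφC a ha⟩ : ↥C) ∈ ({⟨a, ha⟩, ⟨b, hb⟩} : Finset ↥C) := by rw [← hs]; simp
    simp only [Finset.mem_insert, Finset.mem_singleton, Subtype.mk.injEq] at this
    exact this.resolve_left (hno a (hC ha))
  refine hno (a * z * a) (h.tt.conj' hz (hC ha)) ?_
  rw [map_mul, map_mul, hφa, e, mul_inv_rev, h.tt.inv (hC ha), h.tt.inv (hC hb)]
  calc b * (a * b * z * (b * a)) * b = (b * a * b) * z * (b * a * b) := by group
    _ = a * z * a := by rw [(hcC b hb a ha).eq, mul_assoc a b b, h.tt.sq b (hC hb), mul_one]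

end CfsgLib.ThreeT.Prod
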