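import Cfsg.Agent.Spor3T.Block22

/-!
The fixed singletons, pairs and trisected blocks of an elementary abelian group of at least 16
automorphisms are few.
-/

set_option autoImplicit false
set_option linter.unusedSectionVars false
set_option linter.style.haveILetI false

namespace CfsgLib.ThreeT.Block22

variable {ι : Type*} [Fintype ι] [DecidableEq ι]

/-- The sets of `k` points left invariant. -/
noncomputable def invSets (B : Subgroup (Equiv.Perm ι)) (k : ℕ) : Finset (Finset ι) :=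
  letI := Classical.decPred fun s : Finset ι => ∀ σ ∈ B, s.map σ.toEmbedding = s
  (Finset.univ.powersetCard k).filter fun s => ∀ σ ∈ B, s.map σ.toEmbedding = s

/-- The triples whose split block is left invariant. -/
noncomputable def invTrios (Blk : Finset ι → Prop) (B : Subgroup (Equiv.Perm ι)) : Finset (Finset ι) :=
  letI := Classical.decPred fun s : Finset ι => ∀ σ ∈ B, s.map σ.toEmbedding = s ∨
    (Disjoint s (s.map σ.toEmbedding) ∧ Blk (s ∪ s.map σ.toEmbedding))
  (Finset.univ.powersetCard 3).filter fun s => ∀ σ ∈ B, s.map σ.toEmbedding = s ∨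
    (Disjoint s (s.map σ.toEmbedding) ∧ Blk (s ∪ s.map σ.toEmbedding))

theorem mem_invSets {B : Subgroup (Equiv.Perm ι)} {k : ℕ} {s : Finset ι} :
    s ∈ invSets B k ↔ s.card = k ∧ ∀ σ ∈ B, s.map σ.toEmbedding = s := by simp [invSets]

theorem mem_invTrios {Blk : Finset ι → Prop} {B : Subgroup (Equiv.Perm ι)} {s : Finset ι} :
    s ∈ invTrios Blk B ↔ s.card = 3 ∧ ∀ σ ∈ B, s.map σ.toEmbedding = s ∨
      (Disjoint s (s.map σ.toEmbedding) ∧ Blk (s ∪ s.map σ.toEmbedding)) := by simp [invTrios]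

/-- The permutations leaving a set invariant. -/
def stabSet (s : Finset ι) : Subgroup (Equiv.Perm ι) where
  carrier := {σ | ∀ x, σ x ∈ s ↔ x ∈ s}
  one_mem' := fun _ => Iff.rfl
  mul_mem' := fun {σ τ} hs ht x => (hs (τ x)).trans (ht x)
  inv_mem' := fun {σ} hs x => by
    show σ.symm x ∈ s ↔ x ∈ s
    rw [← hs (σ.symm x), σ.apply_symm_apply]

theorem orb_subset {B : Subgroup (Equiv.Perm ι)} {s : Finset ι} (hs : ∀ σ ∈ B, s.map σ.toEmbedding = s)
    {x : ι} (hx : x ∈ s) : orb B x ⊆ s := by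
  intro y hy
  obtain ⟨σ, hσ, rfl⟩ := mem_orb.1 hy
  rw [← hs σ hσ]
  exact Finset.mem_map_of_mem _ hx

variable {Blk : Finset ι → Prop} (h : Sys Blk) {B : Subgroup (Equiv.Perm ι)}
  (hsq : ∀ σ ∈ B, σ * σ = 1) (haut : ∀ σ ∈ B, Aut Blk σ) (hcomm : ∀ σ ∈ B, ∀ τ ∈ B, σ * τ = τ * σ)

include h haut

/-- An invariant trio lies in an invariant block, whose halves are permuted. -/
theorem trio {s : Finset ι} (hs : s ∈ invTrios Blk B) :
    ∃ H, Blk H ∧ s ⊆ H ∧ (∀ σ ∈ B, ∀ x ∈ H, σ x ∈ H) ∧
      ∀ σ ∈ B, (∀ x ∈ s, σ x ∈ s) ∨ ∀ x ∈ s, σ x ∈ H \ s := by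
  obtain ⟨h3, hs'⟩ := mem_invTrios.1 hs
  obtain ⟨a, b, c, hab, hac, hbc, rfl⟩ := Finset.card_eq_three.1 h3
  obtain ⟨H, hH, ha, hb, hc⟩ := h.ex hab hac hbc
  have key : ∀ σ ∈ B, (∀ x ∈ ({a, b, c} : Finset ι), σ x ∈ H) ∧
      ((∀ x ∈ ({a, b, c} : Finset ι), σ x ∈ ({a, b, c} : Finset ι)) ∨
        ∀ x ∈ ({a, b, c} : Finset ι), σ x ∈ H \ {a, b, c}) := by
    intro σ hσ
    rcases hs' σ hσ with e | ⟨hd, hU⟩
    · have h1 : ∀ x ∈ ({a, b, c} : Finset ι), σ x ∈ ({a, b, c} : Finset ι) := fun x hx =>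
        e ▸ Finset.mem_map_of_mem _ hx
      refine ⟨fun x hx => ?_, Or.inl h1⟩
      have := h1 x hx
      simp only [Finset.mem_insert, Finset.mem_singleton] at this
      rcases this with q | q | q <;> rw [q] <;> assumption
    · have e := h.uniq hH hU hab hac hbc ha hb hc (by simp) (by simp) (by simp)
      have h1 : ∀ x ∈ ({a, b, c} : Finset ι), σ x ∈ H \ {a, b, c} := fun x hx => by
        refine Finset.mem_sdiff.2 ⟨?_, fun q => Finset.disjoint_left.1 hd q (Finset.mem_map_of_mem _ hx)⟩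
        rw [e]; exact Finset.mem_union_right _ (Finset.mem_map_of_mem _ hx)
      exact ⟨fun x hx => (Finset.mem_sdiff.1 (h1 x hx)).1, Or.inr h1⟩
  refine ⟨H, hH, by simp [Finset.insert_subset_iff, ha, hb, hc], fun σ hσ => ?_, fun σ hσ => (key σ hσ).2⟩
  exact block_invariant h (haut σ hσ) hH hab hac hbc ha hb hc ((key σ hσ).1 a (by simp))
    ((key σ hσ).1 b (by simp)) ((key σ hσ).1 c (by simp))

include hsq hcomm

omit haut in
/-- A trisected invariant block: its pointwise stabiliser has index at most four. -/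
theorem card_le_four {H s : Finset ι} (hH : Blk H) (hsH : s ⊆ H) (hs3 : s.card = 3)
    (hinv : ∀ σ ∈ B, ∀ x ∈ H, σ x ∈ H) (hsp : ∀ σ ∈ B, (∀ x ∈ s, σ x ∈ s) ∨ ∀ x ∈ s, σ x ∈ H \ s) :
    Nat.card B ≤ 4 * Nat.card ↥(B ⊓ fixer H) := by
  classical
  set t := H \ s
  have ht3 : t.card = 3 := by rw [Finset.card_sdiff_of_subset hsH, h.six hH, hs3]
  by_cases hswap : ∀ σ ∈ B, ∀ x ∈ s, σ x ∈ s
  · have hss : ∀ σ ∈ B, ∀ x, σ x ∈ s → x ∈ s := fun σ hσ x hx => by
      have := hswap σ hσ _ hx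
      rwa [← Equiv.Perm.mul_apply, hsq σ hσ] at this
    have h1 := small_three hsq hs3 hswap
    have h2 := small_three (B := B ⊓ fixer s) (fun σ hσ => hsq σ hσ.1) ht3 fun σ hσ x hx =>
      Finset.mem_sdiff.2 ⟨hinv σ hσ.1 x (Finset.mem_sdiff.1 hx).1,
        fun q => (Finset.mem_sdiff.1 hx).2 (hss σ hσ.1 x q)⟩
    have h3 : Nat.card ↥(B ⊓ fixer s ⊓ fixer t) ≤ Nat.card ↥(B ⊓ fixer H) := by
      refine Nat.card_le_card_of_injective _ (Subgroup.inclusion_injective (K := B ⊓ fixer H) ?_)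
      rintro σ ⟨⟨hσ, hσs⟩, hσt⟩
      exact ⟨hσ, fun x hx => if q : x ∈ s then hσs x q else hσt x (Finset.mem_sdiff.2 ⟨hx, q⟩)⟩
    omega
  push Not at hswap
  obtain ⟨τ, hτ, x₀, hx₀, hτx₀⟩ := hswap
  have hτt : ∀ x ∈ s, τ x ∈ t := (hsp τ hτ).resolve_left fun q => hτx₀ (q x₀ hx₀)
  have himg : s.image τ = t := Finset.eq_of_subset_of_card_le (Finset.image_subset_iff.2 hτt)
    (by rw [Finset.card_image_of_injective _ τ.injective, ht3, hs3])
  set B1 := B ⊓ stabSet s
  have h1 := card_le_fibre B B1 (fun σ => s.image σ) {s, t} (fun σ hσ => by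
      simp only [Finset.mem_insert, Finset.mem_singleton]
      rcases hsp σ hσ with q | q
      · exact Or.inl (Finset.eq_of_subset_of_card_le (Finset.image_subset_iff.2 q)
          (by rw [Finset.card_image_of_injective _ σ.injective]))
      · exact Or.inr (Finset.eq_of_subset_of_card_le (Finset.image_subset_iff.2 q)
          (by rw [Finset.card_image_of_injective _ σ.injective, ht3, hs3])))
    fun σ hσ σ' hσ' e => Subgroup.mem_inf.2 ⟨B.mul_mem (B.inv_mem hσ) hσ', fun x => by
      rw [Equiv.Perm.mul_apply]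
      show σ.symm (σ' x) ∈ s ↔ x ∈ s
      rw [← σ.injective.mem_finset_image (s := s) (a := σ.symm (σ' x)), σ.apply_symm_apply]
      rw [e]
      exact σ'.injective.mem_finset_image⟩
  have h2 := small_three (B := B1) (fun σ hσ => hsq σ hσ.1) hs3 fun σ hσ x hx => (hσ.2 x).2 hx
  have h3 : Nat.card ↥(B1 ⊓ fixer s) ≤ Nat.card ↥(B ⊓ fixer H) := by
    refine Nat.card_le_card_of_injective _ (Subgroup.inclusion_injective (K := B ⊓ fixer H) ?_)
    rintro σ ⟨⟨hσ, -⟩, hσs⟩
    refine ⟨hσ, fun x hx => ?_⟩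
    by_cases q : x ∈ s
    · exact hσs x q
    have : x ∈ s.image τ := himg.symm ▸ Finset.mem_sdiff.2 ⟨hx, q⟩
    obtain ⟨y, hy, rfl⟩ := Finset.mem_image.1 this
    rw [← Equiv.Perm.mul_apply, hcomm σ hσ τ hτ, Equiv.Perm.mul_apply, hσs y hy]
  have h4 : ({s, t} : Finset (Finset ι)).card ≤ 2 := Finset.card_le_two
  have h5 := Nat.mul_le_mul_right (Nat.card ↥B1) h4
  omega

/-- Few fixed elements for a group of order at least 16. -/
theorem weight (h16 : 16 ≤ Nat.card B) :
    (2 + 2 * ((invSets B 1).card + (invSets B 2).card) + (invTrios Blk B).card) * Nat.card B < 2048 := by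
  classical
  have h32 := card_le_32 h hsq haut hcomm
  obtain ⟨n, hn⟩ := exists_pow hsq
  have hB : Nat.card B = 16 ∨ Nat.card B = 32 := by
    rcases Nat.lt_or_ge n 6 with q | q
    · rw [hn] at h16 h32 ⊢
      interval_cases n
      all_goals first | omega | simp at h16 | simp
    · have := Nat.pow_le_pow_right (show 2 > 0 by norm_num) q
      omega
  set F := Finset.univ.filter fun x : ι => ∀ σ ∈ B, σ x = x
  have hmF : ∀ {x}, x ∈ F ↔ ∀ σ ∈ B, σ x = x := fun {x} => by simp [F]
  have h1 : (invSets B 1).card ≤ F.card := by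
    refine (Finset.card_le_card (t := F.image fun x => {x}) fun s hs => ?_).trans Finset.card_image_le
    obtain ⟨hc, hs'⟩ := mem_invSets.1 hs
    obtain ⟨x, rfl⟩ := Finset.card_eq_one.1 hc
    exact Finset.mem_image.2 ⟨x, hmF.2 fun σ hσ => by simpa using hs' σ hσ, rfl⟩
  -- the points outside an invariant block
  have hout : ∀ {H : Finset ι}, Blk H → ∀ p, p ∉ H → Nat.card ↥(B ⊓ fixer H) ≤ (orb B p).card :=
    fun hH p hp => le_card_orb h hsq haut hH hp
  rcases Nat.lt_or_ge F.card 3 with hF | hF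
  swap
  · obtain ⟨a, b, c, ha, hb, hc, hab, hac, hbc⟩ := three_mem hF
    obtain ⟨H, hH, hHa, hHb, hHc⟩ := h.ex hab hac hbc
    have fa := hmF.1 ha
    have fb := hmF.1 hb
    have fc := hmF.1 hc
    have hinv : ∀ σ ∈ B, ∀ x ∈ H, σ x ∈ H := fun σ hσ => block_invariant h (haut σ hσ) hH hab hac hbc hHa hHb hHc
      (by rwa [fa σ hσ]) (by rwa [fb σ hσ]) (by rwa [fc σ hσ])
    set R := ((H.erase a).erase b).erase c
    have hR : R.card = 3 := by
      rw [Finset.card_erase_of_mem (by simp only [Finset.mem_erase]; exact ⟨hbc.symm, hac.symm, hHc⟩),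
        Finset.card_erase_of_mem (Finset.mem_erase.2 ⟨hab.symm, hHb⟩), Finset.card_erase_of_mem hHa, h.six hH]
    have hRinv : ∀ σ ∈ B, ∀ x ∈ R, σ x ∈ R := by
      intro σ hσ x hx
      simp only [R, Finset.mem_erase] at hx ⊢
      exact ⟨fun e => hx.1 (σ.injective (e.trans (fc σ hσ).symm)),
        fun e => hx.2.1 (σ.injective (e.trans (fb σ hσ).symm)),
        fun e => hx.2.2.1 (σ.injective (e.trans (fa σ hσ).symm)), hinv σ hσ x hx.2.2.2⟩
    have h8 := small_three hsq hR hRinv
    have hle : Nat.card ↥(B ⊓ fixer R) ≤ Nat.card ↥(B ⊓ fixer H) := by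
      refine Nat.card_le_card_of_injective _ (Subgroup.inclusion_injective (K := B ⊓ fixer H) ?_)
      rintro σ ⟨hσ, hσR⟩
      refine ⟨hσ, fun x hx => ?_⟩
      by_cases ea : x = a; · rw [ea]; exact fa σ hσ
      by_cases eb : x = b; · rw [eb]; exact fb σ hσ
      by_cases ec : x = c; · rw [ec]; exact fc σ hσ
      exact hσR x (by simp [R, ea, eb, ec, hx])
    have hB0 : 8 ≤ Nat.card ↥(B ⊓ fixer H) := by omega
    have hsub : ∀ {s : Finset ι}, (∀ σ ∈ B, s.map σ.toEmbedding = s) → s.card < 8 → s ⊆ H := by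
      intro s hs hc8 x hx
      by_contra hxH
      have := (hout hH x hxH).trans (Finset.card_le_card (orb_subset hs hx))
      omega
    have hFH : F ⊆ H := fun x hx => by
      have := hsub (s := {x}) (fun σ hσ => by simp [hmF.1 hx σ hσ]) (by simp)
      exact this (Finset.mem_singleton_self x)
    have hF6 : F.card ≤ 6 := h.six hH ▸ Finset.card_le_card hFH
    have hF5 : Nat.card B = 32 → F.card ≤ 5 := fun e32 => by
      by_contra hcon
      have hFe : F = H := Finset.eq_of_subset_of_card_le hFH (by rw [h.six hH]; omega)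
      have hBle : Nat.card B ≤ Nat.card ↥(B ⊓ fixer H) :=
        Nat.card_le_card_of_injective _ (Subgroup.inclusion_injective (K := B ⊓ fixer H)
          fun σ hσ => ⟨hσ, fun x hx => hmF.1 (hFe ▸ hx) σ hσ⟩)
      obtain ⟨p, hp⟩ : ∃ p, p ∉ H := by
        by_contra hn'
        push Not at hn'
        have := Finset.card_le_card (s := Finset.univ) (fun y _ => hn' y)
        rw [Finset.card_univ, h.card, h.six hH] at this
        omega
      have := hBle.trans (hout hH p hp)
      have h22 := Finset.card_le_univ (orb B p)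
      rw [h.card] at h22
      omega
    have h2 : (invSets B 2).card ≤ 15 := by
      refine (Finset.card_le_card (t := H.powersetCard 2) fun s hs => ?_).trans ?_
      · obtain ⟨hc2, hs'⟩ := mem_invSets.1 hs
        exact Finset.mem_powersetCard.2 ⟨hsub hs' (by omega), hc2⟩
      · rw [Finset.card_powersetCard, h.six hH]; decide
    have h3 : (invTrios Blk B).card ≤ 20 := by
      refine (Finset.card_le_card (t := H.powersetCard 3) fun s hs => ?_).trans ?_
      · obtain ⟨H', hH', hsH', hinv', -⟩ := trio h haut hs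
        refine Finset.mem_powersetCard.2 ⟨fun x hx => ?_, (mem_invTrios.1 hs).1⟩
        by_contra hxH
        have := le_card_sdiff h hsq haut hH (S := H') (fun σ hσ => hinv' σ hσ.1) (hsH' hx) hxH
        have h6 := (Finset.card_sdiff_add_card_inter H' H).trans (h.six hH')
        omega
      · rw [Finset.card_powersetCard, h.six hH]; decide
    rcases hB with e | e
    · rw [e]; omega
    · have := hF5 e; rw [e]; omega
  -- at most two fixed points
  set P := (invSets B 2).filter fun s => ¬ s ⊆ F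
  have hP2 : (invSets B 2).card ≤ 1 + P.card := by
    have hsub : invSets B 2 ⊆ F.powersetCard 2 ∪ P := fun s hs => by
      by_cases q : s ⊆ F
      · exact Finset.mem_union_left _ (Finset.mem_powersetCard.2 ⟨q, (mem_invSets.1 hs).1⟩)
      · exact Finset.mem_union_right _ (Finset.mem_filter.2 ⟨hs, q⟩)
    refine (Finset.card_le_card hsub).trans ((Finset.card_union_le _ _).trans (Nat.add_le_add_right ?_ _))
    rw [Finset.card_powersetCard]
    interval_cases F.card <;> decide
  have hPorb : ∀ s ∈ P, ∀ x ∈ s, s = orb B x := by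
    intro s hs x hx
    obtain ⟨hs0, hsF⟩ := Finset.mem_filter.1 hs
    obtain ⟨hc2, hs'⟩ := mem_invSets.1 hs0
    refine (Finset.eq_of_subset_of_card_le (orb_subset hs' hx) ?_).symm
    by_contra hlt
    have e1 : orb B x = {x} := Finset.eq_of_superset_of_card_ge
      (Finset.singleton_subset_iff.2 (self_mem_orb x)) (by rw [Finset.card_singleton]; omega)
    refine hsF fun y hy => hmF.2 fun σ hσ => ?_
    have hxf : σ x = x := by
      have : σ x ∈ orb B x := mem_orb.2 ⟨σ, hσ, rfl⟩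
      rwa [e1, Finset.mem_singleton] at this
    by_cases q : y = x
    · rw [q, hxf]
    have hy' : σ y ∈ s := hs' σ hσ ▸ Finset.mem_map_of_mem _ hy
    obtain ⟨u, v, huv, rfl⟩ := Finset.card_eq_two.1 hc2
    simp only [Finset.mem_insert, Finset.mem_singleton] at hy hx hy'
    have hne : σ y ≠ x := fun e => q (σ.injective (e.trans hxf.symm))
    grind
  have hPd : (↑P : Set (Finset ι)).PairwiseDisjoint id := fun s hs s' hs' hne =>
    Finset.disjoint_left.2 fun x hx hx' => hne ((hPorb s hs x hx).trans (hPorb s' hs' x hx').symm)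
  have hPU : ∀ U : Finset ι, (∀ s ∈ P, s ⊆ U) → 2 * P.card ≤ U.card := by
    intro U hU
    have e := Finset.card_biUnion hPd
    rw [Finset.sum_congr rfl fun s hs =>
      (show (id s).card = 2 from (mem_invSets.1 (Finset.mem_filter.1 hs).1).1), Finset.sum_const,
      smul_eq_mul] at e
    calc 2 * P.card = (P.biUnion id).card := by rw [e, mul_comm]
      _ ≤ U.card := Finset.card_le_card (Finset.biUnion_subset.2 hU)
  by_cases hT : invTrios Blk B = ∅
  · have := hPU Finset.univ fun s _ => Finset.subset_univ s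
    rw [Finset.card_univ, h.card] at this
    rw [hT, Finset.card_empty]
    rcases hB with e | e <;> rw [e] <;> omega
  obtain ⟨s₀, hs₀⟩ := Finset.nonempty_iff_ne_empty.2 hT
  obtain ⟨H, hH, hsH, hinv, hsp⟩ := trio h haut hs₀
  have h4 := card_le_four h hsq hcomm hH hsH (mem_invTrios.1 hs₀).1 hinv hsp
  have hPH : ∀ s ∈ P, s ⊆ H := by
    intro s hs x hx
    by_contra hxH
    have := (hout hH x hxH).trans (Finset.card_le_card (hPorb s hs x hx).ge)
    rw [(mem_invSets.1 (Finset.mem_filter.1 hs).1).1] at this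
    omega
  have hP3 := hPU H hPH
  rw [h.six hH] at hP3
  -- the invariant blocks
  set I := (Finset.univ.powersetCard 6).filter fun H' => Blk H' ∧ ∀ σ ∈ B, ∀ x ∈ H', σ x ∈ H'
  have hmI : ∀ {H'}, H' ∈ I ↔ Blk H' ∧ ∀ σ ∈ B, ∀ x ∈ H', σ x ∈ H' := fun {H'} => by
    simp only [I, Finset.mem_filter, Finset.mem_powersetCard, Finset.subset_univ, true_and]
    exact ⟨fun q => q.2, fun q => ⟨h.six q.1, q⟩⟩
  have hI3 : (invTrios Blk B).card ≤ I.card * 20 := by
    refine (Finset.card_le_card (t := I.biUnion fun H' => H'.powersetCard 3) fun s hs => ?_).trans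
      ((Finset.card_biUnion_le).trans ?_)
    · obtain ⟨H', hH', hsH', hinv', -⟩ := trio h haut hs
      exact Finset.mem_biUnion.2 ⟨H', hmI.2 ⟨hH', hinv'⟩, Finset.mem_powersetCard.2 ⟨hsH', (mem_invTrios.1 hs).1⟩⟩
    · refine (Finset.sum_le_card_nsmul _ _ 20 fun H' hH' => ?_).trans (by rw [smul_eq_mul])
      rw [Finset.card_powersetCard, h.six (hmI.1 hH').1]; decide
  have hx : ∀ H' ∈ I.erase H, ∃ x, x ∈ H' ∧ x ∉ H := fun H' hH' => by
    by_contra hc
    push Not at hc
    obtain ⟨hne, hI'⟩ := Finset.mem_erase.1 hH'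
    exact hne (Finset.eq_of_subset_of_card_le hc (by rw [h.six hH, h.six (hmI.1 hI').1]))
  have hge : ∀ H' ∈ I.erase H, Nat.card ↥(B ⊓ fixer H) ≤ (H' \ H).card := fun H' hH' => by
    obtain ⟨x, hx1, hx2⟩ := hx H' hH'
    exact le_card_sdiff h hsq haut hH (S := H')
      (fun σ hσ => (hmI.1 (Finset.mem_of_mem_erase hH')).2 σ hσ.1) hx1 hx2
  rcases hB with e | e <;> rw [e] at h4 ⊢
  · have hdisj : (↑(I.erase H) : Set (Finset ι)).PairwiseDisjoint fun H' => H' \ H := by
      intro H₁ h₁ H₂ h₂ hne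
      refine Finset.disjoint_left.2 fun x hx1 hx2 => hne ?_
      rw [Finset.mem_sdiff] at hx1 hx2
      obtain ⟨i1, j1⟩ := hmI.1 (Finset.mem_of_mem_erase h₁)
      obtain ⟨i2, j2⟩ := hmI.1 (Finset.mem_of_mem_erase h₂)
      have hsub : orb B x ⊆ H₁ ∩ H₂ := fun y hy => by
        obtain ⟨σ, hσ, rfl⟩ := mem_orb.1 hy
        exact Finset.mem_inter.2 ⟨j1 σ hσ x hx1.1, j2 σ hσ x hx2.1⟩
      obtain ⟨a, b, c, ha, hb, hc, hab, hac, hbc⟩ := three_mem (S := orb B x) (by
        have := hout hH x hx1.2; omega)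
      exact h.uniq i1 i2 hab hac hbc (Finset.mem_inter.1 (hsub ha)).1 (Finset.mem_inter.1 (hsub hb)).1
        (Finset.mem_inter.1 (hsub hc)).1 (Finset.mem_inter.1 (hsub ha)).2 (Finset.mem_inter.1 (hsub hb)).2
        (Finset.mem_inter.1 (hsub hc)).2
    have hsum : (I.erase H).card * 4 ≤ 16 := by
      have h16' : ((I.erase H).biUnion fun H' => H' \ H).card ≤ 16 := by
        refine (Finset.card_le_card (t := Finset.univ \ H) (Finset.biUnion_subset.2 fun H' _ =>
          Finset.sdiff_subset_sdiff (Finset.subset_univ _) le_rfl)).trans ?_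
        rw [Finset.card_sdiff_of_subset (Finset.subset_univ H), Finset.card_univ, h.card, h.six hH]
      rw [Finset.card_biUnion hdisj] at h16'
      refine le_trans ?_ h16'
      rw [← smul_eq_mul]
      exact Finset.card_nsmul_le_sum _ _ 4 fun H' hH' => by have := hge H' hH'; omega
    have := Finset.card_erase_of_mem (hmI.2 ⟨hH, hinv⟩ : H ∈ I)
    omega
  · have hI1 : I.card ≤ 1 := by
      by_contra hcon
      obtain ⟨H', hH'⟩ : (I.erase H).Nonempty := Finset.card_pos.1 (by
        rw [Finset.card_erase_of_mem (hmI.2 ⟨hH, hinv⟩ : H ∈ I)]; omega)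
      have := hge H' hH'
      have h6 := (Finset.card_sdiff_add_card_inter H' H).trans (h.six (hmI.1 (Finset.mem_of_mem_erase hH')).1)
      omega
    omega

end CfsgLib.ThreeT.Block22
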