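import Cfsg.Agent.Spor3T.M22Order

/-!
Type M(22): at most 22 transpositions commute pairwise, and this is attained.
-/

set_option autoImplicit false
set_option linter.unusedSectionVars false
set_option linter.style.haveILetI false

namespace CfsgLib.ThreeT.Prod

variable {G : Type*} [Group G] [Finite G] {D : Set G} (h : Geo22 D)

include h

/-- No 22 neighbours commute pairwise. -/
theorem no_clique {d : G} (hd : d ∈ D) {C : Set G} (hC : C ⊆ nb D d)
    (hcC : ∀ x ∈ C, ∀ y ∈ C, Commute x y) : C.ncard ≠ 22 := by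
  classical
  haveI := Fintype.ofFinite G
  intro hn
  have hL := h.loc d hd
  set Nb := (nb D d).toFinset
  set Cf := C.toFinset
  set Out := Nb \ Cf
  have hCN : Cf ⊆ Nb := fun z hz => Set.mem_toFinset.2 (hC (Set.mem_toFinset.1 hz))
  have hCf : Cf.card = 22 := by rw [← Set.ncard_eq_toFinset_card', hn]
  have hNb : Nb.card = 693 := by rw [← Set.ncard_eq_toFinset_card', hL.card_nb]
  have hOut : Out.card = 671 := by rw [Finset.card_sdiff_of_subset hCN, hNb, hCf]
  have hadj : ∀ {x y : G}, x ∈ Cf → y ∈ Cf → Commute x y := fun hx hy =>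
    hcC _ (Set.mem_toFinset.1 hx) _ (Set.mem_toFinset.1 hy)
  have hdeg : ∀ c ∈ Cf, (Out.filter fun z => Commute z c).card = 159 := by
    intro c hc
    have h1 := hL.card_pair c (hC (Set.mem_toFinset.1 hc))
    rw [Set.ncard_eq_toFinset_card'] at h1
    have e : (Out.filter fun z => Commute z c) ∪ Cf.erase c =
        {y | y ∈ nb D d ∧ y ≠ c ∧ Commute y c}.toFinset := by
      ext z
      simp only [Finset.mem_union, Finset.mem_filter, Out, Finset.mem_sdiff, Finset.mem_erase, Set.mem_toFinset,
        Set.mem_ofPred_eq, Nb]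
      constructor
      · rintro (⟨⟨h1, h2⟩, h3⟩ | ⟨h1, h2⟩)
        · exact ⟨h1, fun e => h2 (e ▸ hc), h3⟩
        · exact ⟨hC (Set.mem_toFinset.1 h2), h1, hadj h2 hc⟩
      · rintro ⟨h1, h2, h3⟩
        by_cases hz : z ∈ Cf
        · exact Or.inr ⟨h2, hz⟩
        · exact Or.inl ⟨⟨h1, hz⟩, h3⟩
    have hdisj : Disjoint (Out.filter fun z => Commute z c) (Cf.erase c) :=
      Finset.disjoint_left.2 fun z hz hz' =>
        (Finset.mem_sdiff.1 (Finset.mem_filter.1 hz).1).2 (Finset.mem_of_mem_erase hz')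
    rw [← e, Finset.card_union_of_disjoint hdisj, Finset.card_erase_of_mem hc, hCf] at h1
    omega
  have hpair : ∀ c ∈ Cf, ∀ c' ∈ Cf, ((Out.filter fun z => Commute z c).filter fun z => Commute z c').card =
      if c = c' then 159 else 31 := by
    intro c hc c' hc'
    split_ifs with e
    · subst e; rw [Finset.filter_filter]; simp only [and_self]; exact hdeg c hc
    have h1 := hL.card_comm c (hC (Set.mem_toFinset.1 hc)) c' (hC (Set.mem_toFinset.1 hc')) e (hadj hc hc')
    rw [Set.ncard_eq_toFinset_card'] at h1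
    have e1 : ((Out.filter fun z => Commute z c).filter fun z => Commute z c') ∪ (Cf.erase c).erase c' =
        {y | y ∈ nb D d ∧ y ≠ c ∧ y ≠ c' ∧ Commute y c ∧ Commute y c'}.toFinset := by
      ext z
      simp only [Finset.mem_union, Finset.mem_filter, Out, Finset.mem_sdiff, Finset.mem_erase, Set.mem_toFinset,
        Set.mem_ofPred_eq, Nb]
      constructor
      · rintro (⟨⟨⟨h1, h2⟩, h3⟩, h4⟩ | ⟨h1, h2, h3⟩)
        · exact ⟨h1, fun e => h2 (e ▸ hc), fun e => h2 (e ▸ hc'), h3, h4⟩
        · exact ⟨hC (Set.mem_toFinset.1 h3), h2, h1, hadj h3 hc, hadj h3 hc'⟩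
      · rintro ⟨h1, h2, h3, h4, h5⟩
        by_cases hz : z ∈ Cf
        · exact Or.inr ⟨h3, h2, hz⟩
        · exact Or.inl ⟨⟨⟨h1, hz⟩, h4⟩, h5⟩
    have hdisj : Disjoint ((Out.filter fun z => Commute z c).filter fun z => Commute z c')
        ((Cf.erase c).erase c') :=
      Finset.disjoint_left.2 fun z hz hz' => (Finset.mem_sdiff.1 (Finset.mem_filter.1
        (Finset.mem_filter.1 hz).1).1).2 (Finset.mem_of_mem_erase (Finset.mem_of_mem_erase hz'))
    rw [← e1, Finset.card_union_of_disjoint hdisj,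
      Finset.card_erase_of_mem (Finset.mem_erase.2 ⟨Ne.symm e, hc'⟩), Finset.card_erase_of_mem hc, hCf] at h1
    omega
  set m : G → ℕ := fun z => (Cf.filter fun c => Commute z c).card with hm
  have hone : ∑ z ∈ Out, m z = 22 * 159 := by
    have h1 : ∑ z ∈ Out, (Cf.filter fun c => Commute z c).card =
        ∑ c ∈ Cf, (Out.filter fun z => Commute z c).card :=
      Finset.sum_card_bipartiteAbove_eq_sum_card_bipartiteBelow (fun z c => Commute z c)
    rw [Finset.sum_congr rfl hdeg, Finset.sum_const, hCf, smul_eq_mul] at h1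
    exact h1
  have htwo : ∑ z ∈ Out, m z ^ 2 = 22 * (159 + 21 * 31) := by
    have e : ∀ z, m z ^ 2 = ∑ c ∈ Cf, (if Commute z c then m z else 0) := fun z => by
      rw [← Finset.sum_filter, Finset.sum_const, smul_eq_mul, pow_two]
    have hrow : ∀ c ∈ Cf, ∑ z ∈ Out, (if Commute z c then m z else 0) = 159 + 21 * 31 := by
      intro c hc
      have h1 : ∑ z ∈ Out.filter (fun z => Commute z c), (Cf.filter fun c' => Commute z c').card =
          ∑ c' ∈ Cf, ((Out.filter fun z => Commute z c).filter fun z => Commute z c').card :=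
        Finset.sum_card_bipartiteAbove_eq_sum_card_bipartiteBelow (fun z c' => Commute z c')
      rw [← Finset.sum_filter]
      refine h1.trans ?_
      rw [Finset.sum_congr rfl (hpair c hc), ← Finset.sum_erase_add _ _ hc, if_pos rfl,
        Finset.sum_congr rfl fun c' hc' => if_neg (Finset.ne_of_mem_erase hc').symm, Finset.sum_const,
        Finset.card_erase_of_mem hc, hCf, smul_eq_mul]
    rw [Finset.sum_congr rfl fun z _ => e z, Finset.sum_comm, Finset.sum_congr rfl hrow, Finset.sum_const, hCf,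
      smul_eq_mul]
  have hcs := sq_sum_le_card_mul_sum_sq (s := Out) (f := m)
  rw [hone, htwo, hOut] at hcs
  norm_num at hcs

theorem width22 {d : G} (hd : d ∈ D) : Cfsg.commutingWidth D = 22 := by
  refine IsGreatest.csSup_eq ⟨?_, ?_⟩
  · obtain ⟨C, hC, hcC, hn⟩ := (h.loc d hd).clique
    refine ⟨insert d C, Set.insert_subset hd fun x hx => (hC hx).1, Set.toFinite _, ?_, ?_⟩
    · intro a ha b hb
      rcases ha with rfl | ha <;> rcases hb with rfl | hb
      exacts [Commute.refl _, (hC hb).2.2, (hC ha).2.2.symm, hcC a ha b hb]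
    · rw [Set.ncard_insert_of_notMem (fun hm => (hC hm).2.1 rfl) (Set.toFinite _), hn]
  · rintro n ⟨E, hE, -, hcE, rfl⟩
    by_contra hgt
    push Not at hgt
    obtain ⟨a, ha⟩ : E.Nonempty := Set.nonempty_of_ncard_ne_zero (by omega)
    have h1 : 22 ≤ (E \ {a}).ncard := by
      rw [Set.ncard_sdiff_singleton_of_mem ha]; omega
    obtain ⟨C, hC, hn⟩ := Set.exists_subset_card_eq h1
    exact no_clique h (hE ha) (C := C) (fun x hx => ⟨hE (hC hx).1, fun e => (hC hx).2 e, hcE a ha x (hC hx).1⟩)
      (fun x hx y hy => hcE x (hC hx).1 y (hC hy).1) hn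

end CfsgLib.ThreeT.Prod
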