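import Cfsg.Agent.Spor3T.M22Invol
import Cfsg.Agent.Spor3T.M22Width
import Cfsg.Agent.Spor3T.Block22Count

/-!
Type M(22): the group generated by 22 commuting transpositions is the only elementary abelian 2-subgroup of
largest order normalising it.
-/

set_option autoImplicit false
set_option linter.unusedSectionVars false
set_option linter.style.haveILetI false

namespace CfsgLib.ThreeT.Prod

variable {G : Type*} [Group G] {D C : Set G}

/-- The product of some of the commuting members. -/
noncomputable def cprod (hcC : ∀ x ∈ C, ∀ y ∈ C, Commute x y) (s : Finset ↥C) : G :=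
  s.noncommProd Subtype.val fun a _ b _ _ => hcC a a.2 b b.2

variable (hcC : ∀ x ∈ C, ∀ y ∈ C, Commute x y)

theorem cprod_toList (s : Finset ↥C) : cprod hcC s = (s.toList.map Subtype.val).prod := by
  classical
  have e : cprod hcC s = cprod hcC s.toList.toFinset := by rw [Finset.toList_toFinset]
  exact e.trans (Finset.noncommProd_toFinset _ _ _ s.nodup_toList)

include hcC in
theorem toList_props (hC : C ⊆ D) (s : Finset ↥C) :
    (s.toList.map Subtype.val).Nodup ∧ (s.toList.map Subtype.val).length = s.card ∧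
      (∀ a ∈ s.toList.map Subtype.val, a ∈ D) ∧
      ∀ a ∈ s.toList.map Subtype.val, ∀ b ∈ s.toList.map Subtype.val, Commute a b := by
  refine ⟨s.nodup_toList.map Subtype.val_injective, by rw [List.length_map, Finset.length_toList], ?_, ?_⟩
  · intro a ha
    obtain ⟨x, -, rfl⟩ := List.mem_map.1 ha
    exact hC x.2
  · intro a ha b hb
    obtain ⟨x, -, rfl⟩ := List.mem_map.1 ha
    obtain ⟨y, -, rfl⟩ := List.mem_map.1 hb
    exact hcC x x.2 y y.2

theorem mem_toList_map {s : Finset ↥C} {x : ↥C} : (x : G) ∈ s.toList.map Subtype.val ↔ x ∈ s := by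
  rw [List.mem_map_of_injective Subtype.val_injective, Finset.mem_toList]

theorem cprod_union [DecidableEq ↥C] {s t : Finset ↥C} (hd : Disjoint s t) :
    cprod hcC (s ∪ t) = cprod hcC s * cprod hcC t := Finset.noncommProd_union_of_disjoint hd _ _

theorem cprod_mem (s : Finset ↥C) : cprod hcC s ∈ Subgroup.closure C :=
  Subgroup.noncommProd_mem _ _ fun x _ => Subgroup.subset_closure x.2

theorem cprod_conj [DecidableEq ↥C] (s : Finset ↥C) (σ : Equiv.Perm ↥C) (a : G)
    (hσ : ∀ x : ↥C, (σ x : G) = a * x * a⁻¹) : cprod hcC (s.map σ.toEmbedding) = a * cprod hcC s * a⁻¹ := by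
  have e : s.map σ.toEmbedding = (s.toList.map σ).toFinset := by
    ext y; simp only [Finset.mem_map, List.mem_toFinset, List.mem_map, Finset.mem_toList]; rfl
  have e1 : cprod hcC (s.toList.map σ).toFinset = ((s.toList.map σ).map Subtype.val).prod :=
    Finset.noncommProd_toFinset _ _ _ (s.nodup_toList.map σ.injective)
  rw [e, e1, cprod_toList]
  show _ = MulAut.conj a (List.map _ _).prod
  rw [map_list_prod, List.map_map, List.map_map]
  congr 1
  exact List.map_congr_left fun x _ => hσ x

/-- A list inside the set of members. -/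
theorem exists_cprod [Finite G] {l : List G} (hn : l.Nodup) (hl : ∀ x ∈ l, x ∈ C) :
    ∃ t : Finset ↥C, (∀ x : ↥C, x ∈ t ↔ (x : G) ∈ l) ∧ t.card = l.length ∧ cprod hcC t = l.prod := by
  classical
  haveI := Fintype.ofFinite ↥C
  set t := Finset.univ.filter fun x : ↥C => (x : G) ∈ l
  have hp : (t.toList.map Subtype.val).Perm l := by
    refine (List.perm_ext_iff_of_nodup (t.nodup_toList.map Subtype.val_injective) hn).2 fun y => ?_
    constructor
    · intro hy
      obtain ⟨x, hx, rfl⟩ := List.mem_map.1 hy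
      exact (Finset.mem_filter.1 (Finset.mem_toList.1 hx)).2
    · intro hy
      exact List.mem_map.2 ⟨⟨y, hl y hy⟩, Finset.mem_toList.2 (Finset.mem_filter.2 ⟨Finset.mem_univ _, hy⟩), rfl⟩
  refine ⟨t, fun x => by simp [t], by rw [← hp.length_eq, List.length_map, Finset.length_toList], ?_⟩
  rw [cprod_toList]
  exact hp.prod_eq' (List.pairwise_of_forall_mem_list fun x hx y hy =>
    hcC x (hl x (hp.mem_iff.1 hx)) y (hl y (hp.mem_iff.1 hy)))

variable [Finite G] (h : Geo22 D) (hp : Cfsg.IsPrimitiveUnderConj D) (ht : Cfsg.IsOfTypeM22 G D) (hC : C ⊆ D)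

include hC hcC

theorem facs_cprod (s : Finset ↥C) : Facs D s.card (cprod hcC s) := by
  obtain ⟨h1, h2, h3, h4⟩ := toList_props hcC hC s
  exact ⟨_, h1, h2, h3, h4, (cprod_toList hcC s).symm⟩

include h

theorem cprod_sq (s : Finset ↥C) : cprod hcC s * cprod hcC s = 1 := by
  rw [cprod_toList]
  exact sq_prod h (toList_props hcC hC s).2.2.1 (toList_props hcC hC s).2.2.2

theorem cprod_three {s t t' : Finset ↥C} (hs : s.card = 3) (ht1 : t.card = 3) (ht2 : t'.card = 3)
    (e1 : cprod hcC t = cprod hcC s) (e2 : cprod hcC t' = cprod hcC s) (n1 : t ≠ s) (n2 : t' ≠ s) : t = t' := by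
  classical
  have htr : ∀ u : Finset ↥C, u.card = 3 → Triple D (u.toList.map Subtype.val) := fun u hu => by
    obtain ⟨h1, h2, h3, h4⟩ := toList_props hcC hC u
    exact ⟨h1, h2.trans hu, h3, h4⟩
  obtain ⟨l₁, l₂, -, -, -, hall⟩ := two_triples h.toSetup22 (htr s hs)
  have hcl : ∀ u : Finset ↥C, u.card = 3 → cprod hcC u = cprod hcC s →
      (∀ x : ↥C, x ∈ u ↔ (x : G) ∈ l₁) ∨ ∀ x : ↥C, x ∈ u ↔ (x : G) ∈ l₂ := fun u hu e =>
    (hall _ (htr u hu) (by rw [← cprod_toList hcC, ← cprod_toList hcC, e])).imp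
      (fun q x => by rw [← mem_toList_map (s := u), q]) fun q x => by rw [← mem_toList_map (s := u), q]
  rcases hcl s hs rfl with a | a <;> rcases hcl t ht1 e1 with b | b <;> rcases hcl t' ht2 e2 with c | c <;>
    first
      | exact absurd (Finset.ext fun x => (b x).trans (a x).symm) n1
      | exact absurd (Finset.ext fun x => (c x).trans (a x).symm) n2
      | exact Finset.ext fun x => (b x).trans (c x).symm

theorem cprod_disjoint {s t : Finset ↥C} (hs : s.card = 3) (ht3 : t.card = 3) (e : cprod hcC t = cprod hcC s)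
    (hne : t ≠ s) : Disjoint s t := by
  classical
  obtain ⟨a1, a2, a3, a4⟩ := toList_props hcC hC s
  obtain ⟨b1, b2, b3, b4⟩ := toList_props hcC hC t
  rcases triple_eq_or_disjoint h.tt h.twinFree h.ne_one ⟨a1, a2.trans hs, a3, a4⟩ ⟨b1, b2.trans ht3, b3, b4⟩
      (by rw [← cprod_toList hcC, ← cprod_toList hcC, e]) with q | ⟨q, -⟩
  · exact absurd (Finset.ext fun x => by rw [← mem_toList_map (s := t), ← q, mem_toList_map]) hne
  · exact Finset.disjoint_left.2 fun x hx hx' => q x (mem_toList_map.2 hx) (mem_toList_map.2 hx')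

include hp ht

theorem cprod_ne_one {s : Finset ↥C} (h1 : 1 ≤ s.card) (h3 : s.card ≤ 3) : cprod hcC s ≠ 1 := fun e => by
  have := facs_invol h h1 h3 (facs_cprod hcC hC s)
  rw [e, orderOf_one] at this
  exact absurd this (by norm_num)

theorem cprod_card {s t : Finset ↥C} (h1 : 1 ≤ s.card) (h3 : s.card ≤ 3) (h1' : 1 ≤ t.card) (h3' : t.card ≤ 3)
    (e : cprod hcC s = cprod hcC t) : s.card = t.card :=
  facs_unique h hp ht h1 h3 h1' h3' (facs_cprod hcC hC s) (e ▸ facs_cprod hcC hC t)

theorem cprod_short {s t : Finset ↥C} (h1 : 1 ≤ s.card) (h2 : s.card ≤ 2) (h1' : 1 ≤ t.card) (h3' : t.card ≤ 3)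
    (e : cprod hcC s = cprod hcC t) : s = t := by
  have hc := cprod_card hcC h hp ht hC h1 (by omega) h1' h3' e
  rcases Nat.lt_or_ge s.card 2 with q | q
  · obtain ⟨a, rfl⟩ := Finset.card_eq_one.1 (show s.card = 1 by omega)
    obtain ⟨b, rfl⟩ := Finset.card_eq_one.1 (show t.card = 1 by omega)
    simp [cprod] at e
    rw [Subtype.ext e]
  · obtain ⟨a1, a2, a3, a4⟩ := toList_props hcC hC s
    obtain ⟨b1, b2, b3, b4⟩ := toList_props hcC hC t
    have := uniq_two h.tt h.twinFree h.ne_one ⟨a1, a2.trans (by omega), a3, a4⟩ ⟨b1, b2.trans (by omega), b3, b4⟩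
      (by rw [← cprod_toList hcC, ← cprod_toList hcC, e])
    exact Finset.ext fun x => by rw [← mem_toList_map (s := s), this, mem_toList_map]

variable (hn : C.ncard = 22)

omit hp ht in
include hn in
theorem clique_max {x : G} (hx : x ∈ D) (hxc : ∀ v ∈ C, Commute x v) : x ∈ C := by
  by_contra hxC
  have hb : BddAbove {n : ℕ | ∃ E : Set G, E ⊆ D ∧ E.Finite ∧ (∀ a ∈ E, ∀ b ∈ E, Commute a b) ∧ E.ncard = n} :=
    ⟨D.ncard, fun n ⟨E, hE, _, _, e⟩ => e ▸ Set.ncard_le_ncard hE (Set.toFinite _)⟩
  have h23 : 23 ≤ Cfsg.commutingWidth D := le_csSup hb ⟨insert x C, Set.insert_subset hx hC, Set.toFinite _, by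
    intro a ha b hb
    rcases ha with rfl | ha <;> rcases hb with rfl | hb
    exacts [Commute.refl _, hxc b hb, (hxc a ha).symm, hcC a ha b hb], by
    rw [Set.ncard_insert_of_notMem hxC (Set.toFinite _), hn]⟩
  rw [width22 h hx] at h23
  omega

include hn

/-- Involutions centralising all the members are products of some of them. -/
theorem exists_short_cprod {x : G} (hx2 : x * x = 1) (hx1 : x ≠ 1) (hxc : ∀ v ∈ C, Commute x v) :
    ∃ s : Finset ↥C, 1 ≤ s.card ∧ s.card ≤ 3 ∧ cprod hcC s = x := by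
  obtain ⟨m, h1, h3, l, hl, rfl, hm, hc, rfl⟩ := invol_short h hp ht hx2 hx1
  have hin : ∀ a ∈ l, a ∈ C := by
    intro a ha
    refine clique_max hcC h hC hn (hm a ha) fun v hv => ?_
    have hv' := hxc v hv
    rcases Nat.lt_or_ge l.length 2 with q | q
    · obtain ⟨b, rfl⟩ := List.length_eq_one_iff.1 (show l.length = 1 by omega)
      rw [List.mem_singleton.1 ha]; simpa using hv'
    rcases Nat.lt_or_ge l.length 3 with q' | q'
    · obtain ⟨b, c, rfl⟩ := List.length_eq_two.1 (show l.length = 2 by omega)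
      have hne : b ≠ c := by simpa using hl
      have := (commute_mul_iff0 h.tt (hm b (by simp)) (hm c (by simp)) (hC hv) (hc b (by simp) c (by simp)) hne).1
        (by simpa using hv')
      simp only [List.mem_cons, List.not_mem_nil, or_false] at ha
      rcases ha with rfl | rfl
      exacts [this.1, this.2]
    · obtain ⟨b, c, e, rfl⟩ := List.length_eq_three.1 (show l.length = 3 by omega)
      have hne : b ≠ c ∧ b ≠ e ∧ c ≠ e := by simpa [List.nodup_cons, and_assoc] using hl
      have := (commute_triple_iff h.tt (hm b (by simp)) (hm c (by simp)) (hm e (by simp)) (hC hv)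
        (hc b (by simp) c (by simp)) (hc b (by simp) e (by simp)) (hc c (by simp) e (by simp))
        hne.1 hne.2.1 hne.2.2).1 (by simpa [mul_assoc] using hv')
      simp only [List.mem_cons, List.not_mem_nil, or_false] at ha
      rcases ha with rfl | rfl | rfl
      exacts [this.1, this.2.1, this.2.2]
  obtain ⟨t, -, ht', e⟩ := exists_cprod hcC hl hin
  exact ⟨t, by omega, by omega, e⟩

omit hn
variable [Fintype ↥C] [DecidableEq ↥C]

/-- The blocks: six members with product one. -/
def IsBlock (hcC : ∀ x ∈ C, ∀ y ∈ C, Commute x y) (H : Finset ↥C) : Prop := H.card = 6 ∧ cprod hcC H = 1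

omit hp ht in
theorem block_of_pair {s t : Finset ↥C} (hs : s.card = 3) (ht3 : t.card = 3) (e : cprod hcC t = cprod hcC s)
    (hne : t ≠ s) : Disjoint s t ∧ IsBlock hcC (s ∪ t) := by
  have hd := cprod_disjoint hcC h hC hs ht3 e hne
  refine ⟨hd, by rw [Finset.card_union_of_disjoint hd, hs, ht3], ?_⟩
  rw [cprod_union hcC hd, e, cprod_sq hcC h hC]

omit hp ht in
include hn in
theorem sys22 : Block22.Sys (IsBlock hcC) := by
  classical
  refine ⟨by rw [← Nat.card_eq_fintype_card, Nat.card_coe_set_eq, hn], fun hH => hH.1, ?_, ?_⟩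
  · intro a b c hab hac hbc
    set s : Finset ↥C := {a, b, c}
    have hs : s.card = 3 := Finset.card_eq_three.2 ⟨a, b, c, hab, hac, hbc, rfl⟩
    obtain ⟨h1, h2, h3, h4⟩ := toList_props hcC hC s
    obtain ⟨l₁, l₂, ⟨hl₁, e₁⟩, ⟨hl₂, e₂⟩, hne, -⟩ := two_triples h.toSetup22 (l₀ := s.toList.map Subtype.val)
      ⟨h1, h2.trans hs, h3, h4⟩
    have hin : ∀ l : List G, Triple D l → l.prod = cprod hcC s → ∀ x ∈ l, x ∈ C := by
      intro l hl e x hx
      refine clique_max hcC h hC hn (hl.2.2.1 x hx) fun v hv => ?_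
      have hv' : Commute l.prod v := by
        rw [e]
        exact (Finset.noncommProd_commute s Subtype.val _ v fun y _ => hcC v hv y y.2).symm
      obtain ⟨p, q, r, rfl⟩ := List.length_eq_three.1 hl.2.1
      have hn' : p ≠ q ∧ p ≠ r ∧ q ≠ r := by simpa [List.nodup_cons, and_assoc] using hl.1
      have := (commute_triple_iff h.tt (hl.2.2.1 p (by simp)) (hl.2.2.1 q (by simp)) (hl.2.2.1 r (by simp)) (hC hv)
        (hl.2.2.2 p (by simp) q (by simp)) (hl.2.2.2 p (by simp) r (by simp)) (hl.2.2.2 q (by simp) r (by simp))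
        hn'.1 hn'.2.1 hn'.2.2).1 (by simpa [mul_assoc] using hv')
      simp only [List.mem_cons, List.not_mem_nil, or_false] at hx
      rcases hx with rfl | rfl | rfl
      exacts [this.1, this.2.1, this.2.2]
    rw [← cprod_toList hcC] at e₁ e₂
    obtain ⟨t₁, m₁, c₁, p₁⟩ := exists_cprod hcC hl₁.1 (hin l₁ hl₁ e₁)
    obtain ⟨t₂, m₂, c₂, p₂⟩ := exists_cprod hcC hl₂.1 (hin l₂ hl₂ e₂)
    obtain ⟨t, ht3, hte, htn⟩ : ∃ t : Finset ↥C, t.card = 3 ∧ cprod hcC t = cprod hcC s ∧ t ≠ s := by
      by_cases q : t₁ = s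
      · refine ⟨t₂, c₂.trans hl₂.2.1, p₂.trans e₂, fun q' => hne fun x => ?_⟩
        by_cases hxC : x ∈ C
        · rw [← m₁ ⟨x, hxC⟩, ← m₂ ⟨x, hxC⟩, q, q']
        · exact iff_of_false (fun r => hxC (hin l₁ hl₁ e₁ x r)) (fun r => hxC (hin l₂ hl₂ e₂ x r))
      · exact ⟨t₁, c₁.trans hl₁.2.1, p₁.trans e₁, q⟩
    obtain ⟨-, hb⟩ := block_of_pair hcC h hC hs ht3 hte htn
    exact ⟨s ∪ t, hb, by simp [s], by simp [s], by simp [s]⟩
  · intro H H' hH hH' a b c hab hac hbc ha hb hc ha' hb' hc'
    set s : Finset ↥C := {a, b, c}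
    have hs : s.card = 3 := Finset.card_eq_three.2 ⟨a, b, c, hab, hac, hbc, rfl⟩
    have key : ∀ {H : Finset ↥C}, IsBlock hcC H → s ⊆ H →
        (H \ s).card = 3 ∧ cprod hcC (H \ s) = cprod hcC s ∧ H \ s ≠ s ∧ s ∪ H \ s = H := by
      intro H hH hsub
      have e := Finset.union_sdiff_of_subset hsub
      have h1 : (H \ s).card = 3 := by rw [Finset.card_sdiff_of_subset hsub, hH.1, hs]
      refine ⟨h1, ?_, fun q => ?_, e⟩
      · have := hH.2
        rw [← e, cprod_union hcC Finset.disjoint_sdiff] at this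
        rw [← mul_eq_one_iff_inv_eq.1 this]
        exact mul_eq_one_iff_inv_eq.1 (cprod_sq hcC h hC s)
      · have hm : a ∈ H \ s := by rw [q]; simp [s]
        exact (Finset.mem_sdiff.1 hm).2 (by simp [s])
    obtain ⟨c1, e1, n1, u1⟩ := key hH (by simp [s, Finset.insert_subset_iff, ha, hb, hc])
    obtain ⟨c2, e2, n2, u2⟩ := key hH' (by simp [s, Finset.insert_subset_iff, ha', hb', hc'])
    rw [← u1, ← u2, cprod_three hcC h hC hs c1 c2 e1 e2 n1 n2]

include hn in
/-- The members generate at least 1024 elements. -/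
theorem card_closure_ge : 1024 ≤ Nat.card ↥(Subgroup.closure C) := by
  classical
  haveI := Fintype.ofFinite G
  set P := fun k => (Finset.univ : Finset ↥C).powersetCard k
  set f := cprod hcC
  have hcard : ∀ k, (P k).card = Nat.choose 22 k := fun k => by
    rw [Finset.card_powersetCard, Finset.card_univ, (sys22 hcC h hC hn).card]
  have hm : ∀ {k s}, s ∈ P k → s.card = k := fun hs => (Finset.mem_powersetCard.1 hs).2
  have i1 : ((P 1 ∪ P 2).image f).card = (P 1 ∪ P 2).card := Finset.card_image_of_injOn fun s hs t ht' e => by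
    simp only [Finset.coe_union, Set.mem_union, Finset.mem_coe] at hs ht'
    rcases hs with q | q <;> rcases ht' with q' | q' <;>
      exact cprod_short hcC h hp ht hC (by have := hm q; omega) (by have := hm q; omega) (by have := hm q'; omega)
        (by have := hm q'; omega) e
  have i3 : (P 3).card ≤ 2 * ((P 3).image f).card := by
    refine Finset.card_le_mul_card_image _ 2 fun y hy => ?_
    obtain ⟨s, hs, rfl⟩ := Finset.mem_image.1 hy
    set R := (P 3).filter fun a => f a = f s
    have hle : (R.erase s).card ≤ 1 := Finset.card_le_one.2 fun a ha b hb => by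
      simp only [R, Finset.mem_erase, Finset.mem_filter] at ha hb
      exact cprod_three hcC h hC (hm hs) (hm ha.2.1) (hm hb.2.1) ha.2.2 hb.2.2 ha.1 hb.1
    have := Finset.pred_card_le_card_erase (a := s) (s := R)
    omega
  have hd : Disjoint ((P 1 ∪ P 2).image f) ((P 3).image f) := Finset.disjoint_left.2 fun y hy hy' => by
    obtain ⟨s, hs, rfl⟩ := Finset.mem_image.1 hy
    obtain ⟨t, ht', e⟩ := Finset.mem_image.1 hy'
    have h12 : s.card = 1 ∨ s.card = 2 := (Finset.mem_union.1 hs).imp hm hm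
    have := cprod_card hcC h hp ht hC (by omega) (by omega) (by rw [hm ht']; norm_num) (by rw [hm ht']) e.symm
    rw [hm ht'] at this
    omega
  have hone : (1 : G) ∉ (P 1 ∪ P 2).image f ∪ (P 3).image f := by
    simp only [Finset.mem_union, Finset.mem_image, not_or, not_exists, not_and]
    exact ⟨fun s hs => cprod_ne_one hcC h hp ht hC (by rcases hs with q | q <;> rw [hm q] <;> norm_num)
      (by rcases hs with q | q <;> rw [hm q] <;> norm_num),
      fun s hs => cprod_ne_one hcC h hp ht hC (by rw [hm hs]; norm_num) (by rw [hm hs])⟩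
  have hsub : insert 1 ((P 1 ∪ P 2).image f ∪ (P 3).image f) ⊆
      Finset.univ.filter fun x => x ∈ Subgroup.closure C := by
    intro x hx
    refine Finset.mem_filter.2 ⟨Finset.mem_univ x, ?_⟩
    simp only [Finset.mem_insert, Finset.mem_union, Finset.mem_image] at hx
    rcases hx with rfl | ⟨s, -, rfl⟩ | ⟨s, -, rfl⟩
    exacts [one_mem _, cprod_mem hcC s, cprod_mem hcC s]
  have := Finset.card_le_card hsub
  rw [Finset.card_insert_of_notMem hone, Finset.card_union_of_disjoint hd, i1, Finset.card_union_of_disjoint (by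
    exact Finset.disjoint_left.2 fun s hs hs' => absurd ((hm hs).symm.trans (hm hs')) (by norm_num)), hcard,
    hcard] at this
  rw [hcard] at i3
  rw [Nat.card_eq_fintype_card, Fintype.card_subtype]
  simp only [show Nat.choose 22 1 = 22 from rfl, show Nat.choose 22 2 = 231 by decide] at this
  rw [show Nat.choose 22 3 = 1540 by decide] at i3
  omega

include hn in
/-- No other elementary abelian group normalising the members is as large. -/
theorem offender {A : Subgroup G} (hA : ∀ a ∈ A, ∀ b ∈ A, Commute a b) (hA2 : ∀ a ∈ A, a * a = 1)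
    (hnorm : ∀ a ∈ A, ∀ x ∈ C, a * x * a⁻¹ ∈ C) (hne : ¬ A ≤ Subgroup.closure C) :
    Nat.card ↥A < Nat.card ↥(Subgroup.closure C) := by
  classical
  haveI := Fintype.ofFinite G
  set K := Subgroup.closure C
  let φ : ↥A →* Equiv.Perm ↥C :=
    { toFun := fun a => Equiv.mk (fun x => ⟨a * x * (a : G)⁻¹, hnorm a a.2 x x.2⟩)
        (fun x => ⟨(a : G)⁻¹ * x * (a : G)⁻¹⁻¹, hnorm _ (inv_mem a.2) x x.2⟩)
        (fun x => Subtype.ext (by simp [mul_assoc])) (fun x => Subtype.ext (by simp [mul_assoc]))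
      map_one' := Equiv.ext fun x => Subtype.ext (by simp)
      map_mul' := fun a b => Equiv.ext fun x => Subtype.ext (by simp [mul_assoc]) }
  set B := φ.range
  have hφ : ∀ (a : ↥A) (x : ↥C), (φ a x : G) = a * x * (a : G)⁻¹ := fun a x => rfl
  have hsq : ∀ σ ∈ B, σ * σ = 1 := by
    rintro _ ⟨a, rfl⟩
    rw [← map_mul, show a * a = 1 from Subtype.ext (hA2 a a.2), map_one]
  have hcomm : ∀ σ ∈ B, ∀ τ ∈ B, σ * τ = τ * σ := by
    rintro _ ⟨a, rfl⟩ _ ⟨b, rfl⟩
    rw [← map_mul, ← map_mul, show a * b = b * a from Subtype.ext (hA a a.2 b b.2)]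
  have haut : ∀ σ ∈ B, Block22.Aut (IsBlock hcC) σ := by
    rintro _ ⟨a, rfl⟩ H hH
    exact ⟨by rw [Finset.card_map, hH.1], by
      rw [cprod_conj hcC H _ _ (hφ a), hH.2, mul_one, mul_inv_cancel]⟩
  have hS := sys22 hcC h hC hn
  have hker : ∀ a ∈ φ.ker, (a : G) ∈ K := by
    intro a ha
    by_cases e : (a : G) = 1
    · rw [e]; exact one_mem _
    obtain ⟨s, -, -, q⟩ := exists_short_cprod hcC h hp ht hC hn (hA2 a a.2) e fun v hv =>
      mul_inv_eq_iff_eq_mul.1 (congrArg Subtype.val (Equiv.congr_fun (MonoidHom.mem_ker.1 ha) ⟨v, hv⟩))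
    rw [← q]; exact cprod_mem hcC s
  have hcardA : Nat.card ↥A = Nat.card ↥φ.ker * Nat.card ↥B := by
    rw [Subgroup.card_eq_card_quotient_mul_card_subgroup φ.ker,
      Nat.card_congr (QuotientGroup.quotientKerEquivRange φ).toEquiv, mul_comm]
  have hK1024 := card_closure_ge hcC h hp ht hC hn
  have hcKC : ∀ k ∈ K, ∀ v ∈ C, Commute k v := fun k hk v hv => (commute_of_closure
    (fun y hy => hcC y hy v hv) k hk)
  rcases Nat.lt_or_ge (Nat.card ↥B) 16 with hB | hB
  swap
  · -- count the fixed elements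
    have hw := Block22.weight hS hsq haut hcomm hB
    set I3 := Block22.invTrios (IsBlock hcC) B
    have hfib : 2 * (I3.image (cprod hcC)).card ≤ I3.card := by
      refine Finset.mul_card_image_le_card _ 2 fun y hy => ?_
      obtain ⟨s, hs, rfl⟩ := Finset.mem_image.1 hy
      obtain ⟨H, hH, hsH, hinv, hsp⟩ := Block22.trio hS haut hs
      have hs3 := (Block22.mem_invTrios.1 hs).1
      set t := H \ s
      have ht3 : t.card = 3 := by rw [Finset.card_sdiff_of_subset hsH, hH.1, hs3]
      have hst : s ∪ t = H := Finset.union_sdiff_of_subset hsH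
      have e : cprod hcC t = cprod hcC s := by
        have := hH.2
        rw [← hst, cprod_union hcC Finset.disjoint_sdiff] at this
        rw [← mul_eq_one_iff_inv_eq.1 this]
        exact mul_eq_one_iff_inv_eq.1 (cprod_sq hcC h hC s)
      have ht' : t ∈ I3 := by
        refine Block22.mem_invTrios.2 ⟨ht3, fun σ hσ => ?_⟩
        have hss : ∀ x, σ (σ x) = x := fun x => by rw [← Equiv.Perm.mul_apply, hsq σ hσ]; rfl
        rcases hsp σ hσ with q | q
        · left
          refine Finset.eq_of_subset_of_card_le (fun y hy => ?_) (by rw [Finset.card_map])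
          obtain ⟨x, hx, rfl⟩ := Finset.mem_map.1 hy
          obtain ⟨hxH, hxs⟩ := Finset.mem_sdiff.1 hx
          refine Finset.mem_sdiff.2 ⟨hinv σ hσ x hxH, fun r => hxs ?_⟩
          have := q _ r
          rwa [Equiv.toEmbedding_apply, hss] at this
        · right
          have e' : t.map σ.toEmbedding = s := by
            refine (Finset.eq_of_subset_of_card_le (fun x hx => ?_) (by rw [Finset.card_map, ht3, hs3])).symm
            exact Finset.mem_map.2 ⟨σ x, q x hx, hss x⟩
          rw [e', Finset.union_comm, hst]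
          exact ⟨Finset.sdiff_disjoint, hH⟩
      have hne' : t ≠ s := fun r => by
        obtain ⟨x, hx⟩ : s.Nonempty := Finset.card_pos.1 (by rw [hs3]; norm_num)
        have hxt : x ∈ t := by rw [r]; exact hx
        exact (Finset.mem_sdiff.1 hxt).2 hx
      refine le_trans (Finset.card_pair hne').ge (Finset.card_le_card ?_)
      simp only [Finset.insert_subset_iff, Finset.singleton_subset_iff, Finset.mem_filter]
      exact ⟨⟨ht', e⟩, hs, trivial⟩
    set U := insert (1 : G) ((Block22.invSets B 1).image (cprod hcC) ∪ (Block22.invSets B 2).image (cprod hcC) ∪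
      I3.image (cprod hcC))
    have hmem : ∀ a ∈ φ.ker, (a : G) ∈ U := by
      intro a ha
      by_cases e : (a : G) = 1
      · rw [e]; exact Finset.mem_insert_self _ _
      obtain ⟨s, h1, h3, q⟩ := exists_short_cprod hcC h hp ht hC hn (hA2 a a.2) e fun v hv =>
        hcKC _ (hker a ha) v hv
      have hfix : ∀ σ ∈ B, cprod hcC (s.map σ.toEmbedding) = cprod hcC s := by
        rintro _ ⟨b, rfl⟩
        rw [cprod_conj hcC s _ _ (hφ b), q, (hA b b.2 a a.2).eq, mul_inv_cancel_right]
      refine Finset.mem_insert_of_mem ?_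
      rw [← q]
      rcases Nat.lt_or_ge s.card 3 with h2 | h2
      · refine Finset.mem_union_left _ ?_
        have : ∀ σ ∈ B, s.map σ.toEmbedding = s := fun σ hσ =>
          cprod_short hcC h hp ht hC (by rwa [Finset.card_map]) (by rw [Finset.card_map]; omega) h1 h3 (hfix σ hσ)
        rcases Nat.lt_or_ge s.card 2 with h4 | h4
        · exact Finset.mem_union_left _ (Finset.mem_image_of_mem _ (Block22.mem_invSets.2 ⟨by omega, this⟩))
        · exact Finset.mem_union_right _ (Finset.mem_image_of_mem _ (Block22.mem_invSets.2 ⟨by omega, this⟩))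
      · refine Finset.mem_union_right _ (Finset.mem_image_of_mem _ (Block22.mem_invTrios.2 ⟨by omega, fun σ hσ => ?_⟩))
        by_cases r : s.map σ.toEmbedding = s
        · exact Or.inl r
        · exact Or.inr (block_of_pair hcC h hC (by omega) (by rw [Finset.card_map]; omega) (hfix σ hσ) r)
    have hle : Nat.card ↥φ.ker ≤ U.card := by
      rw [← Fintype.card_coe U, ← Nat.card_eq_fintype_card]
      exact Nat.card_le_card_of_injective (fun a => (⟨((a : ↥A) : G), hmem a a.2⟩ : ↥U))
        fun a b e => Subtype.ext (Subtype.ext (congrArg (fun z : ↥U => (z : G)) e))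
    have hU : 2 * U.card ≤ 2 + 2 * ((Block22.invSets B 1).card + (Block22.invSets B 2).card) + I3.card := by
      have a1 := Finset.card_insert_le (1 : G) ((Block22.invSets B 1).image (cprod hcC) ∪
        (Block22.invSets B 2).image (cprod hcC) ∪ I3.image (cprod hcC))
      have a2 := Finset.card_union_le ((Block22.invSets B 1).image (cprod hcC) ∪
        (Block22.invSets B 2).image (cprod hcC)) (I3.image (cprod hcC))
      have a3 := Finset.card_union_le ((Block22.invSets B 1).image (cprod hcC))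
        ((Block22.invSets B 2).image (cprod hcC))
      have a4 := Finset.card_image_le (s := Block22.invSets B 1) (f := cprod hcC)
      have a5 := Finset.card_image_le (s := Block22.invSets B 2) (f := cprod hcC)
      simp only [U]
      omega
    have h2A : 2 * Nat.card ↥A < 2048 :=
      calc 2 * Nat.card ↥A = 2 * Nat.card ↥φ.ker * Nat.card ↥B := by rw [hcardA, mul_assoc]
        _ ≤ _ := Nat.mul_le_mul_right _ ((Nat.mul_le_mul_left 2 hle).trans hU)
        _ < 2048 := hw
    exact lt_of_lt_of_le (by omega) hK1024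
  -- an element moving something
  obtain ⟨a, ha⟩ : ∃ a : ↥A, a ∉ φ.ker := by
    by_contra hc
    push Not at hc
    exact hne fun a ha => hker ⟨a, ha⟩ (hc _)
  have hσ1 : φ a ≠ 1 := fun e => ha (MonoidHom.mem_ker.2 e)
  have hσB : φ a ∈ B := ⟨a, rfl⟩
  have hM := Block22.moved_card hS (haut _ hσB) (hsq _ hσB) hσ1
  have hKC : ∀ k ∈ K, ∀ l ∈ K, Commute k l := fun k hk l hl =>
    (commute_of_closure (fun y hy => (hcKC k hk y hy).symm) l hl).symm
  have hKa : ∀ k ∈ K, (a : G) * k * (a : G)⁻¹ ∈ K := by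
    intro k hk
    induction hk using Subgroup.closure_induction with
    | mem x hx => exact Subgroup.subset_closure (hnorm a a.2 x hx)
    | one => simp
    | mul x y _ _ hx hy => simpa [mul_assoc] using mul_mem hx hy
    | inv x _ hx => simpa [mul_assoc] using inv_mem hx
  let ψ : ↥K →* G :=
    { toFun := fun k => k * (a * k * (a : G)⁻¹)
      map_one' := by simp
      map_mul' := fun k l => by
        show (k : G) * l * (a * (k * l) * (a : G)⁻¹) = k * (a * k * (a : G)⁻¹) * (l * (a * l * (a : G)⁻¹))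
        rw [show (a : G) * (k * l) * (a : G)⁻¹ = a * k * (a : G)⁻¹ * (a * l * (a : G)⁻¹) by group,
          mul_assoc (k : G) l, ← mul_assoc (l : G), (hKC l l.2 _ (hKa k k.2)).eq]
        group }
  have hK2 : ∀ k ∈ K, k * k = 1 := by
    intro k hk
    induction hk using Subgroup.closure_induction with
    | mem x hx => exact h.tt.sq x (hC hx)
    | one => simp
    | mul x y hx' hy' hx hy =>
      rw [show x * y * (x * y) = x * (y * x) * y by group, (hKC y hy' x hx').eq,
        show x * (x * y) * y = x * x * (y * y) by group, hx, hy, one_mul]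
    | inv x _ hx => rw [← mul_inv_rev, hx, inv_one]
  have hcardK : Nat.card ↥K = Nat.card ↥ψ.ker * Nat.card ↥ψ.range := by
    rw [Subgroup.card_eq_card_quotient_mul_card_subgroup ψ.ker,
      Nat.card_congr (QuotientGroup.quotientKerEquivRange ψ).toEquiv, mul_comm]
  let ι' : ↥φ.ker → ↥ψ.ker := fun b => ⟨⟨((b : ↥A) : G), hker b b.2⟩, MonoidHom.mem_ker.2 (by
    show ((b : ↥A) : G) * ((a : G) * ((b : ↥A) : G) * (a : G)⁻¹) = 1
    rw [(hA a a.2 _ (b : ↥A).2).eq, mul_inv_cancel_right, hA2 _ (b : ↥A).2])⟩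
  have hι : Function.Injective ι' := fun b b' e =>
    Subtype.ext (Subtype.ext (congrArg (fun z : ↥ψ.ker => ((z : ↥K) : G)) e))
  have hkle : Nat.card ↥φ.ker ≤ Nat.card ↥ψ.ker := Nat.card_le_card_of_injective ι' hι
  -- the commutators
  set M := Finset.univ.filter fun x : ↥C => ¬ φ a x = x
  set R := M.image fun x : ↥C => cprod hcC {x, φ a x}
  have hfib : M.card ≤ 2 * R.card := by
    refine Finset.card_le_mul_card_image _ 2 fun y hy => ?_
    obtain ⟨x, hx, rfl⟩ := Finset.mem_image.1 hy
    refine (Finset.card_le_card (t := {x, φ a x}) fun z hz => ?_).trans Finset.card_le_two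
    obtain ⟨hz, e⟩ := Finset.mem_filter.1 hz
    have h2 : ∀ {u : ↥C}, u ∈ M → ({u, φ a u} : Finset ↥C).card = 2 := fun hu =>
      Finset.card_pair (fun q => (Finset.mem_filter.1 hu).2 q.symm)
    have := cprod_short hcC h hp ht hC (by rw [h2 hz]; norm_num) (by rw [h2 hz]) (by rw [h2 hx]; norm_num)
      (by rw [h2 hx]; norm_num) e
    rw [← this]; simp
  have hsub : insert (1 : G) R ⊆ Finset.univ.filter fun y => y ∈ ψ.range := by
    intro y hy
    refine Finset.mem_filter.2 ⟨Finset.mem_univ y, ?_⟩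
    rcases Finset.mem_insert.1 hy with rfl | hy
    · exact one_mem _
    obtain ⟨x, hx, rfl⟩ := Finset.mem_image.1 hy
    refine ⟨⟨x, Subgroup.subset_closure x.2⟩, ?_⟩
    show (x : G) * ((a : G) * x * (a : G)⁻¹) = cprod hcC {x, φ a x}
    rw [← hφ a x, show ({x, φ a x} : Finset ↥C) = {x} ∪ {φ a x} from rfl, cprod_union hcC (by
      simpa using (fun q => (Finset.mem_filter.1 hx).2 q.symm : x ≠ φ a x))]
    simp [cprod]
  have hR : R.card + 1 ≤ Nat.card ↥ψ.range := by
    have h1 : (1 : G) ∉ R := fun hy => by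
      obtain ⟨x, hx, e⟩ := Finset.mem_image.1 hy
      have h2 : ({x, φ a x} : Finset ↥C).card = 2 :=
        Finset.card_pair (fun q => (Finset.mem_filter.1 hx).2 q.symm)
      exact cprod_ne_one hcC h hp ht hC (by rw [h2]; norm_num) (by rw [h2]; norm_num) e
    have := Finset.card_le_card hsub
    rw [Finset.card_insert_of_notMem h1] at this
    rwa [Nat.card_eq_fintype_card, Fintype.card_subtype]
  obtain ⟨i, hi⟩ := Block22.exists_pow (B := ψ.range) (fun y hy => by
    obtain ⟨k, rfl⟩ := hy
    exact hK2 _ (mul_mem k.2 (hKa k k.2)))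
  obtain ⟨j, hj⟩ := Block22.exists_pow hsq
  have hr8 : 8 ≤ Nat.card ↥ψ.range := by
    rw [hi]
    rcases Nat.lt_or_ge i 3 with q | q
    · exfalso; rw [hi] at hR; interval_cases i <;> omega
    · exact Nat.pow_le_pow_right (by norm_num : 0 < 2) q
  have hb8 : Nat.card ↥B ≤ 8 := Block22.pow_le hj (m := 3) (by omega)
  by_contra hcon
  push Not at hcon
  rw [hcardA, hcardK] at hcon
  have hkpos : 0 < Nat.card ↥ψ.ker := Nat.card_pos
  have hle : Nat.card ↥ψ.ker * Nat.card ↥ψ.range ≤ Nat.card ↥ψ.ker * 8 := by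
    calc _ ≤ Nat.card ↥φ.ker * Nat.card ↥B := hcon
      _ ≤ _ := Nat.mul_le_mul hkle hb8
  have hr : Nat.card ↥ψ.range = 8 := le_antisymm (Nat.le_of_mul_le_mul_left hle hkpos) hr8
  have hB8 : Nat.card ↥B = 8 := by
    refine le_antisymm hb8 (Nat.le_of_mul_le_mul_left ?_ hkpos)
    calc Nat.card ↥ψ.ker * 8 = Nat.card ↥ψ.ker * Nat.card ↥ψ.range := by rw [hr]
      _ ≤ Nat.card ↥φ.ker * Nat.card ↥B := hcon
      _ ≤ _ := Nat.mul_le_mul_right _ hkle
  have heq : Nat.card ↥φ.ker = Nat.card ↥ψ.ker := by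
    rw [hr, hB8] at hcon; omega
  have hsurj : Function.Surjective ι' := ((Nat.bijective_iff_injective_and_card ι').2 ⟨hι, heq⟩).2
  set F := Finset.univ.filter fun x : ↥C => φ a x = x
  have hF7 : 7 ≤ F.card := by
    have hcov : (Finset.univ : Finset ↥C) ⊆ F ∪ M := fun x _ => by
      by_cases q : φ a x = x <;> simp [F, M, q]
    have e := (Finset.card_le_card hcov).trans (Finset.card_union_le F M)
    rw [Finset.card_univ, hS.card] at e
    omega
  have := Block22.card_of_fixed hS hsq haut hF7 (by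
    rintro _ ⟨b, rfl⟩ x hx
    have hxk : (⟨(x : G), Subgroup.subset_closure x.2⟩ : ↥K) ∈ ψ.ker := MonoidHom.mem_ker.2 (by
      show (x : G) * ((a : G) * x * (a : G)⁻¹) = 1
      rw [← hφ a x, (Finset.mem_filter.1 hx).2, h.tt.sq _ (hC x.2)])
    obtain ⟨c, hc⟩ := hsurj ⟨_, hxk⟩
    have hcx : ((c : ↥A) : G) = x := congrArg (fun z : ↥ψ.ker => ((z : ↥K) : G)) hc
    refine Subtype.ext ?_
    rw [hφ b x, ← hcx, (hA b b.2 _ (c : ↥A).2).eq, mul_inv_cancel_right])
  omega

end CfsgLib.ThreeT.Prod
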