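import Cfsg.Agent.Spor3T.TypeChain

/-!
Factorisations into at most three commuting members.
-/

set_option autoImplicit false
set_option linter.unusedSectionVars false
set_option linter.style.haveILetI false

namespace CfsgLib.ThreeT.Prod

variable {G : Type*} [Group G] {D : Set G}

theorem uniq_two (hD : TT0 D) (htf : TwinFree D) (h1 : ∀ a ∈ D, a ≠ 1) {l l' : List G}
    (hl : l.Nodup ∧ l.length = 2 ∧ (∀ a ∈ l, a ∈ D) ∧ (∀ a ∈ l, ∀ b ∈ l, Commute a b))
    (hl' : l'.Nodup ∧ l'.length = 2 ∧ (∀ a ∈ l', a ∈ D) ∧ (∀ a ∈ l', ∀ b ∈ l', Commute a b))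
    (h : l.prod = l'.prod) : ∀ x : G, x ∈ l ↔ x ∈ l' := by
  obtain ⟨hn, hlen, hm, hc⟩ := hl
  obtain ⟨hn', hlen', hm', hc'⟩ := hl'
  obtain ⟨a, b, rfl⟩ := List.length_eq_two.1 hlen
  obtain ⟨c, d, rfl⟩ := List.length_eq_two.1 hlen'
  simp only [List.prod_cons, List.prod_nil, mul_one] at h
  have ha : a ∈ D := hm a (by simp)
  have hb : b ∈ D := hm b (by simp)
  have hab : a ≠ b := by simpa using hn
  rcases pair_eq hD ha hb (hm' c (by simp)) (hm' d (by simp)) (hc a (by simp) b (by simp))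
    (hc' c (by simp) d (by simp)) hab (by simpa using hn') h with ⟨rfl, rfl⟩ | ⟨rfl, rfl⟩ | ht
  · exact fun x => Iff.rfl
  · intro x; simp [or_comm]
  · exact absurd (htf a ha b hb (h1 a ha) (h1 b hb) ht) hab

/-- A list of length three of commuting members. -/
def Triple (D : Set G) (l : List G) : Prop :=
  l.Nodup ∧ l.length = 3 ∧ (∀ a ∈ l, a ∈ D) ∧ (∀ a ∈ l, ∀ b ∈ l, Commute a b)

/-- Two factorisations into triples are equal or disjoint. -/
theorem triple_eq_or_disjoint [DecidableEq G] (hD : TT0 D) (htf : TwinFree D)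
    (h1 : ∀ a ∈ D, a ≠ 1) {l l' : List G} (hl : Triple D l) (hl' : Triple D l')
    (h : l.prod = l'.prod) : (∀ x : G, x ∈ l ↔ x ∈ l') ∨
      ((∀ x ∈ l, x ∉ l') ∧ ∀ x ∈ l, ∀ y ∈ l', Commute x y) := by
  by_cases hc : ∃ x ∈ l, x ∈ l'
  · left
    obtain ⟨x, hx, hx'⟩ := hc
    have key : ∀ {m : List G}, Triple D m → x ∈ m →
        ((m.erase x).Nodup ∧ (m.erase x).length = 2 ∧ (∀ a ∈ m.erase x, a ∈ D) ∧
          (∀ a ∈ m.erase x, ∀ b ∈ m.erase x, Commute a b)) ∧ m.prod = x * (m.erase x).prod := by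
      intro m hm hxm
      refine ⟨⟨hm.1.erase x, by rw [List.length_erase_of_mem hxm, hm.2.1],
        fun a ha => hm.2.2.1 a (List.mem_of_mem_erase ha), fun a ha b hb =>
          hm.2.2.2 a (List.mem_of_mem_erase ha) b (List.mem_of_mem_erase hb)⟩, ?_⟩
      rw [← List.prod_cons]
      refine (List.perm_cons_erase hxm).prod_eq' ?_
      exact List.pairwise_of_forall_mem_list hm.2.2.2
    obtain ⟨hA, eA⟩ := key hl hx
    obtain ⟨hB, eB⟩ := key hl' hx'
    have := uniq_two hD htf h1 hA hB (mul_left_cancel (eA.symm.trans (h.trans eB)))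
    intro y
    by_cases e : y = x
    · subst e; exact ⟨fun _ => hx', fun _ => hx⟩
    · have h' := this y
      rwa [List.mem_erase_of_ne e, List.mem_erase_of_ne e] at h'
  · push Not at hc
    refine Or.inr ⟨hc, fun x hx y hy => ?_⟩
    obtain ⟨hn, hlen, hm, hcm⟩ := hl
    obtain ⟨a, b, c, rfl⟩ := List.length_eq_three.1 hlen
    have hy1 : Commute y [a, b, c].prod := by
      rw [h]
      exact Commute.list_prod_right _ _ fun z hz => hl'.2.2.2 y hy z hz
    simp only [List.prod_cons, List.prod_nil, mul_one, ← mul_assoc] at hy1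
    have hne : a ≠ b ∧ a ≠ c ∧ b ≠ c := by simpa [List.nodup_cons, and_assoc] using hn
    obtain ⟨ya, yb, yc⟩ := (commute_triple_iff hD (hm a (by simp)) (hm b (by simp)) (hm c (by simp))
      (hl'.2.2.1 y hy) (hcm a (by simp) b (by simp)) (hcm a (by simp) c (by simp))
      (hcm b (by simp) c (by simp)) hne.1 hne.2.1 hne.2.2).1 hy1.symm
    simp only [List.mem_cons, List.not_mem_nil, or_false] at hx
    rcases hx with rfl | rfl | rfl <;> assumption

/-- No two disjoint commuting triples with the same product above type M(22). -/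
theorem no_hexad [Finite G] (hD : TT0 D) (hcj : ConjD D) (htf : TwinFree D) (h1 : ∀ a ∈ D, a ≠ 1)
    {d : G} (hd : d ∈ D) (hK : Facts (img D d)) {l l' : List G} (hl : Triple D l)
    (hl' : Triple D l') (h : l.prod = l'.prod) (hdj : ∀ x ∈ l, x ∉ l')
    (hcc : ∀ x ∈ l, ∀ y ∈ l', Commute x y) : False := by
  obtain ⟨hn, hlen, hm, hcm⟩ := hl
  obtain ⟨hn', hlen', hm', hcm'⟩ := hl'
  obtain ⟨a, b, c, rfl⟩ := List.length_eq_three.1 hlen
  obtain ⟨p, q, r, rfl⟩ := List.length_eq_three.1 hlen'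
  simp only [List.prod_cons, List.prod_nil, mul_one, ← mul_assoc] at h
  simp only [List.mem_cons, List.not_mem_nil, or_false, forall_eq_or_imp, forall_eq] at hm hm' hcm hcm' hdj hcc
  simp only [not_or] at hdj
  simp only [List.nodup_cons, List.mem_cons, List.not_mem_nil, or_false, not_or,
    not_false_eq_true, List.nodup_nil, and_true, and_assoc] at hn hn'
  obtain ⟨ha, hb, hc⟩ := hm
  obtain ⟨hp, hq, hr⟩ := hm'
  obtain ⟨k, hk⟩ := hcj a ha d hd (h1 a ha) (h1 d hd)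
  set σ := MulAut.conj k
  have hσa : σ a = d := hk
  have hnb : ∀ u ∈ D, a ≠ u → Commute a u → σ u ∈ nb D d := fun u hu hne hcu =>
    ⟨hD.conj k u hu, hσa ▸ fun e => hne (σ.injective e).symm, hσa ▸ hcu.map σ.toMonoidHom⟩
  have hB := hnb b hb hn.1 hcm.1.2.1
  have hC := hnb c hc hn.2.1 hcm.1.2.2
  have hP := hnb p hp hdj.1.1 hcc.1.1
  have hQ := hnb q hq hdj.1.2.1 hcc.1.2.1
  have hR := hnb r hr hdj.1.2.2 hcc.1.2.2
  let mk' : ∀ u, σ u ∈ nb D d → ↥(hsub D d) := fun u hu => ⟨σ u, Subgroup.subset_closure hu⟩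
  let π := QuotientGroup.mk' (Subgroup.center ↥(hsub D d))
  have hs1 : ∀ {u : G}, u ∈ D → σ u ≠ 1 := fun hu e =>
    h1 _ hu (σ.injective (e.trans σ.map_one.symm))
  have hne1 : ∀ {u : G} (hu : σ u ∈ nb D d), u ∈ D → π (mk' u hu) ≠ 1 := fun {u} hu huD e =>
    not_central hD hcj htf hd (h1 d hd) hu (hs1 huD) fun z hz =>
      central_of_mk_eq_one (x := mk' u hu) e hz
  have hne2 : ∀ {u v : G} (hu : σ u ∈ nb D d) (hv : σ v ∈ nb D d), u ∈ D → u ≠ v →
      π (mk' u hu) ≠ π (mk' v hv) := fun {u v} hu hv huD huv e =>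
    not_central hD hcj htf hd (h1 d hd) hu (hs1 huD) fun z hz =>
      central_of_mk_eq hD (x := mk' u hu) (y := mk' v hv) hu hv (fun e' => huv (σ.injective e')) e hz
  have hcom : ∀ {u v : G} (hu : σ u ∈ nb D d) (hv : σ v ∈ nb D d), Commute u v →
      Commute (π (mk' u hu)) (π (mk' v hv)) := fun {u v} hu hv huv =>
    (show Commute (mk' u hu) (mk' v hv) from Subtype.ext (huv.map σ.toMonoidHom).eq).map π
  have hin : ∀ {u : G} (hu : σ u ∈ nb D d), π (mk' u hu) ∈ img D d := fun {u} hu =>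
    ⟨mk' u hu, hu, rfl⟩
  have hrel : a = b * c * p * q * r := by
    have h2 : p * q * r * (c * b) = a := by
      rw [← h, mul_assoc (a * b) c, cancel2 hD hc, mul_assoc, hD.sq b hb, mul_one]
    have e : Commute (p * q * r) (c * b) :=
      ((hcc.2.2.1.symm.mul_right hcc.2.1.1.symm).mul_left
        (hcc.2.2.2.1.symm.mul_right hcc.2.1.2.1.symm)).mul_left
        (hcc.2.2.2.2.symm.mul_right hcc.2.1.2.2.symm)
    rw [← h2, e.eq, hcm.2.1.2.2.symm.eq]
    group
  have hz : mk' b hB * mk' c hC * mk' p hP * mk' q hQ * mk' r hR ∈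
      Subgroup.center ↥(hsub D d) := by
    refine mem_center_hsub fun z hz => ?_
    show Commute z (σ b * σ c * σ p * σ q * σ r)
    rw [← map_mul, ← map_mul, ← map_mul, ← map_mul, ← hrel, hσa]
    exact hz.2.2.symm
  have hprod : π (mk' b hB) * π (mk' c hC) * π (mk' p hP) * π (mk' q hQ) * π (mk' r hR) = 1 := by
    rw [← map_mul, ← map_mul, ← map_mul, ← map_mul]
    exact (QuotientGroup.eq_one_iff _).2 hz
  have hI := img_tt0 (d := d) hD
  obtain ⟨dK, hdK, hdK1, htQ, -⟩ := hK.point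
  refine no_five hI hK.conjD hK.twinFree hdK hdK1 htQ (hin hB) (hin hC) (hin hP) (hin hQ) (hin hR)
    (hne1 hB hb) (hne1 hC hc) (hne1 hP hp) (hne2 hB hC hb hn.2.2) (hne2 hB hP hb hdj.2.1.1)
    (hne2 hC hP hc hdj.2.2.1) (hne2 hC hQ hc hdj.2.2.2.1) (hne2 hC hR hc hdj.2.2.2.2)
    (hne2 hP hQ hp hn'.1) (hne2 hP hR hp hn'.2.1) (hne2 hQ hR hq hn'.2.2)
    (hcom hB hC hcm.2.1.2.2) (hcom hB hP hcc.2.1.1) (hcom hC hP hcc.2.2.1)
    (hcom hC hQ hcc.2.2.2.1) (hcom hC hR hcc.2.2.2.2) (hcom hP hQ hcm'.1.2.1)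
    (hcom hP hR hcm'.1.2.2) (hcom hQ hR hcm'.2.1.2.2) ?_
  calc π (mk' b hB)
      = π (mk' b hB) * (π (mk' b hB) * π (mk' c hC) * π (mk' p hP) * π (mk' q hQ) * π (mk' r hR)) := by
        rw [hprod, mul_one]
    _ = (π (mk' b hB) * π (mk' b hB)) * (π (mk' c hC) * π (mk' p hP) * π (mk' q hQ) * π (mk' r hR)) := by
        group
    _ = _ := by rw [hI.sq _ (hin hB), one_mul]

/-- A product of at most three commuting members determines them, for types M(23) and M(24). -/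
theorem uniq_le_three [Finite G] [DecidableEq G] (hD : Cfsg.IsThreeTranspositionGroup D)
    (hp : Cfsg.IsPrimitiveUnderConj D) (h : Cfsg.IsOfTypeM23 G D ∨ Cfsg.IsOfTypeM24 G D) {m : ℕ}
    (hm : m ≤ 3) {l l' : List G}
    (hl : l.Nodup ∧ l.length = m ∧ (∀ a ∈ l, a ∈ D) ∧ (∀ a ∈ l, ∀ b ∈ l, Commute a b))
    (hl' : l'.Nodup ∧ l'.length = m ∧ (∀ a ∈ l', a ∈ D) ∧ (∀ a ∈ l', ∀ b ∈ l', Commute a b))
    (hprod : l.prod = l'.prod) : ∀ x : G, x ∈ l ↔ x ∈ l' := by
  have hT := tt0_of_group hD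
  have h1 : ∀ a ∈ D, a ≠ 1 := fun a ha e => by simpa [e] using hD.1.1 a ha
  have hcj : ConjD D := fun a ha b hb _ _ => hp.1 a ha b hb
  have hZ : Subgroup.center G = ⊥ := h.elim (fun h => h.1) (fun h => h.1)
  have htf := twinFree_of_primitive hT hD.2.2 hZ hp
  rcases (by omega : m = 0 ∨ m = 1 ∨ m = 2 ∨ m = 3) with rfl | rfl | rfl | rfl
  · rw [List.length_eq_zero_iff.1 hl.2.1, List.length_eq_zero_iff.1 hl'.2.1]
    exact fun x => Iff.rfl
  · obtain ⟨a, rfl⟩ := List.length_eq_one_iff.1 hl.2.1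
    obtain ⟨b, rfl⟩ := List.length_eq_one_iff.1 hl'.2.1
    simp only [List.prod_cons, List.prod_nil, mul_one] at hprod
    rw [hprod]; exact fun x => Iff.rfl
  · exact uniq_two hT htf h1 hl hl' hprod
  · refine (triple_eq_or_disjoint hT htf h1 hl hl' hprod).resolve_right fun hd => ?_
    obtain ⟨d, hdD, hK⟩ : ∃ d ∈ D, Facts (img D d) := by
      rcases h with h | h
      · obtain ⟨_, d, hdD, c, _, _, h22, -⟩ := h
        exact ⟨d, hdD, facts22 (img_tt0 hT) img_gen h22⟩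
      · obtain ⟨_, d, hdD, c, _, _, h23, -⟩ := h
        exact ⟨d, hdD, facts23 (img_tt0 hT) img_gen h23⟩
    exact no_hexad hT hcj htf h1 hdD hK hl hl' hprod hd.1 hd.2

end CfsgLib.ThreeT.Prod
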