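import Cfsg.Agent.Spor3T.M23Setup
import Cfsg.Agent.Spor3T.LevelGroup
import Cfsg.Agent.Spor3T.M22Width
import Cfsg.Agent.Spor3T.HexadUnique

/-!
Type M(23) as a level of the chain: counts, perfect centralisers, simplicity, order and width.
-/

set_option autoImplicit false
set_option linter.unusedSectionVars false
set_option linter.style.haveILetI false

namespace CfsgLib.ThreeT

namespace Prod

variable {G : Type*} [Group G] [Finite G] {D : Set G}

theorem below22 {Q : Type*} [Group Q] [Finite Q] {E : Set Q} (hE : Geo22 E) :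
    Level.Below E 3510 693 180 126 45 := by
  obtain ⟨d, hd, -⟩ := hE.refl
  exact ⟨ncard_D hE hd, fun a ha => (hE.loc a ha).card_nb, fun a ha => (hE.loc a ha).card_pair,
    (tri_card hE).1, fun a ha x hx hax b hb => tri_inner hE ha hx hax hb,
    fun a ha x hx y hy hax hay hall => line_eq hE ha hx hy hax hay hall,
    fun a ha => (centralizer_eq hE ha).1.ge⟩

theorem arith23 : Level.Arith 3510 693 180 126 45 351 63 := by
  exact ⟨by norm_num, by norm_num, by norm_num, by norm_num, by norm_num, by norm_num, by norm_num, by norm_num,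
    by norm_num⟩

theorem tri23 : ∀ v ≤ 3510, 126 + 1 < v → 3510 * (3510 - 1 - 693) % v = 0 →
    126 * (126 - 1 - 45) % (v - (126 + 1)) = 0 → 126 * (126 - 1 - 45) / (v - (126 + 1)) ≤ 126 → v = 351 := by
  intro v hv
  have key : ∀ i : Fin 59, ∀ j : Fin 60, 60 * i.1 + j.1 ≤ 3510 → 126 + 1 < 60 * i.1 + j.1 →
      3510 * (3510 - 1 - 693) % (60 * i.1 + j.1) = 0 → 126 * (126 - 1 - 45) % (60 * i.1 + j.1 - (126 + 1)) = 0 →
      126 * (126 - 1 - 45) / (60 * i.1 + j.1 - (126 + 1)) ≤ 126 → 60 * i.1 + j.1 = 351 := by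
    set_option synthInstance.maxSize 512 in decide +kernel
  have := key ⟨v / 60, by omega⟩ ⟨v % 60, Nat.mod_lt _ (by norm_num)⟩
  rw [Nat.div_add_mod] at this
  exact this hv

/-- The facts at the transposition where type M(22) is given. -/
structure Point23 (D : Set G) (d : G) : Prop where
  mem : d ∈ D
  base : Level.Base D
  refl : Level.Refl D
  geo : Geo22 (img D d)
  prim : Cfsg.IsPrimitiveUnderConj (img D d)
  type : Cfsg.IsOfTypeM22 (↥(hsub D d) ⧸ Subgroup.center ↥(hsub D d)) (img D d)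

theorem exists_point23 (hD : Cfsg.IsThreeTranspositionGroup D) (hp : Cfsg.IsPrimitiveUnderConj D)
    (h : Cfsg.IsOfTypeM23 G D) : ∃ d, Point23 D d := by
  obtain ⟨d, hd, h1, h2, h3⟩ := img_prim (base23 hD hp h) h
  exact ⟨d, hd, base23 hD hp h, refl23 h, geo22 h1 h2 h3, h2, h3⟩

variable {d : G} (P : Point23 D d)

include P

theorem pre23 : Level.Pre D 3510 693 180 126 45 := by
  refine ⟨P.base, fun a ha => ?_⟩
  obtain ⟨g, rfl⟩ := P.base.conjD d P.mem a ha (P.base.ne_one d P.mem) (P.base.ne_one a ha)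
  exact (Level.loc_of_img P.base P.mem (below22 P.geo)).conj P.base.tt g

theorem geo23 : Level.Geo D 3510 693 180 126 45 351 := by
  exact ⟨pre23 P, Level.tri_one (pre23 P) arith23 P.refl tri23⟩

theorem mk_inj {x y : ↥(hsub D d)} (hx : (x : G) ∈ nb D d) (hy : (y : G) ∈ nb D d)
    (e : (x : ↥(hsub D d) ⧸ Subgroup.center ↥(hsub D d)) = y) : (x : G) = y := by
  by_contra hne
  exact not_central P.base.tt P.base.conjD P.base.twinFree P.mem (P.base.ne_one d P.mem) hx
    (P.base.ne_one _ hx.1) fun z hz => central_of_mk_eq P.base.tt hx hy hne e hz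

/-- Commuting members of the image lift to commuting neighbours. -/
theorem lift_list23 (m : List (↥(hsub D d) ⧸ Subgroup.center ↥(hsub D d))) (hm : ∀ z ∈ m, z ∈ img D d)
    (hn : m.Nodup) (hc : ∀ z ∈ m, ∀ w ∈ m, Commute z w) :
    ∃ L : List ↥(hsub D d), L.map (QuotientGroup.mk' (Subgroup.center ↥(hsub D d))) = m ∧
      (∀ x ∈ L, (x : G) ∈ nb D d) ∧ (L.map ((↑) : ↥(hsub D d) → G)).Nodup ∧
      ∀ x ∈ L, ∀ y ∈ L, Commute (x : G) y := by
  classical
  set π := QuotientGroup.mk' (Subgroup.center ↥(hsub D d))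
  have hlift : ∀ z ∈ img D d, ∃ y : ↥(hsub D d), (y : G) ∈ nb D d ∧ π y = z := fun z hz => by
    obtain ⟨y, hy, rfl⟩ := hz
    exact ⟨y, hy, rfl⟩
  choose! s hs1 hs2 using hlift
  refine ⟨m.map s, ?_, ?_, ?_, ?_⟩
  · rw [List.map_map]
    conv_rhs => rw [← List.map_id m]
    exact List.map_congr_left fun z hz => hs2 z (hm z hz)
  · intro x hx
    obtain ⟨z, hz, rfl⟩ := List.mem_map.1 hx
    exact hs1 z (hm z hz)
  · rw [List.map_map]
    refine hn.map_on fun a ha b hb q => ?_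
    rw [← hs2 a (hm a ha), ← hs2 b (hm b hb), Subtype.ext q]
  · intro x hx y hy
    obtain ⟨z, hz, rfl⟩ := List.mem_map.1 hx
    obtain ⟨w, hw, rfl⟩ := List.mem_map.1 hy
    refine (map_commute_iff P.base.tt (hs1 z (hm z hz)) (hs1 w (hm w hw))).1 ?_
    have := hc z hz w hw
    rw [← hs2 z (hm z hz), ← hs2 w (hm w hw)] at this
    exact this

/-- A neighbour of the point is a product of six of its distinct neighbours. -/
theorem sixList_nb {a : G} (ha : a ∈ nb D d) : ∃ l : List G, l.Nodup ∧ l.length = 6 ∧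
    (∀ b ∈ l, b ∈ nb D a) ∧ (∀ b ∈ l, ∀ c ∈ l, Commute b c) ∧ l.prod = a := by
  classical
  have hG := geo23 P
  set H := hsub D d
  set π := QuotientGroup.mk' (Subgroup.center ↥H)
  set A : ↥H := ⟨a, Subgroup.subset_closure ha⟩
  have hA : π A ∈ img D d := ⟨A, ha, rfl⟩
  obtain ⟨b, hb⟩ : (nb (img D d) (π A)).Nonempty :=
    Set.nonempty_of_ncard_ne_zero (by rw [(P.geo.loc _ hA).card_nb]; norm_num)
  obtain ⟨c, hc⟩ : {y | y ∈ nb (img D d) (π A) ∧ y ≠ b ∧ Commute y b}.Nonempty :=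
    Set.nonempty_of_ncard_ne_zero (by rw [(P.geo.loc _ hA).card_pair b hb]; norm_num)
  obtain ⟨p, q, r, hp, hq, hr, hnd, hpw, hrel, -⟩ :=
    exists_pentad P.geo.toSetup22 hA hb hc.1 (Ne.symm hc.2.1) hc.2.2.symm
  have hnbE : ∀ z ∈ [b, c, p, q, r], z ∈ nb (img D d) (π A) := by
    simp only [List.mem_cons, List.not_mem_nil, or_false, forall_eq_or_imp, forall_eq]
    exact ⟨hb, hc.1, hp, hq, hr⟩
  obtain ⟨L, hmap, hLnb, hLn, hLc⟩ := lift_list23 P [b, c, p, q, r] (fun z hz => (hnbE z hz).1) hnd hpw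
  obtain ⟨u, v, x, y, z, rfl⟩ : ∃ u v x y z, L = [u, v, x, y, z] := by
    have := congrArg List.length hmap
    rcases L with _ | ⟨u, _ | ⟨v, _ | ⟨x, _ | ⟨y, _ | ⟨z, _ | _⟩⟩⟩⟩⟩ <;> simp at this
    exact ⟨u, v, x, y, z, rfl⟩
  have hnbA : ∀ w ∈ [u, v, x, y, z], (w : G) ∈ nb D a := by
    intro w hw
    have hwE : π w ∈ nb (img D d) (π A) := hnbE _ (hmap ▸ List.mem_map.2 ⟨w, hw, rfl⟩)
    refine ⟨(hLnb w hw).1, fun e => hwE.2.1 (congrArg π (Subtype.ext e : w = A)), ?_⟩
    exact (map_commute_iff P.base.tt (x := A) ha (hLnb w hw)).1 hwE.2.2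
  simp only [List.map_cons, List.map_nil, List.cons.injEq, and_true] at hmap
  obtain ⟨eb, ec, ep, eq', er⟩ := hmap
  have hker : (u * v * x * y * z)⁻¹ * A ∈ Subgroup.center ↥H := by
    refine QuotientGroup.eq.1 ?_
    show π (u * v * x * y * z) = π A
    rw [map_mul, map_mul, map_mul, map_mul, eb, ec, ep, eq', er, ← hrel]
  simp only [List.map_cons, List.map_nil, List.nodup_cons, List.mem_cons, List.not_mem_nil, or_false, not_or,
    not_false_eq_true, List.nodup_nil, and_true] at hLn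
  simp only [List.mem_cons, List.not_mem_nil, or_false, forall_eq_or_imp, forall_eq] at hLc hnbA hLnb
  rcases Level.center_pair hG arith23 P.mem hker with e | e <;>
    simp only [Subgroup.coe_mul, Subgroup.coe_inv, inv_mul_eq_iff_eq_mul] at e <;>
    change a = _ at e
  · -- six commuting members with product one
    exfalso
    rw [mul_one] at e
    obtain ⟨⟨nuv, nux, nuy, nuz⟩, ⟨nvx, nvy, nvz⟩, ⟨nxy, nxz⟩, nyz⟩ := hLn
    obtain ⟨⟨-, cuv, cux, cuy, cuz⟩, ⟨-, -, cvx, cvy, cvz⟩, ⟨-, -, -, cxy, cxz⟩, ⟨-, -, -, -, cyz⟩, -⟩ := hLc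
    obtain ⟨au, av, ax, ay, az⟩ := hnbA
    have hT1 : Triple D [a, (u : G), (v : G)] := by
      refine ⟨by simp [nuv, au.2.1.symm, av.2.1.symm], rfl, by simpa using ⟨ha.1, au.1, av.1⟩, ?_⟩
      simp only [List.mem_cons, List.not_mem_nil, or_false, forall_eq_or_imp, forall_eq]
      exact ⟨⟨Commute.refl _, au.2.2, av.2.2⟩, ⟨au.2.2.symm, Commute.refl _, cuv⟩,
        av.2.2.symm, cuv.symm, Commute.refl _⟩
    have hT2 : Triple D [(x : G), (y : G), (z : G)] := by
      refine ⟨by simp [nxy, nxz, nyz], rfl, by simpa using ⟨ax.1, ay.1, az.1⟩, ?_⟩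
      simp only [List.mem_cons, List.not_mem_nil, or_false, forall_eq_or_imp, forall_eq]
      exact ⟨⟨Commute.refl _, cxy, cxz⟩, ⟨cxy.symm, Commute.refl _, cyz⟩, cxz.symm, cyz.symm, Commute.refl _⟩
    have hK := facts22 (img_tt0 (d := d) P.base.tt) img_gen P.type
    refine no_hexad P.base.tt P.base.conjD P.base.twinFree P.base.ne_one P.mem hK hT1 hT2 ?_ ?_ ?_
    · simp only [List.prod_cons, List.prod_nil, mul_one]
      have huv : ((u : G) * v) * ((u : G) * v) = 1 := by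
        rw [← pow_two, cuv.mul_pow, pow_two, pow_two, P.base.tt.sq _ au.1, P.base.tt.sq _ av.1, one_mul]
      have hcom : Commute ((u : G) * v) ((x : G) * (y * z)) :=
        (cux.mul_right (cuy.mul_right cuz)).mul_left (cvx.mul_right (cvy.mul_right cvz))
      calc a * ((u : G) * v) = (u : G) * v * ((x : G) * (y * z) * ((u : G) * v)) := by rw [e]; group
        _ = (u : G) * v * ((u : G) * v) * ((x : G) * (y * z)) := by rw [← hcom.eq]; group
        _ = _ := by rw [huv, one_mul]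
    · simp only [List.mem_cons, List.not_mem_nil, or_false, forall_eq_or_imp, forall_eq, not_or]
      exact ⟨⟨ax.2.1.symm, ay.2.1.symm, az.2.1.symm⟩, ⟨nux, nuy, nuz⟩, nvx, nvy, nvz⟩
    · simp only [List.mem_cons, List.not_mem_nil, or_false, forall_eq_or_imp, forall_eq]
      exact ⟨⟨ax.2.2, ay.2.2, az.2.2⟩, ⟨cux, cuy, cuz⟩, cvx, cvy, cvz⟩
  · have had : d ∈ nb D a := ⟨P.mem, fun q => ha.2.1 q.symm, ha.2.2.symm⟩
    refine ⟨[(u : G), v, x, y, z, d], ?_, rfl, ?_, ?_, ?_⟩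
    · simp only [List.nodup_cons, List.mem_cons, List.not_mem_nil, or_false, not_or, List.nodup_nil, and_true,
        not_false_eq_true]
      obtain ⟨⟨n1, n2, n3, n4⟩, ⟨n5, n6, n7⟩, ⟨n8, n9⟩, n10⟩ := hLn
      exact ⟨⟨n1, n2, n3, n4, hLnb.1.2.1⟩, ⟨n5, n6, n7, hLnb.2.1.2.1⟩, ⟨n8, n9, hLnb.2.2.1.2.1⟩,
        ⟨n10, hLnb.2.2.2.1.2.1⟩, hLnb.2.2.2.2.2.1⟩
    · simp only [List.mem_cons, List.not_mem_nil, or_false, forall_eq_or_imp, forall_eq]
      exact ⟨hnbA.1, hnbA.2.1, hnbA.2.2.1, hnbA.2.2.2.1, hnbA.2.2.2.2, had⟩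
    · simp only [List.mem_cons, List.not_mem_nil, or_false, forall_eq_or_imp, forall_eq]
      obtain ⟨⟨-, cuv, cux, cuy, cuz⟩, ⟨-, -, cvx, cvy, cvz⟩, ⟨-, -, -, cxy, cxz⟩, ⟨-, -, -, -, cyz⟩, -⟩ := hLc
      obtain ⟨du, dv, dx, dy, dz⟩ := hLnb
      exact ⟨⟨Commute.refl _, cuv, cux, cuy, cuz, du.2.2.symm⟩,
        ⟨cuv.symm, Commute.refl _, cvx, cvy, cvz, dv.2.2.symm⟩,
        ⟨cux.symm, cvx.symm, Commute.refl _, cxy, cxz, dx.2.2.symm⟩,
        ⟨cuy.symm, cvy.symm, cxy.symm, Commute.refl _, cyz, dy.2.2.symm⟩,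
        ⟨cuz.symm, cvz.symm, cxz.symm, cyz.symm, Commute.refl _, dz.2.2.symm⟩,
        du.2.2, dv.2.2, dx.2.2, dy.2.2, dz.2.2, Commute.refl _⟩
    · rw [e]; simp [mul_assoc]

/-- A neighbour of the point is a product of six of its neighbours. -/
theorem six_nb {a : G} (ha : a ∈ nb D d) : Level.Six D a := by
  obtain ⟨l, -, h1, h2, h3, h4⟩ := sixList_nb P ha
  exact ⟨l, h1, h2, h3, h4⟩

theorem six_all {a : G} (ha : a ∈ D) : Level.Six D a := by
  obtain ⟨b, hb⟩ := Level.nb_nonempty (geo23 P) arith23 P.mem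
  obtain ⟨g, rfl⟩ := P.base.conjD b hb.1 a ha (P.base.ne_one b hb.1) (P.base.ne_one a ha)
  exact (six_nb P hb).conj P.base.tt g

theorem self23 : ∀ a ∈ D, a ∈ hsub D a := fun _ ha => (six_all P ha).self

theorem simple_quot23 : IsSimpleGroup (↥(hsub D d) ⧸ Subgroup.center ↥(hsub D d)) :=
  simple22 P.geo P.prim P.type

theorem quot_perfect23 : commutator (↥(hsub D d) ⧸ Subgroup.center ↥(hsub D d)) = ⊤ := by
  haveI := simple_quot23 P
  obtain ⟨-, x, hx, y, hy, hxy, -⟩ := id P.type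
  refine (inferInstance : (commutator (↥(hsub D d) ⧸ Subgroup.center ↥(hsub D d))).Normal).eq_bot_or_eq_top.resolve_left
    fun hb => hxy ?_
  have := Subgroup.commutator_mem_commutator (Subgroup.mem_top x) (Subgroup.mem_top y)
  rw [← commutator_def, hb, Subgroup.mem_bot] at this
  exact commutatorElement_eq_one_iff_commute.1 this

theorem quasi23 {a : G} (ha : a ∈ D) : Cfsg.IsQuasisimple ↥(hsub D a) := by
  have h0 : Cfsg.IsQuasisimple ↥(hsub D d) :=
    ⟨⟨Level.perfect_hsub (geo23 P) arith23 P.mem (six_all P P.mem) (quot_perfect23 P)⟩, simple_quot23 P⟩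
  obtain ⟨g, rfl⟩ := P.base.conjD d P.mem a ha (P.base.ne_one d P.mem) (P.base.ne_one a ha)
  have hmap : (hsub D d).map (MulAut.conj g).toMonoidHom = hsub D (g * d * g⁻¹) := by
    rw [MonoidHom.map_closure]
    congr 1
    ext y
    obtain ⟨y, rfl⟩ := (MulAut.conj g).surjective y
    show MulAut.conj g y ∈ MulAut.conj g '' nb D d ↔ MulAut.conj g y ∈ nb D (MulAut.conj g d)
    rw [(MulAut.conj g).injective.mem_set_image, mem_nb_conj P.base.tt]
  exact CfsgLib.Comp.isQuasisimple_of_equiv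
    ((Subgroup.equivMapOfInjective _ _ (MulAut.conj g).injective).trans (MulEquiv.subgroupCongr hmap)) h0

theorem simple23 (hp : Cfsg.IsPrimitiveUnderConj D) : IsSimpleGroup G :=
  Level.simple_of (geo23 P) arith23 hp (self23 P) fun _ ha => (quasi23 P ha).1.commutator_eq_top

theorem ncard23 : D.ncard = 31671 := by
  rw [Level.ncard_D (geo23 P) arith23 P.mem]

theorem order23 : Nat.card G = 31671 * (2 * (3510 * (2 * 9196830720))) := by
  have h1 := (order22 P.geo P.prim P.type).2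
  rw [Subgroup.card_eq_card_quotient_mul_card_subgroup (hsub D d),
    (Level.centralizer_eq (geo23 P) arith23 (self23 P) P.mem).2, ncard23 P,
    Subgroup.card_eq_card_quotient_mul_card_subgroup (Subgroup.center ↥(hsub D d)),
    Level.card_center (geo23 P) arith23 (self23 P) P.mem, h1]

/-- At most 22 neighbours commute pairwise. -/
theorem clique_le23 {C : Set G} (hC : C ⊆ nb D d) (hcC : ∀ x ∈ C, ∀ y ∈ C, Commute x y) : C.ncard ≤ 22 := by
  classical
  by_contra hgt
  push Not at hgt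
  set H := hsub D d
  set π := QuotientGroup.mk' (Subgroup.center ↥H)
  set C' : Set (↥H ⧸ Subgroup.center ↥H) := π '' {x : ↥H | (x : G) ∈ C}
  have hC' : C'.ncard = C.ncard := by
    have e : ((↑) : ↥H → G) '' {x : ↥H | (x : G) ∈ C} = C := Subtype.image_preimage_coe _ _ |>.trans
      (Set.inter_eq_right.2 fun x hx => Subgroup.subset_closure (hC hx))
    rw [show C'.ncard = {x : ↥H | (x : G) ∈ C}.ncard from
      Set.InjOn.ncard_image fun x hx y hy q => Subtype.ext (mk_inj P (hC hx) (hC hy) q)]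
    conv_rhs => rw [← e]
    rw [Set.ncard_image_of_injective _ Subtype.val_injective]
  have hsubE : C' ⊆ img D d := by
    rintro _ ⟨x, hx, rfl⟩
    exact ⟨x, hC hx, rfl⟩
  have hcom : ∀ x ∈ C', ∀ y ∈ C', Commute x y := by
    rintro _ ⟨x, hx, rfl⟩ _ ⟨y, hy, rfl⟩
    exact (map_commute_iff P.base.tt (hC hx) (hC hy)).2 (hcC _ hx _ hy)
  obtain ⟨a, ha⟩ : C'.Nonempty := Set.nonempty_of_ncard_ne_zero (by omega)
  have h1 : 22 ≤ (C' \ {a}).ncard := by
    rw [Set.ncard_sdiff_singleton_of_mem ha]; omega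
  obtain ⟨S, hS, hn⟩ := Set.exists_subset_card_eq h1
  exact no_clique P.geo (hsubE ha) (C := S)
    (fun x hx => ⟨hsubE (hS hx).1, fun e => (hS hx).2 e, hcom a ha x (hS hx).1⟩)
    (fun x hx y hy => hcom x (hS hx).1 y (hS hy).1) hn

theorem width23 : Cfsg.commutingWidth D = 23 := by
  classical
  refine IsGreatest.csSup_eq ⟨?_, ?_⟩
  · let H := hsub D d
    obtain ⟨a, ha, -⟩ := P.geo.refl
    obtain ⟨C, hC, hcC, hn⟩ := (P.geo.loc a ha).clique
    set π := QuotientGroup.mk' (Subgroup.center ↥H)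
    set T : Set ↥H := {x | (x : G) ∈ nb D d ∧ π x ∈ insert a C}
    have hT : π '' T = insert a C := by
      ext z
      constructor
      · rintro ⟨x, hx, rfl⟩; exact hx.2
      · intro hz
        obtain ⟨x, hx, rfl⟩ : z ∈ img D d := by
          rcases hz with rfl | hz
          exacts [ha, (hC hz).1]
        exact ⟨x, ⟨hx, hz⟩, rfl⟩
    have hTn : T.ncard = 22 := by
      rw [← Set.InjOn.ncard_image (f := π) fun x hx y hy q => Subtype.ext (mk_inj P hx.1 hy.1 q), hT,
        Set.ncard_insert_of_notMem (fun q => (hC q).2.1 rfl) (Set.toFinite _), hn]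
    have hcaC : ∀ z ∈ insert a C, ∀ z' ∈ insert a C, Commute z z' := by
      intro z hz z' hz'
      rcases hz with rfl | hz <;> rcases hz' with rfl | hz'
      exacts [Commute.refl _, (hC hz').2.2, (hC hz).2.2.symm, hcC z hz z' hz']
    refine ⟨insert d (((↑) : ↥H → G) '' T), Set.insert_subset P.mem ?_, Set.toFinite _, ?_, ?_⟩
    · rintro _ ⟨x, hx, rfl⟩; exact hx.1.1
    · intro x hx y hy
      rcases hx with rfl | ⟨x, hx, rfl⟩ <;> rcases hy with rfl | ⟨y, hy, rfl⟩
      exacts [Commute.refl _, hy.1.2.2, hx.1.2.2.symm,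
        (map_commute_iff P.base.tt hx.1 hy.1).1 (hcaC _ hx.2 _ hy.2)]
    · rw [Set.ncard_insert_of_notMem ?_ (Set.toFinite _), Set.ncard_image_of_injective _ Subtype.val_injective, hTn]
      rintro ⟨x, hx, e⟩
      exact hx.1.2.1 e
  · rintro n ⟨E, hE, -, hcE, rfl⟩
    by_contra hgt
    push Not at hgt
    obtain ⟨a, ha⟩ : E.Nonempty := Set.nonempty_of_ncard_ne_zero (by omega)
    obtain ⟨g, hg⟩ := P.base.conjD a (hE ha) d P.mem (P.base.ne_one a (hE ha)) (P.base.ne_one d P.mem)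
    have h1 : 23 ≤ (E \ {a}).ncard := by
      rw [Set.ncard_sdiff_singleton_of_mem ha]; omega
    have h2 := clique_le23 P (C := MulAut.conj g '' (E \ {a})) ?_ ?_
    · rw [Set.ncard_image_of_injective _ (MulAut.conj g).injective] at h2
      omega
    · rintro _ ⟨x, hx, rfl⟩
      exact nb_conj P.base.tt (hE hx.1) hx.2 (hcE a ha x hx.1) hg
    · rintro _ ⟨x, hx, rfl⟩ _ ⟨y, hy, rfl⟩
      exact (hcE x hx.1 y hy.1).map (MulAut.conj g)

end Prod

end CfsgLib.ThreeT
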