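import Cfsg.Agent.Spor3T.M23Invol

/-!
Type M(23): the centraliser of two commuting transpositions is a quasisimple cover `2².U₆(2)`, of index two
in the centraliser of their product.
-/

set_option autoImplicit false
set_option linter.unusedSectionVars false
set_option linter.style.haveILetI false

namespace CfsgLib.ThreeT.Prod

open scoped commutatorElement

variable {G : Type*} [Group G] [Finite G] {D : Set G}

theorem mem_cent_pair {a b g : G} :
    g ∈ Subgroup.centralizer ({a, b} : Set G) ↔ Commute g a ∧ Commute g b := by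
  rw [Subgroup.mem_centralizer_iff]
  refine ⟨fun h => ⟨(h a (Or.inl rfl)).symm, (h b (Or.inr rfl)).symm⟩, ?_⟩
  rintro h x (rfl | rfl)
  exacts [h.1.eq.symm, h.2.eq.symm]

theorem sq_prod_list {G : Type*} [Group G] {D : Set G} (hT : TT0 D) {l : List G} (hm : ∀ a ∈ l, a ∈ D)
    (hc : ∀ a ∈ l, ∀ b ∈ l, Commute a b) : l.prod * l.prod = 1 := by
  induction l with
  | nil => simp
  | cons a l ih =>
    have hcl : Commute a l.prod :=
      Commute.list_prod_right _ _ fun z hz => hc a List.mem_cons_self z (List.mem_cons_of_mem _ hz)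
    rw [List.prod_cons, show a * l.prod * (a * l.prod) = a * (l.prod * a) * l.prod by group, ← hcl.eq,
      show a * (a * l.prod) * l.prod = (a * a) * (l.prod * l.prod) by group, hT.sq a (hm a List.mem_cons_self),
      one_mul, ih (fun x hx => hm x (List.mem_cons_of_mem _ hx))
        fun x hx y hy => hc x (List.mem_cons_of_mem _ hx) y (List.mem_cons_of_mem _ hy)]

/-- Ordered commuting pairs are conjugate. -/
theorem pair_conj (hB : Level.Base D) {a b a' b' : G} (ha : a ∈ D) (hb : b ∈ nb D a) (ha' : a' ∈ D)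
    (hb' : b' ∈ nb D a') : ∃ g : G, g * a * g⁻¹ = a' ∧ g * b * g⁻¹ = b' := by
  obtain ⟨g₁, hg₁⟩ := hB.conjD a ha a' ha' (hB.ne_one a ha) (hB.ne_one a' ha')
  obtain ⟨g₂, hg₂, e₂⟩ := hB.near a' ha' _ (nb_conj hB.tt hb.1 hb.2.1 hb.2.2 hg₁) b' hb'
  refine ⟨g₂ * g₁, ?_, ?_⟩
  · rw [show g₂ * g₁ * a * (g₂ * g₁)⁻¹ = g₂ * (g₁ * a * g₁⁻¹) * g₂⁻¹ by group, hg₁, (commute_hsub hg₂).eq,
      mul_inv_cancel_right]
  · rw [show g₂ * g₁ * b * (g₂ * g₁)⁻¹ = g₂ * (g₁ * b * g₁⁻¹) * g₂⁻¹ by group, e₂]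

/-- The centraliser of a commuting pair, as the statement wants it. -/
def PairCover (a b : G) : Prop :=
  (Subgroup.center ↥(Subgroup.centralizer ({a, b} : Set G))).map (Subgroup.centralizer ({a, b} : Set G)).subtype =
      Subgroup.closure ({a, b} : Set G) ∧
    Cfsg.IsQuasisimple ↥(Subgroup.centralizer ({a, b} : Set G)) ∧
    ∃ (F : Type) (_ : Field F) (_ : Fintype F), Fintype.card F = 4 ∧
      Nonempty (↥(Subgroup.centralizer ({a, b} : Set G)) ⧸ Subgroup.center ↥(Subgroup.centralizer ({a, b} : Set G))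
        ≃* Cfsg.PSU 6 F 2)

theorem PairCover.conj {a b : G} (h : PairCover a b) (g : G) : PairCover (g * a * g⁻¹) (g * b * g⁻¹) := by
  obtain ⟨hc, hq, F, iF, iT, hF, ⟨e⟩⟩ := h
  set φ := MulAut.conj g
  set K := Subgroup.centralizer ({a, b} : Set G)
  set K' := Subgroup.centralizer ({g * a * g⁻¹, g * b * g⁻¹} : Set G)
  have hmap : K.map φ.toMonoidHom = K' := by
    ext y
    obtain ⟨y, rfl⟩ := φ.surjective y
    rw [show φ y = φ.toMonoidHom y from rfl, Subgroup.mem_map_iff_mem φ.injective]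
    show y ∈ K ↔ g * y * g⁻¹ ∈ K'
    rw [mem_cent_pair, mem_cent_pair, commute_conj_iff, commute_conj_iff]
  set ε : ↥K ≃* ↥K' := (Subgroup.equivMapOfInjective K _ φ.injective).trans (MulEquiv.subgroupCongr hmap)
  have hεc : (Subgroup.center ↥K).map ε.toMonoidHom = Subgroup.center ↥K' := by
    ext y
    obtain ⟨y, rfl⟩ := ε.surjective y
    rw [show ε y = ε.toMonoidHom y from rfl, Subgroup.mem_map_iff_mem ε.injective, Subgroup.mem_center_iff,
      Subgroup.mem_center_iff]
    refine ⟨fun h z => ?_, fun h z => ε.injective (by rw [map_mul, map_mul]; exact h (ε z))⟩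
    obtain ⟨z, rfl⟩ := ε.surjective z
    show ε z * ε y = ε y * ε z
    rw [← map_mul, ← map_mul, h z]
  refine ⟨?_, CfsgLib.Comp.isQuasisimple_of_equiv ε hq, F, iF, iT, hF,
    ⟨(QuotientGroup.congr _ _ ε hεc).symm.trans e⟩⟩
  rw [← hεc, Subgroup.map_map, show K'.subtype.comp ε.toMonoidHom = φ.toMonoidHom.comp K.subtype from rfl,
    ← Subgroup.map_map, hc, MonoidHom.map_closure, Set.image_pair]
  rfl

variable {d : G} (P : Point23 D d)

include P

/-- Neighbours with the same image are equal: centralising the image means centralising. -/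
theorem commute_of_img {b : G} (hb : b ∈ nb D d) {k : ↥(hsub D d)}
    (hk : Commute (k : ↥(hsub D d) ⧸ Subgroup.center ↥(hsub D d))
      ((⟨b, Subgroup.subset_closure hb⟩ : ↥(hsub D d)) : ↥(hsub D d) ⧸ Subgroup.center ↥(hsub D d))) :
    Commute (k : G) b := by
  set B : ↥(hsub D d) := ⟨b, Subgroup.subset_closure hb⟩
  have hm : (k : G) * b * (k : G)⁻¹ ∈ nb D d := nb_conj P.base.tt hb.1 hb.2.1 hb.2.2
    (by rw [(commute_hsub k.2).eq, mul_inv_cancel_right])
  have e := mk_inj P (x := k * B * k⁻¹) (y := B) hm hb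
    (by rw [QuotientGroup.mk_mul, QuotientGroup.mk_mul, QuotientGroup.mk_inv, hk.eq, mul_inv_cancel_right])
  exact mul_inv_eq_iff_eq_mul.1 e

theorem exists_pair_cover (hD : Cfsg.IsThreeTranspositionGroup D) (hp : Cfsg.IsPrimitiveUnderConj D)
    (h : Cfsg.IsOfTypeM23 G D) : ∃ a ∈ D, ∃ b ∈ nb D a, PairCover a b := by
  classical
  set π := QuotientGroup.mk' (Subgroup.center ↥(hsub D d))
  have hG := geo23 P
  obtain ⟨-, d', hd', c, -, -, ⟨F, iF, iT, hF, ⟨e⟩⟩, -⟩ := id P.type
  have hF' : Nat.card F = 2 ^ 2 := by rw [Nat.card_eq_fintype_card, hF]; rfl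
  haveI : CharP F 2 := charP_two hF
  obtain ⟨B, hB, hBd⟩ := id hd'
  set b : G := (B : G) with hbdef
  have hb : b ∈ nb D d := hB
  refine ⟨d, P.mem, b, hb, ?_⟩
  set K := Subgroup.centralizer ({d, b} : Set G) with hK
  have hKH : K ≤ (hsub D d) := fun g hg => by
    rw [(Level.centralizer_eq hG arith23 (self23 P) P.mem).1, Subgroup.mem_centralizer_singleton_iff]
    exact (mem_cent_pair.1 hg).1.eq
  have hLeq := (centralizer_eq P.geo hd').1
  -- the map to the centraliser in the image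
  have hin : ∀ k : ↥K, π (Subgroup.inclusion hKH k) ∈ (hsub (img D d) d') := fun k => by
    rw [hLeq, Subgroup.mem_centralizer_singleton_iff, ← hBd]
    exact ((show Commute (Subgroup.inclusion hKH k) B from Subtype.ext (mem_cent_pair.1 k.2).2.eq).map π).eq
  set f : ↥K →* ↥(hsub (img D d) d') := (π.comp (Subgroup.inclusion hKH)).codRestrict (hsub (img D d) d') hin with hf
  have hfs : Function.Surjective f := fun z => by
    obtain ⟨g, hg⟩ := QuotientGroup.mk'_surjective _ (z : ↥(hsub D d) ⧸ Subgroup.center ↥(hsub D d))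
    have hz : Commute (z : ↥(hsub D d) ⧸ Subgroup.center ↥(hsub D d)) d' := commute_hsub z.2
    have hgb : Commute (g : G) b := commute_of_img P hB (k := g) (by rw [hBd]; exact (show Commute (π g) d' by rw [hg]; exact hz))
    exact ⟨⟨g, mem_cent_pair.2 ⟨commute_hsub g.2, hgb⟩⟩, Subtype.ext hg⟩
  have hdK : d ∈ K := mem_cent_pair.2 ⟨Commute.refl d, hb.2.2⟩
  have hbK : b ∈ K := mem_cent_pair.2 ⟨hb.2.2.symm, Commute.refl b⟩
  set δ : ↥K := ⟨d, hdK⟩
  set β : ↥K := ⟨b, hbK⟩
  have hδc : ∀ k : ↥K, Commute k δ := fun k => Subtype.ext (mem_cent_pair.1 k.2).1.eq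
  have hβc : ∀ k : ↥K, Commute k β := fun k => Subtype.ext (mem_cent_pair.1 k.2).2.eq
  have hfker : ∀ k, f k = 1 → k = 1 ∨ k = δ := fun k hk => by
    rcases Level.center_pair hG arith23 P.mem
      ((QuotientGroup.eq_one_iff (Subgroup.inclusion hKH k)).1 (congrArg Subtype.val hk)) with q | q
    exacts [Or.inl (Subtype.ext q), Or.inr (Subtype.ext q)]
  set ψ : ↥K →* Cfsg.PSU 6 F 2 := (e.toMonoidHom.comp (QuotientGroup.mk' (Subgroup.center ↥(hsub (img D d) d')))).comp f with hψ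
  have hψs : Function.Surjective ψ := (e.surjective.comp (QuotientGroup.mk'_surjective _)).comp hfs
  have hker : ∀ k, ψ k = 1 → k = 1 ∨ k = δ ∨ k = β ∨ k = δ * β := fun k hk => by
    have hz : f k ∈ Subgroup.center ↥(hsub (img D d) d') := (QuotientGroup.eq_one_iff _).1 (e.injective (hk.trans e.map_one.symm))
    rcases cent_nb P.geo hd' (commute_hsub (f k).2).symm (fun y hy => commute_of_mem_center hz hy) with q | q
    · rcases hfker k (Subtype.ext q) with q' | q'
      exacts [Or.inl q', Or.inr (Or.inl q')]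
    · have hfβ : (f β : ↥(hsub D d) ⧸ Subgroup.center ↥(hsub D d)) = d' := hBd
      have hβ2 : β * β = 1 := Subtype.ext (P.base.tt.sq b hb.1)
      have hfk : f k = f β := Subtype.ext (q.trans hfβ.symm)
      rcases hfker (k * β) (by rw [map_mul, hfk, ← map_mul, hβ2, map_one]) with q' | q'
      · right; right; left
        rw [← mul_one k, ← hβ2, ← mul_assoc, q', one_mul]
      · right; right; right
        rw [← mul_one k, ← hβ2, ← mul_assoc, q']
  have hZδ : δ ∈ Subgroup.center ↥K := Subgroup.mem_center_iff.2 fun k => (hδc k).eq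
  have hZβ : β ∈ Subgroup.center ↥K := Subgroup.mem_center_iff.2 fun k => (hβc k).eq
  have hs : IsSimpleGroup (Cfsg.PSU 6 F 2) := (psu_facts hF).1
  haveI := hs
  have hna : ¬ ∀ a b : Cfsg.PSU 6 F 2, Commute a b := by
    intro hab
    letI : CommGroup (Cfsg.PSU 6 F 2) :=
      { (inferInstance : Group (Cfsg.PSU 6 F 2)) with mul_comm := fun a b => (hab a b).eq }
    have := IsSimpleGroup.prime_card (α := Cfsg.PSU 6 F 2)
    rw [card_psu_six hF] at this
    exact absurd (this.eq_one_or_self_of_dvd 2 (by norm_num)) (by norm_num)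
  have hcenter : Subgroup.center ↥K = ψ.ker := by
    refine le_antisymm (fun k hk => ?_) fun k hk => ?_
    · rw [MonoidHom.mem_ker]
      rcases (inferInstance : (Subgroup.center (Cfsg.PSU 6 F 2)).Normal).eq_bot_or_eq_top with q | q
      · rw [← Subgroup.mem_bot, ← q, Subgroup.mem_center_iff]
        intro z
        obtain ⟨z, rfl⟩ := hψs z
        rw [← map_mul, ← map_mul, Subgroup.mem_center_iff.1 hk z]
      · exact absurd (fun a b => (Subgroup.mem_center_iff.1 (q ▸ Subgroup.mem_top b) a)) hna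
    · rcases hker k (MonoidHom.mem_ker.1 hk) with rfl | rfl | rfl | rfl
      exacts [one_mem _, hZδ, hZβ, mul_mem hZδ hZβ]
  refine ⟨?_, ⟨⟨?_⟩, ?_⟩, F, iF, iT, hF,
    ⟨(QuotientGroup.quotientMulEquivOfEq hcenter).trans (QuotientGroup.quotientKerEquivOfSurjective ψ hψs)⟩⟩
  · -- the centre is generated by the pair
    refine le_antisymm ?_ ((Subgroup.closure_le _).2 ?_)
    · rintro _ ⟨k, hk, rfl⟩
      rw [SetLike.mem_coe, hcenter, MonoidHom.mem_ker] at hk
      have h1 : d ∈ Subgroup.closure ({d, b} : Set G) := Subgroup.subset_closure (Or.inl rfl)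
      have h2 : b ∈ Subgroup.closure ({d, b} : Set G) := Subgroup.subset_closure (Or.inr rfl)
      rcases hker k hk with rfl | rfl | rfl | rfl
      exacts [one_mem _, h1, h2, mul_mem h1 h2]
    · rintro x (rfl | rfl)
      exacts [⟨δ, hZδ, rfl⟩, ⟨β, hZβ, rfl⟩]
  swap
  · haveI := ((QuotientGroup.quotientMulEquivOfEq hcenter).trans
      (QuotientGroup.quotientKerEquivOfSurjective ψ hψs)).toEquiv.nontrivial
    exact IsSimpleGroup.isSimpleGroup_of_surjective
      ((QuotientGroup.quotientMulEquivOfEq hcenter).trans (QuotientGroup.quotientKerEquivOfSurjective ψ hψs)).symm.toMonoidHom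
      ((QuotientGroup.quotientMulEquivOfEq hcenter).trans (QuotientGroup.quotientKerEquivOfSurjective ψ hψs)).symm.surjective
  -- perfectness
  by_contra hne
  set K' := commutator ↥K with hK'
  have hLperf : commutator ↥(hsub (img D d) d') = ⊤ := (quasisimple_hsub P.geo P.type hd').1.commutator_eq_top
  have hsplit : ∀ k : ↥K, k ∈ K' ∨ k * δ ∈ K' := by
    intro k
    have hm : f k ∈ K'.map f := by
      rw [show K'.map f = ⊤ by
        rw [← hLperf]
        simp only [K', commutator_def]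
        rw [Subgroup.map_commutator, Subgroup.map_top_of_surjective _ hfs]]
      exact Subgroup.mem_top _
    obtain ⟨y, hy, e'⟩ := hm
    rcases hfker (k⁻¹ * y) (by rw [map_mul, map_inv, e', inv_mul_cancel]) with q | q
    · exact Or.inl (inv_mul_eq_one.1 q ▸ hy)
    · right; rw [← q, mul_inv_cancel_left]; exact hy
  have hδ' : δ ∉ K' := fun hm => hne (by
    rw [eq_top_iff]
    intro x _
    exact (hsplit x).elim id fun q => by simpa using mul_mem q (inv_mem hm))
  -- a swap of the pair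
  have hβ' : β ∉ K' := by
    intro hm
    obtain ⟨g, g1, g2⟩ := pair_conj P.base P.mem hb hb.1
      (show d ∈ nb D b from ⟨P.mem, fun q => hb.2.1 q.symm, hb.2.2.symm⟩)
    have hmap : K.map (MulAut.conj g).toMonoidHom = K := by
      ext y
      obtain ⟨y, rfl⟩ := (MulAut.conj g).surjective y
      rw [show MulAut.conj g y = (MulAut.conj g).toMonoidHom y from rfl,
        Subgroup.mem_map_iff_mem (MulAut.conj g).injective]
      show y ∈ K ↔ g * y * g⁻¹ ∈ K
      rw [mem_cent_pair, mem_cent_pair]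
      constructor
      · intro q
        have q1 := (commute_conj_iff g y d).2 q.1
        have q2 := (commute_conj_iff g y b).2 q.2
        rw [g1] at q1
        rw [g2] at q2
        exact ⟨q2, q1⟩
      · intro q
        refine ⟨(commute_conj_iff g y d).1 ?_, (commute_conj_iff g y b).1 ?_⟩
        · rw [g1]; exact q.2
        · rw [g2]; exact q.1
    set ε : ↥K ≃* ↥K := (Subgroup.equivMapOfInjective K _ (MulAut.conj g).injective).trans (MulEquiv.subgroupCongr hmap)
    have hεK : K'.map ε.toMonoidHom = K' := by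
      simp only [K', commutator_def]
      rw [Subgroup.map_commutator, Subgroup.map_top_of_surjective _ ε.surjective]
    refine hδ' ?_
    rw [← hεK]
    exact ⟨β, hm, Subtype.ext g2⟩
  have hδβ : δ * β ∈ K' := (hsplit β).elim (fun q => absurd q hβ') fun q => by rw [(hδc β).symm.eq]; exact q
  -- lifts of two hexads
  obtain ⟨t, l₁, l₂, hmem, hcomm, ht3, h13, h23, hn1, hn2, ⟨x₀, hx₀, hx₀'⟩, hp1, hp2⟩ :=
    SixTwo.exists_two_hexads hF'
  have hmod := model_image P.geo hd' hF e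
  have hlift : ∀ z ∈ SixTwo.tvSet hF', ∃ y : ↥K, (y : G) ∈ nb D d ∧ (f y : ↥(hsub D d) ⧸ Subgroup.center ↥(hsub D d)) ∈ nb (img D d) d' ∧
      ψ y = z := fun z hz => by
    obtain ⟨u, hu, rfl⟩ := (hmod ▸ hz : z ∈ _ '' {x : ↥(hsub (img D d) d') | (x : ↥(hsub D d) ⧸ Subgroup.center ↥(hsub D d)) ∈ nb (img D d) d'})
    obtain ⟨y, hy, hyu⟩ := hu.1
    have hyb : Commute (y : G) b :=
      (map_commute_iff P.base.tt hy hB).1 (show Commute (π y) (π B) by
        rw [show π y = u from hyu, show π B = d' from hBd]; exact hu.2.2.symm)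
    have hyK : (y : G) ∈ K := mem_cent_pair.2 ⟨hy.2.2.symm, hyb⟩
    have hfy : f ⟨y, hyK⟩ = u := Subtype.ext hyu
    exact ⟨⟨y, hyK⟩, hy, hfy ▸ hu, by rw [hψ]; simp only [MonoidHom.comp_apply, hfy]⟩
  choose! s hs1 hs2 hs3 using hlift
  have hinj : ∀ a ∈ SixTwo.tvSet hF', ∀ a' ∈ SixTwo.tvSet hF', (s a : G) = s a' → a = a' := fun a ha a' ha' q => by
    rw [← hs3 a ha, ← hs3 a' ha', Subtype.ext q]
  set ξ := Abelianization.of (G := ↥K)
  have hconst : ∀ a ∈ SixTwo.tvSet hF', ∀ a' ∈ SixTwo.tvSet hF', ξ (s a) = ξ (s a') := by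
    intro a ha a' ha'
    obtain ⟨g, hg, eg⟩ := P.geo.near d' hd' _ (hs2 a ha) _ (hs2 a' ha')
    obtain ⟨g₀, hg₀⟩ := hfs ⟨g, hg⟩
    have hm : ((g₀ * s a * g₀⁻¹ : ↥K) : G) ∈ nb D d :=
      nb_conj P.base.tt (hs1 a ha).1 (hs1 a ha).2.1 (hs1 a ha).2.2
        (by rw [(mem_cent_pair.1 g₀.2).1.eq, mul_inv_cancel_right])
    have := mk_inj P (x := Subgroup.inclusion hKH (g₀ * s a * g₀⁻¹)) (y := Subgroup.inclusion hKH (s a'))
      hm (hs1 a' ha') (by
        show (f (g₀ * s a * g₀⁻¹) : ↥(hsub D d) ⧸ Subgroup.center ↥(hsub D d)) = f (s a')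
        rw [map_mul, map_mul, map_inv, hg₀]; exact eg)
    rw [← show g₀ * s a * g₀⁻¹ = s a' from Subtype.ext this, map_mul, map_mul, map_inv, mul_right_comm,
      mul_inv_cancel, one_mul]
  have hsG : ∀ m : List (Cfsg.PSU 6 F 2), (∀ x ∈ m, x ∈ t ++ l₁ ++ l₂) → m.Nodup → m.length = 3 →
      Triple D (m.map fun z => (s z : G)) := by
    intro m hm hnd hlen
    refine ⟨hnd.map_on fun a ha b hb q => hinj a (hmem a (hm a ha)) b (hmem b (hm b hb)) q,
      by rw [List.length_map, hlen], ?_, ?_⟩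
    · intro a ha
      obtain ⟨z, hz, rfl⟩ := List.mem_map.1 ha
      exact (hs1 z (hmem z (hm z hz))).1
    · intro a ha a' ha'
      obtain ⟨z, hz, rfl⟩ := List.mem_map.1 ha
      obtain ⟨z', hz', rfl⟩ := List.mem_map.1 ha'
      have hz0 := hmem z (hm z hz)
      have hz0' := hmem z' (hm z' hz')
      have q := (hcomm z (hm z hz) z' (hm z' hz')).map e.symm
      rw [← hs3 z hz0, ← hs3 z' hz0', hψ] at q
      simp only [MonoidHom.comp_apply, MulEquiv.coe_toMonoidHom, MulEquiv.symm_apply_apply] at q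
      exact (map_commute_iff P.base.tt (x := Subgroup.inclusion hKH (s z)) (y := Subgroup.inclusion hKH (s z'))
        (hs1 z hz0) (hs1 z' hz0')).1 ((map_commute_iff P.geo.tt (hs2 z hz0) (hs2 z' hz0')).1 q)
  have hval : ∀ m : List (Cfsg.PSU 6 F 2), (((m.map s).prod : ↥K) : G) = (m.map fun z => (s z : G)).prod :=
    fun m => by rw [Subgroup.val_list_prod, List.map_map]; rfl
  have hψl : ∀ m : List (Cfsg.PSU 6 F 2), (∀ x ∈ m, x ∈ t ++ l₁ ++ l₂) → ψ ((m.map s).prod) = m.prod := by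
    intro m hm
    rw [map_list_prod, List.map_map]
    congr 1
    conv_rhs => rw [← List.map_id m]
    exact List.map_congr_left fun z hz => hs3 z (hmem z (hm z hz))
  have hts : ∀ x ∈ t, x ∈ t ++ l₁ ++ l₂ := fun x hx => by simp [hx]
  obtain ⟨z₀, hz₀⟩ : ∃ z, z ∈ t := List.exists_mem_of_ne_nil t fun q => by simp [q] at ht3
  have hx2 : ∀ m : List (Cfsg.PSU 6 F 2), (∀ x ∈ m, x ∈ t ++ l₁ ++ l₂) → m.length = 3 → ξ ((m.map s).prod) = ξ (s z₀) ^ 3 := by
    intro m hm hlen
    obtain ⟨a₁, a₂, a₃, rfl⟩ := List.length_eq_three.1 hlen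
    have hc' : ∀ z ∈ [a₁, a₂, a₃], ξ (s z) = ξ (s z₀) := fun z hz =>
      hconst z (hmem z (hm z hz)) z₀ (hmem z₀ (hts z₀ hz₀))
    simp only [List.map_cons, List.map_nil, List.prod_cons, List.prod_nil, mul_one, map_mul]
    rw [hc' a₁ (by simp), hc' a₂ (by simp), hc' a₃ (by simp)]
    rw [pow_succ, pow_two, mul_assoc]
  have hsame : ∀ m m' : List (Cfsg.PSU 6 F 2), (∀ x ∈ m, x ∈ t ++ l₁ ++ l₂) → (∀ x ∈ m', x ∈ t ++ l₁ ++ l₂) →
      m.Nodup → m'.Nodup → m.length = 3 → m'.length = 3 →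
      (m.map fun z => (s z : G)).prod = (m'.map fun z => (s z : G)).prod → ∀ z ∈ m, z ∈ m' := by
    intro m m' hm hm' hn hn' hlen hlen' hpr z hz
    have hu := uniq_le_three hD hp (Or.inl h) (m := 3) le_rfl (hsG m hm hn hlen) (hsG m' hm' hn' hlen') hpr
    obtain ⟨w, hw, q⟩ := List.mem_map.1 ((hu (s z)).1 (List.mem_map.2 ⟨z, hz, rfl⟩))
    exact hinj w (hmem w (hm' w hw)) z (hmem z (hm z hz)) q ▸ hw
  -- each hexad multiplies to the product of the pair
  have hsix : ∀ m : List (Cfsg.PSU 6 F 2), (∀ x ∈ m, x ∈ t ++ l₁ ++ l₂) → m.length = 3 → (t ++ m).Nodup → t.prod * m.prod = 1 →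
      (t.map s).prod * (m.map s).prod = δ * β := by
    intro m hm hlen hnd hpm
    have hin' : (t.map s).prod * (m.map s).prod ∈ K' := by
      rw [hK', ← Abelianization.ker_of, MonoidHom.mem_ker]
      show ξ _ = 1
      rw [map_mul, hx2 t hts ht3, hx2 m hm hlen, ← pow_add, show 3 + 3 = 2 * 3 from rfl, pow_mul, pow_two,
        ← map_mul, show s z₀ * s z₀ = 1 from Subtype.ext (P.base.tt.sq _ (hs1 z₀ (hmem z₀ (hts z₀ hz₀))).1),
        map_one, one_pow]
    rcases hker ((t.map s).prod * (m.map s).prod) (by rw [map_mul, hψl t hts, hψl m hm, hpm]) with q | q | q | q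
    · exfalso
      have hm3 := hsG m hm (List.nodup_append.1 hnd).2.1 hlen
      have hsq : (m.map fun z => (s z : G)).prod * (m.map fun z => (s z : G)).prod = 1 :=
        sq_prod_list P.base.tt hm3.2.2.1 hm3.2.2.2
      have hpr : (t.map fun z => (s z : G)).prod = (m.map fun z => (s z : G)).prod := by
        have q' := congrArg Subtype.val q
        rw [Subgroup.coe_mul, hval, hval, Subgroup.coe_one] at q'
        rw [mul_eq_one_iff_eq_inv.1 q', inv_eq_of_mul_eq_one_right hsq]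
      exact (List.nodup_append.1 hnd).2.2 z₀ hz₀ z₀
        (hsame t m hts hm (List.nodup_append.1 hnd).1 (List.nodup_append.1 hnd).2.1 ht3 hlen hpr z₀ hz₀) rfl
    · exact absurd (q ▸ hin') hδ'
    · exact absurd (q ▸ hin') hβ'
    · exact q
  have h1s : ∀ x ∈ l₁, x ∈ t ++ l₁ ++ l₂ := fun x hx => by simp [hx]
  have h2s : ∀ x ∈ l₂, x ∈ t ++ l₁ ++ l₂ := fun x hx => by simp [hx]
  have e12 := (hsix l₂ h2s h23 hn2 hp2).trans (hsix l₁ h1s h13 hn1 hp1).symm
  have e12' := congrArg Subtype.val (mul_left_cancel e12)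
  rw [hval, hval] at e12'
  exact hx₀' (hsame l₂ l₁ h2s h1s (List.nodup_append.1 hn2).2.1 (List.nodup_append.1 hn1).2.1 h23 h13 e12' x₀ hx₀)

theorem pair_cover23 (hD : Cfsg.IsThreeTranspositionGroup D) (hp : Cfsg.IsPrimitiveUnderConj D)
    (h : Cfsg.IsOfTypeM23 G D) {a b : G} (ha : a ∈ D) (hb : b ∈ nb D a) : PairCover a b := by
  obtain ⟨a₀, ha₀, b₀, hb₀, hc⟩ := exists_pair_cover P hD hp h
  obtain ⟨g, rfl, rfl⟩ := pair_conj P.base ha₀ hb₀ ha hb
  exact hc.conj g

omit P in
/-- The centraliser of the product over that of the pair. -/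
theorem pair_product (hB : Level.Base D) {a b : G} (ha : a ∈ D) (hb : b ∈ nb D a) (hc : PairCover a b)
    [hn : ((Subgroup.closure ({a, b} : Set G)).subgroupOf (Subgroup.centralizer ({a * b} : Set G))).Normal] :
    Subgroup.centralizer ({a, b} : Set G) ≤ Subgroup.centralizer ({a * b} : Set G) ∧
      ((Subgroup.centralizer ({a, b} : Set G)).subgroupOf (Subgroup.centralizer ({a * b} : Set G))).index = 2 ∧
      Subgroup.center (↥(Subgroup.centralizer ({a * b} : Set G)) ⧸
        (Subgroup.closure ({a, b} : Set G)).subgroupOf (Subgroup.centralizer ({a * b} : Set G))) = ⊥ := by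
  set K := Subgroup.centralizer ({a, b} : Set G) with hK
  set C := Subgroup.centralizer ({a * b} : Set G) with hC
  have hle : K ≤ C := fun g hg =>
    Subgroup.mem_centralizer_singleton_iff.2 ((mem_cent_pair.1 hg).1.mul_right (mem_cent_pair.1 hg).2).eq
  have hperm : ∀ g ∈ C, (g * a * g⁻¹ = a ∧ g * b * g⁻¹ = b) ∨ (g * a * g⁻¹ = b ∧ g * b * g⁻¹ = a) := by
    intro g hg
    have hprod : g * a * g⁻¹ * (g * b * g⁻¹) = a * b := by
      rw [show g * a * g⁻¹ * (g * b * g⁻¹) = g * (a * b) * g⁻¹ by group, Subgroup.mem_centralizer_singleton_iff.1 hg,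
        mul_inv_cancel_right]
    have hu := uniq_two hB.tt hB.twinFree hB.ne_one (l := [g * a * g⁻¹, g * b * g⁻¹]) (l' := [a, b])
      ⟨by simpa using fun q => hb.2.1 q.symm, rfl, by simpa using ⟨hB.tt.conj g a ha, hB.tt.conj g b hb.1⟩, by
        simpa [commute_conj_iff] using ⟨hb.2.2, hb.2.2.symm⟩⟩
      ⟨by simpa using hb.2.1.symm, rfl, by simpa using ⟨ha, hb.1⟩, by
        simpa using ⟨hb.2.2, hb.2.2.symm⟩⟩
      (by simpa using hprod)
    have h1 := (hu (g * a * g⁻¹)).1 (by simp)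
    have h2 := (hu (g * b * g⁻¹)).1 (by simp)
    simp only [List.mem_cons, List.not_mem_nil, or_false] at h1 h2
    have hne : g * a * g⁻¹ ≠ g * b * g⁻¹ := fun q => hb.2.1 (mul_left_cancel (mul_right_cancel q)).symm
    rcases h1 with h1 | h1 <;> rcases h2 with h2 | h2
    · exact absurd (h1.trans h2.symm) hne
    · exact Or.inl ⟨h1, h2⟩
    · exact Or.inr ⟨h1, h2⟩
    · exact absurd (h1.trans h2.symm) hne
  obtain ⟨hcen, hqs, -⟩ := hc
  refine ⟨hle, ?_, ?_⟩
  · obtain ⟨σ, s1, s2⟩ := pair_conj hB ha hb hb.1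
      (show a ∈ nb D b from ⟨ha, fun q => hb.2.1 q.symm, hb.2.2.symm⟩)
    have hσ : σ ∈ C := Subgroup.mem_centralizer_singleton_iff.2 (mul_inv_eq_iff_eq_mul.1 (by
      rw [show σ * (a * b) * σ⁻¹ = σ * a * σ⁻¹ * (σ * b * σ⁻¹) by group, s1, s2, hb.2.2.eq]))
    refine Subgroup.index_eq_two_iff.2 ⟨⟨σ, hσ⟩, fun g => ?_⟩
    rw [Subgroup.mem_subgroupOf, Subgroup.mem_subgroupOf, Subgroup.coe_mul, mem_cent_pair, mem_cent_pair]
    have hfix : ∀ {x y : G}, Commute x y ↔ x * y * x⁻¹ = y := fun {x y} => mul_inv_eq_iff_eq_mul.symm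
    simp only [hfix]
    rw [show (g : G) * σ * a * ((g : G) * σ)⁻¹ = g * (σ * a * σ⁻¹) * (g : G)⁻¹ by group, s1,
      show (g : G) * σ * b * ((g : G) * σ)⁻¹ = g * (σ * b * σ⁻¹) * (g : G)⁻¹ by group, s2]
    rcases hperm g g.2 with ⟨e1, e2⟩ | ⟨e1, e2⟩ <;> rw [e1, e2] <;> simp [hb.2.1, hb.2.1.symm]
  · rw [eq_bot_iff]
    intro q hq
    obtain ⟨x, rfl⟩ := QuotientGroup.mk_surjective q
    have hV : ∀ v ∈ Subgroup.closure ({a, b} : Set G), v ∈ K ∧ ∀ k ∈ K, Commute k v := by
      intro v hv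
      rw [← hcen] at hv
      obtain ⟨v, hv, rfl⟩ := hv
      exact ⟨v.2, fun k hk => congrArg Subtype.val (Subgroup.mem_center_iff.1 hv ⟨k, hk⟩)⟩
    have hcom : ∀ k ∈ K, (x : G) * k * (x : G)⁻¹ * k⁻¹ ∈ Subgroup.closure ({a, b} : Set G) := by
      intro k hk
      have := Subgroup.mem_center_iff.1 hq (QuotientGroup.mk ⟨k, hle hk⟩)
      rw [← QuotientGroup.mk_mul, ← QuotientGroup.mk_mul] at this
      have hh := (hn.mem_comm_iff).1 (QuotientGroup.eq.1 this)
      rw [Subgroup.mem_subgroupOf] at hh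
      simp only [Subgroup.coe_mul, Subgroup.coe_inv] at hh
      convert hh using 1
      group
    -- a map to the centre, trivial by perfectness
    let φ : ↥K →* G := MonoidHom.mk' (fun k => (x : G) * k * (x : G)⁻¹ * (k : G)⁻¹) fun k k' => by
      have h2 := (hV _ (hcom k' k'.2)).2 (k : G)⁻¹ (inv_mem k.2)
      simp only [Subgroup.coe_mul]
      calc (x : G) * (k * k') * (x : G)⁻¹ * ((k : G) * k')⁻¹ =
            (x : G) * k * (x : G)⁻¹ * (((x : G) * k' * (x : G)⁻¹ * (k' : G)⁻¹) * (k : G)⁻¹) := by group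
        _ = (x : G) * k * (x : G)⁻¹ * ((k : G)⁻¹ * ((x : G) * k' * (x : G)⁻¹ * (k' : G)⁻¹)) := by rw [h2.eq]
        _ = _ := by group
    have hφ : ∀ k, φ k = 1 := by
      intro k
      refine MonoidHom.mem_ker.1 (?_ : k ∈ φ.ker)
      have hle' : commutator ↥K ≤ φ.ker := by
        rw [commutator_def, Subgroup.commutator_le]
        intro u _ v _
        rw [MonoidHom.mem_ker, map_commutatorElement, commutatorElement_eq_one_iff_commute]
        exact (hV _ (hcom v v.2)).2 (φ u) ((hV _ (hcom u u.2)).1)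
      rw [hqs.1.commutator_eq_top] at hle'
      exact hle' (Subgroup.mem_top k)
    have hxK : ∀ k ∈ K, Commute (x : G) k := fun k hk =>
      mul_inv_eq_iff_eq_mul.1 (mul_inv_eq_one.1 (hφ ⟨k, hk⟩))
    have hxa : Commute (x : G) a := hxK a (mem_cent_pair.2 ⟨Commute.refl a, hb.2.2⟩)
    have hxb : Commute (x : G) b := hxK b (mem_cent_pair.2 ⟨hb.2.2.symm, Commute.refl b⟩)
    rw [Subgroup.mem_bot, QuotientGroup.eq_one_iff, Subgroup.mem_subgroupOf, ← hcen]
    exact ⟨⟨x, mem_cent_pair.2 ⟨hxa, hxb⟩⟩, Subgroup.mem_center_iff.2 fun k => Subtype.ext (hxK k k.2).eq.symm, rfl⟩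

end CfsgLib.ThreeT.Prod
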