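import Cfsg.Agent.Spor3T.M24Level
import Cfsg.Agent.Spor3T.M23Pair
import Cfsg.Agent.Spor3T.M22Clique

/-!
Type M(24): every involution fixes a transposition, hence is a product of at most four commuting ones; the
products of each length form one class and the length is determined.
-/

set_option autoImplicit false
set_option linter.unusedSectionVars false
set_option linter.style.haveILetI false

namespace CfsgLib.ThreeT.Prod

/-- An involutory automorphism preserving the transpositions of a group of type M(22) fixes one of them. -/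
theorem exists_fixed_auto22 {Q : Type*} [Group Q] [Finite Q] {E : Set Q} (h : Geo22 E)
    (hp : Cfsg.IsPrimitiveUnderConj E) (ht : Cfsg.IsOfTypeM22 Q E) (φ : MulAut Q) (hφ : ∀ x, φ (φ x) = x)
    (hφE : ∀ x ∈ E, φ x ∈ E) : ∃ x ∈ E, φ x = x := by
  classical
  haveI : Fact (2 : ℕ).Prime := ⟨Nat.prime_two⟩
  obtain ⟨a, ha, -⟩ := hp.2.1
  haveI := Fintype.ofFinite (Sylow 2 Q)
  obtain ⟨T, hT⟩ := Equiv.Perm.exists_fixed_point_of_prime (p := 2) (n := 1)
    (σ := MulAction.toPerm φ (β := Sylow 2 Q))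
    (by
      have h1 := card_sylow_modEq_one 2 Q
      rw [Nat.card_eq_fintype_card] at h1
      intro h2
      rw [Nat.ModEq, Nat.mod_eq_zero_of_dvd h2] at h1 ; simp at h1)
    (by
      refine Equiv.ext fun U => ?_
      show φ • φ • U = U
      rw [smul_smul, show φ * φ = 1 from MulEquiv.ext hφ, one_smul])
  replace hT : φ • T = T := hT
  obtain ⟨hcC, hn⟩ := sylow_clique h ha T
  refine exists_fixed h hp ht hcC (fun x hx => hx.1) hn φ hφ hφE fun x hx => ⟨hφE x hx.1, ?_⟩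
  rw [← hT]
  exact Subgroup.smul_mem_pointwise_smul x φ _ hx.2

variable {G : Type*} [Group G] [Finite G] {D : Set G} {d : G} (P : Point24 D d)

include P

/-- Commuting members of the image lift to commuting neighbours. -/
theorem lift_list24 (m : List (↥(hsub D d) ⧸ Subgroup.center ↥(hsub D d))) (hm : ∀ z ∈ m, z ∈ img D d)
    (hn : m.Nodup) (hc : ∀ z ∈ m, ∀ w ∈ m, Commute z w) :
    ∃ L : List ↥(hsub D d), L.map (QuotientGroup.mk' (Subgroup.center ↥(hsub D d))) = m ∧
      (∀ x ∈ L, (x : G) ∈ nb D d) ∧ (L.map ((↑) : ↥(hsub D d) → G)).Nodup ∧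
      ∀ x ∈ L, ∀ y ∈ L, Commute (x : G) y := by
  classical
  set π := QuotientGroup.mk' (Subgroup.center ↥(hsub D d))
  have hlift : ∀ z ∈ img D d, ∃ y : ↥(hsub D d), (y : G) ∈ nb D d ∧ π y = z := fun z hz => by
    obtain ⟨y, hy, rfl⟩ := hz
    exact ⟨y, hy, rfl⟩
  choose! s hs1 hs2 using hlift
  refine ⟨m.map s, ?_, ?_, ?_, ?_⟩
  · rw [List.map_map]
    conv_rhs => rw [← List.map_id m]
    exact List.map_congr_left fun z hz => hs2 z (hm z hz)
  · intro x hx
    obtain ⟨z, hz, rfl⟩ := List.mem_map.1 hx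
    exact hs1 z (hm z hz)
  · rw [List.map_map]
    refine hn.map_on fun a ha b hb q => ?_
    rw [← hs2 a (hm a ha), ← hs2 b (hm b hb), Subtype.ext q]
  · intro x hx y hy
    obtain ⟨z, hz, rfl⟩ := List.mem_map.1 hx
    obtain ⟨w, hw, rfl⟩ := List.mem_map.1 hy
    refine (map_commute_iff P.base.tt (hs1 z (hm z hz)) (hs1 w (hm w hw))).1 ?_
    have := hc z hz w hw
    rw [← hs2 z (hm z hz), ← hs2 w (hm w hw)] at this
    exact this

/-- Every involution fixes a transposition. -/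
theorem exists_fixed24 {t : G} (ht : t * t = 1) : ∃ x ∈ D, Commute t x := by
  classical
  obtain ⟨e, P'⟩ := P.below
  have hT := P.base.tt
  have hI := img_tt0 (d := d) hT
  by_contra hno
  push Not at hno
  have htinv : t⁻¹ = t := inv_eq_of_mul_eq_one_right ht
  have htt : ∀ x : G, t * (t * x * t) * t = x := fun x => by
    rw [show t * (t * x * t) * t = t * t * x * (t * t) by group, ht, one_mul, mul_one]
  have hfix : ∀ x ∈ D, t * x * t ≠ x := fun x hx q => hno x hx (by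
    show t * x = x * t
    conv_rhs => rw [← q]
    rw [mul_assoc (t * x), ht, mul_one])
  have hcom : ∀ x ∈ D, Commute x (t * x * t) := by
    intro x hx
    by_contra hnc
    have hx' : t * x * t ∈ D := by
      have := hT.conj t x hx
      rwa [htinv] at this
    refine hfix _ (hT.conj' hx' hx) ?_
    calc t * (x * (t * x * t) * x) * t = (t * x * t) * x * (t * x * t) := by group
      _ = x * (t * x * t) * x := (braid0 hT hx hx' hnc).symm
  -- move the moved pair to the point and the point below it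
  obtain ⟨⟨b, hb⟩, hbn, hbe⟩ : ∃ b : ↥(hsub D d), (b : G) ∈ nb D d ∧
      (b : ↥(hsub D d) ⧸ Subgroup.center ↥(hsub D d)) = e := P'.mem
  have hd' : t * d * t ∈ nb D d := ⟨by
    have := hT.conj t d P.mem
    rwa [htinv] at this, hfix d P.mem, hcom d P.mem⟩
  obtain ⟨g, hgd, hgb⟩ := pair_conj P.base P.mem hd' P.mem hbn
  replace hgb : g * (t * d * t) * g⁻¹ = b := hgb
  set s := g * t * g⁻¹ with hsdef
  have hs2 : s * s = 1 := by rw [hsdef, show g * t * g⁻¹ * (g * t * g⁻¹) = g * (t * t) * g⁻¹ by group, ht]; group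
  have hsinv : s⁻¹ = s := inv_eq_of_mul_eq_one_right hs2
  have hsd : s * d * s = b := by
    rw [← hgb]
    nth_rw 1 [← hgd]
    rw [hsdef]; group
  have hsb : s * b * s = d := by
    rw [← hsd, show s * (s * d * s) * s = (s * s) * d * (s * s) by group, hs2, one_mul, mul_one]
  have hsfix : ∀ x ∈ D, s * x * s ≠ x := by
    intro x hx q
    refine hfix (g⁻¹ * x * g) (by simpa using hT.conj g⁻¹ x hx) ?_
    conv_rhs => rw [← q]
    rw [hsdef]; group
  -- the common neighbours of the pair and the group they generate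
  set W : Set ↥(hsub D d) := {w | (w : G) ∈ nb D d ∧ (w : G) ≠ b ∧ Commute b (w : G)} with hW
  set K : Subgroup ↥(hsub D d) := Subgroup.closure W
  set π := QuotientGroup.mk' (Subgroup.center ↥(hsub D d))
  set B : ↥(hsub D d) := ⟨b, hb⟩
  have hWimg : ∀ w ∈ W, π w ∈ nb (img D d) e := by
    intro w hw
    refine ⟨⟨w, hw.1, rfl⟩, fun q => hw.2.1 ?_, ?_⟩
    · exact mk_inj24 P (x := w) (y := B) hw.1 hbn (q.trans hbe.symm)
    · rw [← hbe]
      exact (map_commute_iff hT (x := B) hbn hw.1).2 hw.2.2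
  have hπK : ∀ k ∈ K, π k ∈ hsub (img D d) e := by
    intro k hk
    induction hk using Subgroup.closure_induction with
    | mem w hw => exact Subgroup.subset_closure (hWimg w hw)
    | one => simp
    | mul u v _ _ hu hv => rw [map_mul]; exact mul_mem hu hv
    | inv u _ hu => rw [map_inv]; exact inv_mem hu
  set Fq := ↥(hsub (img D d) e) ⧸ Subgroup.center ↥(hsub (img D d) e)
  let ψ : ↥K →* Fq :=
    (QuotientGroup.mk' (Subgroup.center ↥(hsub (img D d) e))).comp
      ((π.comp K.subtype).codRestrict (hsub (img D d) e) fun k => hπK k k.2)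
  have hψW : ∀ (k : ↥K), (k : ↥(hsub D d)) ∈ W → ψ k ∈ img (img D d) e := fun k hk => ⟨_, hWimg _ hk, rfl⟩
  have hψimg : ∀ z ∈ img (img D d) e, ∃ k : ↥K, (k : ↥(hsub D d)) ∈ W ∧ ψ k = z := by
    rintro _ ⟨y, hy, rfl⟩
    obtain ⟨w, hw, hwy⟩ := hy.1
    have hwW : w ∈ W := by
      refine ⟨hw, fun q => hy.2.1 ?_, ?_⟩
      · rw [← hwy, ← hbe]; exact congrArg _ (Subtype.ext q : w = B)
      · refine (map_commute_iff hT (x := B) hbn hw).1 ?_
        show Commute (π B) (π w)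
        rw [show π B = e from hbe, show π w = _ from hwy]
        exact hy.2.2
    exact ⟨⟨w, Subgroup.subset_closure hwW⟩, hwW,
      congrArg (QuotientGroup.mk' (Subgroup.center ↥(hsub (img D d) e))) (Subtype.ext hwy)⟩
  have hψsurj : Function.Surjective ψ := by
    intro z
    have hz : z ∈ ψ.range := by
      refine (show Subgroup.closure (img (img D d) e) ≤ ψ.range from (Subgroup.closure_le _).2 ?_)
        (by rw [img_gen]; exact Subgroup.mem_top z)
      intro y hy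
      obtain ⟨k, -, rfl⟩ := hψimg y hy
      exact ⟨k, rfl⟩
    exact hz
  have hinj : ∀ k k' : ↥K, (k : ↥(hsub D d)) ∈ W → (k' : ↥(hsub D d)) ∈ W → ψ k = ψ k' → k = k' := by
    intro k k' hk hk' q
    have h1 := mk_inj P' (hWimg _ hk) (hWimg _ hk') q
    exact Subtype.ext (Subtype.ext (mk_inj24 P hk.1 hk'.1 h1))
  have hWconj : ∀ (k : ↥K) (w : ↥(hsub D d)), w ∈ W → (k : ↥(hsub D d)) * w * (k : ↥(hsub D d))⁻¹ ∈ W := by
    intro k w hw
    have hkd : Commute ((k : ↥(hsub D d)) : G) d := commute_hsub (k : ↥(hsub D d)).2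
    have hkb : Commute ((k : ↥(hsub D d)) : G) b := by
      have := k.2
      have hle : K ≤ (Subgroup.centralizer ({b} : Set G)).subgroupOf (hsub D d) := (Subgroup.closure_le _).2 fun u hu =>
        Subgroup.mem_subgroupOf.2 (Subgroup.mem_centralizer_singleton_iff.2 hu.2.2.symm.eq)
      exact Subgroup.mem_centralizer_singleton_iff.1 (Subgroup.mem_subgroupOf.1 (hle this))
    have h1 : ((k : ↥(hsub D d)) : G) * (w : G) * ((k : ↥(hsub D d)) : G)⁻¹ ∈ nb D d :=
      nb_conj hT hw.1.1 hw.1.2.1 hw.1.2.2 (by rw [hkd.eq, mul_inv_cancel_right])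
    have h2 : ((k : ↥(hsub D d)) : G) * (w : G) * ((k : ↥(hsub D d)) : G)⁻¹ ∈ nb D b :=
      nb_conj hT hw.1.1 hw.2.1 hw.2.2 (by rw [hkb.eq, mul_inv_cancel_right])
    exact ⟨by simpa using h1, by simpa using h2.2.1, by simpa using h2.2.2⟩
  -- the kernel is what fixes every common neighbour
  have hker : ∀ k : ↥K, ψ k = 1 ↔ ∀ w ∈ W, Commute (k : ↥(hsub D d)) w := by
    intro k
    constructor
    · intro q w hw
      set w' : ↥K := ⟨w, Subgroup.subset_closure hw⟩
      have h1 : k * w' * k⁻¹ = w' := hinj _ _ (hWconj k w hw) hw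
        (by rw [map_mul, map_mul, map_inv, q]; group)
      exact congrArg Subtype.val (show k * w' = w' * k by
        conv_rhs => rw [← h1]
        group)
    · intro hall
      refine (QuotientGroup.eq_one_iff _).2 (mem_center_hsub fun z hz => ?_)
      obtain ⟨w, hw, hwz⟩ := hψimg (QuotientGroup.mk ⟨z, Subgroup.subset_closure hz⟩) ⟨_, hz, rfl⟩
      have hz' : π (w : ↥(hsub D d)) = z := mk_inj P' (hWimg _ hw) hz hwz
      show Commute z (π (k : ↥(hsub D d)))
      rw [← hz']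
      exact (hall _ hw).symm.map π
  -- conjugation by the involution
  have hsH : ∀ w ∈ W, ∃ w' ∈ W, (w' : G) = s * (w : G) * s := by
    intro w hw
    have hmem : s * (w : G) * s ∈ D := by
      have := hT.conj s _ hw.1.1
      rwa [hsinv] at this
    have hback : s * (s * (w : G) * s) * s = w := by
      rw [show s * (s * (w : G) * s) * s = s * s * w * (s * s) by group, hs2, one_mul, mul_one]
    have h1 : s * (w : G) * s ≠ d := fun q => hw.2.1
      (hback.symm.trans ((congrArg (fun u => s * u * s) q).trans hsd))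
    have h2 : s * (w : G) * s ≠ b := fun q => hw.1.2.1
      (hback.symm.trans ((congrArg (fun u => s * u * s) q).trans hsb))
    have h3 : Commute d (s * (w : G) * s) := by
      have := (commute_conj_iff s b w).2 hw.2.2
      rwa [hsinv, hsb] at this
    have h4 : Commute b (s * (w : G) * s) := by
      have := (commute_conj_iff s d w).2 hw.1.2.2
      rwa [hsinv, hsd] at this
    exact ⟨⟨_, Subgroup.subset_closure (show _ ∈ nb D d from ⟨hmem, h1, h3⟩)⟩, ⟨⟨hmem, h1, h3⟩, h2, h4⟩, rfl⟩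
  have hK : ∀ k : ↥K, ∃ k' : ↥K, ((k' : ↥(hsub D d)) : G) = s * ((k : ↥(hsub D d)) : G) * s := by
    rintro ⟨k, hk⟩
    induction hk using Subgroup.closure_induction with
    | mem w hw =>
      obtain ⟨w', hw', q⟩ := hsH w hw
      exact ⟨⟨w', Subgroup.subset_closure hw'⟩, q⟩
    | one => exact ⟨1, by simp [hs2]⟩
    | mul u v _ _ hu hv =>
      obtain ⟨u', hu'⟩ := hu
      obtain ⟨v', hv'⟩ := hv
      refine ⟨u' * v', ?_⟩
      rw [Subgroup.coe_mul, Subgroup.coe_mul, hu', hv']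
      show s * (u : G) * s * (s * (v : G) * s) = s * ((u * v : ↥(hsub D d)) : G) * s
      rw [Subgroup.coe_mul, show s * (u : G) * s * (s * (v : G) * s) = s * (u : G) * (s * s) * v * s by group, hs2]
      group
    | inv u _ hu =>
      obtain ⟨u', hu'⟩ := hu
      refine ⟨u'⁻¹, ?_⟩
      rw [Subgroup.coe_inv, Subgroup.coe_inv, hu']
      show (s * (u : G) * s)⁻¹ = s * ((u⁻¹ : ↥(hsub D d)) : G) * s
      rw [Subgroup.coe_inv, show (s * (u : G) * s)⁻¹ = s⁻¹ * (u : G)⁻¹ * s⁻¹ by group, hsinv]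
  choose γf hγ using hK
  have hext : ∀ {k k' : ↥K}, ((k : ↥(hsub D d)) : G) = ((k' : ↥(hsub D d)) : G) → k = k' := fun q => Subtype.ext (Subtype.ext q)
  have hγγ : ∀ k, γf (γf k) = k := fun k => hext (by
    rw [hγ, hγ, show s * (s * ((k : ↥(hsub D d)) : G) * s) * s = s * s * ((k : ↥(hsub D d)) : G) * (s * s) by group, hs2, one_mul,
      mul_one])
  let γ : ↥K →* ↥K := MonoidHom.mk' γf fun u v => hext (by
    rw [hγ]
    show _ = ((γf u : ↥(hsub D d)) : G) * ((γf v : ↥(hsub D d)) : G)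
    rw [hγ, hγ,
      show s * ((u : ↥(hsub D d)) : G) * s * (s * ((v : ↥(hsub D d)) : G) * s) = s * ((u : ↥(hsub D d)) : G) * (s * s) * ((v : ↥(hsub D d)) : G) * s by
        group, hs2]
    push_cast
    group)
  have hγW : ∀ k : ↥K, (k : ↥(hsub D d)) ∈ W → ((γ k : ↥K) : ↥(hsub D d)) ∈ W := by
    intro k hk
    obtain ⟨w', hw', q⟩ := hsH _ hk
    rwa [show ((γ k : ↥K) : ↥(hsub D d)) = w' from Subtype.ext ((hγ k).trans q.symm)]
  have hkerle : ψ.ker ≤ (ψ.comp γ).ker := by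
    intro k hk
    refine (hker (γ k)).2 fun w hw => ?_
    have h1 := (hker k).1 hk (γ ⟨w, Subgroup.subset_closure hw⟩ : ↥K) (hγW ⟨w, Subgroup.subset_closure hw⟩ hw)
    have h2 : Commute k (γ ⟨w, Subgroup.subset_closure hw⟩) := Subtype.ext h1.eq
    have h3 := (h2.map γ).map K.subtype
    rw [show γ (γ ⟨w, Subgroup.subset_closure hw⟩) = ⟨w, Subgroup.subset_closure hw⟩ from hγγ _] at h3
    exact h3
  let φ₀ : Fq →* Fq := ψ.liftOfSurjective hψsurj ⟨ψ.comp γ, hkerle⟩
  have hφ₀ : ∀ k, φ₀ (ψ k) = ψ (γ k) := fun k =>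
    MonoidHom.liftOfRightInverse_comp_apply ψ _ _ ⟨ψ.comp γ, hkerle⟩ k
  have hφφ : ∀ z, φ₀ (φ₀ z) = z := fun z => by
    obtain ⟨k, rfl⟩ := hψsurj z
    rw [hφ₀, hφ₀]
    exact congrArg ψ (hγγ k)
  let φ : MulAut Fq :=
    { toFun := φ₀, invFun := φ₀, left_inv := hφφ, right_inv := hφφ, map_mul' := map_mul φ₀ }
  obtain ⟨z, hz, hzfix⟩ := exists_fixed_auto22 P'.geo P'.prim P'.type φ hφφ (by
    intro z hz
    obtain ⟨k, hk, rfl⟩ := hψimg z hz
    show φ₀ (ψ k) ∈ _
    rw [hφ₀]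
    exact hψW _ (hγW k hk))
  obtain ⟨k, hk, rfl⟩ := hψimg z hz
  have hfin : φ₀ (ψ k) = ψ k := hzfix
  rw [hφ₀] at hfin
  have h1 := hinj _ _ (hγW k hk) hk hfin
  have h2 := congrArg (fun u : ↥K => ((u : ↥(hsub D d)) : G)) h1
  exact hsfix _ hk.1.1 (((hγ k).symm).trans h2)

/-- An involution centralising the point is a product of at most four. -/
theorem short_at24 {t : G} (ht : t ∈ hsub D d) (ht2 : t * t = 1) (ht1 : t ≠ 1) :
    ∃ m, 1 ≤ m ∧ m ≤ 4 ∧ Facs D m t := by
  classical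
  obtain ⟨e, P'⟩ := P.below
  set H := hsub D d
  set π := QuotientGroup.mk' (Subgroup.center ↥H) with hπ
  set T : ↥H := ⟨t, ht⟩
  by_cases hπt : π T = 1
  · rcases mk_one24 P (x := T) hπt with q | q
    · exact absurd q ht1
    · refine ⟨1, le_rfl, by norm_num, [t], List.nodup_singleton t, rfl, ?_, ?_, by simp⟩
      · intro a ha; rw [List.mem_singleton.1 ha, show t = d from q]; exact P.mem
      · intro a ha b hb; rw [List.mem_singleton.1 ha, List.mem_singleton.1 hb]
  obtain ⟨i, hi1, hi3, m, hmn, hml, hmm, hmc, hmp⟩ := invol_short23 P' P.group P.prim P.type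
    (t := π T) (orderOf_eq_prime (by rw [pow_two, ← map_mul, show T * T = 1 from Subtype.ext ht2, map_one]) hπt)
  obtain ⟨L, hmap, hnb, hn, hc⟩ := lift_list24 P m hmm hmn hmc
  set l := L.map ((↑) : ↥H → G) with hl
  have hlen : l.length = i := by rw [hl, List.length_map, ← hml, ← hmap, List.length_map]
  have hld : ∀ x ∈ l, x ∈ nb D d := List.forall_mem_map.2 hnb
  have hlc : ∀ x ∈ l, ∀ y ∈ l, Commute x y := by
    intro x hx y hy
    obtain ⟨x', hx', rfl⟩ := List.mem_map.1 hx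
    obtain ⟨y', hy', rfl⟩ := List.mem_map.1 hy
    exact hc x' hx' y' hy'
  have hq : π (L.prod⁻¹ * T) = 1 := by
    rw [map_mul, map_inv, map_list_prod, hmap, hmp, inv_mul_cancel]
  have hval : ((L.prod : ↥H) : G) = l.prod := Subgroup.val_list_prod _ L
  rcases mk_one24 P (x := L.prod⁻¹ * T) hq with q | q <;>
    rw [Subgroup.coe_mul, Subgroup.coe_inv, inv_mul_eq_iff_eq_mul, hval] at q
  · exact ⟨i, hi1, by omega, l, hn, hlen, fun a ha => (hld a ha).1, hlc, ((mul_one l.prod).symm.trans q.symm)⟩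
  · have hcd : Commute l.prod d := Commute.list_prod_left _ _ fun a ha => (hld a ha).2.2.symm
    refine ⟨i + 1, by omega, by omega, d :: l, List.nodup_cons.2 ⟨fun q' => (hld d q').2.1 rfl, hn⟩,
      by rw [List.length_cons, hlen], ?_, ?_, by rw [List.prod_cons, ← hcd.eq]; exact q.symm⟩
    · intro a ha
      rcases List.mem_cons.1 ha with rfl | ha
      exacts [P.mem, (hld a ha).1]
    · intro a ha b hb
      rcases List.mem_cons.1 ha with rfl | ha <;> rcases List.mem_cons.1 hb with rfl | hb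
      exacts [Commute.refl _, (hld b hb).2.2, (hld a ha).2.2.symm, hlc a ha b hb]

omit P in
theorem Facs.map {i : ℕ} {x : G} (hT : TT0 D) (h : Facs D i x) (g : G) : Facs D i (g * x * g⁻¹) := by
  obtain ⟨l, hn, hl, hm, hc, rfl⟩ := h
  refine ⟨l.map (MulAut.conj g), hn.map (MulAut.conj g).injective, by rw [List.length_map, hl], ?_, ?_, ?_⟩
  · intro z hz
    obtain ⟨w, hw, rfl⟩ := List.mem_map.1 hz
    exact hT.conj g w (hm w hw)
  · intro z hz w hw
    obtain ⟨z', hz', rfl⟩ := List.mem_map.1 hz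
    obtain ⟨w', hw', rfl⟩ := List.mem_map.1 hw
    exact (hc z' hz' w' hw').map (MulAut.conj g)
  · rw [← map_list_prod]; rfl

/-- Every involution is a product of at most four commuting transpositions. -/
theorem invol_short24 {t : G} (ht : orderOf t = 2) : ∃ m, 1 ≤ m ∧ m ≤ 4 ∧ Facs D m t := by
  have ht2 : t * t = 1 := by rw [← pow_two, ← ht]; exact pow_orderOf_eq_one t
  have ht1 : t ≠ 1 := fun e => by simp [e] at ht
  obtain ⟨a, ha, hta⟩ := exists_fixed24 P ht2
  obtain ⟨g, hg⟩ := P.base.conjD a ha d P.mem (P.base.ne_one a ha) (P.base.ne_one d P.mem)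
  have hmem : g * t * g⁻¹ ∈ hsub D d := by
    rw [centralizer24 P P.mem, Subgroup.mem_centralizer_singleton_iff, ← hg]
    exact ((commute_conj_iff g t a).2 hta).eq
  obtain ⟨m, h1, h4, hf⟩ := short_at24 P hmem
    (by rw [show g * t * g⁻¹ * (g * t * g⁻¹) = g * (t * t) * g⁻¹ by group, ht2]; group)
    (fun q => ht1 (conj_eq_one_iff.1 q))
  refine ⟨m, h1, h4, ?_⟩
  have h5 := Facs.map P.base.tt hf g⁻¹
  rwa [show g⁻¹ * (g * t * g⁻¹) * g⁻¹⁻¹ = t by group] at h5

/-- Pairwise commuting distinct quadruples are conjugate, in order. -/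
theorem quad_conj {a b c x : G} (ha : a ∈ D) (hb : b ∈ nb D a) (hc : c ∈ nb D a) (hx : x ∈ nb D a)
    (nbc : b ≠ c) (nbx : b ≠ x) (ncx : c ≠ x) (cbc : Commute b c) (cbx : Commute b x) (ccx : Commute c x)
    {s u v w : G} (hs : s ∈ D) (hu : u ∈ nb D s) (hv : v ∈ nb D s) (hw : w ∈ nb D s) (nuv : u ≠ v) (nuw : u ≠ w)
    (nvw : v ≠ w) (cuv : Commute u v) (cuw : Commute u w) (cvw : Commute v w) :
    ∃ g : G, g * s * g⁻¹ = a ∧ g * u * g⁻¹ = b ∧ g * v * g⁻¹ = c ∧ g * w * g⁻¹ = x := by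
  classical
  obtain ⟨e, P'⟩ := P.below
  have hT := P.base.tt
  obtain ⟨g₁, hg₁⟩ := P.base.conjD a ha d P.mem (P.base.ne_one a ha) (P.base.ne_one d P.mem)
  obtain ⟨g₂, hg₂⟩ := P.base.conjD s hs d P.mem (P.base.ne_one s hs) (P.base.ne_one d P.mem)
  set H := hsub D d
  set π := QuotientGroup.mk' (Subgroup.center ↥H)
  have mk1 : ∀ {y}, y ∈ nb D a → g₁ * y * g₁⁻¹ ∈ nb D d := fun hy => nb_conj hT hy.1 hy.2.1 hy.2.2 hg₁
  have mk2 : ∀ {y}, y ∈ nb D s → g₂ * y * g₂⁻¹ ∈ nb D d := fun hy => nb_conj hT hy.1 hy.2.1 hy.2.2 hg₂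
  let B : ↥H := ⟨_, Subgroup.subset_closure (mk1 hb)⟩
  let C : ↥H := ⟨_, Subgroup.subset_closure (mk1 hc)⟩
  let X : ↥H := ⟨_, Subgroup.subset_closure (mk1 hx)⟩
  let U : ↥H := ⟨_, Subgroup.subset_closure (mk2 hu)⟩
  let V : ↥H := ⟨_, Subgroup.subset_closure (mk2 hv)⟩
  let W : ↥H := ⟨_, Subgroup.subset_closure (mk2 hw)⟩
  have hne : ∀ {g y z : G} (Y Z : ↥H), (Y : G) ∈ nb D d → (Z : G) ∈ nb D d → (Y : G) = g * y * g⁻¹ →
      (Z : G) = g * z * g⁻¹ → y ≠ z → π Y ≠ π Z := fun Y Z hY hZ eY eZ hyz q => hyz (by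
    have := mk_inj24 P hY hZ q
    rw [eY, eZ] at this
    exact mul_left_cancel (mul_right_cancel this))
  have hco : ∀ {g y z : G} (Y Z : ↥H), (Y : G) ∈ nb D d → (Z : G) ∈ nb D d → (Y : G) = g * y * g⁻¹ →
      (Z : G) = g * z * g⁻¹ → Commute y z → Commute (π Y) (π Z) := fun Y Z hY hZ eY eZ hyz =>
    (map_commute_iff hT hY hZ).2 (by rw [eY, eZ]; exact (commute_conj_iff _ _ _).2 hyz)
  obtain ⟨k, k1, k2, k3⟩ := Level.triple_conj (geo23 P') arith23
    (a := π B) (b := π C) (c' := π X) ⟨B, mk1 hb, rfl⟩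
    ⟨⟨C, mk1 hc, rfl⟩, (hne B C (mk1 hb) (mk1 hc) rfl rfl nbc).symm, hco B C (mk1 hb) (mk1 hc) rfl rfl cbc⟩
    ⟨⟨X, mk1 hx, rfl⟩, (hne B X (mk1 hb) (mk1 hx) rfl rfl nbx).symm, hco B X (mk1 hb) (mk1 hx) rfl rfl cbx⟩
    (hne C X (mk1 hc) (mk1 hx) rfl rfl ncx) (hco C X (mk1 hc) (mk1 hx) rfl rfl ccx)
    (s := π U) (t := π V) (u := π W) ⟨U, mk2 hu, rfl⟩
    ⟨⟨V, mk2 hv, rfl⟩, (hne U V (mk2 hu) (mk2 hv) rfl rfl nuv).symm, hco U V (mk2 hu) (mk2 hv) rfl rfl cuv⟩
    ⟨⟨W, mk2 hw, rfl⟩, (hne U W (mk2 hu) (mk2 hw) rfl rfl nuw).symm, hco U W (mk2 hu) (mk2 hw) rfl rfl cuw⟩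
    (hne V W (mk2 hv) (mk2 hw) rfl rfl nvw) (hco V W (mk2 hv) (mk2 hw) rfl rfl cvw)
  obtain ⟨K, rfl⟩ := QuotientGroup.mk'_surjective (Subgroup.center ↥H) k
  have hKd : (K : G) * d * (K : G)⁻¹ = d := by rw [(commute_hsub K.2).eq, mul_inv_cancel_right]
  have move : ∀ {y z : G} (Y Z : ↥H), (Y : G) ∈ nb D d → (Z : G) ∈ nb D d → (Y : G) = g₂ * y * g₂⁻¹ →
      (Z : G) = g₁ * z * g₁⁻¹ → π K * π Y * (π K)⁻¹ = π Z →
      (g₁⁻¹ * K * g₂) * y * (g₁⁻¹ * K * g₂)⁻¹ = z := by
    intro y z Y Z hY hZ eY eZ q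
    have hKY : ((K * Y * K⁻¹ : ↥H) : G) ∈ nb D d := nb_conj hT hY.1 hY.2.1 hY.2.2 hKd
    have h1 := mk_inj24 P hKY hZ (show π (K * Y * K⁻¹) = π Z by rw [map_mul, map_mul, map_inv]; exact q)
    rw [Subgroup.coe_mul, Subgroup.coe_mul, Subgroup.coe_inv, eY, eZ] at h1
    calc (g₁⁻¹ * K * g₂) * y * (g₁⁻¹ * K * g₂)⁻¹
        = g₁⁻¹ * ((K : G) * (g₂ * y * g₂⁻¹) * (K : G)⁻¹) * g₁ := by group
      _ = z := by rw [h1]; group
  refine ⟨g₁⁻¹ * K * g₂, ?_, move U B (mk2 hu) (mk1 hb) rfl rfl k1, move V C (mk2 hv) (mk1 hc) rfl rfl k2,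
    move W X (mk2 hw) (mk1 hx) rfl rfl k3⟩
  calc (g₁⁻¹ * K * g₂) * s * (g₁⁻¹ * K * g₂)⁻¹ = g₁⁻¹ * ((K : G) * (g₂ * s * g₂⁻¹) * (K : G)⁻¹) * g₁ := by group
    _ = a := by rw [hg₂, hKd, ← hg₁]; group

omit P in
theorem facs_four {x : G} (h : Facs D 4 x) : ∃ a b c e, a ∈ D ∧ b ∈ nb D a ∧ c ∈ nb D a ∧ e ∈ nb D a ∧
    b ≠ c ∧ b ≠ e ∧ c ≠ e ∧ Commute b c ∧ Commute b e ∧ Commute c e ∧ a * b * c * e = x := by
  obtain ⟨l, hn, hl, hm, hc, rfl⟩ := h
  obtain ⟨a, b, c, e, rfl⟩ : ∃ a b c e, l = [a, b, c, e] := by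
    rcases l with _ | ⟨a, _ | ⟨b, _ | ⟨c, _ | ⟨e, _ | _⟩⟩⟩⟩ <;> simp at hl
    exact ⟨a, b, c, e, rfl⟩
  simp only [List.nodup_cons, List.mem_cons, List.not_mem_nil, or_false, not_or, List.nodup_nil, and_true,
    not_false_eq_true] at hn
  obtain ⟨⟨nab, nac, nae⟩, ⟨nbc, nbe⟩, nce⟩ := hn
  exact ⟨a, b, c, e, hm a (by simp), ⟨hm b (by simp), Ne.symm nab, hc a (by simp) b (by simp)⟩,
    ⟨hm c (by simp), Ne.symm nac, hc a (by simp) c (by simp)⟩,
    ⟨hm e (by simp), Ne.symm nae, hc a (by simp) e (by simp)⟩, nbc, nbe, nce, hc b (by simp) c (by simp),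
    hc b (by simp) e (by simp), hc c (by simp) e (by simp), by simp [mul_assoc]⟩

/-- Products with one and the same number of factors are conjugate. -/
theorem facs_conj24 {i : ℕ} (h1 : 1 ≤ i) (h4 : i ≤ 4) {x y : G} (hx : Facs D i x) (hy : Facs D i y) :
    IsConj x y := by
  by_cases h3 : i ≤ 3
  · exact Level.facs_conj (geo24 P) arith24 h1 h3 hx hy
  obtain rfl : i = 4 := by omega
  obtain ⟨s, u, v, w, hs, hu, hv, hw, nuv, nuw, nvw, cuv, cuw, cvw, rfl⟩ := facs_four hx
  obtain ⟨a, b, c, e, ha, hb, hc, he, nbc, nbe, nce, cbc, cbe, cce, rfl⟩ := facs_four hy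
  obtain ⟨g, e1, e2, e3, e4⟩ := quad_conj P ha hb hc he nbc nbe nce cbc cbe cce hs hu hv hw nuv nuw nvw cuv cuw cvw
  refine isConj_iff.2 ⟨g, ?_⟩
  calc g * (s * u * v * w) * g⁻¹ = g * s * g⁻¹ * (g * u * g⁻¹) * (g * v * g⁻¹) * (g * w * g⁻¹) := by group
    _ = _ := by rw [e1, e2, e3, e4]

/-- A product of four is neither trivial nor a shorter product. -/
theorem facs_four_ne {i : ℕ} (h1 : 1 ≤ i) (h3 : i ≤ 3) {x : G} (hx : Facs D 4 x) (hx' : Facs D i x) : False := by
  classical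
  obtain ⟨e₀, P'⟩ := P.below
  have hT := P.base.tt
  have hG := geo24 P
  obtain ⟨a, b, c, e, ha, hb, hc, he, nbc, nbe, nce, cbc, cbe, cce, rfl⟩ := facs_four hx
  obtain ⟨l, hn, hl, hm, hcl, hprod⟩ := hx'
  have hax : Commute a (a * b * c * e) :=
    (((Commute.refl a).mul_right hb.2.2).mul_right hc.2.2).mul_right he.2.2
  -- the first factor commutes with every shorter factor
  have hal : ∀ y ∈ l, Commute a y := by
    rw [← hprod] at hax
    interval_cases i
    · obtain ⟨p, rfl⟩ := List.length_eq_one_iff.1 hl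
      simpa using hax
    · obtain ⟨p, q, rfl⟩ := List.length_eq_two.1 hl
      have hpq : p ≠ q := by simpa using hn
      have h5 := (commute_mul_iff0 hT (hm p (by simp)) (hm q (by simp)) ha (hcl p (by simp) q (by simp)) hpq).1
        (by simpa using hax.symm)
      simpa using ⟨h5.1.symm, h5.2.symm⟩
    · obtain ⟨p, q, r, rfl⟩ := List.length_eq_three.1 hl
      have hne : p ≠ q ∧ p ≠ r ∧ q ≠ r := by simpa [List.nodup_cons, and_assoc] using hn
      have h5 := (commute_triple_iff hT (hm p (by simp)) (hm q (by simp)) (hm r (by simp)) ha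
        (hcl p (by simp) q (by simp)) (hcl p (by simp) r (by simp)) (hcl q (by simp) r (by simp))
        hne.1 hne.2.1 hne.2.2).1 (by simpa [mul_assoc] using hax.symm)
      simpa using ⟨h5.1.symm, h5.2.1.symm, h5.2.2.symm⟩
  have hbce : Facs D 3 (b * c * e) := by
    refine ⟨[b, c, e], by simp [nbc, nbe, nce], rfl, by simpa using ⟨hb.1, hc.1, he.1⟩, ?_, by simp [mul_assoc]⟩
    simp only [List.mem_cons, List.not_mem_nil, or_false, forall_eq_or_imp, forall_eq]
    exact ⟨⟨Commute.refl _, cbc, cbe⟩, ⟨cbc.symm, Commute.refl _, cce⟩, cbe.symm, cce.symm, Commute.refl _⟩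
  have hstrip : b * c * e = a * l.prod := by
    rw [hprod, show a * (a * b * c * e) = (a * a) * (b * c * e) by group, hT.sq a ha, one_mul]
  by_cases hmem : a ∈ l
  · -- cancel it
    have hp' : a * (l.erase a).prod = l.prod := by
      have h5 := (List.perm_cons_erase hmem).prod_eq'
        (List.pairwise_iff_forall_sublist.2 fun hab => hcl _ (hab.subset (by simp)) _ (hab.subset (by simp)))
      rw [h5, List.prod_cons]
    rw [← hp', cancel2 hT ha] at hstrip
    by_cases hi : i = 1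
    · have h0 : (l.erase a).length = 0 := by rw [List.length_erase_of_mem hmem]; omega
      rw [List.length_eq_zero_iff.1 h0, List.prod_nil] at hstrip
      exact Level.facs_ne_one hG arith24 (by norm_num) le_rfl (by norm_num) (by norm_num) hbce hstrip
    have hf : Facs D (i - 1) (b * c * e) := ⟨l.erase a, hn.erase a, by rw [List.length_erase_of_mem hmem, hl],
      fun y hy => hm y (List.mem_of_mem_erase hy),
      fun y hy z hz => hcl y (List.mem_of_mem_erase hy) z (List.mem_of_mem_erase hz), hstrip.symm⟩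
    have q := (Level.ncard_fix hG arith24 (by norm_num) le_rfl hbce).symm.trans
      (Level.ncard_fix hG arith24 (by omega) (by omega) hf)
    interval_cases i <;> simp at q hi
  -- in the image the point disappears
  obtain ⟨g, hg⟩ := P.base.conjD a ha d P.mem (P.base.ne_one a ha) (P.base.ne_one d P.mem)
  set H := hsub D d
  set π := QuotientGroup.mk' (Subgroup.center ↥H)
  have hnb : ∀ y ∈ b :: c :: e :: l, g * y * g⁻¹ ∈ nb D d := by
    simp only [List.mem_cons, forall_eq_or_imp]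
    exact ⟨nb_conj hT hb.1 hb.2.1 hb.2.2 hg, nb_conj hT hc.1 hc.2.1 hc.2.2 hg, nb_conj hT he.1 he.2.1 he.2.2 hg,
      fun y hy => nb_conj (a := a) hT (hm y hy) (fun q => hmem (by rw [← q]; exact hy)) (hal y hy) hg⟩
  let up : G → ↥H := fun y => if hy : g * y * g⁻¹ ∈ H then ⟨g * y * g⁻¹, hy⟩ else 1
  have hup : ∀ y ∈ b :: c :: e :: l, ((up y : ↥H) : G) = g * y * g⁻¹ := fun y hy => by
    simp only [up]
    rw [dif_pos (show g * y * g⁻¹ ∈ H from Subgroup.subset_closure (hnb y hy))]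
  have hupn : ∀ y ∈ b :: c :: e :: l, ((up y : ↥H) : G) ∈ nb D d := fun y hy => hup y hy ▸ hnb y hy
  set F : G → ↥H ⧸ Subgroup.center ↥H := fun y => π (up y) with hF
  have hFinj : ∀ y ∈ b :: c :: e :: l, ∀ z ∈ b :: c :: e :: l, F y = F z → y = z := fun y hy z hz q => by
    have h5 := mk_inj24 P (hupn y hy) (hupn z hz) q
    rw [hup y hy, hup z hz] at h5
    exact mul_left_cancel (mul_right_cancel h5)
  have hfacs : ∀ {j : ℕ} {k : List G}, (∀ y ∈ k, y ∈ b :: c :: e :: l) → k.Nodup → k.length = j →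
      (∀ y ∈ k, ∀ z ∈ k, Commute y z) → Facs (img D d) j (k.map F).prod := by
    intro j k hk hkn hkl hkc
    refine ⟨k.map F, hkn.map_on fun y hy z hz q => hFinj y (hk y hy) z (hk z hz) q,
      by rw [List.length_map, hkl], List.forall_mem_map.2 fun y hy => ⟨up y, hupn y (hk y hy), rfl⟩, ?_, rfl⟩
    intro p hp q hq
    obtain ⟨y, hy, rfl⟩ := List.mem_map.1 hp
    obtain ⟨z, hz, rfl⟩ := List.mem_map.1 hq
    refine (map_commute_iff hT (hupn y (hk y hy)) (hupn z (hk z hz))).2 ?_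
    rw [hup y (hk y hy), hup z (hk z hz)]
    exact (commute_conj_iff g y z).2 (hkc y hy z hz)
  have hcpx : ∀ k : List G, (∀ y ∈ k, y ∈ b :: c :: e :: l) →
      ((k.map up).prod : G) = g * k.prod * g⁻¹ := by
    intro k hk
    induction k with
    | nil => simp
    | cons y k ih =>
      rw [List.map_cons, List.prod_cons, Subgroup.coe_mul, hup y (hk y List.mem_cons_self),
        ih fun z hz => hk z (List.mem_cons_of_mem _ hz), List.prod_cons]
      group
  have hF3 := hfacs (j := 3) (k := [b, c, e]) (fun y hy => by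
      simp only [List.mem_cons, List.not_mem_nil, or_false] at hy ⊢; tauto)
    (by simp [nbc, nbe, nce]) rfl (by
      simp only [List.mem_cons, List.not_mem_nil, or_false, forall_eq_or_imp, forall_eq]
      exact ⟨⟨Commute.refl _, cbc, cbe⟩, ⟨cbc.symm, Commute.refl _, cce⟩, cbe.symm, cce.symm, Commute.refl _⟩)
  have hil : ∀ y ∈ l, y ∈ b :: c :: e :: l := fun y hy =>
    List.mem_cons_of_mem _ (List.mem_cons_of_mem _ (List.mem_cons_of_mem _ hy))
  have h4 := hfacs (j := i) (k := l) hil hn hl hcl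
  have hm3 : ∀ y ∈ [b, c, e], y ∈ b :: c :: e :: l := fun y hy => by
    simp only [List.mem_cons, List.not_mem_nil, or_false] at hy ⊢; tauto
  have hFprod : ([b, c, e].map F).prod = (l.map F).prod := by
    have e5 : ∀ k : List G, (k.map F).prod = π (k.map up).prod := fun k => by
      rw [map_list_prod, List.map_map]; rfl
    rw [e5, e5]
    refine QuotientGroup.eq.2 ?_
    refine mem_center_hsub fun z hz => ?_
    rw [Subgroup.coe_mul, Subgroup.coe_inv, hcpx _ hm3, hcpx _ hil,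
      show ([b, c, e].prod) = a * l.prod by simpa [mul_assoc] using hstrip]
    have hla : Commute l.prod a := Commute.list_prod_left _ _ fun y hy => (hal y hy).symm
    have he5 : (g * (a * l.prod) * g⁻¹)⁻¹ * (g * l.prod * g⁻¹) = d := by
      rw [← hg, mul_inv_rev, mul_inv_rev, mul_inv_rev, inv_inv, hT.inv ha]
      calc g * (l.prod⁻¹ * a * g⁻¹) * (g * l.prod * g⁻¹) = g * (l.prod⁻¹ * (a * l.prod)) * g⁻¹ := by group
        _ = g * (l.prod⁻¹ * (l.prod * a)) * g⁻¹ := by rw [hla.eq]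
        _ = g * a * g⁻¹ := by group
    rw [he5]
    exact hz.2.2.symm
  rw [hFprod] at hF3
  rcases Nat.lt_or_ge i 3 with hi | hi
  · exact absurd (facs_unique23 P' (by norm_num) le_rfl h1 h3 hF3 h4) (by omega)
  obtain rfl : i = 3 := by omega
  have hun := uniq_le_three P.group P.prim (Or.inl P.type) (m := 3) le_rfl
    (l := [b, c, e].map F) (l' := l.map F) ?_ ?_ hFprod
  · have hbl : ∀ y ∈ [b, c, e], y ∈ l := fun y hy => by
      obtain ⟨z, hz, q⟩ := List.mem_map.1 ((hun _).1 (List.mem_map.2 ⟨y, hy, rfl⟩))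
      rwa [← hFinj z (hil z hz) y (hm3 y hy) q]
    obtain ⟨p, q, r, rfl⟩ := List.length_eq_three.1 hl
    have hsub' : ([b, c, e] : List G) ⊆ [p, q, r] := hbl
    have hperm : List.Perm [b, c, e] [p, q, r] :=
      (List.subperm_of_subset (by simp [nbc, nbe, nce]) hsub').perm_of_length_le (by simp)
    have hpe := hperm.prod_eq' (by
      simp only [List.pairwise_cons, List.mem_cons, List.not_mem_nil, or_false, forall_eq_or_imp, forall_eq,
        IsEmpty.forall_iff, implies_true, List.Pairwise.nil, and_true]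
      exact ⟨⟨cbc, cbe⟩, cce⟩)
    rw [show ([b, c, e].prod) = b * c * e by simp [mul_assoc], hstrip] at hpe
    exact P.base.ne_one a ha (mul_right_cancel (hpe.trans (one_mul _).symm))
  · exact ⟨(show ([b, c, e] : List G).Nodup by simp [nbc, nbe, nce]).map_on
      (fun y hy z hz q => hFinj y (hm3 y hy) z (hm3 z hz) q), by simp,
      List.forall_mem_map.2 fun y hy => ⟨up y, hupn y (hm3 y hy), rfl⟩, by
      intro p hp q hq
      obtain ⟨y, hy, rfl⟩ := List.mem_map.1 hp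
      obtain ⟨z, hz, rfl⟩ := List.mem_map.1 hq
      refine (map_commute_iff hT (hupn y (hm3 y hy)) (hupn z (hm3 z hz))).2 ?_
      rw [hup y (hm3 y hy), hup z (hm3 z hz)]
      refine (commute_conj_iff g y z).2 ?_
      obtain ⟨_, _, _, hc3⟩ : ([b, c, e] : List G).Nodup ∧ True ∧ True ∧
          ∀ y ∈ [b, c, e], ∀ z ∈ [b, c, e], Commute y z := ⟨by simp [nbc, nbe, nce], trivial, trivial, by
        simp only [List.mem_cons, List.not_mem_nil, or_false, forall_eq_or_imp, forall_eq]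
        exact ⟨⟨Commute.refl _, cbc, cbe⟩, ⟨cbc.symm, Commute.refl _, cce⟩, cbe.symm, cce.symm, Commute.refl _⟩⟩
      exact hc3 y hy z hz⟩
  · exact ⟨hn.map_on fun y hy z hz q => hFinj y (hil y hy) z (hil z hz) q, by rw [List.length_map, hl],
      List.forall_mem_map.2 fun y hy => ⟨up y, hupn y (hil y hy), rfl⟩, by
      intro p hp q hq
      obtain ⟨y, hy, rfl⟩ := List.mem_map.1 hp
      obtain ⟨z, hz, rfl⟩ := List.mem_map.1 hq
      refine (map_commute_iff hT (hupn y (hil y hy)) (hupn z (hil z hz))).2 ?_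
      rw [hup y (hil y hy), hup z (hil z hz)]
      exact (commute_conj_iff g y z).2 (hcl y hy z hz)⟩

/-- The number of factors is determined. -/
theorem facs_unique24 {i i' : ℕ} (h1 : 1 ≤ i) (h4 : i ≤ 4) (h1' : 1 ≤ i') (h4' : i' ≤ 4) {x : G}
    (hx : Facs D i x) (hx' : Facs D i' x) : i = i' := by
  by_contra hne
  by_cases e : i = 4
  · subst e; exact facs_four_ne P h1' (by omega) hx hx'
  by_cases e' : i' = 4
  · subst e'; exact facs_four_ne P h1 (by omega) hx' hx
  have q := (Level.ncard_fix (geo24 P) arith24 h1 (by omega) hx).symm.trans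
    (Level.ncard_fix (geo24 P) arith24 h1' (by omega) hx')
  interval_cases i <;> interval_cases i' <;> simp at q hne e e'

/-- Products of each length exist. -/
theorem exists_facs24 {i : ℕ} (h1 : 1 ≤ i) (h4 : i ≤ 4) : ∃ x, Facs D i x := by
  by_cases h3 : i ≤ 3
  · exact Level.exists_facs (geo24 P) arith24 h1 h3 (by norm_num) P.mem
  obtain rfl : i = 4 := by omega
  obtain ⟨e, P'⟩ := P.below
  obtain ⟨x, m, hmn, hml, hmm, hmc, -⟩ := Level.exists_facs (geo23 P') arith23 (by norm_num : 1 ≤ 3) le_rfl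
    (by norm_num) P'.mem
  obtain ⟨L, hmap, hnb, hn, hc⟩ := lift_list24 P m hmm hmn hmc
  refine ⟨_, d :: L.map ((↑) : ↥(hsub D d) → G), List.nodup_cons.2 ⟨fun q => ?_, hn⟩, ?_, ?_, ?_, rfl⟩
  · obtain ⟨y, hy, e'⟩ := List.mem_map.1 q
    exact (hnb y hy).2.1 e'
  · rw [List.length_cons, List.length_map, ← List.length_map (f := QuotientGroup.mk' (Subgroup.center ↥(hsub D d))),
      hmap, hml]
  · intro y hy
    rcases List.mem_cons.1 hy with rfl | hy
    · exact P.mem
    · obtain ⟨z, hz, rfl⟩ := List.mem_map.1 hy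
      exact (hnb z hz).1
  · intro y hy z hz
    rcases List.mem_cons.1 hy with rfl | hy <;> rcases List.mem_cons.1 hz with rfl | hz
    · exact Commute.refl _
    · obtain ⟨w, hw, rfl⟩ := List.mem_map.1 hz
      exact (hnb w hw).2.2
    · obtain ⟨w, hw, rfl⟩ := List.mem_map.1 hy
      exact (hnb w hw).2.2.symm
    · obtain ⟨w, hw, rfl⟩ := List.mem_map.1 hy
      obtain ⟨w', hw', rfl⟩ := List.mem_map.1 hz
      exact hc w hw w' hw'

omit P in
theorem facs_sq {i : ℕ} {x : G} (hT : TT0 D) (hx : Facs D i x) : x * x = 1 := by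
  obtain ⟨l, -, -, hm, hc, rfl⟩ := hx
  exact sq_prod_list hT hm hc

theorem facs_orderOf24 {i : ℕ} (h1 : 1 ≤ i) (h4 : i ≤ 4) {x : G} (hx : Facs D i x) : orderOf x = 2 := by
  refine orderOf_eq_prime (by rw [pow_two]; exact facs_sq P.base.tt hx) fun e => ?_
  by_cases h3 : i ≤ 3
  · exact Level.facs_ne_one (geo24 P) arith24 h1 h3 (by norm_num) (by norm_num) hx e
  obtain rfl : i = 4 := by omega
  subst e
  obtain ⟨a, b, c, f, ha, hb, hc, hf, nbc, nbf, ncf, cbc, cbf, ccf, q⟩ := facs_four hx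
  have h5 : Facs D 3 f := ⟨[a, b, c], by simp [hb.2.1.symm, hc.2.1.symm, nbc], rfl,
    by simpa using ⟨ha, hb.1, hc.1⟩, by
      simp only [List.mem_cons, List.not_mem_nil, or_false, forall_eq_or_imp, forall_eq]
      exact ⟨⟨Commute.refl _, hb.2.2, hc.2.2⟩, ⟨hb.2.2.symm, Commute.refl _, cbc⟩,
        hc.2.2.symm, cbc.symm, Commute.refl _⟩,
    by
      rw [← P.base.tt.inv hf.1, ← eq_inv_of_mul_eq_one_left q]
      simp [mul_assoc]⟩
  have h6 : Facs D 1 f := ⟨[f], by simp, rfl, by simpa using hf.1, by simp, by simp⟩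
  have := (Level.ncard_fix (geo24 P) arith24 (by norm_num) le_rfl h5).symm.trans
    (Level.ncard_fix (geo24 P) arith24 le_rfl (by norm_num) h6)
  simp at this

end CfsgLib.ThreeT.Prod
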