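import Mathlib

/-!
Strongly regular graphs without triangles whose valency and whose number of common neighbours are powers of three.
-/

set_option autoImplicit false
set_option linter.unusedSectionVars false

namespace CfsgLib.ThreeT.TriangleFree

open Finset

/-- The trace of an idempotent real matrix is a natural number. -/
lemma exists_nat_trace {n : Type*} [Fintype n] [DecidableEq n] (E : Matrix n n ℝ) (h : E * E = E) :
    ∃ m : ℕ, E.trace = m := by
  have hi : IsIdempotentElem (Matrix.toLin' E) := by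
    show Matrix.toLin' E * Matrix.toLin' E = Matrix.toLin' E
    rw [Module.End.mul_eq_comp, ← Matrix.toLin'_mul, h]
  refine ⟨Module.finrank ℝ (LinearMap.range (Matrix.toLin' E)), ?_⟩
  rw [← Matrix.trace_toLin'_eq]
  exact ((LinearMap.isProj_range_iff_isIdempotentElem _).mpr hi).trace

variable {V : Type*} [Fintype V] [DecidableEq V] (Γ : SimpleGraph V) [DecidableRel Γ.Adj]

variable {k μ : ℕ} (hdeg : ∀ x, (univ.filter fun z => Γ.Adj x z).card = k)
  (hcn : ∀ x y, Γ.Adj x y → (univ.filter fun z => Γ.Adj x z ∧ Γ.Adj y z).card = 0)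
  (hnn : ∀ x y, x ≠ y → ¬ Γ.Adj x y → (univ.filter fun z => Γ.Adj x z ∧ Γ.Adj y z).card = μ)

include hdeg hcn hnn

/-- Counting paths of length two. -/
lemma count_paths (x : V) : k * k = k + μ * (Fintype.card V - 1 - k) := by
  have h := Finset.sum_card_bipartiteAbove_eq_sum_card_bipartiteBelow (s := (univ : Finset V))
    (t := univ.filter fun z => Γ.Adj x z) (fun y z => Γ.Adj y z)
  have hR : ∑ z ∈ univ.filter (fun z => Γ.Adj x z), ((univ : Finset V).bipartiteBelow (fun y z => Γ.Adj y z) z).card =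
      k * k := by
    rw [Finset.sum_congr rfl fun z _ => show _ = k from (by
      refine Eq.trans ?_ (hdeg z)
      congr 1; ext y; simp [Finset.bipartiteBelow, Γ.adj_comm z y]), Finset.sum_const, hdeg x, smul_eq_mul]
  have hL : ∀ y, ((univ.filter fun z => Γ.Adj x z).bipartiteAbove (fun y z => Γ.Adj y z) y).card =
      (univ.filter fun z => Γ.Adj x z ∧ Γ.Adj y z).card := fun y => by
    rw [Finset.bipartiteAbove, Finset.filter_filter]
  rw [← hR, ← h, Finset.sum_congr rfl fun y _ => hL y, ← Finset.add_sum_erase _ _ (Finset.mem_univ x)]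
  simp only [and_self, hdeg x]
  congr 1
  rw [← Finset.sum_filter_add_sum_filter_not (univ.erase x) (fun y => Γ.Adj x y),
    Finset.sum_congr rfl fun y hy => hcn x y (Finset.mem_filter.mp hy).2, Finset.sum_const_zero, zero_add,
    Finset.sum_congr rfl fun y hy => hnn x y (Finset.ne_of_mem_erase (Finset.mem_filter.mp hy).1).symm
      (Finset.mem_filter.mp hy).2, Finset.sum_const, smul_eq_mul, mul_comm]
  congr 1
  have h1 := Finset.card_filter_add_card_filter_not (s := univ.erase x) fun y => Γ.Adj x y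
  have h2 : ((univ.erase x).filter fun y => Γ.Adj x y).card = k := by
    refine Eq.trans ?_ (hdeg x)
    congr 1; ext y
    simp only [Finset.mem_filter, Finset.mem_erase, Finset.mem_univ, and_true, true_and]
    exact ⟨fun h => h.2, fun h => ⟨(Γ.ne_of_adj h).symm, h⟩⟩
  rw [h2, Finset.card_erase_of_mem (Finset.mem_univ x), Finset.card_univ] at h1
  omega

/-- An idempotent in the algebra of the graph has natural trace. -/
lemma trace_nat {n : ℕ} (hn : Fintype.card V = n) (α β γ : ℝ) (h1 : 2 * α * β - α ^ 2 * μ = α)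
    (h2 : α ^ 2 * ((k : ℝ) - μ) + β ^ 2 = β)
    (h3 : α ^ 2 * μ + 2 * α * γ * k + 2 * β * γ + γ ^ 2 * n = γ) : ∃ m : ℕ, (n : ℝ) * (β + γ) = m := by
  classical
  let E : Matrix V V ℝ := Matrix.of fun x y => α * (if Γ.Adj x y then 1 else 0) + β * (if x = y then 1 else 0) + γ
  have hE : E * E = E := by
    ext x y
    rw [Matrix.mul_apply]
    simp only [E, Matrix.of_apply]
    have e : ∀ z, (α * (if Γ.Adj x z then (1 : ℝ) else 0) + β * (if x = z then 1 else 0) + γ) *
        (α * (if Γ.Adj z y then (1 : ℝ) else 0) + β * (if z = y then 1 else 0) + γ) =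
        α ^ 2 * (if Γ.Adj x z ∧ Γ.Adj y z then 1 else 0)
        + α * β * (if z = y then (if Γ.Adj x z then 1 else 0) else 0)
        + α * β * (if x = z then (if Γ.Adj z y then 1 else 0) else 0)
        + β ^ 2 * (if x = z then (if z = y then 1 else 0) else 0)
        + α * γ * (if Γ.Adj x z then 1 else 0) + α * γ * (if Γ.Adj y z then 1 else 0)
        + β * γ * (if x = z then 1 else 0) + β * γ * (if z = y then 1 else 0) + γ ^ 2 := fun z => by
      simp only [Γ.adj_comm z y]
      split_ifs <;> simp_all <;> ring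
    simp only [e, Finset.sum_add_distrib, ← Finset.mul_sum, Finset.sum_ite_eq, Finset.sum_ite_eq',
      Finset.mem_univ, if_true, Finset.sum_boole, hdeg, Finset.sum_const, Finset.card_univ, hn, nsmul_eq_mul]
    by_cases hxy : x = y
    · subst hxy
      simp only [and_self, hdeg, if_true, if_neg (SimpleGraph.irrefl Γ (v := x))]
      linear_combination h2 + h3
    · by_cases hA : Γ.Adj x y
      · simp only [hcn x y hA, if_pos hA, if_neg hxy, Nat.cast_zero]
        linear_combination h1 + h3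
      · simp only [hnn x y hxy hA, if_neg hA, if_neg hxy]
        linear_combination h3
  obtain ⟨m, hm⟩ := exists_nat_trace E hE
  refine ⟨m, ?_⟩
  rw [← hm, Matrix.trace]
  simp [E, hn, mul_add]

/-- The discriminant is a square. -/
lemma disc_square {n : ℕ} (hn : Fintype.card V = n) (x : V) (hμk : μ < k) :
    ∃ D : ℤ, ((n : ℤ) * μ - μ - 2 * k) ^ 2 = ((μ : ℤ) ^ 2 + 4 * (k - μ)) * D ^ 2 := by
  have hk1 : k + 1 ≤ n := by
    rw [← hn, ← hdeg x, ← Finset.card_univ, ← Finset.card_erase_add_one (Finset.mem_univ x)]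
    refine Nat.add_le_add_right (Finset.card_le_card fun z hz => ?_) 1
    exact Finset.mem_erase.mpr ⟨(Γ.ne_of_adj (Finset.mem_filter.mp hz).2).symm, Finset.mem_univ z⟩
  have hc : (k : ℝ) * k = k + μ * ((n : ℝ) - 1 - k) := by
    have h0 := count_paths Γ hdeg hcn hnn x
    rw [hn] at h0
    have h1 : ((n - 1 - k : ℕ) : ℝ) = (n : ℝ) - 1 - k := by
      rw [Nat.cast_sub (by omega), Nat.cast_sub (by omega)]; simp
    rw [← h1]
    exact_mod_cast h0
  set Δ : ℝ := (μ : ℝ) ^ 2 + 4 * ((k : ℝ) - μ) with hΔ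
  have hΔ0 : 0 < Δ := by
    have : (μ : ℝ) < k := by exact_mod_cast hμk
    nlinarith
  set s := Real.sqrt Δ with hs
  have hs0 : s ≠ 0 := (Real.sqrt_pos.mpr hΔ0).ne'
  have hs2 : s * s = Δ := Real.mul_self_sqrt hΔ0.le
  have hn0 : (n : ℝ) ≠ 0 := by
    have : 0 < n := by omega
    positivity
  have key : ∀ α : ℝ, α ^ 2 * Δ = 1 →
      ∃ m : ℕ, ((n : ℝ) - 1) * ((1 + α * μ) / 2) - α * k = m := by
    intro α hα
    obtain ⟨m, hm⟩ := trace_nat Γ hdeg hcn hnn hn α ((1 + α * μ) / 2) (-(α * k + (1 + α * μ) / 2) / n)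
      (by ring) (by rw [hΔ] at hα; linear_combination hα / 4) (by
        rw [hΔ] at hα
        field_simp
        linear_combination (4 * α ^ 2) * (-hc) + (-1 : ℝ) * hα)
    refine ⟨m, ?_⟩
    rw [← hm]
    field_simp
    ring
  obtain ⟨a, ha⟩ := key (1 / s) (by field_simp; rw [pow_two, hs2])
  obtain ⟨b, hb⟩ := key (-(1 / s)) (by field_simp; rw [pow_two, hs2])
  refine ⟨(a : ℤ) - b, ?_⟩
  have hD : (n : ℝ) * μ - μ - 2 * k = s * ((a : ℝ) - b) := by
    rw [← ha, ← hb]
    field_simp
    ring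
  have hR : ((n : ℝ) * μ - μ - 2 * k) ^ 2 = Δ * ((a : ℝ) - b) ^ 2 := by
    rw [hD, mul_pow, pow_two s, hs2]
  rw [hΔ] at hR
  have hI : ((((n : ℤ) * μ - μ - 2 * k) ^ 2 : ℤ) : ℝ) =
      ((((μ : ℤ) ^ 2 + 4 * (k - μ)) * ((a : ℤ) - b) ^ 2 : ℤ) : ℝ) := by
    push_cast
    exact hR
  exact_mod_cast hI

omit hdeg hcn hnn in
/-- A power of three times a number congruent to two modulo three is no square. -/
lemma not_square_three (i : ℕ) : ∀ (q : ℤ) (X : ℤ), X % 3 = 2 → q ^ 2 ≠ 3 ^ i * X := by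
  induction i using Nat.strong_induction_on with
  | _ i ih =>
    intro q X hX h
    rcases Nat.lt_or_ge i 1 with h0 | h1
    · rw [show i = 0 by omega, pow_zero, one_mul] at h
      have : q % 3 = 0 ∨ q % 3 = 1 ∨ q % 3 = 2 := by omega
      rw [← h, pow_two, Int.mul_emod] at hX
      rcases this with e | e | e <;> rw [e] at hX <;> norm_num at hX
    · obtain ⟨j, rfl⟩ : ∃ j, i = j + 1 := ⟨i - 1, by omega⟩
      obtain ⟨r, rfl⟩ : (3 : ℤ) ∣ q := Int.prime_three.dvd_of_dvd_pow (n := 2) (h ▸ ⟨3 ^ j * X, by ring⟩)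
      have h' : 3 * r ^ 2 = 3 ^ j * X := by
        have : (3 : ℤ) * (3 * r ^ 2) = 3 * (3 ^ j * X) := by rw [← mul_assoc 3 ((3 : ℤ) ^ j), ← pow_succ', ← h]; ring
        exact mul_left_cancel₀ (by norm_num) this
      cases j with
      | zero => rw [pow_zero, one_mul] at h'; omega
      | succ t =>
        refine ih t (by omega) r X hX ?_
        have : (3 : ℤ) * r ^ 2 = 3 * (3 ^ t * X) := by rw [h']; ring
        exact mul_left_cancel₀ (by norm_num) this

/-- The valency is three. -/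
theorem petersen_params {n i j : ℕ} (hn : Fintype.card V = n) (x : V) (hk : k = 3 ^ j) (hμ : μ = 3 ^ i)
    (hμk : μ < k) : k = 3 ∧ μ = 1 ∧ n = 10 := by
  have hk1 : k + 1 ≤ n := by
    rw [← hn, ← hdeg x, ← Finset.card_univ, ← Finset.card_erase_add_one (Finset.mem_univ x)]
    refine Nat.add_le_add_right (Finset.card_le_card fun z hz => ?_) 1
    exact Finset.mem_erase.mpr ⟨(Γ.ne_of_adj (Finset.mem_filter.mp hz).2).symm, Finset.mem_univ z⟩
  have hc : (k : ℤ) * k = k + μ * ((n : ℤ) - 1 - k) := by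
    have h0 := count_paths Γ hdeg hcn hnn x
    rw [hn] at h0
    have h1 : ((n - 1 - k : ℕ) : ℤ) = (n : ℤ) - 1 - k := by omega
    rw [← h1]
    exact_mod_cast h0
  obtain ⟨D, hD⟩ := disc_square Γ hdeg hcn hnn hn x hμk
  have hij : i < j := by
    rw [hk, hμ] at hμk
    exact (Nat.pow_lt_pow_iff_right (by norm_num)).mp hμk
  have hk3 : 3 ≤ k := by
    rw [hk]; calc 3 = 3 ^ 1 := (pow_one 3).symm
      _ ≤ _ := Nat.pow_le_pow_right (by norm_num) (by omega)
  have hμ1 : 1 ≤ μ := by rw [hμ]; exact Nat.one_le_pow _ _ (by norm_num)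
  set T := (n : ℤ) * μ - μ - 2 * k with hT
  have hT' : T = μ * k + k * k - 3 * k := by rw [hT]; linear_combination -hc
  have hT0 : 0 < T := by
    rw [hT']
    have : (3 : ℤ) ≤ k := by exact_mod_cast hk3
    have : (1 : ℤ) ≤ μ := by exact_mod_cast hμ1
    nlinarith
  have hD0 : D ≠ 0 := fun e => by rw [e] at hD; nlinarith
  obtain ⟨q, hq⟩ : D ∣ T := (Int.pow_dvd_pow_iff two_ne_zero).mp ⟨_, hD.trans (mul_comm _ _)⟩
  have hsq : q ^ 2 = (μ : ℤ) ^ 2 + 4 * (k - μ) := by
    rw [hq, mul_pow, mul_comm _ (D ^ 2)] at hD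
    exact mul_left_cancel₀ (pow_ne_zero 2 hD0) hD
  rcases Nat.eq_zero_or_pos i with hi | hi
  · rw [hi, pow_zero] at hμ
    subst hμ
    push_cast at hsq hT' hc
    have h15 : q ∣ 15 := by
      refine ⟨q * (q ^ 2 - 2) - 16 * D, ?_⟩
      have e4 : 4 * (k : ℤ) = q ^ 2 + 3 := by linarith
      have hqT : q * D = (k : ℤ) * (k - 2) := by rw [mul_comm, ← hq, hT']; ring
      linear_combination (4 * (k : ℤ) + q ^ 2 + 3 - 8) * e4 + 16 * hqT
    have hb : q ≤ 15 ∧ -15 ≤ q := by
      constructor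
      · exact Int.le_of_dvd (by norm_num) h15
      · have := Int.le_of_dvd (by norm_num) (neg_dvd.mpr h15); omega
    have hk57 : k = 3 ∨ k = 7 ∨ k = 57 ∨ k = 1 := by
      obtain ⟨hb1, hb2⟩ := hb
      interval_cases q <;> norm_num at h15 <;> omega
    have hkj : k = 3 := by
      rcases hk57 with h | h | h | h
      · exact h
      all_goals
        exfalso
        rw [h] at hk
        rcases Nat.lt_or_ge j 4 with hj | hj
        · interval_cases j <;> norm_num at hk <;> omega
        · have := Nat.pow_le_pow_right (show 0 < 3 by norm_num) hj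
          omega
    refine ⟨hkj, rfl, ?_⟩
    rw [hkj] at hc
    push_cast at hc
    omega
  · exfalso
    refine not_square_three i q (3 ^ i + 4 * 3 ^ (j - i) - 4) ?_ ?_
    · obtain ⟨a, ha⟩ : ∃ a, i = a + 1 := ⟨i - 1, by omega⟩
      obtain ⟨b, hb⟩ : ∃ b, j - i = b + 1 := ⟨j - i - 1, by omega⟩
      rw [hb, ha, pow_succ, pow_succ]
      generalize (3 : ℤ) ^ a = A
      generalize (3 : ℤ) ^ b = B
      omega
    · rw [hsq, hk, hμ]
      push_cast
      rw [show (3 : ℤ) ^ j = 3 ^ i * 3 ^ (j - i) by rw [← pow_add]; congr 1; omega]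
      ring

end CfsgLib.ThreeT.TriangleFree
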