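/-
Members with twins inside neighbourhoods: the commuting graph then has no triangles and is the Petersen graph.
-/
import Cfsg.Agent.Spor3T.Twins
import Cfsg.Agent.Spor3T.Structure
import Cfsg.Agent.Spor3T.TriangleFree
import Cfsg.Agent.LocalB.OddSignalizer

set_option autoImplicit false
set_option linter.style.haveILetI false
set_option linter.unusedSectionVars false

namespace CfsgLib.ThreeT

universe u

variable {G : Type u} [Group G]

/-- The other members commuting with `a`. -/
def others (D : Set G) (a : G) : Set G := {y : G | y ∈ D ∧ y ≠ a ∧ Commute a y}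

lemma others_symm {D : Set G} {a b : G} (ha : a ∈ D) (h : b ∈ others D a) : a ∈ others D b :=
  ⟨ha, h.2.1.symm, h.2.2.symm⟩

/-- The configuration of type `D₅` produces a member commuting with `d` and `x` but not with `u`. -/
theorem exists_split {D : Set G} (hD : Cfsg.IsThreeTranspositionSet D)
    (hconj : ∀ g : G, ∀ z ∈ D, g * z * g⁻¹ ∈ D) {d d' u x y : G}
    (hd : d ∈ D) (hd' : d' ∈ D) (hu : u ∈ D) (hx : x ∈ D) (hy : y ∈ D) (hne : d' ≠ d) (hdd' : Commute d d')
    (hdu : Commute d u) (hdx : Commute d x) (hd'u : Commute d' u) (hd'x : Commute d' x) (hyx : Commute y x)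
    (hxu : ¬ Commute x u) (hdy : ¬ Commute d y) (hd'y : ¬ Commute d' y) (huy : ¬ Commute u y) :
    ∃ e ∈ D, e ≠ x ∧ Commute x e ∧ Commute d e ∧ ¬ Commute u e := by
  have cd := invol_cancel (ord hD hd); have cy := invol_cancel (ord hD hy)
  have cu := invol_cancel (ord hD hu); have cx := invol_cancel (ord hD hx)
  have yd : y * u * y = u * y * u := braid hD hy hu fun h => huy h.symm
  have dy : d * y * d = y * d * y := braid hD hd hy hdy
  have xu : x * u * x = u * x * u := braid hD hx hu hxu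
  have Y := sq hD hy; have X := sq hD hx; have U := sq hD hu; have DD := sq hD hd
  have iy := inv hD hy; have ix := inv hD hx; have iu := inv hD hu; have id' := inv hD hd
  set g := (u * x) * (y * u) * (d * y) with hg
  have hgd : g * d * g⁻¹ = x := by
    calc g * d * g⁻¹ = u * x * (y * u * (d * y * d * (d * y)⁻¹) * (y * u)⁻¹) * (u * x)⁻¹ := by rw [hg]; group
      _ = u * x * u * (u * x)⁻¹ := by rw [braid_eq_conj hD hd hy hdy, braid_eq_conj hD hy hu fun h => huy h.symm]
      _ = x := braid_eq_conj hD hu hx fun h => hxu h.symm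
  have hgu : g * u * g⁻¹ = d := by
    have e1 : d * y * u * (d * y)⁻¹ = u * (y * d * y) * u := by
      calc d * y * u * (d * y)⁻¹ = d * (y * u * y) * d := by rw [mul_inv_rev, iy, id']; group
        _ = (d * u) * y * (u * d) := by rw [yd]; group
        _ = u * (d * y * d) * u := by rw [hdu.eq]; nth_rewrite 2 [← hdu.eq]; group
        _ = _ := by rw [dy]
    calc g * u * g⁻¹ = u * x * (y * u * (d * y * u * (d * y)⁻¹) * (y * u)⁻¹) * (u * x)⁻¹ := by rw [hg]; group
      _ = u * x * (y * (u * u) * (y * d * y) * (u * u) * y) * (x * u) := by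
        rw [e1, mul_inv_rev, mul_inv_rev, iy, iu, ix]; group
      _ = u * x * d * (x * u) := by
        rw [U, mul_one, mul_one, show y * (y * d * y) * y = (y * y) * d * (y * y) by group, Y, one_mul, mul_one]
      _ = u * (d * x) * (x * u) := by rw [hdx.eq]; group
      _ = u * d * u := by rw [show u * (d * x) * (x * u) = u * d * (x * x) * u by group, X, mul_one]
      _ = d := by rw [← hdu.eq, mul_assoc, U, mul_one]
  have hgi : g⁻¹ * u * g = (x * u) * (d * y * d) * (x * u)⁻¹ := by
    calc g⁻¹ * u * g = y * d * (u * (y * (x * (u * u) * u * x) * y) * u) * (d * y) := by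
          rw [hg]; simp only [mul_inv_rev, iy, iu, ix, id']; group
      _ = y * d * (u * (x * (y * u * y) * x) * u) * (d * y) := by
          rw [U, mul_one, show y * (x * u * x) * y = x * (y * u * y) * x from Eq.trans (by group)
            ((congrArg₂ (fun a b => a * u * b) hyx.eq hyx.eq.symm).trans (by group))]
      _ = y * d * ((u * x * u) * y * (u * x * u)) * (d * y) := by rw [yd]; group
      _ = y * d * (x * u * (x * y) * x * u * x) * (d * y) := by rw [← xu]; group
      _ = y * d * (x * u * y * u * x) * (d * y) := by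
          rw [← hyx.eq, show x * u * (y * x) * x * u * x = x * u * y * (x * x) * u * x by group, X, mul_one]
      _ = y * d * (x * (y * u * y) * x) * (d * y) := by rw [yd]; group
      _ = y * (d * x) * (y * u * y) * (x * d) * y := by group
      _ = y * (x * d) * (y * u * y) * (d * x) * y := by rw [hdx.eq]
      _ = (y * x) * d * (y * u * y) * d * (x * y) := by group
      _ = x * (y * d * y) * u * (y * d * y) * x :=
            (congrArg₂ (fun a b => a * d * (y * u * y) * d * b) hyx.eq hyx.eq.symm).trans (by group)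
      _ = x * d * y * (d * u) * d * y * d * x := by rw [← dy]; group
      _ = x * d * (y * u * y) * d * x := by rw [hdu.eq, show x * d * y * (u * d) * d * y * d * x =
            x * d * y * u * (d * d) * y * d * x by group, DD, mul_one]; group
      _ = x * (d * u) * y * (u * d) * x := by rw [yd]; group
      _ = x * (u * d) * y * (d * u) * x := by rw [hdu.eq]
      _ = _ := by rw [mul_inv_rev, iu, ix]; group
  refine ⟨g * d' * g⁻¹, hconj g d' hd', ?_, ?_, ?_, ?_⟩
  · exact fun e => hne (mul_left_cancel (mul_right_cancel (e.trans hgd.symm)))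
  · rw [← hgd, commute_conj_iff]; exact hdd'
  · rw [← hgu, commute_conj_iff]; exact hd'u.symm
  · intro hc
    have h1 : Commute (g⁻¹ * u * g) d' := by
      have := (commute_conj_iff g⁻¹ _ _).mpr hc
      simpa [mul_assoc] using this
    have hfix : x * u * d' * (x * u)⁻¹ = d' := by
      rw [← (hd'x.mul_right hd'u).eq, mul_inv_cancel_right]
    rw [hgi, ← hfix, commute_conj_iff] at h1
    refine hd'y ?_
    have h2 := (commute_conj_iff d _ _).mpr h1.symm
    rwa [id', hdd'.eq, mul_assoc d' d d, DD, mul_one, show d * (d * y * d) * d = y by simp [mul_assoc, cd, DD]] at h2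

/-- A closed set of pairwise non-commuting members is an orbit of a 3-group containing all products. -/
theorem noncommuting_closed [Finite G] {D : Set G} (hD : Cfsg.IsThreeTranspositionSet D) {W : Set G} (hW : W ⊆ D)
    (hclosed : ∀ a ∈ W, ∀ b ∈ W, a * b * a⁻¹ ∈ W) (hnc : ∀ a ∈ W, ∀ b ∈ W, a ≠ b → ¬ Commute a b)
    {d : G} (hd : d ∈ W) :
    ∃ P : Subgroup G, IsPGroup 3 P ∧ (∀ a ∈ W, ∀ b ∈ W, a * b ∈ P) ∧ ∃ i : ℕ, W.ncard = 3 ^ i := by
  haveI : Fact (Nat.Prime 3) := ⟨by norm_num⟩
  set H := Subgroup.closure W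
  have hWH : ∀ z ∈ W, z ∈ H := fun z hz => Subgroup.subset_closure hz
  have hWconj : ∀ h ∈ H, ∀ z ∈ W, h * z * h⁻¹ ∈ W := by
    intro h hh
    induction hh using Subgroup.closure_induction'' with
    | mem a ha => exact hclosed a ha
    | inv_mem a ha => rw [inv hD (hW ha)]; exact hclosed a ha
    | one => intro z hz; simpa using hz
    | mul a b _ _ ha hb => intro z hz; simpa [mul_assoc] using ha _ (hb z hz)
  let D' : Set H := {z | (z : G) ∈ W}
  have hclass : Cfsg.IsThreeTranspositionClass D' := by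
    refine ⟨⟨fun z hz => (Subgroup.orderOf_coe z).symm.trans (hD.1 _ (hW hz)), fun a ha b hb =>
      (hD.2 _ (hW ha) _ (hW hb)).imp (fun h => Subtype.ext h) fun h => Subtype.ext h⟩,
      ⟨⟨d, hWH d hd⟩, hd, Set.ext fun e => ⟨fun he => ?_, fun he => ?_⟩⟩,
      eq_top_iff.mpr fun x hxtop => ?_⟩
    · show IsConj (⟨d, hWH d hd⟩ : H) e
      by_cases hde : (⟨d, hWH d hd⟩ : H) = e
      · exact hde ▸ IsConj.refl _
      · exact isConj_iff.mpr ⟨⟨d, hWH d hd⟩ * e, Subtype.ext
          (braid_eq_conj hD (hW hd) (hW he) (hnc d hd e he fun h => hde (Subtype.ext h)))⟩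
    · obtain ⟨g, rfl⟩ := isConj_iff.mp (show IsConj (⟨d, hWH d hd⟩ : H) e from he)
      exact hWconj g g.2 d hd
    · clear hxtop
      obtain ⟨x, hx⟩ := x
      induction hx using Subgroup.closure_induction with
      | mem z hz => exact Subgroup.subset_closure hz
      | one => exact one_mem _
      | mul a b _ _ ha hb => exact mul_mem ha hb
      | inv a _ ha => exact inv_mem ha
  have hp3 := (isPGroup_of_no_commuting hclass fun a b hab hc =>
    hnc _ a.2 _ b.2 (fun e => hab (Subtype.ext (Subtype.ext e))) (hc.map H.subtype)).map H.subtype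
  set P := (commutator H).map H.subtype
  have hprod : ∀ a ∈ W, ∀ b ∈ W, a * b ∈ P := fun a ha b hb =>
    ⟨⟨a, hWH a ha⟩ * ⟨b, hWH b hb⟩, mul_mem_commutator hclass (show a ∈ W from ha) (show b ∈ W from hb), rfl⟩
  refine ⟨P, hp3, hprod, ?_⟩
  letI : MulAction P G := MulAction.compHom G ((MulAut.conj).comp P.subtype)
  have horb : MulAction.orbit P d = W := by
    ext e
    constructor
    · rintro ⟨⟨p, hp⟩, rfl⟩
      exact hWconj p (Subgroup.map_subtype_le _ hp) d hd
    · intro he
      by_cases hde : d = e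
      · exact hde ▸ MulAction.mem_orbit_self d
      · exact ⟨⟨d * e, hprod d hd e he⟩, braid_eq_conj hD (hW hd) (hW he) (hnc d hd e he hde)⟩
  obtain ⟨i, hi⟩ := hp3.card_orbit d
  exact ⟨i, by rw [← horb, ← Nat.card_coe_set_eq, hi]⟩

section Class

variable [Finite G] {D : Set G} (hD : Cfsg.IsThreeTranspositionClass D)
include hD

/-- A non-central odd core gives a non-central 3-core. -/
theorem three_core_of_odd_core (h : ¬ Cfsg.oddCore G ≤ Subgroup.center G) :
    ¬ Cfsg.pCore 3 G ≤ Subgroup.center G := by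
  intro h3
  haveI : Fact (Nat.Prime 3) := ⟨by norm_num⟩
  set N := Cfsg.oddCore G with hN
  have hodd : Odd (Nat.card N) := CfsgLib.LocalB.odd_card_oddCore
  have hn : ∀ g : G, ∀ n ∈ N, g * n * g⁻¹ ∈ N := fun g n hn => (inferInstance : N.Normal).conj_mem n hn g
  have hsq1 : ∀ z ∈ N, z ^ 2 = 1 → z = 1 := fun z hz h2 => by
    have h1 : orderOf z ∣ Nat.card N := by
      rw [← Subgroup.orderOf_mk z hz]; exact orderOf_dvd_natCard _
    rw [← orderOf_eq_one_iff]
    exact Nat.eq_one_of_dvd_coprimes (Nat.coprime_two_right.mpr hodd) h1 (orderOf_dvd_of_pow_eq_one h2)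
  refine h fun n hnN => center_of_commute hD fun d hd => ?_
  set W : Set G := {w | ∃ m ∈ N, w = m * d * m⁻¹} with hWdef
  have hWD : W ⊆ D := fun w ⟨m, _, hw⟩ => hw ▸ conj_mem hD hd m
  have hdW : d ∈ W := ⟨1, one_mem N, by simp⟩
  have hprodN : ∀ a ∈ W, ∀ b ∈ W, a * b ∈ N := by
    rintro _ ⟨m, hm, rfl⟩ _ ⟨m', hm', rfl⟩
    have e : m * d * m⁻¹ * (m' * d * m'⁻¹) = m * (d * (m⁻¹ * m') * d⁻¹) * (m'⁻¹) := by
      rw [inv hD.1 hd]; group
    rw [e]
    exact mul_mem (mul_mem hm (hn d _ (mul_mem (inv_mem hm) hm'))) (inv_mem hm')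
  have hclosed : ∀ a ∈ W, ∀ b ∈ W, a * b * a⁻¹ ∈ W := by
    rintro _ ⟨m, hm, rfl⟩ _ ⟨m', hm', rfl⟩
    refine ⟨m * (d * (m⁻¹ * m') * d⁻¹), mul_mem hm (hn d _ (mul_mem (inv_mem hm) hm')), ?_⟩
    group
  have hnc : ∀ a ∈ W, ∀ b ∈ W, a ≠ b → ¬ Commute a b := fun a ha b hb hab hc => hab (by
    have h1 := hsq1 _ (hprodN a ha b hb) (sq_of_commute (hD.1.1 a (hWD ha)) (hD.1.1 b (hWD hb)) hc)
    rw [← inv hD.1 (hWD ha)]; exact inv_eq_of_mul_eq_one_right h1)
  obtain ⟨P, hP, hprod, -⟩ := noncommuting_closed hD.1 hWD hclosed hnc hdW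
  set U := Subgroup.closure {u : G | ∃ a ∈ W, ∃ b ∈ W, u = a * b}
  have hUN : U ≤ N := (Subgroup.closure_le _).mpr fun u ⟨a, ha, b, hb, hu⟩ => hu ▸ hprodN a ha b hb
  have hUP : U ≤ P := (Subgroup.closure_le _).mpr fun u ⟨a, ha, b, hb, hu⟩ => hu ▸ hprod a ha b hb
  have hUsub : U.IsSubnormal := by
    refine Subgroup.IsSubnormal.step U N hUN (inferInstance : N.Normal).isSubnormal ?_
    have hnorm : ∀ k ∈ N, ∀ u ∈ U, k * u * k⁻¹ ∈ U := by
      intro k hk u hu
      induction hu using Subgroup.closure_induction with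
      | mem u hu =>
        obtain ⟨_, ⟨m, hm, rfl⟩, _, ⟨m', hm', rfl⟩, rfl⟩ := hu
        exact Subgroup.subset_closure ⟨_, ⟨k * m, mul_mem hk hm, rfl⟩, _, ⟨k * m', mul_mem hk hm', rfl⟩, by group⟩
      | one => simp
      | mul a b _ _ ha hb => simpa [mul_assoc] using mul_mem ha hb
      | inv a _ ha => simpa [mul_assoc] using inv_mem ha
    exact ⟨fun x hx g => Subgroup.mem_subgroupOf.mpr (hnorm g g.2 x (Subgroup.mem_subgroupOf.mp hx))⟩
  have hle := CfsgLib.SubnormalJoin.le_pCore_of_isSubnormal hUsub (hP.to_le hUP)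
  have hm : d * (n * d * n⁻¹) ∈ U := Subgroup.subset_closure ⟨d, hdW, _, ⟨n, hnN, rfl⟩, rfl⟩
  set z := d * (n * d * n⁻¹) with hz
  have hzc : Commute d z := Subgroup.mem_center_iff.mp (h3 (hle hm)) d
  have hzd : d * z * d⁻¹ = z⁻¹ := by
    simp only [hz, mul_inv_rev, inv_inv, inv hD.1 hd, mul_assoc, invol_cancel (hD.1.1 d hd)]
  rw [hzc.eq, mul_inv_cancel_right] at hzd
  have hz1 : z = 1 := hsq1 z (hUN hm) (by rw [pow_two]; nth_rewrite 2 [hzd]; exact mul_inv_cancel z)
  have h2 : n * d * n⁻¹ = d := by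
    rw [← inv_eq_of_mul_eq_one_right (hz ▸ hz1 : d * (n * d * n⁻¹) = 1), inv hD.1 hd]
  show n * d = d * n
  exact mul_inv_eq_iff_eq_mul.mp h2

lemma others_conj (g a : G) : others D (g * a * g⁻¹) = (fun z => g * z * g⁻¹) '' others D a := by
  ext y
  constructor
  · rintro ⟨hy, hne, hc⟩
    refine ⟨g⁻¹ * y * g⁻¹⁻¹, ⟨conj_mem hD hy g⁻¹, fun e => hne ?_, ?_⟩, by group⟩
    · rw [← e]; group
    · have h := (commute_conj_iff g⁻¹ _ _).mpr hc
      rwa [show g⁻¹ * (g * a * g⁻¹) * g⁻¹⁻¹ = a by group] at h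
  · rintro ⟨z, ⟨hz, hne, hc⟩, rfl⟩
    exact ⟨conj_mem hD hz g, fun e => hne (mul_left_cancel (mul_right_cancel e)), (commute_conj_iff g _ _).mpr hc⟩

lemma conj_injective' (g : G) : Function.Injective fun z : G => g * z * g⁻¹ :=
  fun _ _ e => mul_left_cancel (mul_right_cancel e)

/-- With twins in every neighbourhood, commuting members have no common neighbour. -/
theorem no_triangle (hk : ∀ a ∈ D, ∀ b ∈ D, (others D a).ncard = (others D b).ncard)
    (hl : ∀ a ∈ D, ∀ b ∈ others D a, ∀ a' ∈ D, ∀ b' ∈ others D a',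
      (others D a ∩ others D b).ncard = (others D a' ∩ others D b').ncard)
    (hfree : ∀ a ∈ D, ∀ b ∈ D, others D a = others D b → a = b)
    (htwin : ∀ a ∈ D, ∀ d ∈ others D a, ∃ v ∈ others D a, v ≠ d ∧ others D a ∩ others D d = others D a ∩ others D v)
    {a b : G} (ha : a ∈ D) (hb : b ∈ others D a) : others D a ∩ others D b = ∅ := by
  classical
  by_contra hne
  obtain ⟨s₀, hs₀⟩ := Set.nonempty_iff_ne_empty.mpr hne
  -- a twin of `x` at a neighbour
  have setup : ∀ x ∈ D, ∀ d ∈ others D x, ∃ u, u ∈ others D d ∧ ¬ Commute x u ∧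
      others D d ∩ others D x = others D d ∩ others D u := by
    intro x hx d hd
    obtain ⟨u, hu, hux, he⟩ := htwin d hd.1 x (others_symm hx hd)
    exact ⟨u, hu, fun hc => (he.subset ⟨hu, hu.1, hux, hc⟩).2.2.1 rfl, he⟩
  have step : ∀ x ∈ D, ∀ d ∈ others D x, ∀ u, u ∈ others D d → ¬ Commute x u →
      others D d ∩ others D x = others D d ∩ others D u →
      ∀ y ∈ others D x, ¬ Commute d y → others D x ∩ others D y ≠ others D x ∩ others D d → Commute u y := by
    intro x hx d hd u hu hxu he y hy hdy hne'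
    by_contra huy
    obtain ⟨d', hd', hd'y⟩ : ∃ d' ∈ others D x ∩ others D d, d' ∉ others D y := by
      by_contra hcon
      push Not at hcon
      exact hne' (Set.eq_of_subset_of_ncard_le (fun z hz => Set.mem_inter hz.1 (hcon z hz))
        (hl x hx y hy x hx d hd).le (Set.toFinite _)).symm
    have hd'u : d' ∈ others D d ∩ others D u := he ▸ ⟨hd'.2, hd'.1⟩
    have hyd : ¬ Commute d' y := fun hc => hd'y ⟨hd'.1.1, fun e => hdy (e ▸ hd'.2.2.2), hc.symm⟩
    obtain ⟨e, heD, hex, hxe, hde, hue⟩ := exists_split hD.1 (fun g z hz => conj_mem hD hz g) hd.1 hd'.1.1 hu.1 hx hy.1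
      hd'.2.2.1 hd'.2.2.2 hu.2.2 hd.2.2.symm hd'u.2.2.2.symm hd'.1.2.2.symm hy.2.2.symm hxu hdy hyd huy
    have hed : e ≠ d := fun e' => hue (e' ▸ hu.2.2.symm)
    exact hue ((he ▸ ⟨⟨heD, hed, hde⟩, heD, hex, hxe⟩ : e ∈ others D d ∩ others D u).2.2.2)
  have finish : ∀ x ∈ D, ∀ u ∈ D, ¬ Commute x u → ¬ (∀ y ∈ others D x, Commute u y) := by
    intro x hx u hu hxu hall
    have hsub : others D x ⊆ others D u := fun y hy =>
      ⟨hy.1, fun e => hxu (e ▸ hy.2.2), hall y hy⟩
    exact hxu (hfree x hx u hu (Set.eq_of_subset_of_ncard_le hsub (hk u hu x hx).le (Set.toFinite _)) ▸ Commute.refl x)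
  by_cases hall : ∀ x ∈ D, ∀ d ∈ others D x, ∀ y ∈ others D x, ¬ Commute d y →
      others D x ∩ others D y = others D x ∩ others D d
  · -- all non-commuting pairs in a neighbourhood are twins
    obtain ⟨u, hu, hau, he⟩ := setup a ha b hb
    refine finish a ha u hu.1 hau fun y hy => ?_
    by_cases hyb : y = b
    · exact hyb ▸ hu.2.2.symm
    by_cases hby : Commute b y
    · exact (he ▸ ⟨⟨hy.1, hyb, hby⟩, hy⟩ : y ∈ others D b ∩ others D u).2.2.2
    have hs : s₀ ∈ others D b ∩ others D u := he ▸ ⟨hs₀.2, hs₀.1⟩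
    have h1 := hall s₀ hs₀.1.1 a (others_symm ha hs₀.1) u (others_symm hu.1 hs.2) hau
    have h2 : s₀ ∈ others D a ∩ others D y := (hall a ha b hb y hy hby) ▸ hs₀
    exact (h1.symm ▸ ⟨others_symm hy.1 h2.2, hy⟩ : y ∈ others D s₀ ∩ others D u).2.2.2
  · push Not at hall
    obtain ⟨x, hx, d, hd, z, hz, hdz, hzd⟩ := hall
    obtain ⟨u, hu, hxu, he⟩ := setup x hx d hd
    have hzu : Commute u z := step x hx d hd u hu hxu he z hz hdz hzd
    have hS : ∀ w ∈ others D x, w ≠ d → Commute d w → Commute u w := fun w hw hwd hdw =>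
      (he ▸ ⟨⟨hw.1, hwd, hdw⟩, hw⟩ : w ∈ others D d ∩ others D u).2.2.2
    have hzz : others D z ∩ others D x = others D z ∩ others D u := by
      refine Set.eq_of_subset_of_ncard_le ?_ ?_ (Set.toFinite _)
      · rintro w ⟨hwz, hwx⟩
        refine ⟨hwz, hwx.1, fun e => hxu (e ▸ hwx.2.2), ?_⟩
        by_cases hwd : w = d
        · exact hwd ▸ hu.2.2.symm
        by_cases hdw : Commute d w
        · exact hS w hwx hwd hdw
        refine step x hx d hd u hu hxu he w hwx hdw fun e => hdz ?_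
        exact (e ▸ ⟨hz, others_symm hz.1 hwz⟩ : z ∈ others D x ∩ others D d).2.2.2
      · exact (hl z hz.1 u ⟨hu.1, fun e => hxu (e ▸ hz.2.2), hzu.symm⟩ z hz.1 x (others_symm hx hz)).le
    refine finish x hx u hu.1 hxu fun y hy => ?_
    by_cases hyd : y = d
    · exact hyd ▸ hu.2.2.symm
    by_cases hdy : Commute d y
    · exact hS y hy hyd hdy
    by_cases htw : others D x ∩ others D y = others D x ∩ others D d
    · by_cases hyz : y = z
      · exact hyz ▸ hzu
      by_cases hzy : Commute z y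
      · exact (hzz ▸ ⟨⟨hy.1, hyz, hzy⟩, hy⟩ : y ∈ others D z ∩ others D u).2.2.2
      · exact step x hx z hz u (⟨hu.1, fun e => hxu (e ▸ hz.2.2), hzu.symm⟩) hxu hzz y hy hzy
          fun e => hzd (e.symm.trans htw)
    · exact step x hx d hd u hu hxu he y hy hdy htw

end Class

end CfsgLib.ThreeT
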