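/-
A group with no solvable normal subgroup whose neighbourhood groups have non-central odd core is symmetric of degree five.
-/
import Cfsg.Agent.Spor3T.LocalTwins
import Cfsg.Agent.Spor3T.Primitive
import Cfsg.Agent.SpecBlow.CoxeterA
import Cfsg.Agent.LocalSymThree.Petersen

set_option autoImplicit false
set_option linter.style.haveILetI false
set_option linter.unusedSectionVars false

namespace CfsgLib.ThreeT

universe u

open CfsgLib

/-- The transpositions of five points. -/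
def swaps5 : Finset (Equiv.Perm (Fin 5)) :=
  ((Finset.univ : Finset (Fin 5 × Fin 5)).filter fun p => p.1 < p.2).image fun p => Equiv.swap p.1 p.2

set_option maxRecDepth 100000 in
theorem swaps5_spec : swaps5.card = 10 ∧
    ∀ σ ∈ swaps5, ∃ τ, σ = τ * CoxeterA.adj 4 0 * τ⁻¹ := by decide +kernel

variable {G : Type u} [Group G] [Finite G] {D : Set G} (hD : Cfsg.IsThreeTranspositionClass D)
  (hsol : ∀ N : Subgroup G, N.Normal → Group.IsSolvable N → N = ⊥)
include hD hsol

/-- Distinct members exist. -/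
lemma exists_two_members : ∃ a b : D, a ≠ b := by
  by_contra h
  push Not at h
  obtain ⟨d₀, hd₀, -⟩ := hD.2.1
  refine not_isSolvable hD hsol ?_
  have hz : ∀ g : G, g ∈ Subgroup.zpowers d₀ := fun g => by
    have : Subgroup.closure D ≤ Subgroup.zpowers d₀ := (Subgroup.closure_le _).mpr fun z hz => by
      rw [show z = d₀ from congrArg Subtype.val (h ⟨z, hz⟩ ⟨d₀, hd₀⟩)]; exact Subgroup.mem_zpowers d₀
    exact this (hD.2.2 ▸ Subgroup.mem_top g)
  refine Group.isSolvable_of_comm fun a b => ?_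
  obtain ⟨i, rfl⟩ := Subgroup.mem_zpowers_iff.mp (hz a)
  obtain ⟨j, rfl⟩ := Subgroup.mem_zpowers_iff.mp (hz b)
  exact ((Commute.refl d₀).zpow_zpow i j).eq

lemma eq_of_others {a b : G} (ha : a ∈ D) (hb : b ∈ D) (h : others D a = others D b) : a = b := by
  haveI : Fact (Nat.Prime 3) := ⟨by norm_num⟩
  have h1 := mul_mem_three_core hD ha hb h
  rw [hsol _ (CfsgLib.Solvable.pCore_normal (G := G) 3) (by
    haveI := (CfsgLib.Solvable.isPGroup_pCore (G := G) 3).isNilpotent
    infer_instance), Subgroup.mem_bot] at h1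
  rw [← inv hD.1 ha]
  exact inv_eq_of_mul_eq_one_right h1

variable (hperf : ⁅commutator G, commutator G⁆ = commutator G)
include hperf

theorem sym_five_of_odd_core {x : G} (hx : x ∈ D)
    (h : ¬ Cfsg.oddCore ↥(Subgroup.closure (others D x)) ≤ Subgroup.center ↥(Subgroup.closure (others D x))) :
    Nonempty (G ≃* Equiv.Perm (Fin 5)) := by
  classical
  haveI : Fact (Nat.Prime 3) := ⟨by norm_num⟩
  have hC := comm_connected hD hsol hperf
  have hR := fun (a : G) (ha : a ∈ D) => rank_three_of_connected hD hsol hC (exists_two_members hD hsol) ha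
  set H := Subgroup.closure (others D x)
  have hHx : ∀ g ∈ H, Commute g x := fun g hg => by
    have hle : H ≤ Subgroup.centralizer ({x} : Set G) :=
      (Subgroup.closure_le _).mpr fun z hz => Subgroup.mem_centralizer_singleton_iff.mpr hz.2.2.symm.eq
    exact Subgroup.mem_centralizer_singleton_iff.mp (hle hg)
  have hfix : ∀ g ∈ H, g * x * g⁻¹ = x := fun g hg => by rw [(hHx g hg).eq, mul_inv_cancel_right]
  have hHD : ∀ g ∈ H, ∀ z ∈ others D x, g * z * g⁻¹ ∈ others D x := fun g hg z hz => by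
    have := others_conj hD g x
    rw [hfix g hg] at this
    rw [this]
    exact ⟨z, hz, rfl⟩
  obtain ⟨b₀, hb₀D, hb₀x, hb₀c⟩ := (hR x hx).1
  have hb₀ : b₀ ∈ others D x := ⟨hb₀D, hb₀x, hb₀c⟩
  let D' : Set H := {z | (z : G) ∈ others D x}
  have hclass : Cfsg.IsThreeTranspositionClass D' := by
    refine ⟨⟨fun z hz => (Subgroup.orderOf_coe z).symm.trans (hD.1.1 _ hz.1), fun a ha b hb =>
      (hD.1.2 _ ha.1 _ hb.1).imp (fun h => Subtype.ext h) fun h => Subtype.ext h⟩,
      ⟨⟨b₀, Subgroup.subset_closure hb₀⟩, hb₀, Set.ext fun e => ⟨fun he => ?_, fun he => ?_⟩⟩,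
      eq_top_iff.mpr fun z hz => ?_⟩
    · show IsConj (⟨b₀, Subgroup.subset_closure hb₀⟩ : H) e
      obtain ⟨g, hg, hge⟩ := (hR x hx).2.2.1 b₀ hb₀D _ he.1 hb₀x he.2.1 hb₀c he.2.2
      exact isConj_iff.mpr ⟨⟨g, hg⟩, Subtype.ext hge⟩
    · obtain ⟨g, rfl⟩ := isConj_iff.mp (show IsConj (⟨b₀, Subgroup.subset_closure hb₀⟩ : H) e from he)
      exact hHD g g.2 b₀ hb₀
    · clear hz
      obtain ⟨z, hz⟩ := z
      induction hz using Subgroup.closure_induction with
      | mem w hw => exact Subgroup.subset_closure hw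
      | one => exact one_mem _
      | mul a b _ _ ha hb => exact mul_mem ha hb
      | inv a _ ha => exact inv_mem ha
  -- twins at `x`, hence everywhere
  have htwinx : ∀ d ∈ others D x, ∃ v ∈ others D x, v ≠ d ∧
      others D x ∩ others D d = others D x ∩ others D v := by
    intro d hd
    obtain ⟨v, hv, hvd, hm⟩ := exists_twin hclass 3 (three_core_of_odd_core hclass h)
      (show (⟨d, Subgroup.subset_closure hd⟩ : H) ∈ D' from hd)
    have hs := same_others_of_mem_three_core hclass (show (⟨d, Subgroup.subset_closure hd⟩ : H) ∈ D' from hd) hv hm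
    refine ⟨v, hv, fun e => hvd (Subtype.ext e), Set.ext fun y => ⟨fun hy => ?_, fun hy => ?_⟩⟩
    · have h1 : (⟨y, Subgroup.subset_closure hy.1⟩ : H) ∈
          {z : H | z ∈ D' ∧ z ≠ ⟨d, Subgroup.subset_closure hd⟩ ∧ Commute (⟨d, Subgroup.subset_closure hd⟩ : H) z} :=
        ⟨hy.1, fun e => hy.2.2.1 (congrArg Subtype.val e), Subtype.ext hy.2.2.2.eq⟩
      obtain ⟨-, hne, hc⟩ := hs ▸ h1
      exact ⟨hy.1, hy.1.1, fun e => hne (Subtype.ext e), hc.map H.subtype⟩
    · have h1 : (⟨y, Subgroup.subset_closure hy.1⟩ : H) ∈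
          {z : H | z ∈ D' ∧ z ≠ v ∧ Commute v z} :=
        ⟨hy.1, fun e => hy.2.2.1 (congrArg Subtype.val e), Subtype.ext hy.2.2.2.eq⟩
      obtain ⟨-, hne, hc⟩ := hs.symm ▸ h1
      exact ⟨hy.1, hy.1.1, fun e => hne (Subtype.ext e), hc.map H.subtype⟩
  have htwin : ∀ a ∈ D, ∀ d ∈ others D a, ∃ v ∈ others D a, v ≠ d ∧
      others D a ∩ others D d = others D a ∩ others D v := by
    intro a ha d hd
    obtain ⟨g, rfl⟩ := exists_conj hD hx ha
    rw [others_conj hD] at hd
    obtain ⟨d', hd', rfl⟩ := hd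
    obtain ⟨v, hv, hvd, he⟩ := htwinx d' hd'
    refine ⟨g * v * g⁻¹, by rw [others_conj hD]; exact ⟨v, hv, rfl⟩,
      fun e => hvd (mul_left_cancel (mul_right_cancel e)), ?_⟩
    simp only [others_conj hD, ← Set.image_inter (conj_injective' hD g), he]
  have hk : ∀ a ∈ D, ∀ b ∈ D, (others D a).ncard = (others D b).ncard := by
    intro a ha b hb
    obtain ⟨g, rfl⟩ := exists_conj hD ha hb
    rw [others_conj hD, Set.ncard_image_of_injective _ (conj_injective' hD g)]
  have hl : ∀ a ∈ D, ∀ b ∈ others D a, ∀ a' ∈ D, ∀ b' ∈ others D a',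
      (others D a ∩ others D b).ncard = (others D a' ∩ others D b').ncard := by
    intro a ha b hb a' ha' b' hb'
    obtain ⟨g, rfl⟩ := exists_conj hD ha ha'
    have hgb : g * b * g⁻¹ ∈ others D (g * a * g⁻¹) := by rw [others_conj hD]; exact ⟨b, hb, rfl⟩
    obtain ⟨k, hk, rfl⟩ := (hR _ ha').2.2.1 _ hgb.1 _ hb'.1 hgb.2.1 hb'.2.1 hgb.2.2 hb'.2.2
    have hka : k * (g * a * g⁻¹) * k⁻¹ = g * a * g⁻¹ := by
      have hle : Subgroup.closure {y : G | y ∈ D ∧ y ≠ g * a * g⁻¹ ∧ Commute (g * a * g⁻¹) y} ≤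
          Subgroup.centralizer ({g * a * g⁻¹} : Set G) :=
        (Subgroup.closure_le _).mpr fun z hz => Subgroup.mem_centralizer_singleton_iff.mpr hz.2.2.symm.eq
      rw [Subgroup.mem_centralizer_singleton_iff.mp (hle hk), mul_inv_cancel_right]
    conv_rhs => rw [← hka]
    simp only [others_conj hD, ← Set.image_inter (conj_injective' hD _),
      Set.ncard_image_of_injective _ (conj_injective' hD _)]
  have hfree : ∀ a ∈ D, ∀ b ∈ D, others D a = others D b → a = b :=
    fun a ha b hb e => eq_of_others hD hsol ha hb e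
  have hzero : ∀ a ∈ D, ∀ b ∈ others D a, others D a ∩ others D b = ∅ :=
    fun a ha b hb => no_triangle hD hk hl hfree htwin ha hb
  have hncx : ∀ a ∈ D, ∀ b ∈ others D a, ∀ c ∈ others D a, b ≠ c → ¬ Commute b c := by
    intro a ha b hb c hc hbc hcomm
    have : c ∈ others D a ∩ others D b := ⟨hc, hc.1, hbc.symm, hcomm⟩
    rw [hzero a ha b hb] at this
    exact this
  have hfixd : ∀ {a b : G}, Commute a b → a * b * a⁻¹ = b := fun hab => by rw [hab.eq, mul_inv_cancel_right]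
  have hclosed : ∀ a ∈ D, ∀ p ∈ others D a, ∀ q ∈ others D a, p * q * p⁻¹ ∈ others D a := by
    intro a ha p hp q hq
    have := others_conj hD p a
    rw [hfixd hp.2.2.symm] at this
    rw [this]
    exact ⟨q, hq, rfl⟩
  -- sizes
  obtain ⟨-, -, -, j, hj⟩ := noncommuting_closed hD.1 (fun z hz => hz.1) (hclosed x hx) (hncx x hx) hb₀
  obtain ⟨c₀, hc₀D, hc₀⟩ := (hR x hx).2.1
  have hxc : c₀ ≠ x := fun e => hc₀ (e ▸ Commute.refl x)
  obtain ⟨v₀, hv₀, hv₀b, -⟩ := htwinx b₀ hb₀
  have hnb : ¬ Commute b₀ v₀ := hncx x hx b₀ hb₀ v₀ hv₀ hv₀b.symm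
  have hμpos : x ∈ others D b₀ ∩ others D v₀ := ⟨others_symm hx hb₀, others_symm hx hv₀⟩
  have hμc : ∀ p ∈ D, ∀ q ∈ D, ¬ Commute p q →
      (others D p ∩ others D q).ncard = (others D b₀ ∩ others D v₀).ncard := by
    intro p hp q hq hpq
    obtain ⟨g, rfl⟩ := exists_conj hD hb₀.1 hp
    have h1 : ¬ Commute (g * b₀ * g⁻¹) (g * v₀ * g⁻¹) := fun e => hnb ((commute_conj_iff g _ _).mp e)
    obtain ⟨k, hk', rfl⟩ := (hR _ hp).2.2.2 _ (conj_mem hD hv₀.1 g) _ hq h1 hpq
    rw [← hfixd hk']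
    simp only [others_conj hD, ← Set.image_inter (conj_injective' hD _),
      Set.ncard_image_of_injective _ (conj_injective' hD _)]
  obtain ⟨-, -, -, i, hi⟩ := noncommuting_closed hD.1 (W := others D b₀ ∩ others D v₀) (fun z hz => hz.1.1)
    (fun p hp q hq => ⟨hclosed b₀ hb₀.1 p hp.1 q hq.1, hclosed v₀ hv₀.1 p hp.2 q hq.2⟩)
    (fun p hp q hq hpq => hncx b₀ hb₀.1 p hp.1 q hq.1 hpq) hμpos
  -- the graph
  haveI : Fintype D := Fintype.ofFinite _
  let Γ : SimpleGraph D :=
    { Adj := fun a b => (b : G) ∈ others D a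
      symm := ⟨fun a b h => others_symm a.2 h⟩
      loopless := ⟨fun a h => h.2.1 rfl⟩ }
  have hcount : ∀ (P : D → Prop) [DecidablePred P] (S : Set G), (∀ z : D, P z ↔ (z : G) ∈ S) → S ⊆ D →
      (Finset.univ.filter P).card = S.ncard := by
    intro P _ S hP hS
    rw [← Set.ncard_coe_finset, ← Set.ncard_image_of_injective _ Subtype.val_injective]
    congr 1
    ext z
    simp only [Set.mem_image, Finset.coe_filter, Finset.mem_univ, true_and, Set.mem_ofPred_eq]
    exact ⟨fun ⟨w, hw, e⟩ => e ▸ (hP w).mp hw, fun hz => ⟨⟨z, hS hz⟩, (hP _).mpr hz, rfl⟩⟩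
  have hdeg : ∀ a : D, (Finset.univ.filter fun b => Γ.Adj a b).card = (others D x).ncard := fun a =>
    (hcount _ _ (fun _ => Iff.rfl) (fun z hz => hz.1)).trans (hk a a.2 x hx)
  have hcn : ∀ a b : D, Γ.Adj a b → (Finset.univ.filter fun z => Γ.Adj a z ∧ Γ.Adj b z).card = 0 := fun a b hab =>
    (hcount _ (others D (a : G) ∩ others D (b : G)) (fun _ => Iff.rfl) (fun z hz => hz.1.1)).trans
      (by rw [hzero a a.2 b hab, Set.ncard_empty])
  have hnn : ∀ a b : D, a ≠ b → ¬ Γ.Adj a b →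
      (Finset.univ.filter fun z => Γ.Adj a z ∧ Γ.Adj b z).card = (others D b₀ ∩ others D v₀).ncard := fun a b hab hna =>
    (hcount _ (others D (a : G) ∩ others D (b : G)) (fun _ => Iff.rfl) (fun z hz => hz.1.1)).trans
      (hμc a a.2 b b.2 fun hc => hna ⟨b.2, fun e => hab (Subtype.ext e.symm), hc⟩)
  have hμk : (others D b₀ ∩ others D v₀).ncard < (others D x).ncard := by
    rw [hk x hx b₀ hb₀.1]
    refine Set.ncard_lt_ncard ⟨Set.inter_subset_left, fun hsub => hv₀b ?_⟩ (Set.toFinite _)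
    refine (hfree b₀ hb₀.1 v₀ hv₀.1 (Set.eq_of_subset_of_ncard_le (fun z hz => (hsub hz).2)
      (hk _ hv₀.1 _ hb₀.1).le (Set.toFinite _))).symm
  obtain ⟨-, hμ1, h10⟩ := TriangleFree.petersen_params Γ hdeg hcn hnn rfl ⟨x, hx⟩ hj hi hμk
  -- the four generators
  obtain ⟨u, hu, hux, -⟩ := htwin b₀ hb₀.1 x (others_symm hx hb₀)
  have hxu : ¬ Commute x u := hncx b₀ hb₀.1 x (others_symm hx hb₀) u hu hux.symm
  have huv : ¬ Commute u v₀ := by
    intro hc
    have hu2 : u ∈ others D b₀ ∩ others D v₀ := ⟨hu, hu.1, fun e => hnb (e ▸ hu.2.2), hc.symm⟩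
    obtain ⟨w, hw⟩ := Set.ncard_eq_one.mp hμ1
    rw [hw] at hu2 hμpos
    exact hux (hu2.trans hμpos.symm)
  let s : ℕ → G := fun i => if i = 0 then x else if i = 1 then u else if i = 2 then v₀ else b₀
  have hrel : CoxeterA.Rel s 4 := by
    refine ⟨fun i hi => ?_, fun i hi => ?_, fun i j hij hj => ?_⟩
    · rw [pow_two]
      interval_cases i <;> simp only [s] <;> norm_num
      exacts [sq hD.1 hx, sq hD.1 hu.1, sq hD.1 hv₀.1, sq hD.1 hb₀.1]
    · have hi' : i < 3 := by omega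
      interval_cases i <;> simp only [s] <;> norm_num
      exacts [cube_of_not_commute hD.1 hx hu.1 hxu, cube_of_not_commute hD.1 hu.1 hv₀.1 huv,
        cube_of_not_commute hD.1 hv₀.1 hb₀.1 fun e => hnb e.symm]
    · have hi' : i < 2 := by omega
      interval_cases i <;> interval_cases j <;> simp only [s] <;> norm_num
      exacts [hv₀.2.2, hb₀.2.2, hu.2.2.symm]
  obtain ⟨f, -, hf⟩ := CoxeterA.exists_hom (n := 4) s hrel
  have hinj : Function.Injective f := by
    refine CfsgLib.LocalSymThree.hom_perm5_injective f ?_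
    rw [hf 0 (by norm_num), hf 2 (by norm_num)]
    intro e
    exact hv₀.2.1 ((inv_eq_of_mul_eq_one_right (e : x * v₀ = 1)).symm.trans (inv hD.1 hx))
  refine ⟨(MulEquiv.ofBijective f ⟨hinj, ?_⟩).symm⟩
  have hrange : D ⊆ f.range := by
    have hsub : (fun σ => f σ) '' (swaps5 : Set (Equiv.Perm (Fin 5))) ⊆ D := by
      rintro _ ⟨σ, hσ, rfl⟩
      obtain ⟨τ, rfl⟩ := swaps5_spec.2 σ hσ
      show f _ ∈ D
      rw [map_mul, map_mul, map_inv, hf 0 (by norm_num)]
      exact conj_mem hD hx _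
    have hcard : D.ncard ≤ ((fun σ => f σ) '' (swaps5 : Set (Equiv.Perm (Fin 5)))).ncard := by
      rw [Set.ncard_image_of_injective _ hinj, Set.ncard_coe_finset, swaps5_spec.1, ← Nat.card_coe_set_eq,
        Nat.card_eq_fintype_card, h10]
    intro z hz
    obtain ⟨σ, -, rfl⟩ := (Set.eq_of_subset_of_ncard_le hsub hcard (Set.toFinite _)).ge hz
    exact ⟨σ, rfl⟩
  intro g
  have : Subgroup.closure D ≤ f.range := (Subgroup.closure_le _).mpr hrange
  exact this (hD.2.2 ▸ Subgroup.mem_top g)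

end CfsgLib.ThreeT
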