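import Cfsg.Agent.Spor3T.M22Big
import Cfsg.Agent.Spor3T.M23Pair
import Cfsg.Agent.Spor3T.SymFive

/-!
Type M(23): the centraliser of a transposition and the subgroups of order 7 and 11.
-/

set_option autoImplicit false
set_option linter.unusedSectionVars false
set_option linter.style.haveILetI false

open scoped Pointwise

namespace CfsgLib.ThreeT.Prod

variable {G : Type*} [Group G] [Finite G] {D : Set G}

/-- The image of a subgroup of the centraliser of `d` modulo its centre. -/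
def imgSub (D : Set G) (d : G) (X : Subgroup G) : Subgroup (↥(hsub D d) ⧸ Subgroup.center ↥(hsub D d)) :=
  (X.subgroupOf (hsub D d)).map (QuotientGroup.mk' (Subgroup.center ↥(hsub D d)))

/-- The order of the join of two commuting disjoint subgroups, and of a part of it. -/
theorem card_sup_comm {F S C : Subgroup G} (hFS : F ⊓ S = ⊥) (hc : ∀ x ∈ F, ∀ y ∈ S, x * y = y * x) :
    Nat.card ↥(F ⊔ S) = Nat.card F * Nat.card S ∧
      (S ≤ C → Nat.card ↥(C ⊓ (F ⊔ S)) = Nat.card ↥(C ⊓ F) * Nat.card S) := by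
  let φ : ↥F × ↥S →* G :=
    { toFun := fun q => q.1 * q.2
      map_one' := by simp
      map_mul' := fun p q => by
        simp only [Prod.fst_mul, Prod.snd_mul, Subgroup.coe_mul]
        rw [show (p.1 : G) * q.1 * (p.2 * q.2) = p.1 * ((q.1 : G) * p.2) * q.2 by group,
          hc q.1 q.1.2 p.2 p.2.2]
        group }
  have hinj : Function.Injective φ := by
    refine (injective_iff_map_eq_one φ).2 fun q hq => ?_
    have h1 : (q.1 : G) = (q.2 : G)⁻¹ := eq_inv_of_mul_eq_one_left hq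
    have h2 : (q.1 : G) ∈ F ⊓ S := ⟨q.1.2, h1 ▸ S.inv_mem q.2.2⟩
    rw [hFS, Subgroup.mem_bot] at h2
    refine Prod.ext (Subtype.ext h2) (Subtype.ext ?_)
    rw [h2, eq_comm, inv_eq_one] at h1
    exact h1
  have hr : φ.range = F ⊔ S := by
    refine le_antisymm ?_ (sup_le (fun x hx => ⟨(⟨x, hx⟩, 1), mul_one x⟩) fun x hx => ⟨(1, ⟨x, hx⟩), one_mul x⟩)
    rintro _ ⟨q, rfl⟩
    exact Subgroup.mul_mem_sup q.1.2 q.2.2
  refine ⟨?_, fun hSC => ?_⟩
  · rw [← hr, Nat.card_congr (MonoidHom.ofInjective hinj).toEquiv.symm, Nat.card_prod]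
  · have hm : ((C.subgroupOf F).prod ⊤).map φ = C ⊓ (F ⊔ S) := by
      refine le_antisymm ?_ ?_
      · rintro _ ⟨q, hq, rfl⟩
        exact ⟨mul_mem (show (q.1 : G) ∈ C from hq.1) (hSC q.2.2), Subgroup.mul_mem_sup q.1.2 q.2.2⟩
      · rintro z ⟨hzC, hz⟩
        rw [← hr] at hz
        obtain ⟨q, rfl⟩ := hz
        refine ⟨q, ⟨?_, Subgroup.mem_top _⟩, rfl⟩
        show (q.1 : G) ∈ C
        have := mul_mem (show φ q ∈ C from hzC) (inv_mem (hSC q.2.2))
        rwa [show φ q * (q.2 : G)⁻¹ = q.1 from mul_inv_cancel_right _ _] at this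
    rw [← hm, Subgroup.card_map_of_injective hinj, Nat.card_congr (Subgroup.prodEquiv _ _).toEquiv,
      Nat.card_prod, Subgroup.card_top, ← Subgroup.inf_subgroupOf_right,
      Nat.card_congr (Subgroup.subgroupOfEquivOfLe inf_le_right).toEquiv]

variable {d : G} (P : Point23 D d)

include P

theorem hsub_eq23 {a : G} (ha : a ∈ D) : hsub D a = Subgroup.centralizer ({a} : Set G) :=
  (Level.centralizer_eq (geo23 P) arith23 (self23 P) ha).1

theorem mem_hsub23 {a g : G} (ha : a ∈ D) : g ∈ hsub D a ↔ Commute g a := by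
  rw [hsub_eq23 P ha, Subgroup.mem_centralizer_singleton_iff]; rfl

theorem card_hsub23 {a : G} (ha : a ∈ D) : Nat.card ↥(hsub D a) = 129123503308800 := by
  have h := Subgroup.card_eq_card_quotient_mul_card_subgroup (hsub D a)
  rw [(Level.centralizer_eq (geo23 P) arith23 (self23 P) ha).2, ncard23 P, order23 P] at h
  omega

theorem nb_count23 {a : G} (ha : a ∈ D) : (nb D a).ncard = 3510 := ((geo23 P).loc a ha).card_nb

theorem far_count23 {a : G} (ha : a ∈ D) : {x | x ∈ D ∧ ¬ Commute a x}.ncard = 28160 :=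
  (Level.tri_card (geo23 P) arith23).2 a ha

theorem card_nb_cent23 {a b : G} (ha : a ∈ D) (hb : b ∈ nb D a) :
    Nat.card ↥(Subgroup.centralizer ({b} : Set G) ⊓ hsub D a) = 36787322880 := by
  have e := card_orbit_stab (hsub D a) (Subgroup.centralizer ({b} : Set G)) (fun g => g * b * g⁻¹) (nb D a)
    (fun g _ g' _ => conj_fib) ?_
  · rw [card_hsub23 P ha, nb_count23 P ha] at e
    omega
  ext z
  constructor
  · rintro ⟨g, hg, rfl⟩
    exact nb_conj P.base.tt hb.1 hb.2.1 hb.2.2 (by rw [(commute_hsub hg).eq, mul_inv_cancel_right])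
  · intro hz
    obtain ⟨g, hg, e⟩ := P.base.near a ha b hb z hz
    exact ⟨g, hg, e⟩

theorem far_trans23 {a c c' : G} (ha : a ∈ D) (hc : c ∈ D) (hc' : c' ∈ D) (hac : ¬ Commute a c)
    (hac' : ¬ Commute a c') : ∃ g ∈ hsub D a, g * c * g⁻¹ = c' := by
  obtain ⟨g, hg, e⟩ := Level.far_trans P.base ha hc hc' hac hac'
  exact ⟨g, (mem_hsub23 P ha).2 (Level.commute_of_far P.base hg), e⟩

theorem card_far_cent23 {a e : G} (ha : a ∈ D) (he : e ∈ D) (hae : ¬ Commute a e) :
    Nat.card ↥(Subgroup.centralizer ({e} : Set G) ⊓ hsub D a) = 4585351680 := by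
  have q := card_orbit_stab (hsub D a) (Subgroup.centralizer ({e} : Set G)) (fun g => g * e * g⁻¹)
    {x | x ∈ D ∧ ¬ Commute a x} (fun g _ g' _ => conj_fib) ?_
  · rw [card_hsub23 P ha, far_count23 P ha] at q
    omega
  ext z
  constructor
  · rintro ⟨g, hg, rfl⟩
    refine ⟨P.base.tt.conj g e he, fun q => hae ((commute_conj_iff g a e).1 ?_)⟩
    rwa [(commute_hsub hg).eq, mul_inv_cancel_right]
  · intro hz
    obtain ⟨g, hg, e'⟩ := far_trans23 P ha he hz.1 hae hz.2
    exact ⟨g, hg, e'⟩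

theorem card_G23 : Nat.card G = 4089470473293004800 := by rw [order23 P]

/-- Subgroups of prime order dividing the order only once are conjugate, and centralise a transposition if the
prime divides the order of its centraliser. -/
theorem conj23 {p : ℕ} [hp : Fact p.Prime] (hp2 : ¬ p * p ∣ 4089470473293004800) :
    (∀ X Y : Subgroup G, Nat.card X = p → Nat.card Y = p → ∃ g : G, X.map (MulAut.conj g).toMonoidHom = Y) ∧
      (p ∣ 129123503308800 → ∀ X : Subgroup G, Nat.card X = p → ∀ a ∈ D, ∃ g : G,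
        X.map (MulAut.conj g).toMonoidHom ≤ hsub D a) := by
  have hp2' : ¬ p * p ∣ Nat.card (⊤ : Subgroup G) := by rw [Subgroup.card_top, card_G23 P]; exact hp2
  have hconj : ∀ X Y : Subgroup G, Nat.card X = p → Nat.card Y = p →
      ∃ g : G, X.map (MulAut.conj g).toMonoidHom = Y := fun X Y hX hY => by
    obtain ⟨g, -, hg⟩ := sylow_conj (le_top : X ≤ ⊤) le_top hX hY hp2'
    exact ⟨g, hg⟩
  refine ⟨hconj, fun hpH X hX a ha => ?_⟩
  obtain ⟨y, hy⟩ := exists_prime_orderOf_dvd_card' (G := ↥(hsub D a)) p (by rw [card_hsub23 P ha]; exact hpH)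
  rw [← Subgroup.orderOf_coe] at hy
  obtain ⟨g, hg⟩ := hconj X (Subgroup.zpowers (y : G)) hX (by rw [Nat.card_zpowers, hy])
  exact ⟨g, hg ▸ Subgroup.zpowers_le.2 y.2⟩

theorem exists_point_cent23 {p : ℕ} [hp : Fact p.Prime] (hp2 : ¬ p * p ∣ 4089470473293004800)
    (hpH : p ∣ 129123503308800) {X : Subgroup G} (hX : Nat.card X = p) : ∃ a ∈ D, X ≤ hsub D a := by
  obtain ⟨g, hg⟩ := (conj23 P hp2).2 hpH X hX d P.mem
  refine ⟨g⁻¹ * d * g, P.base.tt.conj g⁻¹ d P.mem |> fun q => by rwa [inv_inv] at q, fun x hx => ?_⟩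
  have hm := (mem_hsub23 P P.mem).1 (hg ⟨x, hx, rfl⟩)
  have hd' : g⁻¹ * d * g ∈ D := P.base.tt.conj g⁻¹ d P.mem |> fun q => by rwa [inv_inv] at q
  rw [mem_hsub23 P hd']
  have := (commute_conj_iff g⁻¹ (g * x * g⁻¹) d).2 hm
  rwa [show g⁻¹ * (g * x * g⁻¹) * g⁻¹⁻¹ = x by group, inv_inv] at this

/-- Subgroups of the point correspond to subgroups of the image: preimages of normalisers and centralisers. -/
theorem lift_odd23 {p : ℕ} [hp : Fact p.Prime] (hp2 : p ≠ 2) {u v : ↥(hsub D d)} (hu : u ^ p = 1) (hv : v ^ p = 1)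
    (e : (u : ↥(hsub D d) ⧸ Subgroup.center ↥(hsub D d)) = v) : u = v := by
  have hz : v⁻¹ * u ∈ Subgroup.center ↥(hsub D d) := QuotientGroup.eq.1 e.symm
  set z := v⁻¹ * u
  have huv : u = v * z := (mul_inv_cancel_left v u).symm
  have hz2 : z * z = 1 := by
    refine Subtype.ext ?_
    rcases Level.center_pair (geo23 P) arith23 P.mem hz with q | q
    · simp [q]
    · simp [q, P.base.tt.sq d P.mem]
  have hzp : z ^ p = 1 := by
    have := huv ▸ hu
    rwa [(show Commute v z from Subgroup.mem_center_iff.1 hz v).mul_pow, hv, one_mul] at this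
  obtain ⟨k, hk⟩ := hp.out.odd_of_ne_two hp2
  rw [hk, pow_succ, pow_mul, pow_two, hz2, one_pow, one_mul] at hzp
  rw [huv, hzp, mul_one]

/-- The image of a subgroup of odd prime order in the point, and the orders of its centraliser and normaliser. -/
theorem img_sub23 {p : ℕ} [hp : Fact p.Prime] (hp2 : p ≠ 2) {X : Subgroup G} (hX : Nat.card X = p)
    (hXd : X ≤ hsub D d) :
    Nat.card ↥(imgSub D d X) = p ∧
      (∀ g : ↥(hsub D d), (g : G) ∈ Subgroup.centralizer (X : Set G) ↔ (g : ↥(hsub D d) ⧸ Subgroup.center ↥(hsub D d)) ∈ Subgroup.centralizer ((imgSub D d X : Subgroup (↥(hsub D d) ⧸ Subgroup.center ↥(hsub D d))) : Set (↥(hsub D d) ⧸ Subgroup.center ↥(hsub D d)))) ∧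
      Nat.card ↥(Subgroup.centralizer (X : Set G) ⊓ hsub D d) = 2 * Nat.card ↥(Subgroup.centralizer ((imgSub D d X : Subgroup (↥(hsub D d) ⧸ Subgroup.center ↥(hsub D d))) : Set (↥(hsub D d) ⧸ Subgroup.center ↥(hsub D d)))) ∧
      Nat.card ↥(Subgroup.normalizer (X : Set G) ⊓ hsub D d) = 2 * Nat.card ↥(Subgroup.normalizer ((imgSub D d X : Subgroup (↥(hsub D d) ⧸ Subgroup.center ↥(hsub D d))) : Set (↥(hsub D d) ⧸ Subgroup.center ↥(hsub D d)))) := by
  classical
  set π := QuotientGroup.mk' (Subgroup.center ↥(hsub D d))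
  have hmemX : ∀ z, z ∈ imgSub D d X ↔ ∃ x ∈ X.subgroupOf (hsub D d), π x = z := fun z => Subgroup.mem_map
  set X₀ := X.subgroupOf (hsub D d)
  have hX₀ : Nat.card X₀ = p := by rw [Nat.card_congr (Subgroup.subgroupOfEquivOfLe hXd).toEquiv, hX]
  have hpow : ∀ x ∈ X₀, x ^ p = 1 := fun x hx => by
    have : (⟨x, hx⟩ : ↥X₀) ^ p = 1 := by rw [← hX₀]; exact pow_card_eq_one'
    exact congrArg Subtype.val this
  have hinj : Function.Injective (π.subgroupMap X₀) := fun x y e =>
    Subtype.ext (lift_odd23 P hp2 (hpow x x.2) (hpow y y.2) ((congrArg Subtype.val e : π (x : ↥(hsub D d)) = π y)))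
  have hX' : Nat.card (imgSub D d X) = p := by
    rw [← hX₀]
    exact (Nat.card_eq_of_bijective _ ⟨hinj, π.subgroupMap_surjective X₀⟩).symm
  have hC : ∀ g : ↥(hsub D d), (g : G) ∈ Subgroup.centralizer (X : Set G) ↔ π g ∈ Subgroup.centralizer ((imgSub D d X) : Set (↥(hsub D d) ⧸ Subgroup.center ↥(hsub D d))) := by
    intro g
    constructor
    · intro hg
      intro z hz
      obtain ⟨x, hx, rfl⟩ := (hmemX z).1 hz
      show π x * π g = π g * π x
      rw [← map_mul, ← map_mul]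
      exact congrArg π (Subtype.ext (hg (x : G) hx))
    · intro hg x hx
      have hgx := hg (π ⟨x, hXd hx⟩) ((hmemX _).2 ⟨⟨x, hXd hx⟩, hx, rfl⟩)
      set x₀ : ↥(hsub D d) := ⟨x, hXd hx⟩
      have hp' := hpow x₀ hx
      have e := lift_odd23 P hp2 (u := g * x₀ * g⁻¹) (v := x₀) (by rw [conj_pow, hp']; group) hp' (by
        show π (g * x₀ * g⁻¹) = π x₀
        rw [map_mul, map_mul, map_inv]
        exact mul_inv_eq_iff_eq_mul.2 hgx.symm)
      exact (mul_inv_eq_iff_eq_mul.1 (congrArg Subtype.val e : (g : G) * x * (g : G)⁻¹ = x)).symm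
  have hN : ∀ g : ↥(hsub D d), (g : G) ∈ Subgroup.normalizer (X : Set G) ↔ π g ∈ Subgroup.normalizer ((imgSub D d X) : Set (↥(hsub D d) ⧸ Subgroup.center ↥(hsub D d))) := by
    intro g
    have key : ∀ x : ↥(hsub D d), x ∈ X₀ → ((g : G) * x * (g : G)⁻¹ ∈ X ↔ π g * π x * (π g)⁻¹ ∈ (imgSub D d X)) := by
      intro x hx
      constructor
      · intro q
        exact (hmemX _).2 ⟨g * x * g⁻¹, q, by rw [map_mul, map_mul, map_inv]⟩
      · intro q
        obtain ⟨y, hy, e⟩ := (hmemX _).1 q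
        have e' := lift_odd23 P hp2 (u := y) (v := g * x * g⁻¹) (hpow y hy) (by rw [conj_pow, hpow x hx]; group)
          (by show π y = π (g * x * g⁻¹); rw [map_mul, map_mul, map_inv]; exact e)
        have := congrArg Subtype.val e'
        simp only [Subgroup.coe_mul, Subgroup.coe_inv] at this
        rw [← this]; exact hy
    rw [Subgroup.mem_normalizer_iff, Subgroup.mem_normalizer_iff]
    constructor
    · intro q
      have hmap : (imgSub D d X).map (MulAut.conj (π g)).toMonoidHom = (imgSub D d X) := by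
        refine Subgroup.eq_of_le_of_card_ge ?_ (by rw [Subgroup.card_map_of_injective (MulAut.conj (π g)).injective])
        rintro _ ⟨w, hw, rfl⟩
        obtain ⟨x, hx, rfl⟩ := (hmemX w).1 hw
        exact (key x hx).1 ((q x).1 hx)
      intro z
      constructor
      · intro hz
        rw [← hmap]; exact ⟨z, hz, rfl⟩
      · intro hz
        rw [← hmap] at hz
        obtain ⟨w, hw, e⟩ := hz
        rwa [(MulAut.conj (π g)).injective e] at hw
    · intro q
      have hmap : X.map (MulAut.conj (g : G)).toMonoidHom = X := by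
        refine Subgroup.eq_of_le_of_card_ge ?_
          (by rw [Subgroup.card_map_of_injective (MulAut.conj (g : G)).injective])
        rintro _ ⟨x, hx, rfl⟩
        exact (key ⟨x, hXd hx⟩ hx).2 ((q (π ⟨x, hXd hx⟩)).1 ((hmemX _).2 ⟨⟨x, hXd hx⟩, hx, rfl⟩))
      intro z
      constructor
      · intro hz
        rw [← hmap]; exact ⟨z, hz, rfl⟩
      · intro hz
        rw [← hmap] at hz
        obtain ⟨w, hw, e⟩ := hz
        rwa [(MulAut.conj (g : G)).injective e] at hw
  have hcard : ∀ (K : Subgroup G) (K' : Subgroup (↥(hsub D d) ⧸ Subgroup.center ↥(hsub D d))),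
      (∀ g : ↥(hsub D d), (g : G) ∈ K ↔ π g ∈ K') → Nat.card ↥(K ⊓ (hsub D d)) = 2 * Nat.card K' := by
    intro K K' hK
    have e : (K ⊓ (hsub D d)).subgroupOf (hsub D d) = K'.comap π := by
      ext g
      rw [Subgroup.mem_subgroupOf, Subgroup.mem_inf, Subgroup.mem_comap, ← hK g]
      exact and_iff_left g.2
    rw [← Nat.card_congr (Subgroup.subgroupOfEquivOfLe (inf_le_right : K ⊓ (hsub D d) ≤ (hsub D d))).toEquiv, e]
    have h1 := Subgroup.card_mul_index (K'.comap π)
    rw [Subgroup.index_comap_of_surjective K' (QuotientGroup.mk'_surjective _),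
      Subgroup.card_eq_card_quotient_mul_card_subgroup (Subgroup.center ↥(hsub D d)),
      Level.card_center (geo23 P) arith23 (self23 P) P.mem, ← Subgroup.card_mul_index K'] at h1
    have hi : 0 < K'.index := Nat.pos_of_ne_zero Subgroup.index_ne_zero_of_finite
    refine Nat.eq_of_mul_eq_mul_right hi ?_
    rw [h1]; ring
  exact ⟨hX', hC, hcard _ _ hC, hcard _ _ hN⟩

/-- The members of a neighbourhood fixed by a subgroup correspond to those of the image. -/
theorem nb_fixed23 {p : ℕ} [hp : Fact p.Prime] (hp2 : p ≠ 2) {X : Subgroup G} (hX : Nat.card X = p)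
    (hXd : X ≤ hsub D d) :
    (nb D d ∩ (Subgroup.centralizer (X : Set G) : Set G)).ncard =
        (img D d ∩ (Subgroup.centralizer ((imgSub D d X : Subgroup (↥(hsub D d) ⧸ Subgroup.center ↥(hsub D d))) : Set (↥(hsub D d) ⧸ Subgroup.center ↥(hsub D d))) : Set _)).ncard ∧
      ((∀ u ∈ img D d ∩ (Subgroup.centralizer ((imgSub D d X : Subgroup (↥(hsub D d) ⧸ Subgroup.center ↥(hsub D d))) : Set (↥(hsub D d) ⧸ Subgroup.center ↥(hsub D d))) : Set _),
          ∀ v ∈ img D d ∩ (Subgroup.centralizer ((imgSub D d X : Subgroup (↥(hsub D d) ⧸ Subgroup.center ↥(hsub D d))) : Set (↥(hsub D d) ⧸ Subgroup.center ↥(hsub D d))) : Set _), u ≠ v → ¬ Commute u v) →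
        ∀ a ∈ nb D d ∩ (Subgroup.centralizer (X : Set G) : Set G),
          ∀ b ∈ nb D d ∩ (Subgroup.centralizer (X : Set G) : Set G), a ≠ b → ¬ Commute a b) := by
  classical
  set π := QuotientGroup.mk' (Subgroup.center ↥(hsub D d))
  have hmemX : ∀ z, z ∈ imgSub D d X ↔ ∃ x ∈ X.subgroupOf (hsub D d), π x = z := fun z => Subgroup.mem_map
  obtain ⟨-, hC, -, -⟩ := img_sub23 P hp2 hX hXd
  set A := nb D d ∩ (Subgroup.centralizer (X : Set G) : Set G)
  set B := img D d ∩ (Subgroup.centralizer ((imgSub D d X) : Set (↥(hsub D d) ⧸ Subgroup.center ↥(hsub D d))) : Set _)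
  set A' : Set ↥(hsub D d) := {x | (x : G) ∈ A}
  have hA : ((↑) : ↥(hsub D d) → G) '' A' = A :=
    (Subtype.image_preimage_coe _ _).trans (Set.inter_eq_right.2 fun x hx => Subgroup.subset_closure hx.1)
  have hB : π '' A' = B := by
    ext z
    constructor
    · rintro ⟨x, hx, rfl⟩
      exact ⟨⟨x, hx.1, rfl⟩, (hC x).1 hx.2⟩
    · rintro ⟨⟨x, hx, rfl⟩, hz⟩
      exact ⟨x, ⟨hx, (hC x).2 hz⟩, rfl⟩
  refine ⟨?_, fun hnc a ha b hb hne hcom => ?_⟩
  · rw [← hA, ← hB, Set.ncard_image_of_injective _ Subtype.val_injective,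
      Set.InjOn.ncard_image (f := π) (s := A') fun x (hx : (x : G) ∈ A) y (hy : (y : G) ∈ A) q =>
        Subtype.ext (mk_inj P hx.1 hy.1 q)]
  · set a' : ↥(hsub D d) := ⟨a, Subgroup.subset_closure ha.1⟩
    set b' : ↥(hsub D d) := ⟨b, Subgroup.subset_closure hb.1⟩
    refine hnc (π a') (hB ▸ ⟨a', ha, rfl⟩) (π b') (hB ▸ ⟨b', hb, rfl⟩) (fun q => hne ?_) ?_
    · exact mk_inj P (x := a') (y := b') ha.1 hb.1 q
    · exact (map_commute_iff P.base.tt (x := a') (y := b') ha.1 hb.1).2 hcom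

omit P in
/-- In type M(22): the normaliser, the centraliser and the fixed members of a subgroup of order 11. -/
theorem eleven22 {G : Type*} [Group G] [Finite G] {D : Set G} (h : Geo22 D) (hprim : Cfsg.IsPrimitiveUnderConj D)
    (ht : Cfsg.IsOfTypeM22 G D) {X : Subgroup G} (hX : Nat.card X = 11) :
    Nat.card ↥(Subgroup.normalizer (X : Set G)) = 110 ∧ Nat.card ↥(Subgroup.centralizer (X : Set G)) = 22 ∧
      (D ∩ (Subgroup.centralizer (X : Set G) : Set G)).ncard = 1 := by
  classical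
  haveI : Fact (11 : ℕ).Prime := ⟨by norm_num⟩
  haveI : IsCyclic X := isCyclic_of_prime_card hX
  obtain ⟨F, d, hd, hF, hXF, hFC, hFd, hcomm, hN⟩ := eleven_normalizer h hprim ht hX
  have hd2 : orderOf d = 2 := orderOf_eq_prime (by rw [pow_two]; exact h.tt.sq d hd) (h.ne_one d hd)
  have hdC : Subgroup.zpowers d ≤ Subgroup.centralizer (X : Set G) := fun z hz x hx => hcomm x (hXF hx) z hz
  obtain ⟨h1, h2⟩ := card_sup_comm hFd hcomm
  rw [hN, hF, Nat.card_zpowers, hd2] at h1
  have h3 := h2 hdC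
  rw [hN, inf_eq_left.2 (Subgroup.centralizer_le_normalizer _), inf_comm, hFC, hX, Nat.card_zpowers, hd2] at h3
  refine ⟨h1, h3, Set.ncard_eq_one.2 ⟨d, ?_⟩⟩
  refine Set.eq_singleton_iff_unique_mem.2 ⟨⟨hd, hdC (Subgroup.mem_zpowers d)⟩, fun m hm => ?_⟩
  have hm' : m ∈ F ⊔ Subgroup.zpowers d := hN ▸ Subgroup.centralizer_le_normalizer _ hm.2
  rw [← SetLike.mem_coe, Subgroup.coe_mul_of_left_le_normalizer_right _ _ (fun x hx => ?_)] at hm'
  · obtain ⟨f, hf, z, hz, rfl⟩ := hm'
    have hfC : f ∈ Subgroup.centralizer (X : Set G) := by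
      have := mul_mem hm.2 (inv_mem (hdC hz))
      rwa [mul_inv_cancel_right] at this
    have hfX : f ∈ X := hFC ▸ ⟨hf, hfC⟩
    have hf11 : f ^ 11 = 1 := by
      have : (⟨f, hfX⟩ : ↥X) ^ 11 = 1 := by rw [← hX]; exact pow_card_eq_one'
      exact congrArg Subtype.val this
    have hz2 : z ^ 2 = 1 := by rw [← hd2]; exact orderOf_dvd_iff_pow_eq_one.1 (orderOf_dvd_of_mem_zpowers hz)
    have hm2 := h.tt.sq _ hm.1
    rw [← pow_two, (show Commute f z from hcomm f hf z hz).mul_pow, hz2, mul_one] at hm2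
    have hf1 : f = 1 := by
      rw [← pow_one f, show (1 : ℕ) = Nat.gcd 2 11 by norm_num]
      exact pow_gcd_eq_one.2 ⟨hm2, hf11⟩
    subst hf1
    simp only [one_mul] at hm ⊢
    obtain ⟨j, rfl⟩ := Subgroup.mem_zpowers_iff.1 hz
    rcases Int.even_or_odd j with ⟨i, rfl⟩ | ⟨i, rfl⟩
    · exfalso
      refine h.ne_one _ hm.1 ?_
      rw [← two_mul, zpow_mul, zpow_two, h.tt.sq d hd, one_zpow]
    · rw [zpow_add, zpow_mul, zpow_two, h.tt.sq d hd, one_zpow, one_mul, zpow_one]
  · refine Subgroup.centralizer_le_normalizer _ fun z hz => (hcomm x hx z hz).symm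

omit P in
theorem perm_three_facts : ({σ : Equiv.Perm (Fin 3) | σ * σ = 1 ∧ σ ≠ 1}).ncard = 3 ∧
    ∀ σ τ : Equiv.Perm (Fin 3), σ * σ = 1 → σ ≠ 1 → τ * τ = 1 → τ ≠ 1 → σ * τ = τ * σ → σ = τ := by
  refine ⟨?_, by
    set_option synthInstance.maxSize 512 in decide +kernel⟩
  rw [Set.ncard_eq_toFinset_card']
  decide +kernel

omit P in
/-- In type M(22): the normaliser, the centraliser and the fixed members of a subgroup of order 7. -/
theorem seven22 {G : Type*} [Group G] [Finite G] {D : Set G} (h : Geo22 D) (hprim : Cfsg.IsPrimitiveUnderConj D)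
    (ht : Cfsg.IsOfTypeM22 G D) {X : Subgroup G} (hX : Nat.card X = 7) :
    Nat.card ↥(Subgroup.normalizer (X : Set G)) = 252 ∧ Nat.card ↥(Subgroup.centralizer (X : Set G)) = 42 ∧
      (D ∩ (Subgroup.centralizer (X : Set G) : Set G)).ncard = 3 ∧
      ∀ u ∈ D ∩ (Subgroup.centralizer (X : Set G) : Set G), ∀ v ∈ D ∩ (Subgroup.centralizer (X : Set G) : Set G),
        u ≠ v → ¬ Commute u v := by
  classical
  haveI : Fact (7 : ℕ).Prime := ⟨by norm_num⟩
  obtain ⟨F, hF, hXF, hFC, hFS, hcomm, hN, ⟨ε⟩⟩ := seven_normalizer h hprim ht hX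
  set A := D ∩ (Subgroup.centralizer (X : Set G) : Set G)
  set S := Subgroup.closure A
  have hSC : S ≤ Subgroup.centralizer (X : Set G) := (Subgroup.closure_le _).2 Set.inter_subset_right
  have hS : Nat.card S = 6 := by
    rw [Nat.card_congr ε.toEquiv, Nat.card_perm, Nat.card_fin]; rfl
  obtain ⟨h1, h2⟩ := card_sup_comm hFS hcomm
  rw [hN, hF, hS] at h1
  have h3 := h2 hSC
  rw [hN, inf_eq_left.2 (Subgroup.centralizer_le_normalizer _), inf_comm, hFC, hX, hS] at h3
  let η : ↥S → Equiv.Perm (Fin 3) := ε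
  set A' : Set ↥S := {x | (x : G) ∈ A}
  have hA : ((↑) : ↥S → G) '' A' = A :=
    (Subtype.image_preimage_coe _ _).trans (Set.inter_eq_right.2 fun x hx => Subgroup.subset_closure hx)
  have hinv : ∀ x : ↥S, (x : G) ∈ A → ε x * ε x = 1 ∧ ε x ≠ 1 := by
    intro x hx
    refine ⟨by rw [← map_mul, show x * x = 1 from Subtype.ext (h.tt.sq _ hx.1), map_one], fun q => ?_⟩
    refine h.ne_one _ hx.1 ?_
    rw [ε.injective (q.trans ε.map_one.symm)]; rfl
  have hnc : ∀ u ∈ A, ∀ v ∈ A, u ≠ v → ¬ Commute u v := by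
    intro u hu v hv hne hcuv
    set u' : ↥S := ⟨u, Subgroup.subset_closure hu⟩
    set v' : ↥S := ⟨v, Subgroup.subset_closure hv⟩
    refine hne (congrArg Subtype.val (ε.injective (perm_three_facts.2 _ _ (hinv u' hu).1 (hinv u' hu).2
      (hinv v' hv).1 (hinv v' hv).2 ?_) : u' = v'))
    rw [← map_mul, ← map_mul]
    exact congrArg ε (Subtype.ext hcuv.eq)
  refine ⟨h1, h3, ?_, hnc⟩
  have hle : A.ncard ≤ 3 := by
    rw [← perm_three_facts.1, ← hA, Set.ncard_image_of_injective _ Subtype.val_injective,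
      ← Set.ncard_image_of_injective A' ε.injective]
    refine Set.ncard_le_ncard ?_ (Set.toFinite _)
    rintro _ ⟨x, hx, rfl⟩
    exact hinv x hx
  have hex : ∃ u ∈ A, ∃ v ∈ A, u ≠ v := by
    by_contra hno
    push Not at hno
    have hcl : ∀ u ∈ S, ∀ v ∈ S, Commute u v := fun u hu v hv =>
      (commute_of_closure (fun y hy => (commute_of_closure (fun z hz => by rw [hno z hz y hy]) u hu).symm) v hv).symm
    have hab : ∀ p q : Equiv.Perm (Fin 3), p * q = q * p := fun p q => by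
      obtain ⟨p, rfl⟩ := ε.surjective p
      obtain ⟨q, rfl⟩ := ε.surjective q
      rw [← map_mul, ← map_mul]
      exact congrArg ε (Subtype.ext (hcl p p.2 q q.2).eq)
    exact absurd (hab (Equiv.swap 0 1) (Equiv.swap 1 2)) (by decide)
  obtain ⟨u, hu, v, hv, hne⟩ := hex
  have hnuv := hnc u hu v hv hne
  have hw : u * v * u ∈ A := ⟨h.tt.conj' hv.1 hu.1, mul_mem (mul_mem hu.2 hv.2) hu.2⟩
  have hwu : u * v * u ≠ u := fun q => hne (by
    calc u = u * u * u := by rw [h.tt.sq u hu.1, one_mul]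
      _ = u * (u * v * u) * u := by rw [q]
      _ = (u * u) * v * (u * u) := by group
      _ = v := by rw [h.tt.sq u hu.1, one_mul, mul_one])
  have hwv : u * v * u ≠ v := fun q => hnuv (by
    show u * v = v * u
    calc u * v = u * v * u * u := by rw [mul_assoc (u * v), h.tt.sq u hu.1, mul_one]
      _ = v * u := by rw [q])
  refine le_antisymm hle ?_
  rw [← show ({u, v, u * v * u} : Set G).ncard = 3 from by
    rw [Set.ncard_eq_three]; exact ⟨u, v, u * v * u, hne, hwu.symm, hwv.symm, rfl⟩]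
  exact Set.ncard_le_ncard (Set.insert_subset hu (Set.insert_subset hv (Set.singleton_subset_iff.2 hw)))
    (Set.toFinite _)

omit P in
/-- What the image at the point says about a subgroup of the centraliser of a transposition. -/
def LocalData (D : Set G) (a : G) (X : Subgroup G) (N C F : ℕ) : Prop :=
  Nat.card ↥(Subgroup.normalizer (X : Set G) ⊓ hsub D a) = N ∧
    Nat.card ↥(Subgroup.centralizer (X : Set G) ⊓ hsub D a) = C ∧
    (nb D a ∩ (Subgroup.centralizer (X : Set G) : Set G)).ncard = F ∧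
    ∀ u ∈ nb D a ∩ (Subgroup.centralizer (X : Set G) : Set G),
      ∀ v ∈ nb D a ∩ (Subgroup.centralizer (X : Set G) : Set G), u ≠ v → ¬ Commute u v

omit P in
theorem map_conj_cent (g : G) (X : Subgroup G) :
    (Subgroup.centralizer (X : Set G)).map (MulAut.conj g).toMonoidHom =
      Subgroup.centralizer ((X.map (MulAut.conj g).toMonoidHom : Subgroup G) : Set G) := by
  ext y
  obtain ⟨y, rfl⟩ := (MulAut.conj g).surjective y
  rw [show MulAut.conj g y = (MulAut.conj g).toMonoidHom y from rfl,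
    Subgroup.mem_map_iff_mem (MulAut.conj g).injective, Subgroup.mem_centralizer_iff,
    Subgroup.mem_centralizer_iff]
  constructor
  · rintro q _ ⟨z, hz, rfl⟩
    rw [← map_mul, ← map_mul, q z hz]
  · intro q z hz
    have := q _ ⟨z, hz, rfl⟩
    rw [← map_mul, ← map_mul] at this
    exact (MulAut.conj g).injective this

omit P in
theorem map_conj_norm (g : G) (X : Subgroup G) :
    (Subgroup.normalizer (X : Set G)).map (MulAut.conj g).toMonoidHom =
      Subgroup.normalizer ((X.map (MulAut.conj g).toMonoidHom : Subgroup G) : Set G) :=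
  Subgroup.map_equiv_normalizer_eq X (MulAut.conj g)

theorem map_conj_hsub (g : G) {a : G} (ha : a ∈ D) :
    (hsub D a).map (MulAut.conj g).toMonoidHom = hsub D (g * a * g⁻¹) := by
  ext y
  obtain ⟨y, rfl⟩ := (MulAut.conj g).surjective y
  rw [show MulAut.conj g y = (MulAut.conj g).toMonoidHom y from rfl,
    Subgroup.mem_map_iff_mem (MulAut.conj g).injective, mem_hsub23 P ha,
    mem_hsub23 P (P.base.tt.conj g a ha)]
  exact (commute_conj_iff g y a).symm

theorem local_conj {a : G} {X : Subgroup G} {N C F : ℕ} (ha : a ∈ D) (g : G) (h : LocalData D a X N C F) :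
    LocalData D (g * a * g⁻¹) (X.map (MulAut.conj g).toMonoidHom) N C F := by
  obtain ⟨h1, h2, h3, h4⟩ := h
  have hnb : MulAut.conj g '' (nb D a ∩ (Subgroup.centralizer (X : Set G) : Set G)) =
      nb D (g * a * g⁻¹) ∩ (Subgroup.centralizer ((X.map (MulAut.conj g).toMonoidHom : Subgroup G) : Set G) : Set G) := by
    ext y
    obtain ⟨y, rfl⟩ := (MulAut.conj g).surjective y
    rw [(MulAut.conj g).injective.mem_set_image, ← map_conj_cent g X]
    show y ∈ nb D a ∧ y ∈ Subgroup.centralizer (X : Set G) ↔ MulAut.conj g y ∈ nb D (MulAut.conj g a) ∧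
      (MulAut.conj g).toMonoidHom y ∈ (Subgroup.centralizer (X : Set G)).map (MulAut.conj g).toMonoidHom
    rw [mem_nb_conj P.base.tt, Subgroup.mem_map_iff_mem (MulAut.conj g).injective]
  refine ⟨?_, ?_, ?_, ?_⟩
  · rw [← map_conj_norm, ← map_conj_hsub P g ha, ← Subgroup.map_inf _ _ _ (MulAut.conj g).injective,
      Subgroup.card_map_of_injective (MulAut.conj g).injective, h1]
  · rw [← map_conj_cent, ← map_conj_hsub P g ha, ← Subgroup.map_inf _ _ _ (MulAut.conj g).injective,
      Subgroup.card_map_of_injective (MulAut.conj g).injective, h2]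
  · rw [← hnb, Set.ncard_image_of_injective _ (MulAut.conj g).injective, h3]
  · rw [← hnb]
    rintro _ ⟨u, hu, rfl⟩ _ ⟨v, hv, rfl⟩ hne hc
    exact h4 u hu v hv (fun q => hne (congrArg _ q)) ((commute_conj_iff g u v).1 hc)

theorem local_at_point {p : ℕ} [hp : Fact p.Prime] (hp2 : p ≠ 2) {N C F : ℕ}
    (hQ : ∀ {X' : Subgroup (↥(hsub D d) ⧸ Subgroup.center ↥(hsub D d))}, Nat.card X' = p →
      Nat.card ↥(Subgroup.normalizer (X' : Set (↥(hsub D d) ⧸ Subgroup.center ↥(hsub D d)))) = N ∧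
      Nat.card ↥(Subgroup.centralizer (X' : Set (↥(hsub D d) ⧸ Subgroup.center ↥(hsub D d)))) = C ∧
      (img D d ∩ (Subgroup.centralizer (X' : Set (↥(hsub D d) ⧸ Subgroup.center ↥(hsub D d))) : Set _)).ncard = F ∧
      ∀ u ∈ img D d ∩ (Subgroup.centralizer (X' : Set (↥(hsub D d) ⧸ Subgroup.center ↥(hsub D d))) : Set _),
        ∀ v ∈ img D d ∩ (Subgroup.centralizer (X' : Set (↥(hsub D d) ⧸ Subgroup.center ↥(hsub D d))) : Set _),
          u ≠ v → ¬ Commute u v)
    {a : G} (ha : a ∈ D) {X : Subgroup G} (hX : Nat.card X = p) (hXa : X ≤ hsub D a) :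
    LocalData D a X (2 * N) (2 * C) F := by
  obtain ⟨g, hg⟩ := P.base.conjD a ha d P.mem (P.base.ne_one a ha) (P.base.ne_one d P.mem)
  set X₀ := X.map (MulAut.conj g).toMonoidHom
  have hX₀ : Nat.card X₀ = p := by rw [Subgroup.card_map_of_injective (MulAut.conj g).injective, hX]
  have hXd : X₀ ≤ hsub D d := by
    rw [← hg, ← map_conj_hsub P g ha]; exact Subgroup.map_mono hXa
  obtain ⟨h1, -, h2, h3⟩ := img_sub23 P hp2 hX₀ hXd
  obtain ⟨q1, q2, q3, q4⟩ := hQ h1
  obtain ⟨h4, h5⟩ := nb_fixed23 P hp2 hX₀ hXd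
  have key : LocalData D d X₀ (2 * N) (2 * C) F :=
    ⟨by rw [h3, q1], by rw [h2, q2], by rw [h4, q3], h5 q4⟩
  have := local_conj P P.mem g⁻¹ key
  have e1 : g⁻¹ * d * g⁻¹⁻¹ = a := by rw [← hg]; group
  have e2 : X₀.map (MulAut.conj g⁻¹).toMonoidHom = X := by
    rw [Subgroup.map_map]
    convert Subgroup.map_id X
    ext z
    simp [mul_assoc]
  rwa [e1, e2] at this

theorem local_eleven23 {a : G} (ha : a ∈ D) {X : Subgroup G} (hX : Nat.card X = 11) (hXa : X ≤ hsub D a) :
    LocalData D a X 220 44 1 := by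
  haveI : Fact (11 : ℕ).Prime := ⟨by norm_num⟩
  refine local_at_point P (N := 110) (C := 22) (by norm_num) (fun {X'} hX' => ?_) ha hX hXa
  obtain ⟨h1, h2, h3⟩ := eleven22 P.geo P.prim P.type hX'
  refine ⟨h1, h2, h3, fun u hu v hv hne => ?_⟩
  obtain ⟨w, hw⟩ := Set.ncard_eq_one.1 h3
  rw [hw] at hu hv
  exact absurd (hu.trans hv.symm) hne

theorem local_seven23 {a : G} (ha : a ∈ D) {X : Subgroup G} (hX : Nat.card X = 7) (hXa : X ≤ hsub D a) :
    LocalData D a X 504 84 3 := by
  haveI : Fact (7 : ℕ).Prime := ⟨by norm_num⟩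
  exact local_at_point P (N := 252) (C := 42) (by norm_num) (fun {X'} hX' => seven22 P.geo P.prim P.type hX')
    ha hX hXa

/-- All members centralised are conjugate under the normaliser, and count it. -/
theorem fixed_trans23 {p : ℕ} [hp : Fact p.Prime] (hp2 : ¬ p * p ∣ 129123503308800) {X : Subgroup G}
    (hX : Nat.card X = p) {a : G} (ha : a ∈ D) (hXa : X ≤ hsub D a) :
    Nat.card ↥(Subgroup.normalizer (X : Set G)) =
      (D ∩ (Subgroup.centralizer (X : Set G) : Set G)).ncard *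
        Nat.card ↥(Subgroup.normalizer (X : Set G) ⊓ hsub D a) := by
  rw [inf_comm, hsub_eq23 P ha]
  refine card_orbit_stab _ _ (fun g => g * a * g⁻¹) _ (fun g _ g' _ => conj_fib) ?_
  ext z
  constructor
  · rintro ⟨g, hg, rfl⟩
    refine ⟨P.base.tt.conj g a ha, fun x hx => ?_⟩
    have h1 := (mem_hsub23 P ha).1 (hXa ((Subgroup.mem_normalizer_iff''.1 hg x).1 hx))
    have h2 := (commute_conj_iff g (g⁻¹ * x * g) a).2 h1
    rw [show g * (g⁻¹ * x * g) * g⁻¹ = x by group] at h2
    exact h2.eq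
  · rintro ⟨hzD, hzc⟩
    obtain ⟨g, hg⟩ := P.base.conjD z hzD a ha (P.base.ne_one z hzD) (P.base.ne_one a ha)
    have hX1 : X.map (MulAut.conj g).toMonoidHom ≤ hsub D a := by
      rintro _ ⟨x, hx, rfl⟩
      rw [mem_hsub23 P ha, ← hg]
      exact (commute_conj_iff g x z).2 (hzc x hx)
    obtain ⟨k, hk, e⟩ := sylow_conj hX1 hXa
      (by rw [Subgroup.card_map_of_injective (MulAut.conj g).injective, hX]) hX
      (by rw [card_hsub23 P ha]; exact hp2)
    refine ⟨(k * g)⁻¹, ?_, ?_⟩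
    · refine inv_mem (Subgroup.mem_normalizer_iff.2 fun w => ?_)
      have hmap : X.map (MulAut.conj (k * g)).toMonoidHom = X := by
        conv_rhs => rw [← e, Subgroup.map_map]
        congr 1
        ext v
        simp [mul_assoc]
      constructor
      · intro hw
        rw [← hmap]; exact ⟨w, hw, rfl⟩
      · intro hw
        rw [← hmap] at hw
        obtain ⟨u, hu, hu'⟩ := hw
        rwa [(MulAut.conj (k * g)).injective hu'] at hu
    · show (k * g)⁻¹ * a * (k * g)⁻¹⁻¹ = z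
      calc (k * g)⁻¹ * a * (k * g)⁻¹⁻¹ = g⁻¹ * (k⁻¹ * a * k) * g := by group
        _ = g⁻¹ * a * g := by
          rw [show k⁻¹ * a * k = k⁻¹ * (a * k) by group, ← (commute_hsub hk).eq, inv_mul_cancel_left]
        _ = z := by rw [← hg]; group

theorem eleven_normalizer23 {X : Subgroup G} (hX : Nat.card X = 11) :
    ∃ d b : G, d ∈ D ∧ b ∈ D ∧ d ≠ b ∧ (D ∩ (Subgroup.centralizer (X : Set G) : Set G)) = {d, b} ∧
      ∃ F : Subgroup G, Nat.card ↥F = 55 ∧ X ≤ F ∧ F ⊓ Subgroup.centralizer (X : Set G) = X ∧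
        F ⊓ Subgroup.closure ({d, b} : Set G) = ⊥ ∧
        (∀ x ∈ F, ∀ y ∈ Subgroup.closure ({d, b} : Set G), x * y = y * x) ∧
        F ⊔ Subgroup.closure ({d, b} : Set G) =
          (Subgroup.normalizer (X : Set G) ⊓ Subgroup.centralizer ({d} : Set G)) ∧
        ((Subgroup.normalizer (X : Set G) ⊓ Subgroup.centralizer ({d} : Set G)).subgroupOf
          (Subgroup.normalizer (X : Set G))).index = 2 := by
  classical
  haveI : Fact (11 : ℕ).Prime := ⟨by norm_num⟩
  haveI : IsCyclic X := isCyclic_of_prime_card hX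
  obtain ⟨a, ha, hXa⟩ := exists_point_cent23 P (p := 11) (by norm_num) (by norm_num) hX
  obtain ⟨hNH, hCH, hone, -⟩ := local_eleven23 P ha hX hXa
  obtain ⟨b, hb⟩ := Set.ncard_eq_one.1 hone
  have hb' : b ∈ nb D a ∩ (Subgroup.centralizer (X : Set G) : Set G) := by rw [hb]; rfl
  obtain ⟨y, hyX, hy11, hXy⟩ := exists_gen hX
  have hab : a ≠ b := fun q => hb'.1.2.1 q.symm
  have haC : a ∈ Subgroup.centralizer (X : Set G) := fun x hx => ((mem_hsub23 P ha).1 (hXa hx)).eq
  have hΦ : D ∩ (Subgroup.centralizer (X : Set G) : Set G) = {a, b} := by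
    ext z
    constructor
    · rintro ⟨hz, hzc⟩
      by_cases e : z = a
      · exact Or.inl e
      by_cases haz : Commute a z
      · right
        rw [← hb]; exact ⟨⟨hz, e, haz⟩, hzc⟩
      · exfalso
        have hm : y ∈ Subgroup.centralizer ({z} : Set G) ⊓ hsub D a :=
          ⟨Subgroup.mem_centralizer_singleton_iff.2 (hzc y hyX), hXa hyX⟩
        have := Subgroup.orderOf_dvd_natCard _ hm
        rw [hy11, card_far_cent23 P ha hz haz] at this
        norm_num at this
    · rintro (rfl | rfl)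
      exacts [⟨ha, haC⟩, ⟨hb'.1.1, hb'.2⟩]
  have hN := fixed_trans23 P (p := 11) (by norm_num) hX ha hXa
  rw [hΦ, Set.ncard_pair hab, hNH] at hN
  set N := Subgroup.normalizer (X : Set G)
  set C := Subgroup.centralizer (X : Set G) with hCdef
  set M := N ⊓ hsub D a
  obtain ⟨f', hf'⟩ := exists_prime_orderOf_dvd_card' (G := M) 5 (hp := ⟨by norm_num⟩) (by rw [hNH]; norm_num)
  rw [← Subgroup.orderOf_coe] at hf'
  set f : G := (f' : G)
  have hXM : X ≤ M := le_inf Subgroup.le_normalizer hXa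
  set F := Subgroup.zpowers f ⊔ X
  have hFM : F ≤ M := sup_le (Subgroup.zpowers_le.2 f'.2) hXM
  have hset : ((Subgroup.zpowers f : Subgroup G) : Set G) * (X : Set G) = (F : Set G) :=
    (Subgroup.coe_mul_of_left_le_normalizer_right _ _ (Subgroup.zpowers_le.2 f'.2.1)).symm
  have hcardF : Nat.card F = 55 := by
    have h5 : 5 ∣ Nat.card F := by
      rw [← hf', ← Nat.card_zpowers]; exact Subgroup.card_dvd_of_le le_sup_left
    have h11 : 11 ∣ Nat.card F := by rw [← hX]; exact Subgroup.card_dvd_of_le le_sup_right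
    have hle : Nat.card F ≤ 55 := by
      have := Nat.card_le_card_of_surjective
        (fun q : ↥(Subgroup.zpowers f) × ↥X => (⟨(q.1 : G) * q.2, Subgroup.mul_mem_sup q.1.2 q.2.2⟩ : ↥F))
        (fun ⟨z, hz⟩ => by
          rw [← SetLike.mem_coe, ← hset] at hz
          obtain ⟨u, hu, v, hv, rfl⟩ := hz
          exact ⟨(⟨u, hu⟩, ⟨v, hv⟩), rfl⟩)
      rw [Nat.card_prod, Nat.card_zpowers, hf', hX] at this
      simpa using this
    have := Nat.le_of_dvd Nat.card_pos ((Nat.Coprime.mul_dvd_of_dvd_of_dvd (by norm_num) h5 h11 :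
      5 * 11 ∣ Nat.card F))
    omega
  set V := Subgroup.closure ({a, b} : Set G) with hVdef
  have hcV : ∀ x ∈ F, ∀ v ∈ V, x * v = v * x := by
    intro x hx v hv
    have hxa : Commute x a := commute_hsub (hFM hx).2
    have hmem : x * b * x⁻¹ ∈ ({b} : Set G) := by
      rw [← hb]
      refine ⟨nb_conj P.base.tt hb'.1.1 hb'.1.2.1 hb'.1.2.2 (by rw [hxa.eq, mul_inv_cancel_right]), fun w hw => ?_⟩
      have h1 : Commute (x⁻¹ * w * x) b := hb'.2 _ ((Subgroup.mem_normalizer_iff''.1 (hFM hx).1 w).1 hw)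
      have h2 := (commute_conj_iff x (x⁻¹ * w * x) b).2 h1
      rw [show x * (x⁻¹ * w * x) * x⁻¹ = w by group] at h2
      exact h2.eq
    exact (commute_of_closure (x := x) (fun w hw => by
      rcases hw with e | e <;> rw [show w = _ from e]
      exacts [hxa.symm, (mul_inv_eq_iff_eq_mul.1 hmem : x * b = b * x).symm]) v hv).symm.eq
  have haM : a ∈ M := ⟨Subgroup.centralizer_le_normalizer _ haC, self23 P a ha⟩
  have hbM : b ∈ M :=
    ⟨Subgroup.centralizer_le_normalizer _ hb'.2, (mem_hsub23 P ha).2 hb'.1.2.2.symm⟩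
  have hVC : V ≤ C ⊓ hsub D a := (Subgroup.closure_le _).2 (by
    rintro w (rfl | rfl)
    exacts [⟨haC, self23 P _ ha⟩, ⟨hb'.2, hbM.2⟩])
  have hVM : V ≤ M := (Subgroup.closure_le _).2 (by
    rintro w (rfl | rfl)
    exacts [haM, hbM])
  have h2G : ∀ v ∈ V, v * v = 1 := by
    intro v hv
    have hcomm : ∀ w ∈ V, ∀ u ∈ ({a, b} : Set G), Commute w u := fun w hw u hu =>
      commute_of_closure (fun z hz => by
        rcases hz with rfl | rfl <;> rcases hu with rfl | rfl
        exacts [Commute.refl _, hb'.1.2.2, hb'.1.2.2.symm, Commute.refl _]) w hw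
    induction hv using Subgroup.closure_induction with
    | mem x hx =>
      rcases hx with rfl | rfl
      exacts [P.base.tt.sq _ ha, P.base.tt.sq _ hb'.1.1]
    | one => exact mul_one 1
    | mul u w hu hw h1 h2 =>
      have hc : Commute u w := commute_of_closure (fun z hz => (hcomm w hw z hz).symm) u hu
      rw [show u * w * (u * w) = u * (w * u) * w by group, ← hc.eq,
        show u * (u * w) * w = (u * u) * (w * w) by group, h1, h2, one_mul]
    | inv u hu h1 => rw [← mul_inv_rev, h1, inv_one]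
  have hFV : F ⊓ V = ⊥ := (Subgroup.eq_bot_iff_forall _).2 fun z hz => by
    have h55 : z ^ 55 = 1 := by
      have : (⟨z, hz.1⟩ : ↥F) ^ 55 = 1 := by rw [← hcardF]; exact pow_card_eq_one'
      exact congrArg Subtype.val this
    have h2 : z ^ 2 = 1 := by rw [pow_two]; exact h2G z hz.2
    rw [← pow_one z, show (1 : ℕ) = Nat.gcd 2 55 by norm_num]
    exact pow_gcd_eq_one.2 ⟨h2, h55⟩
  have hVcard : 4 ≤ Nat.card V := by
    have hsub' : ({1, a, b, a * b} : Set G) ⊆ (V : Set G) := by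
      have h1 : a ∈ V := Subgroup.subset_closure (Or.inl rfl)
      have h2 : b ∈ V := Subgroup.subset_closure (Or.inr rfl)
      rintro w (rfl | rfl | rfl | rfl)
      exacts [one_mem _, h1, h2, mul_mem h1 h2]
    have hab1 : a * b ≠ 1 := fun q => hab (by rw [← P.base.tt.inv ha]; exact inv_eq_of_mul_eq_one_right q)
    have := Set.ncard_le_ncard hsub' (Set.toFinite _)
    rw [Set.ncard_insert_of_notMem (by
        rintro (q | q | q)
        exacts [P.base.ne_one a ha q.symm, P.base.ne_one b hb'.1.1 q.symm, hab1 q.symm]) (Set.toFinite _),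
      Set.ncard_insert_of_notMem (by
        rintro (q | q)
        exacts [hab q, P.base.ne_one b hb'.1.1 (mul_left_cancel (a := a) (by rw [← q, mul_one]))]) (Set.toFinite _),
      Set.ncard_pair (fun q => P.base.ne_one a ha (mul_right_cancel (b := b) (by rw [← q, one_mul])))] at this
    rwa [← Nat.card_coe_set_eq] at this
  have hFC : F ⊓ C = X := by
    refine (Subgroup.eq_of_le_of_card_ge (le_inf le_sup_right fun z hz => ?_) ?_).symm
    · intro w hw
      exact congrArg Subtype.val ((IsCyclic.isMulCommutative (α := ↥X)).is_comm.comm ⟨w, hw⟩ ⟨z, hz⟩)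
    · have h1 : Nat.card ↥(F ⊓ C) ∣ 55 := hcardF ▸ Subgroup.card_dvd_of_le inf_le_left
      have h2 : Nat.card ↥(F ⊓ C) ∣ 44 := by
        rw [← hCH]
        exact Subgroup.card_dvd_of_le (le_inf inf_le_right (inf_le_left.trans (hFM.trans inf_le_right)))
      have := Nat.le_of_dvd (by norm_num) (Nat.dvd_gcd h1 h2 : _ ∣ Nat.gcd 55 44)
      rw [hX]
      exact this.trans (by norm_num)
  refine ⟨a, b, ha, hb'.1.1, hab, hΦ, F, hcardF, le_sup_right, hFC, hFV, hcV, ?_, ?_⟩
  · rw [← hsub_eq23 P ha]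
    refine Subgroup.eq_of_le_of_card_ge (sup_le hFM hVM) ?_
    rw [(card_sup_comm (C := ⊤) hFV hcV).1, hcardF, hNH]
    omega
  · rw [← hsub_eq23 P ha]
    have h := Subgroup.card_mul_index (M.subgroupOf N)
    rw [Nat.card_congr (Subgroup.subgroupOfEquivOfLe (inf_le_left : M ≤ N)).toEquiv, hNH, hN] at h
    show (M.subgroupOf N).index = 2
    omega

end CfsgLib.ThreeT.Prod
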