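/-
An involution whose centraliser covers modulo a normal 2-group fixes a Sylow subgroup.
-/
import Mathlib
import Cfsg.Agent.Solvable.Basics

set_option autoImplicit false
set_option linter.style.haveILetI false

namespace CfsgLib.ThreeT.Cover

universe u

theorem pow_three_group {G : Type*} [Group G] {P : Subgroup G} (hP : IsPGroup 3 P) {a : G} (ha : a ∈ P) :
    ∃ k : ℕ, a ^ (2 * k + 1) = 1 := by
  obtain ⟨j, hj⟩ := hP ⟨a, ha⟩
  obtain ⟨k, hk⟩ := (Odd.pow (⟨1, rfl⟩ : Odd 3) (n := j))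
  exact ⟨k, hk ▸ congrArg Subtype.val hj⟩

theorem exists_invariant_sylow (n₀ : ℕ) :
    ∀ (G : Type u) [Group G] [Finite G] (M O : Subgroup G) [M.Normal] [O.Normal] (d : G),
      Nat.card G = n₀ → d * d = 1 → (∀ g : G, g ∈ M ∨ g * d ∈ M) → O ≤ M → IsPGroup 2 O →
      (∀ m ∈ M, ∃ k : ℕ, m ^ 3 ^ k ∈ O) →
      (∀ m ∈ M, d * m * d * m⁻¹ ∈ O → ∃ c, c * d = d * c ∧ c⁻¹ * m ∈ O) →
      ∃ P : Subgroup G, IsPGroup 3 P ∧ P ≤ M ∧ P ⊔ O = M ∧ ∀ x ∈ P, d * x * d ∈ P := by
  induction n₀ using Nat.strong_induction_on with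
  | _ n₀ ih =>
  intro G _ _ M O _ _ d hn hd hgen hOM hO hM hcov
  classical
  haveI : Fact (Nat.Prime 2) := ⟨Nat.prime_two⟩
  haveI : Fact (Nat.Prime 3) := ⟨by norm_num⟩
  have hdd : ∀ u : G, d * (d * u) = u := fun u => by rw [← mul_assoc, hd, one_mul]
  have hdinv : d⁻¹ = d := inv_eq_of_mul_eq_one_right hd
  by_cases hO1 : O = ⊥
  · subst hO1
    refine ⟨M, fun x => ?_, le_rfl, by simp, fun x hx => ?_⟩
    · obtain ⟨k, hk⟩ := hM x x.2
      exact ⟨k, Subtype.ext (Subgroup.mem_bot.mp hk)⟩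
    · have := (inferInstance : M.Normal).conj_mem x hx d
      rwa [hdinv] at this
  obtain ⟨E, hEn, hE1, hEO, hEab, hEmin, p, hp, hexp, hEp⟩ :=
    CfsgLib.Solvable.exists_normal_elementary_le (N := O) hO1
      (by haveI := hO.isNilpotent; infer_instance)
  haveI := hEn
  have hEc : ∀ x ∈ E, ∀ y ∈ E, x * y = y * x := fun x hx y hy =>
    congrArg Subtype.val (hEab.is_comm.comm ⟨x, hx⟩ ⟨y, hy⟩)
  have hsq : ∀ x ∈ E, x * x = 1 := by
    intro x hx
    obtain ⟨j, hj⟩ := hO ⟨x, hEO hx⟩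
    have hj' : x ^ 2 ^ j = 1 := congrArg Subtype.val hj
    by_cases hx1 : x = 1
    · rw [hx1, mul_one]
    have h1 := Nat.Prime.dvd_of_dvd_pow (n := j) hp
      ((orderOf_eq_prime (hp := ⟨hp⟩) (hexp x hx) hx1) ▸ orderOf_dvd_of_pow_eq_one hj')
    rw [(Nat.prime_dvd_prime_iff_eq hp Nat.prime_two).mp h1] at hexp
    rw [← pow_two, hexp x hx]
  have hinvE : ∀ x ∈ E, x⁻¹ = x := fun x hx => inv_eq_of_mul_eq_one_right (hsq x hx)
  -- a normal 2-group centralises the minimal normal subgroup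
  have hOc : ∀ o ∈ O, ∀ x ∈ E, o * x = x * o := by
    haveI hne : Nontrivial E := (Subgroup.nontrivial_iff_ne_bot E).mpr hE1
    letI : MulAction O E :=
      { smul := fun o x => ⟨o * x * (o : G)⁻¹, hEn.conj_mem x x.2 o⟩
        one_smul := fun x => Subtype.ext (by show ((1 : O) : G) * x * ((1 : O) : G)⁻¹ = x; simp)
        mul_smul := fun a b x => Subtype.ext (by
          show (a * b : O) * (x : G) * ((a * b : O) : G)⁻¹ = a * (b * x * (b : G)⁻¹) * (a : G)⁻¹
          simp [mul_assoc]) }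
    let F : Subgroup G :=
      { carrier := {x | x ∈ E ∧ ∀ o ∈ O, o * x = x * o}
        one_mem' := ⟨one_mem _, fun o _ => by simp⟩
        mul_mem' := fun {a b} ha hb => ⟨mul_mem ha.1 hb.1, fun o ho => by
          rw [← mul_assoc, ha.2 o ho, mul_assoc, hb.2 o ho, mul_assoc]⟩
        inv_mem' := fun {a} ha => ⟨inv_mem ha.1, fun o ho => (Commute.inv_right (show Commute o a from ha.2 o ho)).eq⟩ }
    have hFn : F.Normal := ⟨fun x hx g => ⟨hEn.conj_mem x hx.1 g, fun o ho => by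
      have h := hx.2 _ ((inferInstance : O.Normal).conj_mem o ho g⁻¹)
      calc o * (g * x * g⁻¹) = g * ((g⁻¹ * o * g⁻¹⁻¹) * x) * g⁻¹ := by group
        _ = g * (x * (g⁻¹ * o * g⁻¹⁻¹)) * g⁻¹ := by rw [h]
        _ = _ := by group⟩⟩
    have hEtwo : 2 ∣ Nat.card E := by
      obtain ⟨x, hx⟩ := exists_ne (1 : E)
      rw [← orderOf_eq_prime (p := 2) (x := x) (by rw [pow_two]; exact Subtype.ext (hsq x x.2)) hx]
      exact orderOf_dvd_natCard x
    obtain ⟨x, hx, hne1⟩ := hO.exists_fixed_point_of_prime_dvd_card_of_fixed_point E hEtwo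
      (a := (1 : E)) (fun o => Subtype.ext (by show (o : G) * ((1 : E) : G) * (o : G)⁻¹ = _; simp))
    have hxF : (x : G) ∈ F := ⟨x.2, fun o ho => mul_inv_eq_iff_eq_mul.mp (congrArg Subtype.val (hx ⟨o, ho⟩))⟩
    rcases hEmin F hFn (fun y hy => hy.1) with h | h
    · exact absurd (Subtype.ext (Subgroup.mem_bot.mp (h ▸ hxF)) : x = 1) (fun e => hne1 e.symm)
    · exact fun o ho y hy => ((h.symm ▸ hy : y ∈ F).2 o ho)
  -- the invariant subgroup upstairs
  set π := QuotientGroup.mk' E with hπ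
  haveI : (M.map π).Normal := Subgroup.Normal.map inferInstance π (QuotientGroup.mk'_surjective E)
  haveI : (O.map π).Normal := Subgroup.Normal.map inferInstance π (QuotientGroup.mk'_surjective E)
  have hlt : Nat.card (G ⧸ E) < n₀ := hn ▸ CfsgLib.Solvable.card_quotient_lt hE1
  have hback : ∀ {K : Subgroup G}, E ≤ K → ∀ {g : G}, π g ∈ K.map π → g ∈ K := by
    intro K hK g hg
    obtain ⟨k, hk, e⟩ := hg
    have : k⁻¹ * g ∈ E := QuotientGroup.eq.mp e
    have h := mul_mem hk (hK this)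
    rwa [mul_inv_cancel_left] at h
  obtain ⟨P₁, hP₁, hP₁M, hP₁O, hP₁d⟩ := ih _ hlt (G ⧸ E) (M.map π) (O.map π) (π d) rfl
    (by rw [← map_mul, hd, map_one])
    (fun c => by
      obtain ⟨g, rfl⟩ := QuotientGroup.mk_surjective c
      exact (hgen g).imp (fun h => Subgroup.mem_map_of_mem π h) fun h => ⟨_, h, map_mul π g d⟩)
    (Subgroup.map_mono hOM) (hO.map π)
    (by rintro _ ⟨m, hm, rfl⟩; obtain ⟨k, hk⟩ := hM m hm; exact ⟨k, _, hk, map_pow π m _⟩)
    (by
      rintro _ ⟨m, hm, rfl⟩ h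
      rw [← map_mul, ← map_mul, ← map_inv, ← map_mul] at h
      obtain ⟨c, hc1, hc2⟩ := hcov m hm (hback hEO h)
      exact ⟨π c, by rw [← map_mul, hc1, map_mul], ⟨_, hc2, by rw [map_mul, map_inv]⟩⟩)
  -- the centraliser of `d` in the middle
  let C : Subgroup G := Subgroup.centralizer {d} ⊓ M
  obtain ⟨Q⟩ : Nonempty (Sylow 3 C) := Sylow.nonempty
  let Cq : Subgroup (G ⧸ E) := Subgroup.centralizer {π d} ⊓ M.map π
  have hCle : C.map π ≤ Cq := by
    rintro _ ⟨c, hc, rfl⟩
    refine ⟨Subgroup.mem_centralizer_singleton_iff.mpr ?_, Subgroup.mem_map_of_mem π hc.2⟩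
    rw [← map_mul, Subgroup.mem_centralizer_singleton_iff.mp hc.1, map_mul]
  have hQq : ((Q : Subgroup C).map (π.comp C.subtype)) ≤ Cq := by
    rintro _ ⟨q, -, rfl⟩
    exact hCle ⟨q, q.2, rfl⟩
  let P₁c : Subgroup Cq := P₁.subgroupOf Cq
  have hP₁c : IsPGroup 3 P₁c := by
    intro x
    obtain ⟨k, hk⟩ := hP₁ ⟨(x : Cq), Subgroup.mem_subgroupOf.mp x.2⟩
    exact ⟨k, Subtype.ext (Subtype.ext (by simpa using congrArg Subtype.val hk))⟩
  obtain ⟨S₁, hS₁⟩ := hP₁c.exists_le_sylow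
  obtain ⟨S₂, hS₂⟩ := (show IsPGroup 3 (((Q : Subgroup C).map (π.comp C.subtype)).subgroupOf Cq) from by
    intro x
    obtain ⟨k, hk⟩ := (Q.2.map (π.comp C.subtype)) ⟨(x : Cq), Subgroup.mem_subgroupOf.mp x.2⟩
    exact ⟨k, Subtype.ext (Subtype.ext (by simpa using congrArg Subtype.val hk))⟩).exists_le_sylow
  obtain ⟨y, hy⟩ := MulAction.exists_smul_eq Cq S₁ S₂
  set P₂ := P₁.map (MulAut.conj (y : G ⧸ E)).toMonoidHom with hP₂def
  have hP₂p : IsPGroup 3 P₂ := hP₁.map _
  have hydc : (y : G ⧸ E) * π d = π d * y := Subgroup.mem_centralizer_singleton_iff.mp y.2.1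
  have hP₂d : ∀ x ∈ P₂, π d * x * π d ∈ P₂ := by
    rintro _ ⟨x, hx, rfl⟩
    refine ⟨π d * x * π d, hP₁d x hx, ?_⟩
    show (y : G ⧸ E) * (π d * x * π d) * (y : G ⧸ E)⁻¹ = π d * ((y : G ⧸ E) * x * (y : G ⧸ E)⁻¹) * π d
    have h1 : π d * (y : G ⧸ E)⁻¹ = (y : G ⧸ E)⁻¹ * π d := (Commute.inv_left (show Commute _ _ from hydc)).eq.symm
    calc (y : G ⧸ E) * (π d * x * π d) * (y : G ⧸ E)⁻¹ = ((y : G ⧸ E) * π d) * x * (π d * (y : G ⧸ E)⁻¹) := by group
      _ = _ := by rw [hydc, h1]; group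
  have hP₂M : P₂ ≤ M.map π := by
    rintro _ ⟨x, hx, rfl⟩
    exact (inferInstance : (M.map π).Normal).conj_mem x (hP₁M hx) _
  have hP₂O : P₂ ⊔ O.map π = M.map π := by
    refine le_antisymm (sup_le hP₂M (Subgroup.map_mono hOM)) ?_
    intro m hm
    have hm' : (y : G ⧸ E)⁻¹ * m * (y : G ⧸ E)⁻¹⁻¹ ∈ P₁ ⊔ O.map π :=
      hP₁O.symm ▸ (inferInstance : (M.map π).Normal).conj_mem m hm _
    obtain ⟨a, ha, b, hb, hab⟩ := Subgroup.mem_sup_of_normal_right.mp hm'
    have : m = ((y : G ⧸ E) * a * (y : G ⧸ E)⁻¹) * ((y : G ⧸ E) * b * (y : G ⧸ E)⁻¹) := by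
      calc m = (y : G ⧸ E) * ((y : G ⧸ E)⁻¹ * m * (y : G ⧸ E)⁻¹⁻¹) * (y : G ⧸ E)⁻¹ := by group
        _ = _ := by rw [← hab]; group
    rw [this]
    exact Subgroup.mul_mem_sup ⟨a, ha, rfl⟩ ((inferInstance : (O.map π).Normal).conj_mem b hb _)
  -- the preimage
  let N : Subgroup G := P₂.comap π
  have hEN : E ≤ N := fun x hx => by
    show π x ∈ P₂
    rw [show π x = 1 from (QuotientGroup.eq_one_iff x).mpr hx]; exact one_mem _
  have hNM : N ≤ M := fun x hx => hback (hEO.trans hOM) (hP₂M hx)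
  have hNO : ∀ m ∈ M, ∃ a ∈ N, a⁻¹ * m ∈ O := by
    intro m hm
    obtain ⟨a, ha, b, hb, hab⟩ := Subgroup.mem_sup_of_normal_right.mp (hP₂O.symm ▸ Subgroup.mem_map_of_mem π hm)
    obtain ⟨a', rfl⟩ := QuotientGroup.mk_surjective a
    refine ⟨a', ha, hback hEO ?_⟩
    rw [map_mul, map_inv, ← hab, show π a' = (a' : G ⧸ E) from rfl, inv_mul_cancel_left]
    exact hb
  have hNd : ∀ x ∈ N, d * x * d ∈ N := fun x hx => by
    show π (d * x * d) ∈ P₂
    rw [map_mul, map_mul]; exact hP₂d _ hx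
  obtain ⟨S⟩ : Nonempty (Sylow 3 N) := Sylow.nonempty
  set P := (S : Subgroup N).map N.subtype with hPdef
  have hP : IsPGroup 3 P := S.2.map _
  have hPN : P ≤ N := Subgroup.map_subtype_le _
  have hfull : ∀ x ∈ N, ∃ a ∈ P, a⁻¹ * x ∈ E := by
    intro x hx
    let K : Subgroup N := E.subgroupOf N
    haveI : K.Normal := inferInstance
    have htop : (S : Subgroup N) ⊔ K = ⊤ := by
      set J := (S : Subgroup N) ⊔ K
      have h3 : ¬ 3 ∣ J.index := fun h => S.not_dvd_index (h.trans (Subgroup.index_dvd_of_le le_sup_left))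
      have hKJ : J.index ∣ K.index := Subgroup.index_dvd_of_le le_sup_right
      have hKp : ∃ j, K.index = 3 ^ j := by
        have hq : IsPGroup 3 (N ⧸ K) := by
          intro c
          obtain ⟨g, rfl⟩ := QuotientGroup.mk_surjective c
          obtain ⟨j, hj⟩ := hP₂p ⟨π g, g.2⟩
          refine ⟨j, ?_⟩
          rw [← QuotientGroup.mk_pow, QuotientGroup.eq_one_iff, Subgroup.mem_subgroupOf,
            ← QuotientGroup.eq_one_iff]
          have := congrArg Subtype.val hj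
          exact (map_pow π (g : G) _).trans this
        exact IsPGroup.iff_card.mp hq
      obtain ⟨j, hj⟩ := hKp
      obtain ⟨i, -, hi⟩ := (Nat.dvd_prime_pow (by norm_num)).mp (hj ▸ hKJ)
      rcases Nat.eq_zero_or_pos i with rfl | hi0
      · exact Subgroup.index_eq_one.mp (by simpa using hi)
      · exact absurd (hi ▸ dvd_pow_self 3 hi0.ne') h3
    obtain ⟨a, ha, b, hb, hab⟩ :=
      Subgroup.mem_sup_of_normal_right.mp (htop ▸ Subgroup.mem_top (⟨x, hx⟩ : N))
    refine ⟨a, Subgroup.mem_map_of_mem _ ha, ?_⟩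
    rw [show x = (a : G) * b from (congrArg Subtype.val hab).symm, inv_mul_cancel_left]
    exact Subgroup.mem_subgroupOf.mp hb
  have hPO : P ⊔ O = M := by
    refine le_antisymm (sup_le (hPN.trans hNM) hOM) fun m hm => ?_
    obtain ⟨a, ha, hb⟩ := hNO m hm
    obtain ⟨c, hc, he⟩ := hfull a ha
    rw [show m = c * ((c⁻¹ * a) * (a⁻¹ * m)) by group]
    exact Subgroup.mul_mem_sup hc (mul_mem (hEO he) hb)
  -- an element of the coset of `d` normalising `P`
  obtain ⟨e, he, hPe⟩ : ∃ e ∈ E, ∀ x ∈ P, e * (d * x * d) * e⁻¹ ∈ P := by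
    let θ : N →* N :=
      { toFun := fun x => ⟨d * x * d, hNd x x.2⟩
        map_one' := Subtype.ext (by show d * ((1 : N) : G) * d = 1; simp [hd])
        map_mul' := fun a b => Subtype.ext (by
          show d * ((a : G) * b) * d = d * a * d * (d * b * d)
          simp only [mul_assoc, hdd]) }
    have hθp : IsPGroup 3 ((S : Subgroup N).map θ) := S.2.map θ
    obtain ⟨T, hT⟩ := hθp.exists_le_sylow
    obtain ⟨w, hw⟩ := MulAction.exists_smul_eq N T S
    obtain ⟨a, ha, hae⟩ := hfull w w.2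
    refine ⟨a⁻¹ * w, hae, fun x hx => ?_⟩
    obtain ⟨x', hx', rfl⟩ := hx
    have h1 : w * θ x' * w⁻¹ ∈ (S : Subgroup N) := by
      rw [← hw]
      exact ⟨θ x', hT ⟨x', hx', rfl⟩, rfl⟩
    have h2 : (w : G) * (d * x' * d) * (w : G)⁻¹ ∈ P := ⟨_, h1, rfl⟩
    rw [show a⁻¹ * (w : G) * (d * (N.subtype x') * d) * (a⁻¹ * (w : G))⁻¹ =
      a⁻¹ * ((w : G) * (d * x' * d) * (w : G)⁻¹) * a by simp [mul_assoc]]
    exact mul_mem (mul_mem (inv_mem ha) h2) ha
  set n := e * d with hndef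
  have hndE : ∀ x ∈ E, n * x * n⁻¹ = d * x * d := fun x hx => by
    have h1 : d * x * d ∈ E := by have := hEn.conj_mem x hx d; rwa [hdinv] at this
    calc n * x * n⁻¹ = e * (d * x * d) * e⁻¹ := by rw [hndef, mul_inv_rev, hdinv]; group
      _ = d * x * d := by rw [hEc e he _ h1, mul_inv_cancel_right]
  have hnP : ∀ x ∈ P, n * x * n⁻¹ ∈ P := fun x hx => by
    rw [hndef, mul_inv_rev, hdinv, show e * d * x * (d * e⁻¹) = e * (d * x * d) * e⁻¹ by group]
    exact hPe x hx
  have hded : d * e * d ∈ E := by have := hEn.conj_mem e he d; rwa [hdinv] at this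
  -- the fixed space of `P`
  let F : Subgroup G :=
    { carrier := {x | x ∈ E ∧ ∀ a ∈ P, a * x = x * a}
      one_mem' := ⟨one_mem _, fun o _ => by simp⟩
      mul_mem' := fun {a b} ha hb => ⟨mul_mem ha.1 hb.1, fun o ho => by
        rw [← mul_assoc, ha.2 o ho, mul_assoc, hb.2 o ho, mul_assoc]⟩
      inv_mem' := fun {a} ha => ⟨inv_mem ha.1, fun o ho => (Commute.inv_right (show Commute o a from ha.2 o ho)).eq⟩ }
  -- invariance under the whole group
  have hnormal : ∀ W : Subgroup G, W ≤ E → (∀ a ∈ P, ∀ x ∈ W, a * x * a⁻¹ ∈ W) →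
      (∀ x ∈ W, n * x * n⁻¹ ∈ W) → W.Normal := by
    intro W hW hPW hnW
    have hMW : ∀ m ∈ M, ∀ x ∈ W, m * x * m⁻¹ ∈ W := by
      intro m hm x hx
      obtain ⟨a, ha, b, hb, rfl⟩ := Subgroup.mem_sup_of_normal_right.mp (hPO.symm ▸ hm)
      rw [show a * b * x * (a * b)⁻¹ = a * (b * x * b⁻¹) * a⁻¹ by group, hOc b hb x (hW hx), mul_inv_cancel_right]
      exact hPW a ha x hx
    refine ⟨fun x hx g => ?_⟩
    rcases hgen g with h | h
    · exact hMW g h x hx
    · have h1 := hMW _ h _ (hnW x hx)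
      rw [hndE x (hW hx)] at h1
      simpa only [mul_inv_rev, hdinv, mul_assoc, hdd] using h1
  have hFn : F.Normal := hnormal F (fun x hx => hx.1) (fun a ha x hx => by
      rw [hx.2 a ha, mul_inv_cancel_right]; exact hx) (fun x hx => by
      refine ⟨hEn.conj_mem x hx.1 n, fun a ha => ?_⟩
      -- `n` normalises `P`
      have himg : ∃ a₀ ∈ P, n * a₀ * n⁻¹ = a := by
        have hinj : Set.InjOn (fun z => n * z * n⁻¹) (P : Set G) := fun p _ q _ h => mul_left_cancel (mul_right_cancel h)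
        have hs : (fun z => n * z * n⁻¹) '' (P : Set G) = P := Set.eq_of_subset_of_ncard_le
          (fun _ ⟨z, hz, e⟩ => e ▸ hnP z hz) (le_of_eq (Set.ncard_image_of_injOn hinj).symm) (Set.toFinite _)
        exact hs.ge ha
      obtain ⟨a₀, ha₀, rfl⟩ := himg
      calc n * a₀ * n⁻¹ * (n * x * n⁻¹) = n * (a₀ * x) * n⁻¹ := by group
        _ = n * (x * a₀) * n⁻¹ := by rw [hx.2 a₀ ha₀]
        _ = _ := by group)
  rcases hEmin F hFn (fun x hx => hx.1) with hF | hF
  swap
  · -- `E` centralises `P`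
    refine ⟨P, hP, hPN.trans hNM, hPO, fun x hx => ?_⟩
    have h := hnP x hx
    have hc : e * (d * x * d) * e⁻¹ = d * x * d := by
      have h2 := (hF.symm ▸ (show d * e * d ∈ E from hded) : d * e * d ∈ F).2 x hx
      calc e * (d * x * d) * e⁻¹ = d * ((d * e * d) * x) * (d * e⁻¹) := by simp only [mul_assoc, hdd]
        _ = d * (x * (d * e * d)) * (d * e⁻¹) := by rw [h2]
        _ = d * x * d := by simp only [mul_assoc, hdd, mul_inv_cancel, mul_one]
    rwa [hndef, mul_inv_rev, hdinv, show e * d * x * (d * e⁻¹) = e * (d * x * d) * e⁻¹ by group, hc] at h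
  -- now `n` is an involution
  have hn2E : n * n = e * (d * e * d) := by rw [hndef]; group
  have hn2 : n * n = 1 := by
    have hmem : n * n ∈ E := hn2E ▸ mul_mem he hded
    have hfix : n * n ∈ F := by
      refine ⟨hmem, fun a ha => ?_⟩
      have h1 : n * n * a * (n * n)⁻¹ ∈ P := by
        have := hnP _ (hnP a ha); simpa [mul_assoc] using this
      have h2 : a⁻¹ * (n * n * a * (n * n)⁻¹) ∈ E := by
        have := mul_mem (hEn.conj_mem _ hmem a⁻¹) (inv_mem hmem)
        simpa [mul_assoc] using this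
      have h3 : a⁻¹ * (n * n * a * (n * n)⁻¹) = 1 := by
        obtain ⟨k, hk⟩ := pow_three_group hP (mul_mem (inv_mem ha) h1)
        rwa [pow_succ, pow_mul, pow_two, hsq _ h2, one_pow, one_mul] at hk
      rw [inv_mul_eq_one, eq_mul_inv_iff_mul_eq] at h3
      exact h3
    rw [hF] at hfix
    exact hfix
  have hninv : n⁻¹ = n := inv_eq_of_mul_eq_one_right hn2
  have hnn : ∀ u : G, n * (n * u) = u := fun u => by rw [← mul_assoc, hn2, one_mul]
  have hde : d * e * d = e := by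
    rw [hn2E, mul_eq_one_iff_eq_inv', hinvE e he] at hn2
    exact hn2
  -- an element of `P` acting centrally
  let K : Subgroup G :=
    { carrier := {a | a ∈ P ∧ ∀ x ∈ E, a * x = x * a}
      one_mem' := ⟨one_mem _, fun x _ => by simp⟩
      mul_mem' := fun {a b} ha hb => ⟨mul_mem ha.1 hb.1, fun x hx => by
        rw [mul_assoc, hb.2 x hx, ← mul_assoc, ha.2 x hx, mul_assoc]⟩
      inv_mem' := fun {a} ha => ⟨inv_mem ha.1, fun x hx => (Commute.inv_left (show Commute a x from ha.2 x hx)).eq⟩ }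
  have hKn : ∀ a ∈ P, ∀ k ∈ K, a * k * a⁻¹ ∈ K := fun a ha k hk => ⟨mul_mem (mul_mem ha hk.1) (inv_mem ha),
    fun x hx => by
      have h := hk.2 _ (hEn.conj_mem x hx a⁻¹)
      calc a * k * a⁻¹ * x = a * (k * (a⁻¹ * x * a⁻¹⁻¹)) * a⁻¹ := by group
        _ = a * ((a⁻¹ * x * a⁻¹⁻¹) * k) * a⁻¹ := by rw [h]
        _ = _ := by group⟩
  haveI hKn' : (K.subgroupOf P).Normal := ⟨fun k hk a => Subgroup.mem_subgroupOf.mpr
    (hKn a a.2 k (Subgroup.mem_subgroupOf.mp hk))⟩
  have hKtop : K.subgroupOf P ≠ ⊤ := fun h => hE1 (le_bot_iff.mp (hF ▸ fun x hx =>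
    ⟨hx, fun a ha => (show a ∈ K from Subgroup.mem_subgroupOf.mp (h ▸ Subgroup.mem_top (⟨a, ha⟩ : P) : (⟨a, ha⟩ : P) ∈ K.subgroupOf P)).2 x hx⟩))
  haveI : Nontrivial (P ⧸ K.subgroupOf P) := QuotientGroup.nontrivial_iff.mpr hKtop
  have hcen := (hP.to_quotient (K.subgroupOf P)).center_nontrivial
  obtain ⟨⟨z₀, hz₀⟩, hz₀1⟩ := @exists_ne _ hcen (1 : Subgroup.center (P ⧸ K.subgroupOf P))
  obtain ⟨⟨z, hzP⟩, rfl⟩ := QuotientGroup.mk_surjective z₀
  have hzK : z ∉ K := fun h => hz₀1 (Subtype.ext ((QuotientGroup.eq_one_iff _).mpr (Subgroup.mem_subgroupOf.mpr h)))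
  have hzc : ∀ a ∈ P, z⁻¹ * a * z * a⁻¹ ∈ K := by
    intro a ha
    have h1 := Subgroup.mem_center_iff.mp hz₀ ((⟨a, ha⟩⁻¹ : P) : P ⧸ K.subgroupOf P)
    rw [← QuotientGroup.mk_mul, ← QuotientGroup.mk_mul, QuotientGroup.eq, Subgroup.mem_subgroupOf] at h1
    simpa [mul_assoc] using h1
  have hnK : ∀ k ∈ K, n * k * n⁻¹ ∈ K := fun k hk => ⟨hnP k hk.1, fun x hx => by
    have h := hk.2 _ (hEn.conj_mem x hx n⁻¹)
    calc n * k * n⁻¹ * x = n * (k * (n⁻¹ * x * n⁻¹⁻¹)) * n⁻¹ := by group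
      _ = n * ((n⁻¹ * x * n⁻¹⁻¹) * k) * n⁻¹ := by rw [h]
      _ = _ := by group⟩
  -- its fixed space is trivial
  have hzfix : ∀ w ∈ P, w ∉ K → (∀ a ∈ P, w⁻¹ * a * w * a⁻¹ ∈ K) →
      ((n * w * n⁻¹)⁻¹ * w ∈ K ∨ (n * w * n⁻¹) * w ∈ K) → ∀ x ∈ E, w * x = x * w → x = 1 := by
    intro w hw hwK hwc hwn
    let W : Subgroup G :=
      { carrier := {x | x ∈ E ∧ w * x = x * w}
        one_mem' := ⟨one_mem _, by simp⟩
        mul_mem' := fun {a b} ha hb => ⟨mul_mem ha.1 hb.1, by rw [← mul_assoc, ha.2, mul_assoc, hb.2, mul_assoc]⟩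
        inv_mem' := fun {a} ha => ⟨inv_mem ha.1, (Commute.inv_right (show Commute w a from ha.2)).eq⟩ }
    have hW := hnormal W (fun x hx => hx.1) (fun a ha x hx => ⟨hEn.conj_mem x hx.1 a, by
        -- move `w` past `a`
        have hk := hwc a ha
        have hc : Commute (a⁻¹ * w * a) x := by
          have e1 : a⁻¹ * w * a = (a⁻¹ * ((w * a * w⁻¹ * a⁻¹) * a)) * w := by group
          have hk2 : a⁻¹ * ((w * a * w⁻¹ * a⁻¹) * a) ∈ K := by
            have h3 := hKn w hw _ (inv_mem hk)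
            have h4 : w * a * w⁻¹ * a⁻¹ ∈ K := by simpa [mul_assoc] using h3
            have h5 := hKn a⁻¹ (inv_mem ha) _ h4
            simpa [mul_assoc] using h5
          rw [e1]
          exact (show Commute _ x from hk2.2 x hx.1).mul_left hx.2
        calc w * (a * x * a⁻¹) = a * ((a⁻¹ * w * a) * x) * a⁻¹ := by group
          _ = a * (x * (a⁻¹ * w * a)) * a⁻¹ := by rw [hc.eq]
          _ = _ := by group⟩)
      (fun x hx => ⟨hEn.conj_mem x hx.1 n, by
        have hc : Commute (n * w * n⁻¹) x := by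
          rcases hwn with h | h
          · have := ((show Commute _ x from (inv_mem h).2 x hx.1)).mul_left
              (show Commute w x from hx.2)
            have h2 := (show Commute _ x from h.2 x hx.1)
            rw [show n * w * n⁻¹ = w * ((n * w * n⁻¹)⁻¹ * w)⁻¹ by group]
            exact (show Commute w x from hx.2).mul_left h2.inv_left
          · rw [show n * w * n⁻¹ = (n * w * n⁻¹ * w) * w⁻¹ by group]
            exact (show Commute _ x from h.2 x hx.1).mul_left (show Commute w x from hx.2).inv_left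
        have h3 := hc.map (MulAut.conj n).toMonoidHom
        show w * (n * x * n⁻¹) = (n * x * n⁻¹) * w
        have h4 : n * (n * w * n⁻¹) * n⁻¹ = w := by simp only [hninv, mul_assoc, hnn, hn2, mul_one]
        simp only [MulEquiv.coe_toMonoidHom, MulAut.conj_apply, h4] at h3
        exact h3⟩)
    rcases hEmin W hW (fun x hx => hx.1) with h | h
    · exact fun x hx hc => Subgroup.mem_bot.mp (h ▸ (show x ∈ W from ⟨hx, hc⟩))
    · exact absurd (show w ∈ K from ⟨hw, fun x hx => (h.symm ▸ hx : x ∈ W).2⟩) hwK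
  -- a fixed point free element makes the displacement bijective
  have hbij : ∀ w ∈ P, (∀ x ∈ E, w * x = x * w → x = 1) →
      (∀ x ∈ E, ∀ x' ∈ E, w * x * w⁻¹ * x = w * x' * w⁻¹ * x' → x = x') ∧
        ∀ t ∈ E, ∃ x ∈ E, w * x * w⁻¹ * x = t := by
    intro w _ hfix
    have hmem : ∀ x ∈ E, w * x * w⁻¹ * x ∈ E := fun x hx => mul_mem (hEn.conj_mem x hx w) hx
    have hadd : ∀ x ∈ E, ∀ x' ∈ E, w * (x * x') * w⁻¹ * (x * x') = (w * x * w⁻¹ * x) * (w * x' * w⁻¹ * x') :=
      fun x hx x' hx' => by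
        calc w * (x * x') * w⁻¹ * (x * x') = (w * x * w⁻¹) * ((w * x' * w⁻¹) * x) * x' := by group
          _ = (w * x * w⁻¹) * (x * (w * x' * w⁻¹)) * x' := by rw [hEc _ (hEn.conj_mem x' hx' w) x hx]
          _ = _ := by group
    have hinj : ∀ x ∈ E, ∀ x' ∈ E, w * x * w⁻¹ * x = w * x' * w⁻¹ * x' → x = x' := by
      intro x hx x' hx' h
      have h1 : w * (x * x') * w⁻¹ * (x * x') = 1 := by
        rw [hadd x hx x' hx', h]; exact hsq _ (hmem x' hx')
      rw [mul_eq_one_iff_eq_inv, hinvE _ (mul_mem hx hx'), mul_inv_eq_iff_eq_mul] at h1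
      have h2 := hfix _ (mul_mem hx hx') h1
      rw [← hinvE x' hx']
      exact eq_inv_of_mul_eq_one_left h2
    refine ⟨hinj, fun t ht => ?_⟩
    have hs : (fun x => w * x * w⁻¹ * x) '' (E : Set G) = E := Set.eq_of_subset_of_ncard_le
      (fun _ ⟨x, hx, he'⟩ => he' ▸ hmem x hx)
      (le_of_eq (Set.ncard_image_of_injOn (fun x hx x' hx' h => hinj x hx x' hx' h)).symm) (Set.toFinite _)
    exact hs.ge ht
  obtain ⟨f, hf, hfe⟩ : ∃ f ∈ E, e = f * (d * f * d) := by
    set v := z * (n * z * n⁻¹) with hv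
    have hvP : v ∈ P := mul_mem hzP (hnP z hzP)
    by_cases hvK : v ∈ K
    · -- the element is inverted
      have hinvd : n * z * n⁻¹ * z ∈ K := by
        have h := hKn z⁻¹ (inv_mem hzP) _ hvK
        simpa [v, mul_assoc] using h
      obtain ⟨hinj, hsurj⟩ := hbij z hzP (hzfix z hzP hzK hzc (Or.inr hinvd))
      obtain ⟨g, hg, hge⟩ := hsurj e he
      refine ⟨g, hg, ?_⟩
      have hgz := hEn.conj_mem g hg z
      have hdg : d * g * d ∈ E := by have := hEn.conj_mem g hg d; rwa [hdinv] at this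
      have hflip : d * g * d = z * g * z⁻¹ := by
        refine hinj _ hdg _ hgz ?_
        -- conjugate the defining equation by `n`
        have h1 : z⁻¹ * (d * g * d) * z * (d * g * d) = e := by
          have h2 : n * (z * g * z⁻¹ * g) * n⁻¹ = e := by rw [hge, hndE e he, hde]
          have h3 : n * (z * g * z⁻¹) * n⁻¹ = z⁻¹ * (d * g * d) * z := by
            rw [← hndE g hg]
            have hin : z⁻¹ * (n * g * n⁻¹) * z ∈ E := by
              simpa using hEn.conj_mem _ (hEn.conj_mem g hg n) z⁻¹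
            calc n * (z * g * z⁻¹) * n⁻¹
                = (n * z * n⁻¹ * z) * (z⁻¹ * (n * g * n⁻¹) * z) * (n * z * n⁻¹ * z)⁻¹ := by group
              _ = _ := by rw [hinvd.2 _ hin, mul_inv_cancel_right]
          rw [← h2, show n * (z * g * z⁻¹ * g) * n⁻¹ = n * (z * g * z⁻¹) * n⁻¹ * (n * g * n⁻¹) by group, h3, hndE g hg]
        have h2 : z * (z⁻¹ * (d * g * d) * z * (d * g * d)) * z⁻¹ = z * (z * g * z⁻¹ * g) * z⁻¹ := by rw [h1, hge]
        calc z * (d * g * d) * z⁻¹ * (d * g * d)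
            = (d * g * d) * (z * (d * g * d) * z⁻¹) := hEc _ (hEn.conj_mem _ hdg z) _ hdg
          _ = z * (z⁻¹ * (d * g * d) * z * (d * g * d)) * z⁻¹ := by group
          _ = z * (z * g * z⁻¹ * g) * z⁻¹ := h2
          _ = _ := by group
      rw [hflip, hEc g hg _ hgz, hge]
    · -- the element is centralised
      have hvc : ∀ a ∈ P, v⁻¹ * a * v * a⁻¹ ∈ K := by
        intro a ha
        have hz' : ∀ a ∈ P, (n * z * n⁻¹)⁻¹ * a * (n * z * n⁻¹) * a⁻¹ ∈ K := fun a ha => by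
          have ha0 : n * a * n⁻¹ ∈ P := hnP a ha
          have h := hnK _ (hzc _ ha0)
          have e1 : n * (z⁻¹ * (n * a * n⁻¹) * z * (n * a * n⁻¹)⁻¹) * n⁻¹ =
              (n * z * n⁻¹)⁻¹ * a * (n * z * n⁻¹) * a⁻¹ := by
            simp only [mul_inv_rev, inv_inv, hninv, mul_assoc, hnn, hn2, mul_one]
          rwa [e1] at h
        have h1 := hKn _ (inv_mem (hnP z hzP)) _ (hzc a ha)
        have h2 := hz' a ha
        have h3 := mul_mem h1 h2
        simpa [v, mul_assoc] using h3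
      set w := n * v * n⁻¹ * v⁻¹ with hw
      have hwK : w ∈ K := by
        have h1 := inv_mem (hzc (n * z * n⁻¹) (hnP z hzP))
        have h2 := hKn z hzP _ h1
        have e1 : w = z * ((z⁻¹ * (n * z * n⁻¹) * z * (n * z * n⁻¹)⁻¹)) * z⁻¹ := by
          simp only [w, v, mul_inv_rev, inv_inv, hninv, mul_assoc, hnn, hn2, mul_one, mul_inv_cancel_left]
        rw [e1]
        exact hKn z hzP _ (hzc (n * z * n⁻¹) (hnP z hzP))
      have hwinv : n * w * n⁻¹ = w⁻¹ := by
        simp only [w, mul_inv_rev, inv_inv, hninv, mul_assoc, hnn, hn2, mul_one]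
      obtain ⟨k, hk⟩ := pow_three_group hP hwK.1
      set v' := w ^ (k + 1) * v with hv'
      have hv'P : v' ∈ P := mul_mem (pow_mem hwK.1 _) hvP
      have hv'n : n * v' * n⁻¹ = v' := by
        have h2 : w ^ (k + 1) * w ^ (k + 1) = w := by
          rw [← pow_add, show k + 1 + (k + 1) = 2 * k + 1 + 1 by ring, pow_succ, hk, one_mul]
        calc n * v' * n⁻¹ = (n * w * n⁻¹) ^ (k + 1) * (w * v) := by
              rw [conj_pow]; simp only [v', w]; group
          _ = _ := by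
            rw [hwinv, inv_pow, ← mul_assoc]
            congr 1
            nth_rewrite 2 [← h2]
            rw [inv_mul_cancel_left]
      have hv'K : v' ∉ K := fun h => hvK (by
        have := mul_mem (inv_mem (pow_mem hwK (k + 1))) h
        rwa [hv', inv_mul_cancel_left] at this)
      have hv'c : ∀ a ∈ P, v'⁻¹ * a * v' * a⁻¹ ∈ K := by
        intro a ha
        have hu := pow_mem hwK (k + 1)
        have h1 : v⁻¹ * ((w ^ (k + 1))⁻¹ * (a * w ^ (k + 1) * a⁻¹)) * v ∈ K := by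
          have := hKn v⁻¹ (inv_mem hvP) _ (mul_mem (inv_mem hu) (hKn a ha _ hu))
          simpa [mul_assoc] using this
        have h2 := mul_mem h1 (hvc a ha)
        simpa [v', mul_assoc] using h2
      obtain ⟨hinj, hsurj⟩ := hbij v' hv'P (hzfix v' hv'P hv'K hv'c
        (Or.inl (by rw [hv'n, inv_mul_cancel]; exact one_mem _)))
      have hdn : d = e * n := by rw [hndef, ← mul_assoc, hsq e he, one_mul]
      -- lift `v'` to the centraliser of `d`
      obtain ⟨q, hq, hqv⟩ : ∃ q, q * d = d * q ∧ v'⁻¹ * q ∈ E := by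
        have hπn : π n = π d := by
          rw [hndef, map_mul, show π e = 1 from (QuotientGroup.eq_one_iff e).mpr he, one_mul]
        have hv'q : π v' ∈ Cq := by
          refine ⟨Subgroup.mem_centralizer_singleton_iff.mpr ?_, Subgroup.mem_map_of_mem π ((hPN.trans hNM) hv'P)⟩
          rw [← hπn, ← map_mul, ← map_mul]
          exact congrArg π (mul_inv_eq_iff_eq_mul.mp hv'n).symm
        have hvP₂ : π v' ∈ P₂ := hPN hv'P
        obtain ⟨x, hx, hxe⟩ := hvP₂
        have hxq : x ∈ Cq := by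
          have h1 := mul_mem (mul_mem (inv_mem y.2) hv'q) y.2
          rwa [← hxe, MulEquiv.coe_toMonoidHom, MulAut.conj_apply,
            show (y : G ⧸ E)⁻¹ * ((y : G ⧸ E) * x * (y : G ⧸ E)⁻¹) * y = x by group] at h1
        have hin : (⟨π v', hv'q⟩ : Cq) ∈ (S₂ : Subgroup Cq) := by
          rw [← hy]
          exact ⟨⟨x, hxq⟩, hS₁ (Subgroup.mem_subgroupOf.mpr hx), Subtype.ext hxe⟩
        -- the image of `Q` is a full Sylow subgroup of the centraliser upstairs
        set φ : C →* Cq := (π.comp C.subtype).codRestrict Cq fun c => hCle ⟨c, c.2, rfl⟩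
        let O' : Subgroup Cq := (O.map π).subgroupOf Cq
        haveI : O'.Normal := inferInstance
        have hO' : IsPGroup 2 O' := by
          intro x
          obtain ⟨j, hj⟩ := (hO.map π) ⟨(x : Cq), Subgroup.mem_subgroupOf.mp x.2⟩
          exact ⟨j, Subtype.ext (Subtype.ext (by simpa using congrArg Subtype.val hj))⟩
        have hcovq : φ.range ⊔ O' = ⊤ := by
          refine eq_top_iff.mpr fun c _ => ?_
          obtain ⟨m, hm, hmc⟩ := c.2.2
          have hdm : d * m * d * m⁻¹ ∈ O := by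
            refine hEO ((QuotientGroup.eq_one_iff _).mp ?_)
            show π _ = 1
            rw [map_mul, map_mul, map_mul, map_inv, hmc, mul_assoc (π d), Subgroup.mem_centralizer_singleton_iff.mp c.2.1,
              ← mul_assoc, ← map_mul, hd, map_one, one_mul, mul_inv_cancel]
          obtain ⟨c₀, hc₀, hc₀m⟩ := hcov m hm hdm
          have hc₀M : c₀ ∈ M := by
            have := mul_mem hm (inv_mem (hOM hc₀m))
            rwa [mul_inv_rev, inv_inv, mul_inv_cancel_left] at this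
          have hc₀C : c₀ ∈ C := ⟨Subgroup.mem_centralizer_singleton_iff.mpr hc₀, hc₀M⟩
          rw [show c = φ ⟨c₀, hc₀C⟩ * ((φ ⟨c₀, hc₀C⟩)⁻¹ * c) by rw [mul_inv_cancel_left]]
          refine Subgroup.mul_mem_sup ⟨_, rfl⟩ (Subgroup.mem_subgroupOf.mpr ?_)
          show (π c₀)⁻¹ * (c : G ⧸ E) ∈ O.map π
          rw [← hmc, ← map_inv, ← map_mul]
          exact Subgroup.mem_map_of_mem π hc₀m
        have hS₂eq : (S₂ : Subgroup Cq) = (Q : Subgroup C).map φ := by
          refine (Subgroup.eq_of_le_of_card_ge ?_ ?_).symm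
          · rintro _ ⟨c, hc, rfl⟩
            exact hS₂ (Subgroup.mem_subgroupOf.mpr ⟨c, hc, rfl⟩)
          · set φr := φ.rangeRestrict
            let Qr := Q.mapSurjective φ.rangeRestrict_surjective
            have hQr : Nat.card ((Q : Subgroup C).map φ) = Nat.card (Qr : Subgroup φ.range) := by
              rw [Sylow.coe_mapSurjective, ← Subgroup.card_map_of_injective φ.range.subtype_injective, Subgroup.map_map]
              congr 2
            rw [hQr, Sylow.card_eq_multiplicity, Sylow.card_eq_multiplicity]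
            refine Nat.pow_le_pow_right (by norm_num) ?_
            have h := CfsgLib.Solvable.card_sup_mul_card_inf (A := φ.range) (K := O')
              (by rw [Subgroup.normalizer_eq_top]; exact le_top)
            rw [hcovq, Subgroup.card_top] at h
            obtain ⟨i, hi⟩ := IsPGroup.iff_card.mp hO'
            have hdvd : Nat.card Cq ∣ Nat.card φ.range * 2 ^ i := ⟨_, hi ▸ h.symm⟩
            have := (Nat.factorization_le_iff_dvd Nat.card_pos.ne'
              (mul_ne_zero Nat.card_pos.ne' (by positivity))).mpr hdvd 3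
            rw [Nat.factorization_mul Nat.card_pos.ne' (by positivity), Finsupp.add_apply, Nat.factorization_pow,
              Nat.Prime.factorization Nat.prime_two] at this
            simpa using this
        rw [hS₂eq] at hin
        obtain ⟨q, -, hqe⟩ := hin
        exact ⟨q, Subgroup.mem_centralizer_singleton_iff.mp q.2.1, QuotientGroup.eq.mp (congrArg Subtype.val hqe).symm⟩
      set t := v'⁻¹ * q with ht
      have hdt : d * t * d ∈ E := by have := hEn.conj_mem t hqv d; rwa [hdinv] at this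
      -- `d` is fixed by conjugation with `q`
      have hq1 : v' * (t * d * t) * v'⁻¹ = d := by
        have h1 : q * d * q⁻¹ = d := by rw [hq, mul_inv_cancel_right]
        rw [show q = v' * t by rw [ht, mul_inv_cancel_left], mul_inv_rev, hinvE t hqv] at h1
        calc v' * (t * d * t) * v'⁻¹ = v' * t * d * (t * v'⁻¹) := by group
          _ = d := h1
      have hkey : v' * e * v'⁻¹ * e = v' * (t * (d * t * d)) * v'⁻¹ := by
        have hnv : n * v'⁻¹ = v'⁻¹ * n := by
          have h := mul_inv_eq_iff_eq_mul.mp hv'n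
          exact (Commute.inv_right (show Commute n v' from h)).eq
        have h2 : v' * (t * (d * t * d)) * v'⁻¹ * (v' * e * v'⁻¹) * n = e * n := by
          rw [← hdn]
          conv_rhs => rw [← hq1]
          calc v' * (t * (d * t * d)) * v'⁻¹ * (v' * e * v'⁻¹) * n
              = v' * (t * d * t) * d * (e * (v'⁻¹ * n)) := by group
            _ = v' * (t * d * t) * (d * e * n) * v'⁻¹ := by rw [← hnv]; group
            _ = v' * (t * d * t) * v'⁻¹ := by rw [mul_assoc d e n, ← hdn, hd, mul_one]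
        have h3 := mul_right_cancel h2
        calc v' * e * v'⁻¹ * e
            = e * (v' * e * v'⁻¹) := hEc _ (hEn.conj_mem e he v') e he
          _ = v' * (t * (d * t * d)) * v'⁻¹ * (v' * e * v'⁻¹) * (v' * e * v'⁻¹) := by rw [h3]
          _ = _ := by rw [mul_assoc, hsq _ (hEn.conj_mem e he v'), mul_one]
      obtain ⟨f, hf, hfT⟩ := hsurj _ (hEn.conj_mem t hqv v')
      refine ⟨f, hf, hinj _ he _ (mul_mem hf ?_) ?_⟩
      · have := hEn.conj_mem f hf d; rwa [hdinv] at this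
      have hdf : d * f * d ∈ E := by have := hEn.conj_mem f hf d; rwa [hdinv] at this
      have hTn : v' * (d * f * d) * v'⁻¹ * (d * f * d) = v' * (d * t * d) * v'⁻¹ := by
        have hc : ∀ x ∈ E, n * (v' * x * v'⁻¹) * n⁻¹ = v' * (d * x * d) * v'⁻¹ := fun x hx => by
          rw [← hndE x hx]
          calc n * (v' * x * v'⁻¹) * n⁻¹ = (n * v' * n⁻¹) * (n * x * n⁻¹) * (n * v' * n⁻¹)⁻¹ := by group
            _ = _ := by rw [hv'n]
        rw [← hc t hqv, ← hfT, show n * (v' * f * v'⁻¹ * f) * n⁻¹ = n * (v' * f * v'⁻¹) * n⁻¹ * (n * f * n⁻¹) by group,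
          hc f hf, hndE f hf]
      rw [hkey]
      calc v' * (t * (d * t * d)) * v'⁻¹ = (v' * t * v'⁻¹) * (v' * (d * t * d) * v'⁻¹) := by group
        _ = (v' * f * v'⁻¹) * (f * (v' * (d * f * d) * v'⁻¹)) * (d * f * d) := by rw [← hfT, ← hTn]; group
        _ = (v' * f * v'⁻¹) * ((v' * (d * f * d) * v'⁻¹) * f) * (d * f * d) := by
            rw [hEc f hf _ (hEn.conj_mem _ hdf v')]
        _ = _ := by group
  refine ⟨P.map (MulAut.conj f).toMonoidHom, hP.map _, ?_, ?_, ?_⟩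
  · rintro _ ⟨x, hx, rfl⟩
    exact mul_mem (mul_mem ((hEO.trans hOM) hf) ((hPN.trans hNM) hx)) (inv_mem ((hEO.trans hOM) hf))
  · refine le_antisymm (sup_le ?_ hOM) (fun m hm => ?_)
    · rintro _ ⟨x, hx, rfl⟩
      exact mul_mem (mul_mem ((hEO.trans hOM) hf) ((hPN.trans hNM) hx)) (inv_mem ((hEO.trans hOM) hf))
    · obtain ⟨a, ha, b, hb, rfl⟩ := Subgroup.mem_sup_of_normal_right.mp (hPO.symm ▸ hm)
      rw [show a * b = f * a * f⁻¹ * (f * a⁻¹ * f⁻¹ * a * b) by group]
      refine Subgroup.mul_mem_sup ⟨a, ha, rfl⟩ (mul_mem ?_ hb)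
      refine hEO ?_
      have := mul_mem hf (hEn.conj_mem _ (inv_mem hf) a⁻¹)
      simpa [mul_assoc] using this
  · rintro _ ⟨x, hx, rfl⟩
    show d * (f * x * f⁻¹) * d ∈ P.map (MulAut.conj f).toMonoidHom
    refine ⟨n * x * n⁻¹, hnP x hx, ?_⟩
    show f * (n * x * n⁻¹) * f⁻¹ = d * (f * x * f⁻¹) * d
    have hfn : f * n = d * f := by
      rw [hndef, hfe, ← mul_assoc, ← mul_assoc f f, hsq f hf, one_mul]
      simp only [mul_assoc, hd, mul_one]
    calc f * (n * x * n⁻¹) * f⁻¹ = (f * n) * x * (f * n)⁻¹ := by group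
      _ = _ := by rw [hfn, mul_inv_rev, hdinv]; group

end CfsgLib.ThreeT.Cover
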