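import Cfsg.Agent.Spor3T.Tv.Unitary
import Cfsg.Agent.Spor3T.SymFive
import Cfsg.Agent.Comp.Fitting
import Cfsg.Agent.Solvable.Fitting
import Cfsg.Agent.S5356
import Cfsg.Agent.S0247

/-!
Groups of 3-transpositions in which the members commuting with one member generate a solvable group.
-/

set_option autoImplicit false
set_option linter.unusedSectionVars false
set_option linter.style.haveILetI false
set_option linter.deprecated false
set_option linter.unusedSimpArgs false

namespace CfsgLib.ThreeT.SolvableLocal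

universe u

variable {G : Type u} [Group G] {D : Set G}

/-- A chain of four involutions with braid relations generates a group that is not solvable. -/
theorem not_isSolvable_of_chain {H : Subgroup G} {a b c d : G} (ha : a ∈ H) (hb : b ∈ H) (hc : c ∈ H) (hd : d ∈ H)
    (sa : a * a = 1) (sb : b * b = 1) (sc : c * c = 1) (sd : d * d = 1)
    (bab : a * b * a = b * a * b) (bbc : b * c * b = c * b * c) (bcd : c * d * c = d * c * d)
    (cac : Commute a c) (cad : Commute a d) (cbd : Commute b d) (hne : c ≠ d) :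
    ¬ Group.IsSolvable H := by
  -- the product of all four shifts each to the next
  have key3 : (c * d) ^ 3 = 1 := by
    calc (c * d) ^ 3 = (c * d * c) * (d * c * d) := by rw [pow_succ, pow_two]; group
      _ = (d * c * d) * (d * c * d) := by rw [bcd]
      _ = d * c * (d * d) * c * d := by group
      _ = d * (c * c) * d := by rw [sd]; group
      _ = 1 := by rw [sc, mul_one, sd]
  set y := b * (c * d) * b with hy
  set x := a * c with hx
  have hinvb : b⁻¹ = b := inv_eq_of_mul_eq_one_right sb
  have hy3 : y ^ 3 = 1 := by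
    have : y = b * (c * d) * b⁻¹ := by rw [hinvb]
    rw [this, conj_pow, key3, mul_one, mul_inv_cancel]
  have hx2 : x ^ 2 = 1 := by
    calc x ^ 2 = a * (c * a) * c := by rw [pow_two, hx]; group
      _ = a * (a * c) * c := by rw [cac.eq]
      _ = (a * a) * (c * c) := by group
      _ = 1 := by rw [sa, sc, one_mul]
  set w := a * b * c * d with hw
  have hxy : x * y = w := by
    calc x * y = a * c * b * c * (d * b) := by rw [hx, hy]; group
      _ = a * (c * b * c) * (b * d) := by rw [cbd.eq]; group
      _ = a * (b * c * b) * (b * d) := by rw [bbc]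
      _ = a * b * c * (b * b) * d := by group
      _ = w := by rw [sb, hw]; group
  -- the shifted members
  set t := b * c * d with ht
  have h4 : t ^ 4 = 1 := by
    have s1 : t * b * t⁻¹ = c := by
      rw [mul_inv_eq_iff_eq_mul, ht]
      calc b * c * d * b = b * c * (d * b) := by group
        _ = (b * c * b) * d := by rw [cbd.symm.eq]; group
        _ = c * (b * c * d) := by rw [bbc]; group
    have s2 : t * c * t⁻¹ = d := by
      rw [mul_inv_eq_iff_eq_mul, ht]
      calc b * c * d * c = b * (c * d * c) := by group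
        _ = (b * d) * c * d := by rw [bcd]; group
        _ = d * (b * c * d) := by rw [cbd.eq]; group
    have e : c * d = b * t := by rw [ht, ← mul_assoc, ← mul_assoc, sb, one_mul]
    have h3 : (b * t) ^ 3 = 1 := e ▸ key3
    calc t ^ 4 = (b * c * d) * t ^ 3 := by rw [ht]; group
      _ = (b * (t * b * t⁻¹) * (t * (t * b * t⁻¹) * t⁻¹)) * t ^ 3 := by rw [s1, s2]
      _ = (b * t) ^ 3 * (b * b)⁻¹ * (b * b) := by simp only [pow_succ, pow_zero]; group
      _ = 1 := by rw [h3, sb]; group
  have h5 : w ^ 5 = 1 := by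
    have s1 : w * a * w⁻¹ = b := by
      rw [mul_inv_eq_iff_eq_mul, hw]
      calc a * b * c * d * a = a * b * c * (a * d) := by rw [cad.eq]; group
        _ = a * b * (c * a) * d := by group
        _ = (a * b * a) * c * d := by rw [cac.symm.eq]; group
        _ = b * (a * b * c * d) := by rw [bab]; group
    have s2 : w * b * w⁻¹ = c := by
      rw [mul_inv_eq_iff_eq_mul, hw]
      calc a * b * c * d * b = a * b * c * (d * b) := by group
        _ = a * (b * c * b) * d := by rw [cbd.symm.eq]; group
        _ = (a * c) * b * c * d := by rw [bbc]; group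
        _ = c * (a * b * c * d) := by rw [cac.eq]; group
    have s3 : w * c * w⁻¹ = d := by
      rw [mul_inv_eq_iff_eq_mul, hw]
      calc a * b * c * d * c = a * b * (c * d * c) := by group
        _ = a * (b * d) * c * d := by rw [bcd]; group
        _ = (a * d) * b * c * d := by rw [cbd.eq]; group
        _ = d * (a * b * c * d) := by rw [cad.eq]; group
    have e : t = a * w := by
      rw [ht, hw, ← mul_assoc, ← mul_assoc, ← mul_assoc, sa, one_mul]
    have h4' : (a * w) ^ 4 = 1 := e ▸ h4
    calc w ^ 5 = (a * b * c * d) * w ^ 4 := by rw [hw]; group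
      _ = (a * (w * a * w⁻¹) * (w * (w * a * w⁻¹) * w⁻¹) *
            (w * (w * (w * a * w⁻¹) * w⁻¹) * w⁻¹)) * w ^ 4 := by rw [s1, s2, s3]
      _ = (a * w) ^ 4 := by simp only [pow_succ, pow_zero]; group
      _ = 1 := h4'
  -- two generators of orders two and three with product of order five
  intro hsol
  have hxH : x ∈ H := mul_mem ha hc
  have hyH : y ∈ H := mul_mem (mul_mem hb (mul_mem hc hd)) hb
  let K : Subgroup G := Subgroup.closure {x, y}
  have hKH : K ≤ H := (Subgroup.closure_le _).mpr (by rintro z (rfl | rfl) <;> assumption)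
  haveI : Group.IsSolvable K :=
    solvable_of_solvable_injective (Subgroup.inclusion_injective hKH)
  have hxK : x ∈ K := Subgroup.subset_closure (Set.mem_insert _ _)
  have hyK : y ∈ K := Subgroup.subset_closure (Set.mem_insert_of_mem _ rfl)
  have hperf : commutator K = ⊤ := by
    let q := @Abelianization.of K _
    set X : K := ⟨x, hxK⟩
    set Y : K := ⟨y, hyK⟩
    have e2 : q X ^ 2 = 1 := by rw [← map_pow, show X ^ 2 = 1 from Subtype.ext hx2, map_one]
    have e3 : q Y ^ 3 = 1 := by rw [← map_pow, show Y ^ 3 = 1 from Subtype.ext hy3, map_one]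
    have e5 : q X ^ 5 * q Y ^ 5 = 1 := by
      rw [← mul_pow, ← map_mul, ← map_pow,
        show (X * Y) ^ 5 = 1 from Subtype.ext (show (x * y) ^ 5 = 1 by rw [hxy, h5]), map_one]
    have eX : q X = 1 := by
      have h15 : q X ^ 15 = 1 := by
        have h := congrArg (· ^ 3) e5
        simp only [mul_pow, ← pow_mul, one_pow] at h
        rwa [show (5 : ℕ) * 3 = 3 * 5 from rfl, pow_mul (q Y), e3, one_pow, mul_one] at h
      rw [show (15 : ℕ) = 2 * 7 + 1 from rfl, pow_succ, pow_mul, e2, one_pow, one_mul] at h15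
      exact h15
    have eY : q Y = 1 := by
      rw [eX, one_pow, one_mul, show (5 : ℕ) = 3 + 2 from rfl, pow_add, e3, one_mul] at e5
      have h := e3
      rw [pow_succ, e5, one_mul] at h
      exact h
    rw [eq_top_iff, ← Abelianization.ker_of]
    rintro ⟨g, hg⟩ -
    rw [MonoidHom.mem_ker]
    induction hg using Subgroup.closure_induction with
    | mem z hz =>
      rcases hz with rfl | rfl
      exacts [eX, eY]
    | one => exact map_one _
    | mul u v hu hv h1 h2 =>
      rw [show (⟨u * v, _⟩ : K) = ⟨u, hu⟩ * ⟨v, hv⟩ from rfl, map_mul, h1, h2, one_mul]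
    | inv u hu h1 => rw [show (⟨u⁻¹, _⟩ : K) = (⟨u, hu⟩)⁻¹ from rfl, map_inv, h1, inv_one]
  obtain ⟨n, hn⟩ := (isSolvable_def K).mp inferInstance
  have hall : ∀ k, derivedSeries K k = ⊤ := fun k => by
    induction k with
    | zero => rfl
    | succ k ih => rw [derivedSeries_succ, ih]; exact hperf
  have hy1 : y = 1 := by
    have : (⟨y, hyK⟩ : K) ∈ derivedSeries K n := by rw [hall]; trivial
    rw [hn, Subgroup.mem_bot] at this
    exact congrArg Subtype.val this
  apply hne
  have h : c * d = 1 := by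
    have : b * y * b = c * d := by
      rw [hy]
      calc b * (b * (c * d) * b) * b = (b * b) * (c * d) * (b * b) := by group
        _ = c * d := by rw [sb, one_mul, mul_one]
    rw [← this, hy1, mul_one, sb]
  exact ((inv_eq_of_mul_eq_one_right sc).symm.trans (inv_eq_of_mul_eq_one_right h))

variable [Finite G]

/-- A chain in the local group of a member forbids its solvability. -/
theorem not_isSolvable_of_members (hD : Cfsg.IsThreeTranspositionClass D) {x a b c d : D}
    (ha : Commute (x : G) a) (hb : Commute (x : G) b) (hc : Commute (x : G) c) (hd : Commute (x : G) d)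
    (hab : ¬ Commute (a : G) b) (hbc : ¬ Commute (b : G) c) (hcd : ¬ Commute (c : G) d)
    (cac : Commute (a : G) c) (cad : Commute (a : G) d) (cbd : Commute (b : G) d) :
    ¬ Group.IsSolvable (Subgroup.closure (others D (x : G))) := by
  have hmem : ∀ u v : D, Commute (x : G) u → Commute (x : G) v → ¬ Commute (u : G) v →
      (u : G) ∈ Subgroup.closure (others D (x : G)) := fun u v hu hv huv =>
    Subgroup.subset_closure ⟨u.2, fun e => huv (e ▸ hv), hu⟩
  exact not_isSolvable_of_chain (hmem a b ha hb hab) (hmem b a hb ha fun h => hab h.symm)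
    (hmem c b hc hb fun h => hbc h.symm) (hmem d c hd hc fun h => hcd h.symm)
    (sq hD.1 a.2) (sq hD.1 b.2) (sq hD.1 c.2) (sq hD.1 d.2)
    (braid hD.1 a.2 b.2 hab) (braid hD.1 b.2 c.2 hbc) (braid hD.1 c.2 d.2 hcd)
    cac cad cbd fun e => hcd (e ▸ Commute.refl _)

/-- Solvability of one local group is solvability of all. -/
theorem isSolvable_all (hD : Cfsg.IsThreeTranspositionClass D) {x : G} (hx : x ∈ D)
    (hs : Group.IsSolvable (Subgroup.closure (others D x))) (y : D) :
    Group.IsSolvable (Subgroup.closure (others D (y : G))) := by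
  obtain ⟨g, hg⟩ := exists_conj hD hx y.2
  rw [← hg, others_conj hD g x]
  let e : G ≃* G := MulAut.conj g
  haveI := hs
  have : Subgroup.closure ((fun z => g * z * g⁻¹) '' others D x) =
      (Subgroup.closure (others D x)).map e.toMonoidHom := by
    rw [MonoidHom.map_closure]; rfl
  rw [this]
  exact solvable_of_surjective (MonoidHom.subgroupMap_surjective e.toMonoidHom _)

open CfsgLib.ThreeT.Tv

/-- The symplectic group of given coordinates of the members. -/
theorem mulEquiv_symplectic {G : Type u} [Group G] {D : Set G} (P : Pol D) {m : ℕ}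
    (vec : D → (Fin m ⊕ Fin m → ZMod 2)) (hinj : Function.Injective vec)
    (hne : ∀ a, vec a ≠ 0) (hsurj : ∀ v, v ≠ 0 → ∃ a, vec a = v)
    (ht : ∀ a b, vec (P.t a b) = CfsgLib.Symp.tv (vec a) (1 : ZMod 2) • vec b) :
    Nonempty (G ≃* Matrix.symplecticGroup (Fin m) (ZMod 2)) := by
  classical
  let pt : D ≃ {v : Fin m ⊕ Fin m → ZMod 2 // v ≠ 0} :=
    Equiv.ofBijective (fun a => ⟨vec a, hne a⟩) ⟨fun a b h => hinj (congrArg Subtype.val h),
      fun v => (hsurj v.1 v.2).imp fun a ha => Subtype.ext ha⟩
  have hmove : ∀ (g : Matrix.symplecticGroup (Fin m) (ZMod 2)) (a : D), g • vec a ≠ 0 := fun g a h =>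
    hne a (smul_eq_zero_iff_eq g |>.mp h)
  let act : Matrix.symplecticGroup (Fin m) (ZMod 2) → D → D := fun g a => pt.symm ⟨g • vec a, hmove g a⟩
  have hact : ∀ g a, vec (act g a) = g • vec a := fun g a =>
    congrArg Subtype.val (pt.apply_symm_apply ⟨g • vec a, hmove g a⟩)
  let ψ : Matrix.symplecticGroup (Fin m) (ZMod 2) →* Equiv.Perm D :=
    { toFun := fun g => ⟨act g, act g⁻¹, fun a => hinj (by rw [hact, hact, inv_smul_smul]),
        fun a => hinj (by rw [hact, hact, smul_inv_smul])⟩
      map_one' := Equiv.ext fun a => hinj ((hact 1 a).trans (one_smul _ _))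
      map_mul' := fun g h => Equiv.ext fun a => hinj (by
        show vec (act (g * h) a) = vec (act g (act h a))
        rw [hact, hact, hact, mul_smul]) }
  have htv : ∀ a : D, ψ (CfsgLib.Symp.tv (vec a) 1) = P.perm a := fun a => Equiv.ext fun c => hinj (by
    show vec (act _ c) = vec (P.t a c)
    rw [hact, ht])
  refine P.nonempty_mulEquiv ψ ((injective_iff_map_eq_one ψ).mpr fun g hg => CfsgLib.Symp.symp_ext fun x => ?_) ?_
    fun a => ⟨_, htv a⟩
  · rw [one_smul]
    by_cases hx : x = 0
    · rw [hx, smul_zero]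
    obtain ⟨a, rfl⟩ := hsurj x hx
    rw [← hact]
    exact congrArg vec (Equiv.congr_fun hg a)
  · rintro _ ⟨g, rfl⟩
    have hg : g ∈ CfsgLib.Symp.tvGroup (⊤ : Submodule (ZMod 2) (Fin m ⊕ Fin m → ZMod 2)) := by
      rw [CfsgLib.Symp.tvGroup_eq_top]; trivial
    induction hg using Subgroup.closure_induction with
    | mem z hz =>
      obtain ⟨w, -, c, rfl⟩ := hz
      rcases (show ∀ c : ZMod 2, c = 0 ∨ c = 1 by decide) c with rfl | rfl
      · rw [CfsgLib.Symp.tv_zero, map_one]; exact one_mem _
      by_cases hw : w = 0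
      · rw [hw, show CfsgLib.Symp.tv (0 : Fin m ⊕ Fin m → ZMod 2) (1 : ZMod 2) = 1 from
          CfsgLib.Symp.symp_ext fun x => by simp [CfsgLib.Symp.tv_smul], map_one]
        exact one_mem _
      obtain ⟨a, rfl⟩ := hsurj w hw
      exact ⟨a, (htv a).symm⟩
    | one => rw [map_one]; exact one_mem _
    | mul p q _ _ hp hq => rw [map_mul]; exact mul_mem hp hq
    | inv p _ hp => rw [map_inv]; exact inv_mem hp

/-- Without affine triangles solvable local groups leave only the symmetric group of degree six. -/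
theorem perm_six_of_noTriangle {G : Type u} [Group G] [Finite G] {D : Set G} (P : Pol D) (hA : NoTriangle P)
    {x : G} (hx : x ∈ D) (hs : Group.IsSolvable (Subgroup.closure (others D x))) :
    Nonempty (G ≃* Equiv.Perm (Fin 6)) := by
  classical
  obtain ⟨m, vec, hinj, hne, hsurj, hform, ht⟩ := exists_coord P hA
  have hcom : ∀ a b : D, Com a b ↔ CfsgLib.Symp.form (vec a) (vec b) = 0 := fun a b => by
    rw [hform, phi_eq_zero]
  have hle : m ≤ 2 := by
    by_contra hm
    let e : Fin m ⊕ Fin m → (Fin m ⊕ Fin m → ZMod 2) := fun i => Pi.single i 1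
    have he : ∀ i, e i ≠ 0 := fun i h => by simpa [e] using congrFun h i
    let i0 : Fin m := ⟨0, by omega⟩
    let i1 : Fin m := ⟨1, by omega⟩
    let i2 : Fin m := ⟨2, by omega⟩
    have h01 : i0 ≠ i1 := by simp [i0, i1]
    have h02 : i0 ≠ i2 := by simp [i0, i2]
    have h12 : i1 ≠ i2 := by simp [i1, i2]
    obtain ⟨x0, ex⟩ := hsurj _ (he (.inl i0))
    obtain ⟨a, ea⟩ := hsurj _ (he (.inl i1))
    obtain ⟨b, eb⟩ := hsurj _ (he (.inr i1))
    obtain ⟨c, ec⟩ := hsurj (e (.inl i1) + e (.inl i2)) fun h => by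
      have := congrFun h (.inl i1)
      simp [e, h12] at this
    obtain ⟨d, ed⟩ := hsurj _ (he (.inr i2))
    refine not_isSolvable_of_members P.cls (x := x0) (a := a) (b := b) (c := c) (d := d) ((hcom _ _).mpr ?_)
      ((hcom _ _).mpr ?_) ((hcom _ _).mpr ?_) ((hcom _ _).mpr ?_) (mt (hcom _ _).mp ?_) (mt (hcom _ _).mp ?_)
      (mt (hcom _ _).mp ?_) ((hcom _ _).mpr ?_) ((hcom _ _).mpr ?_) ((hcom _ _).mpr ?_)
      (isSolvable_all P.cls hx hs x0) <;>
    simp [ex, ea, eb, ec, ed, e, CfsgLib.Symp.form_add_right, CfsgLib.Symp.form_add_left,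
      CfsgLib.Symp.form_single_inl, CfsgLib.Symp.form_single_inr, h01, h02, h12, Ne.symm h01, Ne.symm h02,
      Ne.symm h12]
  obtain ⟨y, hyx, cyx⟩ := P.ex_other ⟨x, hx⟩
  have hf : CfsgLib.Symp.form (vec ⟨x, hx⟩) (vec y) = 0 := (hcom _ _).mp cyx
  have hm2 : m = 2 := by
    rcases (show m = 0 ∨ m = 1 ∨ m = 2 by omega) with rfl | rfl | h
    · exact absurd (funext fun i => by rcases i with i | i <;> exact i.elim0) (hne y)
    · exfalso
      have key : ∀ u v : Fin 1 ⊕ Fin 1 → ZMod 2, u ≠ 0 → v ≠ 0 → u ≠ v → CfsgLib.Symp.form u v ≠ 0 := by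
        intro u v hu hv huv h
        rw [CfsgLib.Symp.form_apply] at h
        have hu' : u = ![u (.inl 0), u (.inr 0)] ∘ Sum.elim (fun _ => 0) (fun _ => 1) := by
          funext i; rcases i with i | i <;> obtain rfl := Subsingleton.elim i 0 <;> rfl
        have hv' : v = ![v (.inl 0), v (.inr 0)] ∘ Sum.elim (fun _ => 0) (fun _ => 1) := by
          funext i; rcases i with i | i <;> obtain rfl := Subsingleton.elim i 0 <;> rfl
        have h2 : ∀ p q r s : ZMod 2, ¬(p = 0 ∧ q = 0) → ¬(r = 0 ∧ s = 0) → ¬(p = r ∧ q = s) →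
            p * s - q * r ≠ 0 := by decide
        refine h2 (u (.inl 0)) (u (.inr 0)) (v (.inl 0)) (v (.inr 0)) ?_ ?_ ?_ ?_
        · rintro ⟨p, q⟩; exact hu (funext fun i => by
            rcases i with i | i <;> obtain rfl := Subsingleton.elim i 0 <;> assumption)
        · rintro ⟨p, q⟩; exact hv (funext fun i => by
            rcases i with i | i <;> obtain rfl := Subsingleton.elim i 0 <;> assumption)
        · rintro ⟨p, q⟩; exact huv (funext fun i => by
            rcases i with i | i <;> obtain rfl := Subsingleton.elim i 0 <;> assumption)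
        · have : ∀ z : ZMod 2, -z = z := CharTwo.neg_eq
          simp [this, sub_eq_add_neg, mul_comm] at h ⊢
          rwa [add_comm]
      exact key _ _ (hne _) (hne _) (fun h => hyx (hinj h).symm) hf
    · exact h
  subst hm2
  obtain ⟨e1⟩ := mulEquiv_symplectic P vec hinj hne hsurj ht
  obtain ⟨e2⟩ := Cfsg.Agent.S0247.result (F := ZMod 2) (ZMod.card 2)
  exact ⟨e1.trans e2⟩

/-- With an affine triangle solvable local groups bound the frames. -/
theorem psu_of_triangle {G : Type u} [Group G] [Finite G] {D : Set G} (P : Pol D) (hA : ¬ NoTriangle P)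
    {x : G} (hx : x ∈ D) (hs : Group.IsSolvable (Subgroup.closure (others D x)))
    (K : Type) [Field K] [Fintype K] (hK : Fintype.card K = 4) :
    Nonempty (G ≃* Cfsg.PSU 4 K 2) ∨ Nonempty (G ≃* Cfsg.PSU 5 K 2) := by
  classical
  obtain ⟨n, hn, ⟨F⟩, hmax⟩ := exists_maximal_frame hA
  obtain ⟨W⟩ := exists_wt hK
  have hle : n ≤ 5 := by
    by_contra hlt
    let i : Fin 6 → Fin n := fun k => ⟨k, by omega⟩
    have hi : ∀ k l, k ≠ l → i k ≠ i l := fun k l h e => h (Fin.ext (by simpa [i] using e))
    let v : Fin n → K := fun k => if k = i 2 ∨ k = i 3 ∨ k = i 4 ∨ k = i 5 then 1 else 0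
    have hsupp : supp v = {i 2, i 3, i 4, i 5} := by
      ext k
      rw [mem_supp]
      simp only [v, Finset.mem_insert, Finset.mem_singleton]
      split_ifs with h <;> simp [h]
    have hv0 : v ≠ 0 := fun h => by
      have := congrFun h (i 2)
      simp [v] at this
    have hiso : Cfsg.hermForm n K 2 v v = 0 := by
      rw [W.iso_iff, hsupp, Finset.card_insert_of_notMem (by simp [hi]),
        Finset.card_insert_of_notMem (by simp [hi]), Finset.card_pair (hi 4 5 (by decide))]
      exact ⟨2, rfl⟩
    obtain ⟨c, hc⟩ := vec_surj (F := F) (W := W) hn hmax hv0 hiso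
    have hvone : ∀ k : Fin 6, k = 2 ∨ k = 3 ∨ k = 4 ∨ k = 5 → v (i k) = 1 := by
      rintro k (rfl | rfl | rfl | rfl) <;> simp [v]
    have hnot : W.wt (-1 : ZMod 3) ≠ 1 := fun h =>
      absurd (W.inj (h.trans W.zero.symm)) (by decide)
    refine not_isSolvable_of_members P.cls (x := F.p (i 0) (i 1) 0) (a := F.p (i 2) (i 3) 0)
      (b := F.p (i 2) (i 3) 1) (c := c) (d := F.p (i 4) (i 5) 1) ?_ ?_ ?_ ?_ ?_ ?_ ?_ ?_ ?_ ?_
      (isSolvable_all P.cls hx hs _)
    · exact F.disj _ _ (hi _ _ (by decide)) (hi _ _ (by decide)) (hi _ _ (by decide)) (hi _ _ (by decide))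
        (hi _ _ (by decide)) (hi _ _ (by decide))
    · exact F.disj _ _ (hi _ _ (by decide)) (hi _ _ (by decide)) (hi _ _ (by decide)) (hi _ _ (by decide))
        (hi _ _ (by decide)) (hi _ _ (by decide))
    · refine Com.symm ((hc.2.2 _ _ 0 (hi 0 1 (by decide))).mpr ?_)
      simp [v, hi]
    · exact F.disj _ _ (hi _ _ (by decide)) (hi _ _ (by decide)) (hi _ _ (by decide)) (hi _ _ (by decide))
        (hi _ _ (by decide)) (hi _ _ (by decide))
    · exact (F.same (hi _ _ (by decide)) (by decide)).1
    · intro h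
      have h' := (hc.2.2 _ _ 1 (hi 2 3 (by decide))).mp (Com.symm h)
      rw [hvone 2 (by simp), hvone 3 (by simp), mul_one] at h'
      exact hnot h'.symm
    · intro h
      have h' := (hc.2.2 _ _ 1 (hi 4 5 (by decide))).mp h
      rw [hvone 4 (by simp), hvone 5 (by simp), mul_one] at h'
      exact hnot h'.symm
    · refine Com.symm ((hc.2.2 _ _ 0 (hi 2 3 (by decide))).mpr ?_)
      rw [hvone 2 (by simp), hvone 3 (by simp), neg_zero, W.zero, mul_one]
    · exact F.disj _ _ (hi _ _ (by decide)) (hi _ _ (by decide)) (hi _ _ (by decide)) (hi _ _ (by decide))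
        (hi _ _ (by decide)) (hi _ _ (by decide))
    · exact F.disj _ _ (hi _ _ (by decide)) (hi _ _ (by decide)) (hi _ _ (by decide)) (hi _ _ (by decide))
        (hi _ _ (by decide)) (hi _ _ (by decide))
  rcases (show n = 4 ∨ n = 5 by omega) with rfl | rfl
  exacts [Or.inl (nonempty_psu F hn hmax hK), Or.inr (nonempty_psu F hn hmax hK)]

/-- Both cores of a solvable local group cannot be central. -/
theorem false_of_central (hD : Cfsg.IsThreeTranspositionClass D)
    (hsol : ∀ N : Subgroup G, N.Normal → Group.IsSolvable N → N = ⊥)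
    (hperf : ⁅commutator G, commutator G⁆ = commutator G) {x : G} (hx : x ∈ D)
    (hs : Group.IsSolvable (Subgroup.closure (others D x)))
    (h2 : Cfsg.pCore 2 (Subgroup.closure (others D x)) ≤ Subgroup.center (Subgroup.closure (others D x)))
    (ho : Cfsg.oddCore (Subgroup.closure (others D x)) ≤ Subgroup.center (Subgroup.closure (others D x))) :
    False := by
  classical
  set H := Subgroup.closure (others D x) with hH
  haveI := hs
  have hF : Cfsg.fittingSubgroup H ≤ Subgroup.center H := by
    rw [CfsgLib.Comp.fitting_eq_iSup_pCore]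
    refine iSup_le fun p => ?_
    have hp := Nat.prime_of_mem_primeFactors p.2
    haveI : Fact (p : ℕ).Prime := ⟨hp⟩
    rcases eq_or_ne (p : ℕ) 2 with h | hne2
    · rw [h]; exact h2
    refine le_trans (CfsgLib.Solvable.le_pPrimeCore 2 (CfsgLib.Solvable.pCore_normal _) ?_) ho
    obtain ⟨k, hk⟩ := IsPGroup.iff_card.mp (CfsgLib.Solvable.isPGroup_pCore (G := H) (p : ℕ))
    rw [hk]
    exact ((Nat.coprime_primes hp Nat.prime_two).mpr hne2).pow_left k
  have habel : ∀ g h : H, g * h = h * g := by
    have hc : Subgroup.centralizer (Cfsg.fittingSubgroup H : Set H) = ⊤ := by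
      rw [eq_top_iff]
      intro g _
      exact Subgroup.mem_centralizer_iff.mpr fun z hz => (Subgroup.mem_center_iff.mp (hF hz) g).symm
    intro g h
    have hg : g ∈ Subgroup.center H :=
      hF (CfsgLib.Fitting.centralizer_fittingSubgroup_le_of_solvable (hc ▸ Subgroup.mem_top g))
    exact (Subgroup.mem_center_iff.mp hg h).symm
  have hsub : (others D x).Subsingleton := by
    intro y hy y' hy'
    obtain ⟨g, hg, hgy⟩ := (rank_three_of_connected hD hsol (comm_connected hD hsol hperf)
      (exists_two_members hD hsol) hx).2.2.1 y hy.1 y' hy'.1 hy.2.1 hy'.2.1 hy.2.2 hy'.2.2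
    have hc := congrArg Subtype.val (habel ⟨g, hg⟩ ⟨y, Subgroup.subset_closure hy⟩)
    change g * y = y * g at hc
    rw [← hgy, hc, mul_inv_cancel_right]
  have hall : ∀ a ∈ D, (others D a).Subsingleton := by
    intro a ha
    obtain ⟨g, rfl⟩ := exists_conj hD hx ha
    rw [others_conj hD g x]
    exact hsub.image _
  -- every member commuting with `x` is a twin of `x`
  obtain ⟨⟨a, ha⟩, ⟨b, hb⟩, hab⟩ := exists_two_members hD hsol
  have htwin : ∀ u ∈ D, ∀ v ∈ D, Commute u v → ∀ e ∈ D, Commute u e → Commute v e := by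
    intro u hu v hv huv e he hue
    by_cases euv : u = v
    · exact euv ▸ hue
    by_cases eeu : e = u
    · exact eeu ▸ huv.symm
    have hev : e = v := hall u hu ⟨he, eeu, hue⟩ ⟨hv, fun h => euv h.symm, huv⟩
    exact hev ▸ Commute.refl v
  obtain ⟨Q, hQx, hQ⟩ := Cfsg.Agent.S5356.result hD ⟨a, ha, b, hb, fun e => hab (Subtype.ext e)⟩ hx
    (Set.ext fun v => ⟨fun hv => ⟨hv.1, fun e he =>
      ⟨htwin v hv.1 x hx hv.2.symm e he, htwin x hx v hv.1 hv.2 e he⟩⟩,
      fun hv => ⟨hv.1, ((hv.2 x hx).mpr (Commute.refl x)).symm⟩⟩)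
  haveI : Fact (Nat.Prime 2) := ⟨Nat.prime_two⟩
  haveI : Fact (Nat.Prime 3) := ⟨Nat.prime_three⟩
  have hcore : Cfsg.pCore 2 G = ⊥ := by
    haveI := (CfsgLib.Solvable.isPGroup_pCore (G := G) 2).isNilpotent
    exact hsol _ (CfsgLib.Solvable.pCore_normal 2) inferInstance
  rw [hcore, sup_bot_eq] at hQ
  have hnorm : ((Q : Subgroup G)).Normal := by
    rw [← Subgroup.normalizer_eq_top_iff, eq_top_iff, ← hQ]
    exact sup_le (Subgroup.zpowers_le.mpr hQx) Subgroup.le_normalizer
  have hQbot : (Q : Subgroup G) = ⊥ := by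
    haveI := Q.isPGroup'.isNilpotent
    exact hsol _ hnorm inferInstance
  rw [hQbot, sup_bot_eq] at hQ
  have hcom : ∀ u v : G, Commute u v := fun u v => by
    obtain ⟨k, rfl⟩ := Subgroup.mem_zpowers_iff.mp (hQ ▸ Subgroup.mem_top u)
    obtain ⟨l, rfl⟩ := Subgroup.mem_zpowers_iff.mp (hQ ▸ Subgroup.mem_top v)
    exact Commute.zpow_zpow_self x k l
  haveI : IsMulCommutative (Subgroup.zpowers x) := inferInstance
  have htop : Subgroup.zpowers x = ⊥ := hsol _ (hQ ▸ inferInstance) inferInstance
  have hx1 : x = 1 := Subgroup.mem_bot.mp (htop ▸ Subgroup.mem_zpowers x)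
  have := hD.1.1 x hx
  rw [hx1, orderOf_one] at this
  omega

end CfsgLib.ThreeT.SolvableLocal
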