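import Cfsg.Agent.Spor3T.ReflModThreeMatrix
import Cfsg.Agent.Spor3T.Simple
import Cfsg.Agent.Comp.Basic

/-!
Projective reflection groups over the field with three elements: no solvable normal subgroups, perfect
commutator subgroup, no two non-trivial commuting normal subgroups.
-/

set_option autoImplicit false
set_option linter.unusedSectionVars false
set_option linter.style.haveILetI false

namespace CfsgLib.ThreeT

/-- The three properties used of `L/Z(L)`. -/
structure AlmostSimple (Q : Type*) [Group Q] : Prop where
  nosol : ∀ N : Subgroup Q, N.Normal → Group.IsSolvable N → N = ⊥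
  perfect : ⁅commutator Q, commutator Q⁆ = commutator Q
  indec : ∀ N M : Subgroup Q, N.Normal → M.Normal → ⁅N, M⁆ = ⊥ → N = ⊥ ∨ M = ⊥

theorem AlmostSimple.of_equiv {Q Q' : Type*} [Group Q] [Group Q'] (h : AlmostSimple Q) (e : Q' ≃* Q) :
    AlmostSimple Q' := by
  have hn : ∀ N : Subgroup Q', N.Normal → (N.map e.toMonoidHom).Normal := fun N hN =>
    hN.map e.toMonoidHom e.surjective
  have hbot : ∀ N : Subgroup Q', N.map e.toMonoidHom = ⊥ → N = ⊥ := fun N hN =>
    (Subgroup.map_eq_bot_iff_of_injective N e.injective).1 hN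
  refine ⟨fun N hN hs => hbot N (h.nosol _ (hn N hN) ?_), ?_, fun N M hN hM hc => ?_⟩
  · haveI := hs
    exact Group.isSolvable_of_surjective (f := e.toMonoidHom.subgroupMap N) (e.toMonoidHom.subgroupMap_surjective N)
  · have hmap : (commutator Q').map e.toMonoidHom = commutator Q := by
      rw [commutator_def, commutator_def, Subgroup.map_commutator,
        Subgroup.map_top_of_surjective _ e.surjective]
    apply Subgroup.map_injective (f := e.toMonoidHom) e.injective
    rw [Subgroup.map_commutator, hmap, h.perfect]
  · refine (h.indec _ _ (hn N hN) (hn M hM) ?_).imp (hbot N) (hbot M)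
    rw [← Subgroup.map_commutator, hc, Subgroup.map_bot]

theorem almostSimple_of {R : Type*} [Group R] [Finite R] {D : Set R}
    (hD : Cfsg.IsThreeTranspositionClass D) (hqs : Cfsg.IsQuasisimple (commutator R))
    (hprim : Cfsg.IsPrimitiveUnderConj D) : AlmostSimple (R ⧸ Subgroup.center R) := by
  set P := commutator R with hPdef
  have hcomp : Cfsg.IsComponent P := ⟨Subgroup.Normal.isSubnormal inferInstance, hqs⟩
  have hPperf : ⁅P, P⁆ = P := by
    have := hqs.1
    have h := congrArg (Subgroup.map P.subtype) (Group.IsPerfect.commutator_eq_top (G := P))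
    rwa [Subgroup.map_subtype_commutator, ← MonoidHom.range_eq_map, Subgroup.range_subtype] at h
  have hPne : P ≠ ⊥ := by
    intro h
    haveI := hqs.2
    obtain ⟨x, hx⟩ := exists_ne (1 : ↥P ⧸ Subgroup.center ↥P)
    obtain ⟨y, rfl⟩ := QuotientGroup.mk_surjective x
    exact hx (by rw [show y = 1 from Subtype.ext (Subgroup.mem_bot.1 (h ▸ y.2 : (y : R) ∈ (⊥ : Subgroup R))),
      QuotientGroup.mk_one])
  -- solvable normal subgroups are central
  have hcent : ∀ N : Subgroup R, N.Normal → Group.IsSolvable N → N ≤ Subgroup.center R := by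
    intro N hN hs
    haveI := hN
    have hNP : ∀ x ∈ P, ∀ y ∈ N, Commute x y := fun x hx y hy =>
      (Subgroup.mem_centralizer_iff.1 (CfsgLib.Comp.le_centralizer_of_commutator_eq_bot
        (CfsgLib.Comp.component_commutator_normal_solvable hcomp hs) hx) y hy).symm
    set Z := P ⊓ Subgroup.centralizer (P : Set R) with hZ
    haveI : Z.Normal := by rw [hZ]; infer_instance
    intro m hm
    refine center_of_commute hD fun d hd => ?_
    set e := m * d * m⁻¹ with he
    have heD : e ∈ D := conj_mem hD hd m
    have hde : d * e ∈ Z := by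
      refine ⟨mul_mem_commutator hD hd heD, Subgroup.mem_centralizer_iff.2 fun x hx => ?_⟩
      have hmem : d * e ∈ N := by
        have h1 : d * m * d⁻¹ ∈ N := hN.conj_mem m hm d
        have : d * e = d * m * d⁻¹ * m⁻¹ := by rw [he, inv hD.1 hd]; group
        rw [this]; exact mul_mem h1 (inv_mem hm)
      exact (hNP x hx _ hmem).eq
    have hblock : ∀ g : R, (fun x => g * x * g⁻¹) '' {x | x ∈ D ∧ d * x ∈ Z} = {x | x ∈ D ∧ d * x ∈ Z} ∨
        Disjoint ((fun x => g * x * g⁻¹) '' {x | x ∈ D ∧ d * x ∈ Z}) {x | x ∈ D ∧ d * x ∈ Z} := by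
      intro g
      refine or_iff_not_imp_right.2 fun h => ?_
      obtain ⟨_, ⟨u, hu, rfl⟩, hu'⟩ := Set.not_disjoint_iff.1 h
      have hz : ∀ {x y : R}, d * x ∈ Z → d * y ∈ Z → x⁻¹ * y ∈ Z := fun {x y} hx hy => by
        have := mul_mem (inv_mem hx) hy
        rwa [mul_inv_rev, mul_assoc, inv_mul_cancel_left] at this
      ext w
      constructor
      · rintro ⟨v, hv, rfl⟩
        refine ⟨conj_mem hD hv.1 g, ?_⟩
        have h1 : g * (u⁻¹ * v) * g⁻¹ ∈ Z := (inferInstance : Z.Normal).conj_mem _ (hz hu.2 hv.2) g
        have := mul_mem hu'.2 h1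
        convert this using 1
        group
      · intro hw
        refine ⟨g⁻¹ * w * g, ⟨by simpa using conj_mem hD hw.1 g⁻¹, ?_⟩, by show g * (g⁻¹ * w * g) * g⁻¹ = w; group⟩
        have h1 : g⁻¹ * ((g * u * g⁻¹)⁻¹ * w) * g⁻¹⁻¹ ∈ Z :=
          (inferInstance : Z.Normal).conj_mem _ (hz hu'.2 hw.2) g⁻¹
        have := mul_mem hu.2 h1
        convert this using 1
        group
    rcases hprim.2.2 _ (fun x hx => hx.1) hblock with h | h
    · have he' : e = d := h ⟨heD, hde⟩ ⟨hd, by rw [sq hD.1 hd]; exact one_mem _⟩
      rw [he, mul_inv_eq_iff_eq_mul] at he'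
      exact he'
    · exfalso
      haveI : Z.Normal := inferInstance
      have hcyc : ∀ x : R ⧸ Z, x ∈ Subgroup.zpowers (d : R ⧸ Z) := by
        intro x
        obtain ⟨r, rfl⟩ := QuotientGroup.mk_surjective x
        induction (hD.2.2 ▸ Subgroup.mem_top r : r ∈ Subgroup.closure D) using Subgroup.closure_induction with
        | mem z hz =>
          have hzd : d⁻¹ * z ∈ Z := by
            rw [inv hD.1 hd]; exact ((h.ge hz).2 : _)
          rw [← QuotientGroup.eq.2 hzd]; exact Subgroup.mem_zpowers _
        | one => exact one_mem _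
        | mul a b _ _ ha hb => exact mul_mem ha hb
        | inv a _ ha => exact inv_mem ha
      have hle : P ≤ Z := by
        rw [hPdef, commutator_def, Subgroup.commutator_le]
        intro a _ b _
        rw [← QuotientGroup.eq_one_iff, commutatorElement_def, QuotientGroup.mk_mul, QuotientGroup.mk_mul,
          QuotientGroup.mk_mul, QuotientGroup.mk_inv, QuotientGroup.mk_inv]
        obtain ⟨i, hi⟩ := Subgroup.mem_zpowers_iff.1 (hcyc a)
        obtain ⟨j, hj⟩ := Subgroup.mem_zpowers_iff.1 (hcyc b)
        rw [← hi, ← hj]; group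
      refine hPne (le_bot_iff.1 ?_)
      rw [← hPperf, Subgroup.commutator_le]
      intro a ha b hb
      rw [Subgroup.mem_bot, commutatorElement_eq_one_iff_commute]
      exact (Subgroup.mem_centralizer_iff.1 (hle ha).2 b hb).symm
  set π := QuotientGroup.mk' (Subgroup.center R)
  have hπ : Function.Surjective π := QuotientGroup.mk'_surjective _
  haveI hZsol : Group.IsSolvable (Subgroup.center R) :=
    Group.isSolvable_of_comm fun a b => Subtype.ext (Subgroup.mem_center_iff.mp b.2 a)
  refine ⟨fun N hN hs => ?_, ?_, fun N M hN hM hNM => ?_⟩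
  · haveI := hs
    set M := N.comap π
    have hMs : Group.IsSolvable M := by
      let f : M →* N := (π.comp M.subtype).codRestrict N fun x => x.2
      let j : f.ker →* Subgroup.center R := ((M.subtype).comp f.ker.subtype).codRestrict _ fun x =>
        (QuotientGroup.eq_one_iff _).mp (congrArg Subtype.val x.2)
      haveI : Group.IsSolvable f.ker := Group.isSolvable_of_isSolvable_injective (f := j)
        fun a b hab => Subtype.ext (Subtype.ext (congrArg (fun t : Subgroup.center R => (t : R)) hab :))
      exact Group.isSolvable_of_ker_le_range f.ker.subtype f (by rw [Subgroup.range_subtype])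
    refine le_bot_iff.1 fun x hx => ?_
    obtain ⟨g, rfl⟩ := hπ x
    exact (QuotientGroup.eq_one_iff g).2 (hcent M inferInstance hMs hx)
  · have hmap : P.map π = commutator (R ⧸ Subgroup.center R) := by
      rw [hPdef, commutator_def, commutator_def, Subgroup.map_commutator, Subgroup.map_top_of_surjective _ hπ]
    rw [← hmap, ← Subgroup.map_commutator, hPperf]
  · have key : ∀ K : Subgroup (R ⧸ Subgroup.center R), K.Normal → K = ⊥ ∨ P ≤ K.comap π := by
      intro K hK
      haveI := hK
      set M := K.comap π
      rcases CfsgLib.Comp.quasisimple_normal hqs (H := M.subgroupOf P) inferInstance with h | h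
      · exact Or.inr (Subgroup.subgroupOf_eq_top.1 h)
      · left
        have hsolM : Group.IsSolvable M := by
          let f : M →* R ⧸ P := (QuotientGroup.mk' P).comp M.subtype
          haveI : Group.IsSolvable (R ⧸ P) := Group.isSolvable_of_comm fun a b => by
            obtain ⟨a, rfl⟩ := QuotientGroup.mk_surjective a
            obtain ⟨b, rfl⟩ := QuotientGroup.mk_surjective b
            rw [← QuotientGroup.mk_mul, ← QuotientGroup.mk_mul, QuotientGroup.eq]
            have h' := Subgroup.commutator_mem_commutator (Subgroup.mem_top b⁻¹) (Subgroup.mem_top a⁻¹)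
            rw [commutatorElement_def] at h'
            rw [hPdef, commutator_def]
            convert h' using 1
            group
          haveI : Group.IsSolvable (Subgroup.center P) :=
            Group.isSolvable_of_comm fun a b => Subtype.ext (Subgroup.mem_center_iff.mp b.2 a)
          have hmem : ∀ x : f.ker, (x.1.1 : R) ∈ P := fun x => (QuotientGroup.eq_one_iff _).1 x.2
          let j : f.ker →* Subgroup.center P :=
            { toFun := fun x => ⟨⟨x.1.1, hmem x⟩, h (Subgroup.mem_subgroupOf.2 x.1.2)⟩
              map_one' := rfl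
              map_mul' := fun _ _ => rfl }
          haveI : Group.IsSolvable f.ker := Group.isSolvable_of_isSolvable_injective (f := j)
            fun a b hab => Subtype.ext (Subtype.ext (congrArg (fun t : Subgroup.center P => ((t : P) : R)) hab :))
          exact Group.isSolvable_of_ker_le_range f.ker.subtype f (by rw [Subgroup.range_subtype])
        refine le_bot_iff.1 fun x hx => ?_
        obtain ⟨g, rfl⟩ := hπ x
        exact (QuotientGroup.eq_one_iff g).2 (hcent M inferInstance hsolM hx)
    rcases key N hN with h | h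
    · exact Or.inl h
    rcases key M hM with h' | h'
    · exact Or.inr h'
    exfalso
    have : P.map π ≤ ⊥ := by
      rw [← hPperf, Subgroup.map_commutator, ← hNM]
      exact Subgroup.commutator_mono (Subgroup.map_le_iff_le_comap.2 h) (Subgroup.map_le_iff_le_comap.2 h')
    refine hPne (le_bot_iff.1 ?_)
    rw [← hPperf, Subgroup.commutator_le]
    intro a ha b hb
    rw [Subgroup.mem_bot, commutatorElement_eq_one_iff_commute]
    have hac : a ∈ Subgroup.center R :=
      (QuotientGroup.eq_one_iff a).1 (Subgroup.mem_bot.1 (this (Subgroup.mem_map_of_mem π ha)))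
    exact (Subgroup.mem_center_iff.1 hac b).symm

theorem almostSimple_refl {n : ℕ} {Q : QuadraticForm (ZMod 3) (Fin n → ZMod 3)}
    (hQ : (QuadraticMap.polarBilin Q).Nondegenerate) (hn : 5 ≤ n) {c : ZMod 3} (hc : c ≠ 0) :
    AlmostSimple (↥(Cfsg.reflectionSubgroup (⇑Q) c) ⧸ Subgroup.center ↥(Cfsg.reflectionSubgroup (⇑Q) c)) :=
  almostSimple_of (CfsgLib.ReflThree.rclass_class hQ hn hc) (CfsgLib.ReflThree.structure_refl hQ hn hc).1
    (CfsgLib.ReflThree.structure_refl hQ hn hc).2.2.2

end CfsgLib.ThreeT
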