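import Cfsg.Agent.Spor3T.M23Far
import Cfsg.Agent.Spor3T.PairNorm
import Cfsg.Agent.Spor3T.PairWidth
import Cfsg.Agent.Quad.POmega

/-!
Type M(23): the joint centraliser of a non-commuting pair is `Ω(7,3)`; it is generated by the common neighbours.
-/

set_option autoImplicit false
set_option linter.unusedSectionVars false
set_option linter.style.haveILetI false

namespace CfsgLib.ReflThree

open QuadraticMap CfsgLib.Quad CfsgLib.Forms CfsgLib.QuadStd

local instance : Fact (Nat.Prime 3) := ⟨Nat.prime_three⟩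

variable {Q : QuadraticForm (ZMod 3) (Fin 7 → ZMod 3)}

/-- All non-degenerate forms in seven dimensions have the same isometry group. -/
theorem oGroup_seven_equiv (hQ : (polarBilin Q).Nondegenerate) :
    Nonempty (oGroup Q ≃* oGroup (oddQ (F := ZMod 3) 3)) := by
  let r : (Unit ⊕ (Fin 3 ⊕ Fin 3)) ≃ Fin 7 := Fintype.equivOfCardEq (by simp)
  let c := (Pi.basisFun (ZMod 3) (Unit ⊕ (Fin 3 ⊕ Fin 3))).reindex r
  let P := oddQ (F := ZMod 3) 3
  have hP : (polarBilin P).Nondegenerate := oddQ_nondeg two_ne 3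
  set b := Pi.basisFun (ZMod 3) (Fin 7)
  have hne : ∀ {V : Type} [AddCommGroup V] [Module (ZMod 3) V] [FiniteDimensional (ZMod 3) V]
      {R : QuadraticForm (ZMod 3) V} (_ : (polarBilin R).Nondegenerate) (e : Module.Basis (Fin 7) (ZMod 3) V),
      (gram R e).det ≠ 0 := fun hR e => det_gram_ne_zero hR e
  have hneg : gram (-Q) b = -gram Q b := by
    ext i j
    simp [gram, QuadraticMap.polar]
    ring
  have hQ' : (polarBilin (-Q)).Nondegenerate := by
    have e : ∀ u w, polarBilin (-Q) u w = -polarBilin Q u w := fun u w => by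
      simp [polarBilin_apply_apply, QuadraticMap.polar]; ring
    exact ⟨fun u hu => hQ.1 u fun w => neg_eq_zero.1 ((e u w).symm.trans (hu w)),
      fun w hw => hQ.2 w fun u => neg_eq_zero.1 ((e u w).symm.trans (hw u))⟩
  have hiso : ∃ g : (Fin 7 → ZMod 3) ≃ₗ[ZMod 3] (Unit ⊕ (Fin 3 ⊕ Fin 3) → ZMod 3),
      (∀ v, P (g v) = Q v) ∨ ∀ v, P (g v) = (-Q) v := by
    have h1 := hne hQ b
    have h2 := hne hP c
    by_cases hsq : IsSquare ((gram Q b).det * (gram P c).det)
    · obtain ⟨g, hg⟩ := isometric_of_disc two_ne hQ hP b c hsq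
      exact ⟨g, Or.inl hg⟩
    · obtain ⟨g, hg⟩ := isometric_of_disc two_ne hQ' hP b c (by
        rw [hneg, Matrix.det_neg, Fintype.card_fin]
        have key : ∀ u v : ZMod 3, u ≠ 0 → v ≠ 0 → ¬ IsSquare (u * v) → IsSquare ((-1) ^ 7 * u * v) := by
          decide
        exact key _ _ h1 h2 hsq)
      exact ⟨g, Or.inr hg⟩
  obtain ⟨g, hg | hg⟩ := hiso
  · exact ⟨oGroupCongr (Q := Q) (Q' := P) g hg⟩
  · have e : oGroup (-Q) = oGroup Q := by
      ext f
      show (∀ v, (-Q) (f v) = (-Q) v) ↔ ∀ v, Q (f v) = Q v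
      simp
    exact ⟨(MulEquiv.subgroupCongr e.symm).trans (oGroupCongr (Q := -Q) (Q' := P) g hg)⟩

/-- A projective reflection group of the right order is `Ω(7,3)`. -/
theorem proj_seven_equiv (hQ : (polarBilin Q).Nondegenerate) {c : ZMod 3} (hc : c ≠ 0)
    (hle : Nat.card (↥(Cfsg.reflectionSubgroup (⇑Q) c) ⧸
      Subgroup.center ↥(Cfsg.reflectionSubgroup (⇑Q) c)) ≤ 4585351680) :
    Nonempty ((↥(Cfsg.reflectionSubgroup (⇑Q) c) ⧸ Subgroup.center ↥(Cfsg.reflectionSubgroup (⇑Q) c)) ≃*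
      Cfsg.POmega (ZMod 3) (Cfsg.quadFormOdd 3 (ZMod 3))) := by
  classical
  set R := Cfsg.reflectionSubgroup (⇑Q) c
  have hmem : ∀ g ∈ commutator (oGroup Q), (isoGroupEquiv Q).symm g ∈ R := by
    intro g hg
    obtain ⟨r, hr, rfl⟩ := (map_reflectionSubgroup c).ge (commutator_le_closure hQ (by norm_num) hc hg)
    show (isoGroupEquiv Q).symm (isoGroupEquiv Q r) ∈ R
    rw [MulEquiv.symm_apply_apply]; exact hr
  let f : ↥(commutator (oGroup Q)) →* ↥R ⧸ Subgroup.center ↥R := (QuotientGroup.mk' _).comp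
    (((isoGroupEquiv Q).symm.toMonoidHom.comp (commutator (oGroup Q)).subtype).codRestrict R
      fun g => hmem g g.2)
  have hinj : Function.Injective f := by
    refine (injective_iff_map_eq_one f).2 fun g hg => ?_
    obtain ⟨a, ha, hv⟩ := center_refl_scalar hQ hc _ ((QuotientGroup.eq_one_iff _).1 hg)
    have hv' : ∀ v, (g : oGroup Q).1 v = a • v := fun v =>
      (congrArg (fun t : oGroup Q => t.1 v) ((isoGroupEquiv Q).apply_symm_apply (g : oGroup Q))).symm.trans (hv v)
    rcases ha with rfl | rfl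
    · exact Subtype.ext (Subtype.ext (LinearEquiv.ext fun v => (hv' v).trans (one_smul _ v)))
    · exfalso
      have e : (g : oGroup Q) = negIso Q :=
        Subtype.ext (LinearEquiv.ext fun v => (hv' v).trans (neg_one_smul _ v))
      exact negIso_notMem_of_odd (Q := Q) two_ne (by rw [Module.finrank_fin_fun]; decide) (e ▸ g.2)
  have hO := card_oGroup_seven hQ
  have hΩ : Nat.card ↥(commutator (oGroup Q)) = 4585351680 := by
    have h := Subgroup.card_mul_index (commutator (oGroup Q))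
    rw [index_commutator_odd hQ two_ne (by rw [Module.finrank_fin_fun]; norm_num), hO] at h
    omega
  have hb : Function.Bijective f := hinj.bijective_of_nat_card_le (hΩ.symm ▸ hle)
  obtain ⟨e⟩ := oGroup_seven_equiv hQ
  let e' : ↥(commutator (oGroup Q)) ≃* ↥(commutator (oGroup (oddQ (F := ZMod 3) 3))) :=
    (e.subgroupMap _).trans (MulEquiv.subgroupCongr (commutator_map_equiv e))
  have hfr : Module.finrank (ZMod 3) (Unit ⊕ (Fin 3 ⊕ Fin 3) → ZMod 3) = 7 := by simp
  have hcb : Subgroup.center ↥(commutator (oGroup (oddQ (F := ZMod 3) 3))) = ⊥ := Subgroup.card_eq_one.1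
    (card_center_omega_one (oddQ_nondeg two_ne 3) (by rw [hfr]; norm_num)
      (Or.inr (negIso_notMem_of_odd two_ne (by rw [hfr]; decide))))
  rw [← oddQ_coe 3]
  exact ⟨(MulEquiv.ofBijective f hb).symm.trans (e'.trans
    ((QuotientGroup.quotientBot.symm.trans (QuotientGroup.quotientMulEquivOfEq hcb.symm)).trans
      (pOmegaEquiv _).symm))⟩

end CfsgLib.ReflThree

namespace CfsgLib.ThreeT.Prod

variable {G : Type*} [Group G] [Finite G] {D : Set G} {d : G} (P : Point23 D d)

include P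

/-- The group of the common neighbours is the joint centraliser, with trivial centre, and is `Ω(7,3)`. -/
theorem pair_centralizer23 (h : Cfsg.IsOfTypeM23 G D) {a e : G} (ha : a ∈ D) (he : e ∈ D) (hae : ¬ Commute a e) :
    Subgroup.closure (tri D a e) = Subgroup.centralizer ({a, e} : Set G) ∧
      Subgroup.center ↥(Subgroup.closure (tri D a e)) = ⊥ ∧
      Nonempty (↥(Subgroup.closure (tri D a e)) ≃* Cfsg.POmega (ZMod 3) (Cfsg.quadFormOdd 3 (ZMod 3))) := by
  classical
  obtain ⟨-, d₀, hd₀, c₀, hc₀, hdc, -, c₃, hc₃, Q, hQ, -, ⟨ε⟩⟩ := id h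
  obtain ⟨g, hga, hge⟩ := far_pair_conj23 P hd₀ hc₀ hdc ha he hae
  have hset : ({y : G | y ∈ D ∧ y ≠ d₀ ∧ Commute d₀ y} ∩ {y : G | y ∈ D ∧ y ≠ c₀ ∧ Commute c₀ y}) = tri D d₀ c₀ := by
    ext y
    exact ⟨fun hy => ⟨hy.1, hy.2.2.2.symm⟩, fun hy => ⟨hy.1, hy.1.1, fun q => hdc (q ▸ hy.1.2.2), hy.2.symm⟩⟩
  set K₀ := Subgroup.closure ({y : G | y ∈ D ∧ y ≠ d₀ ∧ Commute d₀ y} ∩
    {y : G | y ∈ D ∧ y ≠ c₀ ∧ Commute c₀ y}) with hK₀
  set K := Subgroup.closure (tri D a e)
  set C := Subgroup.centralizer ({a, e} : Set G)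
  have hmap : K₀.map (MulAut.conj g).toMonoidHom = K := by
    rw [hK₀, hset, MonoidHom.map_closure]
    show Subgroup.closure (MulAut.conj g '' tri D d₀ c₀) = K
    rw [Pair.tri_image P.base.tt, hga, hge]
  set iK : ↥K₀ ≃* ↥K :=
    (Subgroup.equivMapOfInjective _ _ (MulAut.conj g).injective).trans (MulEquiv.subgroupCongr hmap)
  have hKC : K ≤ C := by
    refine (Subgroup.closure_le _).2 fun y hy => Subgroup.mem_centralizer_iff.2 ?_
    rintro z (rfl | rfl)
    · exact hy.1.2.2.eq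
    · exact hy.2.symm.eq
  have hC : Nat.card ↥C = 4585351680 := by
    rw [← card_far_cent23 P ha he hae, hsub_eq23 P ha]
    refine Nat.card_congr (Equiv.subtypeEquivRight fun x => ?_)
    simp only [Subgroup.mem_inf, C, Subgroup.mem_centralizer_iff, Set.mem_singleton_iff, Set.mem_insert_iff,
      forall_eq_or_imp, forall_eq]
    exact and_comm
  have hR := CfsgLib.ReflThree.card_proj_seven hQ hc₃
  rw [← Nat.card_congr ε.toEquiv] at hR
  have hle : Nat.card ↥K ≤ Nat.card ↥C :=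
    Nat.card_le_card_of_injective _ (Subgroup.inclusion_injective hKC)
  have hK0 := Subgroup.card_eq_card_quotient_mul_card_subgroup (Subgroup.center ↥K₀)
  have hK0' : Nat.card ↥K₀ = Nat.card ↥K := Nat.card_congr iK.toEquiv
  have hpos : 0 < Nat.card ↥(Subgroup.center ↥K₀) := Nat.card_pos
  have hR' : 4585351680 ≤ Nat.card (↥K₀ ⧸ Subgroup.center ↥K₀) := hR
  have hone : Nat.card ↥(Subgroup.center ↥K₀) = 1 := by
    by_contra hne
    have h2 : 4585351680 * 2 ≤ Nat.card ↥K₀ := hK0.symm ▸ Nat.mul_le_mul hR' (by omega)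
    omega
  have hbot : Subgroup.center ↥K₀ = ⊥ := Subgroup.card_eq_one.1 hone
  rw [hone, mul_one] at hK0
  refine ⟨Subgroup.eq_of_le_of_card_ge hKC (by omega), ?_, ?_⟩
  · rw [Subgroup.eq_bot_iff_forall]
    intro x hx
    have : iK.symm x ∈ Subgroup.center ↥K₀ := Subgroup.mem_center_iff.2 fun y => iK.injective (by
      rw [map_mul, map_mul, iK.apply_symm_apply]; exact Subgroup.mem_center_iff.1 hx (iK y))
    rw [hbot, Subgroup.mem_bot] at this
    rw [← iK.apply_symm_apply x, this, map_one]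
  · have hb2 : Nat.card (↥K₀ ⧸ Subgroup.center ↥K₀) ≤ 4585351680 := by omega
    obtain ⟨π⟩ := CfsgLib.ReflThree.proj_seven_equiv hQ hc₃ ((Nat.card_congr ε.toEquiv).symm.trans_le hb2)
    exact ⟨(iK.symm.trans ((QuotientGroup.quotientBot.symm.trans
      (QuotientGroup.quotientMulEquivOfEq hbot.symm)).trans ε)).trans π⟩

/-- The common neighbours have width seven. -/
theorem width_tri23 {a e : G} (ha : a ∈ D) (he : e ∈ D) (hae : ¬ Commute a e) :
    Cfsg.commutingWidth (tri D a e) = 7 :=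
  Pair.width_step P.base P.mem (fun a ha e he hae => Level.tri_nonempty (geo23 P).toPre arith23 ha he hae)
    (W := 6) (fun a' ha' e' he' hae' => width_tri P.geo ha' he' hae') a ha e he hae

end CfsgLib.ThreeT.Prod
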