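import Cfsg.Agent.Spor3T.M24Setup
import Mathlib.Algebra.Order.Chebyshev

/-!
Type M(24) as a level of the chain: a far pair has 3240 common neighbours, there are 306936 transpositions,
the centraliser of one of them is generated by its neighbours, the order of the group and the width.
-/

set_option autoImplicit false
set_option linter.unusedSectionVars false
set_option linter.style.haveILetI false

namespace CfsgLib.ThreeT

namespace Prod

/-- The orbit of `b` under conjugation by `K` times its stabiliser. -/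
theorem card_conj_orbit {Q : Type*} [Group Q] [Finite Q] (K : Subgroup Q) (b : Q) :
    Nat.card ↥K = ((fun g => g * b * g⁻¹) '' (K : Set Q)).ncard *
      Nat.card ↥(K ⊓ Subgroup.centralizer ({b} : Set Q)) := by
  set H : Subgroup ↥K := (Subgroup.centralizer ({b} : Set Q)).subgroupOf K
  have hH : Nat.card ↥H = Nat.card ↥(K ⊓ Subgroup.centralizer ({b} : Set Q)) :=
    Nat.card_congr
      { toFun := fun g => ⟨g.1.1, g.1.2, g.2⟩
        invFun := fun g => ⟨⟨g.1, g.2.1⟩, g.2.2⟩
        left_inv := fun g => rfl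
        right_inv := fun g => rfl }
  rw [Subgroup.card_eq_card_quotient_mul_card_subgroup H, hH]
  congr 1
  have hrel : ∀ g g' : ↥K, g⁻¹ * g' ∈ H ↔ (g : Q) * b * (g : Q)⁻¹ = (g' : Q) * b * (g' : Q)⁻¹ := by
    intro g g'
    rw [Subgroup.mem_subgroupOf, Subgroup.mem_centralizer_singleton_iff]
    constructor
    · intro e
      simp only [Subgroup.coe_mul, Subgroup.coe_inv] at e
      calc (g : Q) * b * (g : Q)⁻¹ = g * (b * ((g : Q)⁻¹ * g')) * (g' : Q)⁻¹ := by group
        _ = g * ((g : Q)⁻¹ * g' * b) * (g' : Q)⁻¹ := by rw [← e]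
        _ = _ := by group
    · intro e
      simp only [Subgroup.coe_mul, Subgroup.coe_inv]
      calc (g : Q)⁻¹ * g' * b = (g : Q)⁻¹ * ((g' : Q) * b * (g' : Q)⁻¹) * g' := by group
        _ = (g : Q)⁻¹ * ((g : Q) * b * (g : Q)⁻¹) * g' := by rw [e]
        _ = _ := by group
  let f : ↥K ⧸ H → {y // y ∈ (fun g => g * b * g⁻¹) '' (K : Set Q)} :=
    Quotient.lift (fun g : ↥K => ⟨(g : Q) * b * (g : Q)⁻¹, g, g.2, rfl⟩) fun g g' e =>
      Subtype.ext ((hrel g g').1 (QuotientGroup.leftRel_apply.1 e))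
  rw [← Nat.card_coe_set_eq]
  refine Nat.card_congr (Equiv.ofBijective f ⟨fun p q => ?_, ?_⟩)
  · induction p using Quotient.inductionOn with | h g => ?_
    induction q using Quotient.inductionOn with | h g' => ?_
    intro e
    exact Quotient.sound (QuotientGroup.leftRel_apply.2 ((hrel g g').2 (congrArg Subtype.val e)))
  · rintro ⟨_, g, hg, rfl⟩
    exact ⟨QuotientGroup.mk ⟨g, hg⟩, rfl⟩

theorem below23 {Q : Type*} [Group Q] [Finite Q] {E : Set Q} {e : Q} (P : Point23 E e) :
    Level.Below E 31671 3510 693 351 126 :=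
  ⟨ncard23 P, fun a ha => ((geo23 P).loc a ha).card_nb, fun a ha => ((geo23 P).loc a ha).card_pair,
    (Level.tri_card (geo23 P) arith23).1,
    fun _ ha _ hx hax _ hb => Level.tri_inner (geo23 P).toPre arith23 ha hx hax hb,
    fun _ ha _ hx _ hy hax hay hall => Level.line_eq (geo23 P).toPre arith23 ha hx hy hax hay hall,
    fun _ ha => (Level.centralizer_eq (geo23 P) arith23 (self23 P) ha).1.ge⟩

/-- In a group of type M(23) few elements centralise a far pair. -/
theorem card_cent_far23 {Q : Type*} [Group Q] [Finite Q] {E : Set Q} {e : Q} (P : Point23 E e) {a x : Q}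
    (ha : a ∈ E) (hx : x ∈ E) (hax : ¬ Commute a x) :
    Nat.card ↥(Subgroup.centralizer ({a} : Set Q) ⊓ Subgroup.centralizer ({x} : Set Q)) ≤ 4585351680 := by
  have hG := geo23 P
  have h1 := card_conj_orbit (⊤ : Subgroup Q) a
  have horb : (fun g => g * a * g⁻¹) '' ((⊤ : Subgroup Q) : Set Q) = E := by
    ext y
    constructor
    · rintro ⟨g, -, rfl⟩; exact hG.tt.conj g a ha
    · intro hy
      obtain ⟨g, hg⟩ := hG.conjD a ha y hy (hG.ne_one a ha) (hG.ne_one y hy)
      exact ⟨g, Subgroup.mem_top g, hg⟩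
  rw [horb, top_inf_eq, Subgroup.card_top, order23 P, ncard23 P] at h1
  have h2 := card_conj_orbit (Subgroup.centralizer ({a} : Set Q)) x
  have hfar : {y | y ∈ E ∧ ¬ Commute a y}.ncard ≤
      ((fun g => g * x * g⁻¹) '' (Subgroup.centralizer ({a} : Set Q) : Set Q)).ncard := by
    refine Set.ncard_le_ncard (fun y hy => ?_) (Set.toFinite _)
    obtain ⟨g, hg, e⟩ := Level.far_trans hG.toBase ha hx hy.1 hax hy.2
    exact ⟨g, Subgroup.mem_centralizer_singleton_iff.2 (Level.commute_of_far hG.toBase hg).eq, e⟩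
  rw [(Level.tri_card hG arith23).2 a ha] at hfar
  have h3 := Nat.mul_le_mul_right
    (Nat.card ↥(Subgroup.centralizer ({a} : Set Q) ⊓ Subgroup.centralizer ({x} : Set Q))) hfar
  rw [← h2] at h3
  generalize hN : Nat.card ↥(Subgroup.centralizer ({a} : Set Q) ⊓ Subgroup.centralizer ({x} : Set Q)) = N at h3 ⊢
  generalize hM : Nat.card ↥(Subgroup.centralizer ({a} : Set Q)) = M at h1 h3
  norm_num at h1 h3
  omega

theorem arith24 : Level.Arith 31671 3510 693 351 126 3240 360 := by
  exact ⟨by norm_num, by norm_num, by norm_num, by norm_num, by norm_num, by norm_num, by norm_num, by norm_num,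
    by norm_num⟩

variable {G : Type*} [Group G] [Finite G] {D : Set G} {d : G} (P : Point24 D d)

include P

theorem pre24 : Level.Pre D 31671 3510 693 351 126 := by
  obtain ⟨e, P'⟩ := P.below
  refine ⟨P.base, fun a ha => ?_⟩
  obtain ⟨g, rfl⟩ := P.base.conjD d P.mem a ha (P.base.ne_one d P.mem) (P.base.ne_one a ha)
  exact (Level.loc_of_img P.base P.mem (below23 P')).conj P.base.tt g

theorem mk_inj24 {x y : ↥(hsub D d)} (hx : (x : G) ∈ nb D d) (hy : (y : G) ∈ nb D d)
    (e : (x : ↥(hsub D d) ⧸ Subgroup.center ↥(hsub D d)) = y) : (x : G) = y := by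
  by_contra hne
  exact not_central P.base.tt P.base.conjD P.base.twinFree P.mem (P.base.ne_one d P.mem) hx
    (P.base.ne_one _ hx.1) fun z hz => central_of_mk_eq P.base.tt hx hy hne e hz

/-- What dies in the image is `1` or the point. -/
theorem mk_one24 {x : ↥(hsub D d)} (e : QuotientGroup.mk' (Subgroup.center ↥(hsub D d)) x = 1) :
    (x : G) = 1 ∨ (x : G) = d :=
  Level.cent_nb (pre24 P) arith24 P.mem (commute_hsub x.2).symm
    fun _ hy => commute_of_mem_center ((QuotientGroup.eq_one_iff x).1 e) hy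

/-- A transposition is a product of its neighbours. -/
theorem self24 : ∀ a ∈ D, a ∈ hsub D a := by
  obtain ⟨e, P'⟩ := P.below
  have hh := pre24 P
  have hT := P.base.tt
  set H := hsub D d
  set π := QuotientGroup.mk' (Subgroup.center ↥H)
  have key : ∀ a ∈ nb D d, a ∈ hsub D a := by
    intro a ha
    set A : ↥H := ⟨a, Subgroup.subset_closure ha⟩
    have hA : π A ∈ img D d := ⟨A, ha, rfl⟩
    have hle : hsub (img D d) (π A) ≤ ((hsub D a).subgroupOf H).map π := by
      refine (Subgroup.closure_le _).2 ?_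
      rintro _ ⟨⟨y, hy, rfl⟩, hne, hc⟩
      refine ⟨y, Subgroup.mem_subgroupOf.2 (Subgroup.subset_closure ⟨hy.1, fun q => hne ?_, ?_⟩), rfl⟩
      · exact congrArg π (Subtype.ext q : y = A)
      · exact (map_commute_iff hT (x := A) ha hy).1 hc
    obtain ⟨k, hk, hkA⟩ := hle (self23 P' _ hA)
    rcases mk_one24 P (x := k⁻¹ * A) (by rw [map_mul, map_inv, hkA, inv_mul_cancel]) with q | q <;>
      rw [Subgroup.coe_mul, Subgroup.coe_inv, inv_mul_eq_iff_eq_mul] at q <;>
      change a = _ at q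
    · refine Eq.subst (motive := fun t => t ∈ hsub D a) q.symm ?_
      simpa using Subgroup.mem_subgroupOf.1 hk
    · refine Eq.subst (motive := fun t => t ∈ hsub D a) q.symm ?_
      exact mul_mem (Subgroup.mem_subgroupOf.1 hk) (Subgroup.subset_closure ⟨P.mem, fun e' => ha.2.1 e'.symm, ha.2.2.symm⟩)
  intro a ha
  obtain ⟨b, hb⟩ : (nb D d).Nonempty :=
    Set.nonempty_of_ncard_ne_zero (by rw [(hh.loc d P.mem).card_nb]; norm_num)
  obtain ⟨g, rfl⟩ := P.base.conjD b hb.1 a ha (P.base.ne_one b hb.1) (P.base.ne_one a ha)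
  exact Level.hsub_conj hT g (key b hb)

/-- The centraliser of `b` in the group of the common neighbours of a far pair around it. -/
theorem card_cent_tri24 {a c b : G} (ha : a ∈ D) (hc : c ∈ D) (hac : ¬ Commute a c) (hb : b ∈ tri D a c) :
    Nat.card ↥(Subgroup.closure (tri D a c) ⊓ Subgroup.centralizer ({b} : Set G)) ≤ 9170703360 := by
  classical
  obtain ⟨e, P'⟩ := P.below
  have hh := pre24 P
  have hT := P.base.tt
  obtain ⟨g, hg⟩ := P.base.conjD b hb.1.1 d P.mem (P.base.ne_one b hb.1.1) (P.base.ne_one d P.mem)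
  set H := hsub D d
  set π := QuotientGroup.mk' (Subgroup.center ↥H)
  set M := Subgroup.closure (tri D a c) ⊓ Subgroup.centralizer ({b} : Set G)
  set a' := g * a * g⁻¹
  set c' := g * c * g⁻¹
  have ha' : a' ∈ nb D d := nb_conj hT ha (fun q => hb.1.2.1 q.symm) hb.1.2.2.symm hg
  have hc' : c' ∈ nb D d := nb_conj hT hc (fun q => hac (q ▸ hb.1.2.2)) hb.2 hg
  have hmem : ∀ x ∈ M, g * x * g⁻¹ ∈ H ∧ Commute (g * x * g⁻¹) a' ∧ Commute (g * x * g⁻¹) c' := by
    rintro x ⟨hx, hxb⟩
    have hxa : Commute x a := commute_of_closure (fun y hy => hy.1.2.2.symm) x hx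
    have hxc : Commute x c := commute_of_closure (fun y hy => hy.2) x hx
    refine ⟨?_, (commute_conj_iff g x a).2 hxa, (commute_conj_iff g x c).2 hxc⟩
    have h1 := Level.cent_in_hsub hh arith24 ha hb.1
      (Subgroup.closure_mono (fun y hy => hy.1) hx) (Subgroup.mem_centralizer_singleton_iff.1 hxb)
    have hle : Subgroup.closure {y : G | y ∈ D ∧ Commute a y ∧ Commute b y} ≤
        (hsub D d).comap (MulAut.conj g).toMonoidHom := by
      refine (Subgroup.closure_le _).2 fun y hy => ?_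
      show g * y * g⁻¹ ∈ hsub D d
      by_cases q : g * y * g⁻¹ = d
      · rw [q]; exact self24 P d P.mem
      · exact Subgroup.subset_closure ⟨hT.conj g y hy.1, q, hg ▸ (commute_conj_iff g b y).2 hy.2.2⟩
    exact hle h1
  set A : ↥H := ⟨a', Subgroup.subset_closure ha'⟩
  set C : ↥H := ⟨c', Subgroup.subset_closure hc'⟩
  set S : Subgroup (↥H ⧸ Subgroup.center ↥H) :=
    Subgroup.centralizer ({π A} : Set _) ⊓ Subgroup.centralizer ({π C} : Set _)
  have hS : Nat.card ↥S ≤ 4585351680 := card_cent_far23 P' ⟨A, ha', rfl⟩ ⟨C, hc', rfl⟩ fun q =>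
    hac ((commute_conj_iff g a c).1 ((map_commute_iff hT (x := A) (y := C) ha' hc').1 q))
  let em : ↥M → ↥H := fun x => ⟨g * (x : G) * g⁻¹, (hmem x x.2).1⟩
  have hemS : ∀ x, π (em x) ∈ S := fun x =>
    ⟨Subgroup.mem_centralizer_singleton_iff.2
        ((show Commute (em x) A from Subtype.ext (hmem x x.2).2.1.eq).map π).eq,
      Subgroup.mem_centralizer_singleton_iff.2
        ((show Commute (em x) C from Subtype.ext (hmem x x.2).2.2.eq).map π).eq⟩
  have hZ : Nat.card ↥(Subgroup.center ↥H) ≤ 2 := by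
    refine (Nat.card_le_card_of_injective (fun z : ↥(Subgroup.center ↥H) => decide (((z : ↥H) : G) = 1)) ?_).trans
      (by simp)
    intro z z' q
    rcases mk_one24 P ((QuotientGroup.eq_one_iff _).2 z.2) with u | u <;>
      rcases mk_one24 P ((QuotientGroup.eq_one_iff _).2 z'.2) with u' | u' <;>
      simp [u, u', P.base.ne_one d P.mem] at q <;>
      exact Subtype.ext (Subtype.ext (u.trans u'.symm))
  refine (Nat.card_le_card_of_injective (fun x : ↥M => ((⟨π (em x), hemS x⟩ : ↥S),
    (⟨((π (em x)).out)⁻¹ * em x, QuotientGroup.eq.1 (Quotient.out_eq _)⟩ : ↥(Subgroup.center ↥H)))) ?_).trans ?_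
  · intro x y q
    have q1 : π (em x) = π (em y) := congrArg Subtype.val (Prod.mk.injEq _ _ _ _ ▸ q).1
    have q2 : ((π (em x)).out)⁻¹ * em x = ((π (em y)).out)⁻¹ * em y :=
      congrArg Subtype.val (Prod.mk.injEq _ _ _ _ ▸ q).2
    rw [q1] at q2
    have q3 := congrArg Subtype.val (mul_left_cancel q2)
    exact Subtype.ext (mul_left_cancel (mul_right_cancel q3))
  · rw [Nat.card_prod]
    exact (Nat.mul_le_mul hS hZ).trans (by norm_num)

/-- At most 3240 common neighbours. -/
theorem tri_le24 {a c : G} (ha : a ∈ D) (hc : c ∈ D) (hac : ¬ Commute a c) : (tri D a c).ncard ≤ 3240 := by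
  classical
  haveI := Fintype.ofFinite G
  have hh := pre24 P
  set Nb := (nb D a).toFinset with hNbdef
  set T := (tri D a c).toFinset with hTdef
  have hTc : (tri D a c).ncard = T.card := Set.ncard_eq_toFinset_card' _
  rw [hTc]
  have hTN : T ⊆ Nb := fun z hz => Set.mem_toFinset.2 (Set.mem_toFinset.1 hz).1
  set f : G → ℕ := fun z => (T.filter fun b => z ≠ b ∧ Commute z b).card with hf
  have hL := hh.loc a ha
  have hNb : Nb.card = 31671 := by rw [← Set.ncard_eq_toFinset_card', hL.card_nb]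
  have hin : ∀ b ∈ T, (T.filter fun y => b ≠ y ∧ Commute b y).card = 351 := by
    intro b hb
    rw [← Level.tri_inner hh arith24 ha hc hac (Set.mem_toFinset.1 hb), Set.ncard_eq_toFinset_card']
    congr 1
    ext y
    simp only [T, Finset.mem_filter, Set.mem_toFinset, Set.mem_ofPred_eq]
    exact ⟨fun hy => ⟨hy.1, hy.2.1.symm, hy.2.2.symm⟩, fun hy => ⟨hy.1, hy.2.1.symm, hy.2.2.symm⟩⟩
  have hout : ∀ b ∈ T, (T.filter fun y => b ≠ y ∧ ¬ Commute b y).card + 352 = T.card := by
    intro b hb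
    have e : insert b ((T.filter fun y => b ≠ y ∧ Commute b y) ∪ T.filter fun y => b ≠ y ∧ ¬ Commute b y) = T := by
      ext y
      by_cases e : b = y
      · subst e; simpa using hb
      · by_cases hcm : Commute b y <;> simp [e, Ne.symm e, hcm]
    have h1 := congrArg Finset.card e
    rw [Finset.card_insert_of_notMem (by simp), Finset.card_union_of_disjoint
      (Finset.disjoint_filter.2 fun y _ hy hy' => hy'.2 hy.2), hin b hb] at h1
    omega
  have hdeg : ∀ b ∈ Nb, (Nb.filter fun z => z ≠ b ∧ Commute z b).card = 3510 := by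
    intro b hb
    rw [← hL.card_pair b (Set.mem_toFinset.1 hb), Set.ncard_eq_toFinset_card']
    congr 1
    ext y
    simp only [Nb, Finset.mem_filter, Set.mem_toFinset, Set.mem_ofPred_eq]
  have hone : ∑ z ∈ Nb, f z = T.card * 3510 := by
    have h1 : ∑ z ∈ Nb, (T.filter fun b => z ≠ b ∧ Commute z b).card =
        ∑ b ∈ T, (Nb.filter fun z => z ≠ b ∧ Commute z b).card :=
      Finset.sum_card_bipartiteAbove_eq_sum_card_bipartiteBelow (fun z b => z ≠ b ∧ Commute z b)
    rw [Finset.sum_congr rfl fun b hb => hdeg b (hTN hb), Finset.sum_const, smul_eq_mul] at h1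
    exact h1
  have htwo : ∑ z ∈ Nb, f z ^ 2 = T.card * (3510 + 351 * 693 + (T.card - 352) * 351) := by
    have h1 : ∑ z ∈ Nb, (T.filter fun b => z ≠ b ∧ Commute z b).card ^ 2 =
        ∑ b ∈ T, ∑ y ∈ T, ((Nb.filter fun z => z ≠ b ∧ Commute z b).filter fun z =>
          z ≠ y ∧ Commute z y).card := by
      have e : ∀ z, (T.filter fun b => z ≠ b ∧ Commute z b).card ^ 2 =
          ∑ b ∈ T, (if z ≠ b ∧ Commute z b then (T.filter fun b => z ≠ b ∧ Commute z b).card else 0) :=
        fun z => by rw [← Finset.sum_filter, Finset.sum_const, smul_eq_mul, pow_two]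
      rw [Finset.sum_congr rfl fun z _ => e z, Finset.sum_comm]
      refine Finset.sum_congr rfl fun b _ => ?_
      rw [← Finset.sum_filter]
      exact Finset.sum_card_bipartiteAbove_eq_sum_card_bipartiteBelow (fun z y => z ≠ y ∧ Commute z y)
    have hrow : ∀ b ∈ T, ∑ y ∈ T, ((Nb.filter fun z => z ≠ b ∧ Commute z b).filter fun z =>
          z ≠ y ∧ Commute z y).card = 3510 + 351 * 693 + (T.card - 352) * 351 := by
      intro b hb
      simp only [Finset.filter_filter]
      have hval : ∀ y ∈ T, (Nb.filter fun z => (z ≠ b ∧ Commute z b) ∧ (z ≠ y ∧ Commute z y)).card =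
          (if b = y then 3510 else 0) + (if b ≠ y ∧ Commute b y then 693 else 0) +
            (if b ≠ y ∧ ¬ Commute b y then 351 else 0) := by
        intro y hy
        have hbN := Set.mem_toFinset.1 (hTN hb)
        have hyN := Set.mem_toFinset.1 (hTN hy)
        by_cases e : b = y
        · subst e
          simp only [if_true, ne_eq, not_true_eq_false, false_and, if_false, add_zero]
          rw [← hdeg b (hTN hb)]
          congr 1
          ext z; simp
        · by_cases hcm : Commute b y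
          · simp only [ne_eq, e, not_false_eq_true, hcm, and_self, if_true, not_true_eq_false,
              and_false, if_false, zero_add, add_zero]
            rw [← hL.card_comm b hbN y hyN e hcm, Set.ncard_eq_toFinset_card']
            congr 1
            ext z
            simp only [Nb, Finset.mem_filter, Set.mem_toFinset, Set.mem_ofPred_eq]
            exact ⟨fun hz => ⟨hz.1, hz.2.1.1, hz.2.2.1, hz.2.1.2, hz.2.2.2⟩,
              fun hz => ⟨hz.1, ⟨hz.2.1, hz.2.2.2.1⟩, hz.2.2.1, hz.2.2.2.2⟩⟩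
          · simp only [ne_eq, e, not_false_eq_true, hcm, and_self, if_true,
              and_false, if_false, zero_add, add_zero]
            rw [← hL.card_line b hbN y hyN hcm, Set.ncard_eq_toFinset_card']
            congr 1
            ext z
            simp only [Nb, Finset.mem_filter, Set.mem_toFinset, Set.mem_ofPred_eq]
            exact ⟨fun hz => ⟨hz.1, hz.2.1.2, hz.2.2.2⟩, fun hz => ⟨hz.1,
              ⟨fun e' => hcm (e' ▸ hz.2.2), hz.2.1⟩, fun e' => hcm (e' ▸ hz.2.1.symm), hz.2.2⟩⟩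
      rw [Finset.sum_congr rfl hval, Finset.sum_add_distrib, Finset.sum_add_distrib, Finset.sum_ite_eq,
        if_pos hb, ← Finset.sum_filter, ← Finset.sum_filter, Finset.sum_const, Finset.sum_const,
        hin b hb, smul_eq_mul, smul_eq_mul]
      have := hout b hb
      rw [show (T.filter fun y => b ≠ y ∧ ¬ Commute b y).card = T.card - 352 by omega]
    rw [Finset.sum_congr rfl hrow, Finset.sum_const, smul_eq_mul] at h1
    exact h1
  have hT1 : ∑ z ∈ T, f z = T.card * 351 := by
    rw [Finset.sum_congr rfl fun z hz => hin z hz, Finset.sum_const, smul_eq_mul]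
  have hT2 : ∑ z ∈ T, f z ^ 2 = T.card * 351 ^ 2 := by
    rw [Finset.sum_congr rfl fun z hz => by show f z ^ 2 = 351 ^ 2; rw [hf]; simp only; rw [hin z hz],
      Finset.sum_const, smul_eq_mul]
  have s1 := Finset.sum_sdiff (f := f) hTN
  have s2 := Finset.sum_sdiff (f := fun z => f z ^ 2) hTN
  have hcs := sq_sum_le_card_mul_sum_sq (s := Nb \ T) (f := fun z => (f z : ℤ))
  have hcard : ((Nb \ T).card : ℤ) = 31671 - T.card := by
    have h1 := Finset.card_sdiff_add_card_eq_card hTN
    rw [hNb] at h1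
    omega
  rcases Nat.eq_zero_or_pos T.card with h0 | h0
  · rw [h0]; norm_num
  obtain ⟨b, hb⟩ := Finset.card_pos.1 h0
  have hv : 352 ≤ T.card := by have := hout b hb; omega
  rw [hone, hT1] at s1
  rw [htwo, hT2] at s2
  have t1 : ∑ z ∈ Nb \ T, (f z : ℤ) = 3159 * T.card := by
    rw [← Nat.cast_sum]; omega
  have t2 : ∑ z ∈ Nb \ T, (f z : ℤ) ^ 2 = 351 * (T.card : ℤ) ^ 2 := by
    have e1 : ((∑ z ∈ Nb \ T, f z ^ 2 : ℕ) : ℤ) + T.card * 351 ^ 2 =
        T.card * (3510 + 351 * 693 + ((T.card : ℤ) - 352) * 351) := by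
      have e2 := congrArg (fun t : ℕ => (t : ℤ)) s2
      push_cast [hv] at e2 ⊢
      exact e2
    push_cast at e1
    linarith
  rw [t1, t2, hcard] at hcs
  have hv0 : (0 : ℤ) < (T.card : ℤ) ^ 2 := pow_pos (by omega) 2
  by_contra hgt
  have hgt' : (3241 : ℤ) ≤ T.card := by omega
  nlinarith [mul_le_mul_of_nonneg_right (show (31671 - (T.card : ℤ)) * 351 ≤ 9978930 by linarith) hv0.le]

theorem geo24 : Level.Geo D 31671 3510 693 351 126 3240 := by
  have hh := pre24 P
  obtain ⟨c, hc, hdc, hcard⟩ := P.far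
  refine ⟨hh, d, P.mem, c, hc, hdc, le_antisymm (tri_le24 P P.mem hc hdc) ?_⟩
  obtain ⟨b, hb⟩ := Level.tri_nonempty hh arith24 P.mem hc hdc
  set L := Subgroup.closure (tri D d c)
  have h1 := card_conj_orbit L b
  have hsub' : (fun g => g * b * g⁻¹) '' (L : Set G) ⊆ tri D d c := by
    rintro _ ⟨g, hg, rfl⟩
    have hmem : g * b * g⁻¹ ∈ (fun z => g * z * g⁻¹) '' tri D d c := ⟨b, hb, rfl⟩
    have hgd : Commute g d := commute_of_closure (fun y hy => hy.1.2.2.symm) g hg
    have hgc : g * c * g⁻¹ = c := by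
      rw [(commute_of_closure (fun y (hy : y ∈ tri D d c) => hy.2) g hg).eq, mul_inv_cancel_right]
    rwa [Level.tri_conj P.base.tt hgd, hgc] at hmem
  have hcent : Nat.card ↥(L ⊓ Subgroup.centralizer ({b} : Set G)) ≤ 9170703360 :=
    card_cent_tri24 P P.mem hc hdc hb
  have h2 := Nat.mul_le_mul (Set.ncard_le_ncard hsub' (Set.toFinite _)) hcent
  have h3 := Nat.le_of_dvd Nat.card_pos (Subgroup.card_quotient_dvd_card (Subgroup.center ↥L))
  rw [hcard] at h3
  omega

theorem ncard24 : D.ncard = 306936 := by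
  rw [Level.ncard_D (geo24 P) arith24 P.mem]

theorem centralizer24 {a : G} (ha : a ∈ D) : hsub D a = Subgroup.centralizer ({a} : Set G) :=
  (Level.centralizer_eq (geo24 P) arith24 (self24 P) ha).1

theorem order24 : Nat.card G = 306936 * (2 * (31671 * (2 * (3510 * (2 * 9196830720))))) := by
  obtain ⟨e, P'⟩ := P.below
  rw [Subgroup.card_eq_card_quotient_mul_card_subgroup (hsub D d),
    (Level.centralizer_eq (geo24 P) arith24 (self24 P) P.mem).2, ncard24 P,
    Subgroup.card_eq_card_quotient_mul_card_subgroup (Subgroup.center ↥(hsub D d)),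
    Level.card_center (geo24 P) arith24 (self24 P) P.mem, order23 P']

/-- The width. -/
theorem width24 : Cfsg.commutingWidth D = 24 := by
  classical
  obtain ⟨e, P'⟩ := P.below
  have hT := P.base.tt
  set H := hsub D d
  set π := QuotientGroup.mk' (Subgroup.center ↥H)
  have hw := width23 P'
  rw [Cfsg.commutingWidth] at hw
  have hne : {n : ℕ | ∃ F : Set (↥H ⧸ Subgroup.center ↥H), F ⊆ img D d ∧ F.Finite ∧
      (∀ a ∈ F, ∀ b ∈ F, Commute a b) ∧ F.ncard = n}.Nonempty :=
    ⟨0, ∅, Set.empty_subset _, Set.finite_empty, by simp, Set.ncard_empty _⟩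
  have hbdd : BddAbove {n : ℕ | ∃ F : Set (↥H ⧸ Subgroup.center ↥H), F ⊆ img D d ∧ F.Finite ∧
      (∀ a ∈ F, ∀ b ∈ F, Commute a b) ∧ F.ncard = n} :=
    ⟨(img D d).ncard, fun n ⟨F, hF, _, _, hn⟩ => hn ▸ Set.ncard_le_ncard hF (Set.toFinite _)⟩
  have hle23 : ∀ F ⊆ img D d, (∀ a ∈ F, ∀ b ∈ F, Commute a b) → F.ncard ≤ 23 := fun F hF hc =>
    hw ▸ le_csSup hbdd ⟨F, hF, Set.toFinite _, hc, rfl⟩
  obtain ⟨F, hF, -, hFc, hFn⟩ := hw ▸ Nat.sSup_mem hne hbdd
  refine IsGreatest.csSup_eq ⟨?_, ?_⟩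
  · set T : Set ↥H := {x | (x : G) ∈ nb D d ∧ π x ∈ F}
    have hTF : π '' T = F := by
      ext z
      constructor
      · rintro ⟨x, hx, rfl⟩; exact hx.2
      · intro hz
        obtain ⟨x, hx, rfl⟩ := hF hz
        exact ⟨x, ⟨hx, hz⟩, rfl⟩
    have hTn : T.ncard = 23 := by
      rw [← Set.InjOn.ncard_image (f := π) fun x hx y hy q => Subtype.ext (mk_inj24 P hx.1 hy.1 q), hTF, hFn]
    refine ⟨insert d (((↑) : ↥H → G) '' T), Set.insert_subset P.mem ?_, Set.toFinite _, ?_, ?_⟩
    · rintro _ ⟨x, hx, rfl⟩; exact hx.1.1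
    · intro x hx y hy
      rcases hx with rfl | ⟨x, hx, rfl⟩ <;> rcases hy with rfl | ⟨y, hy, rfl⟩
      exacts [Commute.refl _, hy.1.2.2, hx.1.2.2.symm, (map_commute_iff hT hx.1 hy.1).1 (hFc _ hx.2 _ hy.2)]
    · rw [Set.ncard_insert_of_notMem ?_ (Set.toFinite _), Set.ncard_image_of_injective _ Subtype.val_injective, hTn]
      rintro ⟨x, hx, q⟩
      exact hx.1.2.1 q
  · rintro n ⟨C, hC, -, hcC, rfl⟩
    by_contra hgt
    push Not at hgt
    obtain ⟨a, ha⟩ : C.Nonempty := Set.nonempty_of_ncard_ne_zero (by omega)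
    obtain ⟨g, hg⟩ := P.base.conjD a (hC ha) d P.mem (P.base.ne_one a (hC ha)) (P.base.ne_one d P.mem)
    set T : Set ↥H := {x | (x : G) ∈ nb D d ∧ g⁻¹ * (x : G) * g ∈ C}
    have hTc : ((↑) : ↥H → G) '' T = MulAut.conj g '' (C \ {a}) := by
      ext z
      constructor
      · rintro ⟨x, hx, rfl⟩
        refine ⟨g⁻¹ * x * g, ⟨hx.2, fun q => hx.1.2.1 ?_⟩, by show g * (g⁻¹ * x * g) * g⁻¹ = x; group⟩
        rw [Set.mem_singleton_iff] at q
        rw [← hg, ← q]; group
      · rintro ⟨y, hy, rfl⟩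
        have hy' : g * y * g⁻¹ ∈ nb D d := nb_conj hT (hC hy.1) hy.2 (hcC a ha y hy.1) hg
        refine ⟨⟨g * y * g⁻¹, Subgroup.subset_closure hy'⟩, ⟨hy', ?_⟩, rfl⟩
        show g⁻¹ * (g * y * g⁻¹) * g ∈ C
        rw [show g⁻¹ * (g * y * g⁻¹) * g = y by group]; exact hy.1
    have h1 : T.ncard + 1 = C.ncard := by
      rw [← Set.ncard_image_of_injective T Subtype.val_injective, hTc,
        Set.ncard_image_of_injective _ (MulAut.conj g).injective, Set.ncard_sdiff_singleton_add_one ha]
    have h2 := hle23 (π '' T) (by rintro _ ⟨x, hx, rfl⟩; exact ⟨x, hx.1, rfl⟩) (by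
      rintro _ ⟨x, hx, rfl⟩ _ ⟨y, hy, rfl⟩
      refine (map_commute_iff hT hx.1 hy.1).2 ?_
      have := (commute_conj_iff g _ _).2 (hcC _ hx.2 _ hy.2)
      rwa [show g * (g⁻¹ * (x : G) * g) * g⁻¹ = x by group,
        show g * (g⁻¹ * (y : G) * g) * g⁻¹ = y by group] at this)
    rw [Set.InjOn.ncard_image (f := π) fun x hx y hy q => Subtype.ext (mk_inj24 P hx.1 hy.1 q)] at h2
    omega

end Prod

end CfsgLib.ThreeT
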