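/-
Classes of involutions with products of odd prime power order.
-/
import Cfsg.Agent.Spor3T.Primitive

set_option autoImplicit false
set_option linter.style.haveILetI false

namespace CfsgLib.ThreeT

variable {G : Type*} [Group G] [Finite G]

/-- A generating class of involutions whose products have r-power order has an r-group as commutator subgroup. -/
theorem isPGroup_commutator_of_prime_pow_products (r : ℕ) (hr : r.Prime) (hodd : r ≠ 2) {D : Set G}
    (hinv : ∀ d ∈ D, orderOf d = 2) (hconj : ∃ d ∈ D, D = conjugatesOf d) (hgen : Subgroup.closure D = ⊤)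
    (hprod : ∀ x ∈ D, ∀ y ∈ D, x ≠ y → ∃ k : ℕ, orderOf (x * y) = r ^ k) : IsPGroup r (commutator G) := by
  have sq' : ∀ {d : G}, d ∈ D → d * d = 1 := fun hd => mul_self_of_orderOf (hinv _ hd)
  have inv' : ∀ {d : G}, d ∈ D → d⁻¹ = d := fun hd => inv_eq_of_orderOf (hinv _ hd)
  have hr2 : ¬ r ∣ 2 := fun h => hodd ((Nat.prime_dvd_prime_iff_eq hr Nat.prime_two).mp h)
  obtain ⟨c₀, -, hDc⟩ := id hconj
  have cmem : ∀ {d : G}, d ∈ D → ∀ g : G, g * d * g⁻¹ ∈ D := fun {d} hd g => by
    rw [hDc] at hd ⊢
    show IsConj c₀ (g * d * g⁻¹)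
    exact (show IsConj c₀ d from hd).trans (isConj_iff.mpr ⟨g, rfl⟩)
  have econj : ∀ {d e : G}, d ∈ D → e ∈ D → ∃ g : G, g * d * g⁻¹ = e := fun {d e} hd he => by
    rw [hDc] at hd he
    exact isConj_iff.mp ((show IsConj c₀ d from hd).symm.trans (show IsConj c₀ e from he))
  have mmem : ∀ {x y : G}, x ∈ D → y ∈ D → x * y ∈ commutator G := fun {x y} hx hy => by
    obtain ⟨g, rfl⟩ := econj hx hy
    have h : x * (g * x * g⁻¹) = x * g * x⁻¹ * g⁻¹ := by rw [inv' hx]; group
    rw [h]
    exact Subgroup.commutator_mem_commutator (Subgroup.mem_top x) (Subgroup.mem_top g)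
  have hall : ∀ a ∈ D, ∀ b ∈ D, a ≠ b → ¬ Commute a b := fun a ha b hb hab hc => by
    obtain ⟨k, hk⟩ := hprod a ha b hb hab
    have h1 := orderOf_dvd_of_pow_eq_one (sq_of_commute (hinv a ha) (hinv b hb) hc)
    have h2 : orderOf (a * b) = 1 := Nat.eq_one_of_dvd_coprimes
      (Nat.Coprime.pow_left k ((Nat.coprime_primes hr Nat.prime_two).mpr hodd)) (dvd_of_eq hk) h1
    exact hab ((inv' ha).symm.trans (inv_eq_of_mul_eq_one_right (orderOf_eq_one_iff.mp h2)))
  classical
  obtain ⟨d₀, hd₀, hDd⟩ := hconj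
  have hiso : Cfsg.IsIsolatedInvolution d₀ := ⟨hinv d₀ hd₀, fun g hg => by
    by_contra hne
    exact hall _ hd₀ _ (cmem hd₀ g) (fun e => hne e.symm) hg⟩
  obtain ⟨N, hN, hodd, hNc⟩ := CfsgLib.ZStar.zstar hiso
  have hle : commutator G ≤ N := by
    have hall1 : ∀ g : G, (g : G ⧸ N) ∈ Subgroup.zpowers (d₀ : G ⧸ N) := by
      intro g
      induction (hgen ▸ Subgroup.mem_top g : g ∈ Subgroup.closure D) using Subgroup.closure_induction with
      | mem z hz =>
        obtain ⟨k, rfl⟩ := econj hd₀ hz
        rw [QuotientGroup.eq.mpr (show (k * d₀ * k⁻¹)⁻¹ * d₀ ∈ N by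
          have h := hNc k
          have h' : d₀ * (k * d₀⁻¹ * k⁻¹) ∈ N := by simpa only [mul_assoc] using h
          simpa only [mul_inv_rev, inv_inv, mul_assoc] using hN.mem_comm h')]
        exact Subgroup.mem_zpowers _
      | one => exact one_mem _
      | mul x y _ _ hx hy => exact mul_mem hx hy
      | inv x _ hx => exact inv_mem hx
    rw [commutator_def, Subgroup.commutator_le]
    intro g _ g' _
    obtain ⟨i, hi⟩ := Subgroup.mem_zpowers_iff.mp (hall1 g)
    obtain ⟨j, hj⟩ := Subgroup.mem_zpowers_iff.mp (hall1 g')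
    rw [← QuotientGroup.eq_one_iff, commutatorElement_def, QuotientGroup.mk_mul, QuotientGroup.mk_mul,
      QuotientGroup.mk_mul, QuotientGroup.mk_inv, QuotientGroup.mk_inv, ← hi, ← hj,
      ((Commute.refl (d₀ : G ⧸ N)).zpow_zpow i j).eq]
    group
  set M := commutator G with hM
  have hModd : Odd (Nat.card M) := hodd.of_dvd_nat (Subgroup.card_dvd_of_le hle)
  have hnotM : ∀ z ∈ D, z ∉ M := fun z hz hzM => by
    have h := orderOf_dvd_natCard (⟨z, hzM⟩ : M)
    rw [Subgroup.orderOf_mk, hinv z hz] at h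
    exact (Nat.not_even_iff_odd.mpr hModd) (even_iff_two_dvd.mpr h)
  -- the commutator subgroup has index two
  have hcover : ∀ g : G, g ∈ M ∨ g * d₀ ∈ M := by
    have hmem : ∀ z ∈ D, z * d₀ ∈ M := fun z hz => mmem hz hd₀
    intro g
    have hd : d₀ * d₀ = 1 := sq' hd₀
    have hn : ∀ m ∈ M, d₀ * m * d₀ ∈ M := fun m hm => by
      have h := (inferInstance : M.Normal).conj_mem m hm d₀
      rwa [inv' hd₀] at h
    have hc : ∀ u : G, d₀ * (d₀ * u) = u := invol_cancel (hinv d₀ hd₀)
    induction (hgen ▸ Subgroup.mem_top g : g ∈ Subgroup.closure D) using Subgroup.closure_induction with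
    | mem z hz => exact Or.inr (hmem z hz)
    | one => exact Or.inl (one_mem _)
    | mul x y _ _ hx hy =>
      rcases hx with hx | hx <;> rcases hy with hy | hy
      · exact Or.inl (mul_mem hx hy)
      · exact Or.inr (by rw [mul_assoc]; exact mul_mem hx hy)
      · refine Or.inr ?_
        have := mul_mem hx (hn y hy)
        simpa only [mul_assoc, hc] using this
      · refine Or.inl ?_
        have := mul_mem hx (hn _ hy)
        simpa only [mul_assoc, hc, hd, mul_one] using this
    | inv x _ hx =>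
      rcases hx with hx | hx
      · exact Or.inl (inv_mem hx)
      · refine Or.inr ?_
        have := hn _ (inv_mem hx)
        simpa only [mul_inv_rev, inv' hd₀, mul_assoc, hc] using this
  have hidx : M.index = 2 := Subgroup.index_eq_two_iff.mpr ⟨d₀, fun g => by
    rcases hcover g with h | h
    · refine Or.inr ⟨h, fun h' => hnotM d₀ hd₀ ?_⟩
      have := mul_mem (inv_mem h) h'
      rwa [inv_mul_cancel_left] at this
    · refine Or.inl ⟨h, fun h' => hnotM d₀ hd₀ ?_⟩
      have := mul_mem (inv_mem h') h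
      rwa [inv_mul_cancel_left] at this⟩
  have hcard : Nat.card M * 2 = Nat.card G := hidx ▸ M.card_mul_index
  haveI : Fact (Nat.Prime 2) := ⟨Nat.prime_two⟩
  have hinvol : ∀ u : G, orderOf u = 2 → u ∈ D := by
    intro u hu
    obtain ⟨S, hS⟩ := (IsPGroup.of_card (n := 1) (G := Subgroup.zpowers u)
      (by rw [Nat.card_zpowers, hu, pow_one])).exists_le_sylow
    obtain ⟨S', hS'⟩ := (IsPGroup.of_card (n := 1) (G := Subgroup.zpowers d₀)
      (by rw [Nat.card_zpowers, hinv d₀ hd₀, pow_one])).exists_le_sylow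
    have hc : ∀ T : Sylow 2 G, Nat.card (T : Subgroup G) = 2 := fun T => by
      rw [T.card_eq_multiplicity, ← hcard, Nat.factorization_mul Nat.card_pos.ne' two_ne_zero, Finsupp.add_apply,
        Nat.factorization_eq_zero_of_not_dvd (fun h => (Nat.not_even_iff_odd.mpr hModd) (even_iff_two_dvd.mpr h)),
        zero_add, Nat.Prime.factorization_self Nat.prime_two, pow_one]
    obtain ⟨g, hg⟩ := MulAction.exists_smul_eq G S' S
    have hSe : (S' : Subgroup G) = Subgroup.zpowers d₀ :=
      (Subgroup.eq_of_le_of_card_ge hS' (by rw [hc, Nat.card_zpowers, hinv d₀ hd₀])).symm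
    have hmem : u ∈ (g • S' : Sylow 2 G).1 := hg ▸ hS (Subgroup.mem_zpowers u)
    obtain ⟨w, hw, rfl⟩ := hmem
    obtain ⟨i, rfl⟩ := Subgroup.mem_zpowers_iff.mp (hSe ▸ hw : w ∈ Subgroup.zpowers d₀)
    rcases Int.even_or_odd i with ⟨k, hk⟩ | ⟨k, hk⟩
    · exfalso
      apply ne_one_of_orderOf hu
      rw [hk, ← two_mul, zpow_mul, zpow_two, sq' hd₀, one_zpow]
      simp
    · rw [hk, zpow_add, zpow_mul, zpow_two, sq' hd₀, one_zpow, one_mul, zpow_one]
      exact cmem hd₀ g
  -- the class has three-power size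
  set C := Subgroup.centralizer ({d₀} : Set G) with hCdef
  have hCeven : 2 ∣ Nat.card C := by
    have := orderOf_dvd_natCard (⟨d₀, Subgroup.mem_centralizer_singleton_iff.mpr rfl⟩ : C)
    rwa [Subgroup.orderOf_mk, hinv d₀ hd₀] at this
  have hfrattini : ∀ (p : ℕ) [Fact p.Prime] (Q : Sylow p M),
      ∃ t ∈ D, t ∈ Subgroup.normalizer (((Q : Subgroup M).map M.subtype : Subgroup G) : Set G) := by
    intro p _ Q
    set Qm := (Q : Subgroup M).map M.subtype with hQm
    have hfr := Sylow.normalizer_sup_eq_top Q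
    have h2N : 2 ∣ Nat.card (Subgroup.normalizer (Qm : Set G)) := by
      by_contra hcon
      -- an odd order normaliser would lie inside `M`
      have hsub : Subgroup.normalizer (Qm : Set G) ≤ M := fun n hn => by
        rcases hcover n with h | h
        · exact h
        · exfalso
          have ho : Odd (orderOf n) := Odd.of_dvd_nat (Nat.odd_iff.mpr (Nat.two_dvd_ne_zero.mp hcon))
            (by rw [← Subgroup.orderOf_mk n hn]; exact orderOf_dvd_natCard _)
          obtain ⟨k, hk⟩ := ho
          have hn2 : n * n ∈ M := (Subgroup.mul_mem_iff_of_index_two hidx).mpr Iff.rfl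
          have : n ∈ M := by
            have h1 : (n * n) ^ (k + 1) = n := by
              rw [← pow_two, ← pow_mul, show 2 * (k + 1) = orderOf n + 1 by omega, pow_succ, pow_orderOf_eq_one, one_mul]
            exact h1 ▸ pow_mem hn2 _
          refine hnotM d₀ hd₀ ?_
          have := mul_mem (inv_mem this) h
          rwa [inv_mul_cancel_left] at this
      rw [sup_eq_right.mpr hsub] at hfr
      have : M.index = 1 := Subgroup.index_eq_one.mpr hfr
      omega
    obtain ⟨⟨t, htN⟩, hto⟩ := exists_prime_orderOf_dvd_card' 2 h2N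
    rw [Subgroup.orderOf_mk] at hto
    exact ⟨t, hinvol t hto, htN⟩
  have hpdvd : ∀ p : ℕ, p.Prime → p ≠ r → ¬ p ∣ C.index := by
    intro p hp hp3 hdvd
    haveI := Fact.mk hp
    by_cases hp2 : p = 2
    · subst hp2
      have h4 : 2 * 2 ∣ Nat.card G := C.card_mul_index ▸ Nat.mul_dvd_mul hCeven hdvd
      rw [← hcard] at h4
      exact (Nat.not_even_iff_odd.mpr hModd)
        (even_iff_two_dvd.mpr (Nat.dvd_of_mul_dvd_mul_right two_pos h4))
    obtain ⟨Q⟩ : Nonempty (Sylow p M) := Sylow.nonempty
    set Qm := (Q : Subgroup M).map M.subtype with hQm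
    obtain ⟨t, htD, htN⟩ := hfrattini p Q
    have hQc : Qm ≤ Subgroup.centralizer ({t} : Set G) := by
      intro q hq
      have h1 : t * q * t⁻¹ * q⁻¹ ∈ Qm := mul_mem ((Subgroup.mem_normalizer_iff.mp htN q).mp hq) (inv_mem hq)
      have h2 : t * q * t⁻¹ * q⁻¹ = t * (q * t * q⁻¹) := by rw [inv' htD]; group
      have h3 : t * (q * t * q⁻¹) = 1 := by
        have hp' : IsPGroup p Qm := Q.2.map _
        obtain ⟨j, hj⟩ := hp' ⟨_, h1⟩
        have hj' : (t * (q * t * q⁻¹)) ^ p ^ j = 1 := by rw [← h2]; exact congrArg Subtype.val hj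
        by_cases he : t = q * t * q⁻¹
        · rw [← he, sq' htD]
        obtain ⟨i, hi⟩ := hprod t htD _ (cmem htD q) he
        rw [← orderOf_eq_one_iff]
        exact Nat.eq_one_of_dvd_coprimes
          (Nat.Coprime.pow j i ((Nat.coprime_primes hp hr).mpr hp3))
          (orderOf_dvd_of_pow_eq_one hj') (dvd_of_eq hi)
      rw [mul_eq_one_iff_eq_inv, mul_inv_rev, mul_inv_rev, inv_inv, inv' htD] at h3
      refine Subgroup.mem_centralizer_singleton_iff.mpr ?_
      calc q * t = q * (t * q⁻¹) * q := by group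
        _ = t * q := by rw [← h3]
    have hQcard : Nat.card Qm = p ^ (Nat.card M).factorization p := by
      rw [hQm, Subgroup.card_map_of_injective M.subtype_injective, Q.card_eq_multiplicity]
    obtain ⟨g, hg⟩ := econj htD hd₀
    have hCt : Nat.card (Subgroup.centralizer ({t} : Set G)) = Nat.card C := by
      refine Nat.card_congr ((MulAut.conj g).toEquiv.subtypeEquiv fun z => ?_)
      show z ∈ Subgroup.centralizer ({t} : Set G) ↔ g * z * g⁻¹ ∈ C
      rw [hCdef, Subgroup.mem_centralizer_singleton_iff, Subgroup.mem_centralizer_singleton_iff, ← hg]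
      exact (commute_conj_iff g z t).symm
    have h1 : p ^ (Nat.card M).factorization p ∣ Nat.card C := hQcard ▸ hCt ▸ Subgroup.card_dvd_of_le hQc
    have h2 : p ^ (Nat.card G).factorization p ∣ Nat.card C := by
      rwa [← hcard, Nat.factorization_mul Nat.card_pos.ne' two_ne_zero, Finsupp.add_apply,
        Nat.factorization_eq_zero_of_not_dvd
          (fun h => hp2 ((Nat.prime_dvd_prime_iff_eq hp Nat.prime_two).mp h)), add_zero]
    have h3 : p ^ ((Nat.card G).factorization p + 1) ∣ Nat.card G := by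
      conv_rhs => rw [← C.card_mul_index]
      rw [pow_succ]; exact Nat.mul_dvd_mul h2 hdvd
    exact Nat.pow_succ_factorization_not_dvd Nat.card_pos.ne' hp h3
  obtain ⟨k, hk⟩ : ∃ k, C.index = r ^ k := ⟨_, Nat.eq_prime_pow_of_unique_prime_dvd
    Subgroup.index_ne_zero_of_finite fun {d} hd hdd => by_contra fun h => hpdvd d hd h hdd⟩
  -- a Sylow 3-subgroup of `M` is already transitive on the class
  haveI : Fact (Nat.Prime r) := ⟨hr⟩
  obtain ⟨Q⟩ : Nonempty (Sylow r M) := Sylow.nonempty
  obtain ⟨t, htD, htN⟩ := hfrattini r Q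
  set P := (Q : Subgroup M).map M.subtype with hP
  have hPM : P ≤ M := Subgroup.map_subtype_le _
  have hPc : Nat.card P = r ^ (Nat.card G).factorization r := by
    rw [hP, Subgroup.card_map_of_injective M.subtype_injective, Q.card_eq_multiplicity, ← hcard,
      Nat.factorization_mul Nat.card_pos.ne' two_ne_zero, Finsupp.add_apply,
      Nat.factorization_eq_zero_of_not_dvd hr2, add_zero]
  let X := {z : G // z ∈ D}
  letI : MulAction G X :=
    { smul := fun g z => ⟨_, cmem z.2 g⟩
      one_smul := fun z => Subtype.ext (by show (1 : G) * z * 1⁻¹ = z; simp)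
      mul_smul := fun g h z => Subtype.ext (by show g * h * z * (g * h)⁻¹ = g * (h * z * h⁻¹) * g⁻¹; group) }
  haveI : MulAction.IsPretransitive G X := ⟨fun p q => by
    obtain ⟨g, hg⟩ := econj p.2 q.2
    exact ⟨g, Subtype.ext hg⟩⟩
  have hstabC : MulAction.stabilizer G (⟨d₀, hd₀⟩ : X) = C := by
    ext g
    rw [MulAction.mem_stabilizer_iff, hCdef, Subgroup.mem_centralizer_singleton_iff]
    exact ⟨fun h => mul_inv_eq_iff_eq_mul.mp (congrArg Subtype.val h),
      fun h => Subtype.ext (mul_inv_eq_iff_eq_mul.mpr h)⟩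
  have hXc : Nat.card X = r ^ k := by
    rw [← hk, ← hstabC, MulAction.index_stabilizer_of_transitive]
  set s := MulAction.stabilizer P (⟨t, htD⟩ : X) with hs
  have horb : MulAction.orbit P (⟨t, htD⟩ : X) = Set.univ := by
    refine Set.eq_of_subset_of_ncard_le (Set.subset_univ _) ?_ (Set.toFinite _)
    rw [Set.ncard_univ, hXc, ← MulAction.index_stabilizer, ← hs]
    obtain ⟨j, -, hj⟩ := (Nat.dvd_prime_pow hr).mp (hPc ▸ Subgroup.card_subgroup_dvd_card s)
    have hsC : Nat.card s ∣ Nat.card (MulAction.stabilizer G (⟨t, htD⟩ : X)) := by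
      rw [← Subgroup.card_map_of_injective P.subtype_injective]
      refine Subgroup.card_dvd_of_le ?_
      rintro _ ⟨z, hz, rfl⟩
      exact hz
    have h1 : r ^ (j + k) ∣ Nat.card G := by
      rw [← (MulAction.stabilizer G (⟨t, htD⟩ : X)).card_mul_index, MulAction.index_stabilizer_of_transitive,
        hXc, pow_add]
      exact Nat.mul_dvd_mul_right (hj ▸ hsC) _
    have h2 : j + k ≤ (Nat.card G).factorization r :=
      ((Nat.Prime.pow_dvd_iff_le_factorization hr Nat.card_pos.ne').mp h1)
    have h3 := s.card_mul_index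
    rw [hPc, hj] at h3
    refine Nat.le_of_mul_le_mul_left ?_ (pow_pos hr.pos j)
    rw [h3, ← pow_add]
    exact Nat.pow_le_pow_right hr.pos h2
  -- hence it is normalised by everything
  have hgen' : ∀ e ∈ D, e ∈ Subgroup.normalizer (P : Set G) ∧ (P = ⊥ → e = t) := by
    intro e he
    obtain ⟨p, hp⟩ : (⟨e, he⟩ : X) ∈ MulAction.orbit P (⟨t, htD⟩ : X) := horb ▸ Set.mem_univ _
    have : e = (p : G) * t * (p : G)⁻¹ := (congrArg Subtype.val hp).symm
    refine ⟨?_, fun hbot => ?_⟩
    · rw [this]
      exact mul_mem (mul_mem (Subgroup.le_normalizer p.2) htN) (inv_mem (Subgroup.le_normalizer p.2))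
    · rw [this, Subgroup.mem_bot.mp (hbot ▸ p.2 : (p : G) ∈ (⊥ : Subgroup G)), one_mul, inv_one, mul_one]
  haveI : P.Normal := Subgroup.normalizer_eq_top_iff.mp (top_le_iff.mp
    (hgen ▸ (Subgroup.closure_le _).mpr fun e he => (hgen' e he).1))
  have hP3 : IsPGroup r M := by
    refine (IsPGroup.of_card hPc).to_le (H := M) fun g hg => ?_
    have hmemP : ∀ e ∈ D, e * t ∈ P := fun e he => by
      obtain ⟨p, hp⟩ : (⟨e, he⟩ : X) ∈ MulAction.orbit P (⟨t, htD⟩ : X) := horb ▸ Set.mem_univ _
      have he' : e = (p : G) * t * (p : G)⁻¹ := (congrArg Subtype.val hp).symm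
      rw [he', mul_assoc, mul_assoc]
      refine mul_mem p.2 ?_
      have := (Subgroup.mem_normalizer_iff.mp htN _).mp (inv_mem p.2)
      rwa [inv' htD, mul_assoc] at this
    have htt : t * t = 1 := sq' htD
    have hc : ∀ u : G, t * (t * u) = u := invol_cancel (hinv t htD)
    have hn : ∀ m ∈ P, t * m * t ∈ P := fun m hm => by
      have h := (Subgroup.mem_normalizer_iff.mp htN m).mp hm
      rwa [inv' htD] at h
    have hall' : ∀ g : G, g ∈ P ∨ g * t ∈ P := by
      intro g
      induction (hgen ▸ Subgroup.mem_top g : g ∈ Subgroup.closure D) using Subgroup.closure_induction with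
      | mem z hz => exact Or.inr (hmemP z hz)
      | one => exact Or.inl (one_mem _)
      | mul x y _ _ hx hy =>
        rcases hx with hx | hx <;> rcases hy with hy | hy
        · exact Or.inl (mul_mem hx hy)
        · exact Or.inr (by rw [mul_assoc]; exact mul_mem hx hy)
        · refine Or.inr ?_
          have := mul_mem hx (hn y hy)
          simpa only [mul_assoc, hc] using this
        · refine Or.inl ?_
          have := mul_mem hx (hn _ hy)
          simpa only [mul_assoc, hc, htt, mul_one] using this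
      | inv x _ hx =>
        rcases hx with hx | hx
        · exact Or.inl (inv_mem hx)
        · refine Or.inr ?_
          have := hn _ (inv_mem hx)
          simpa only [mul_inv_rev, inv' htD, mul_assoc, hc] using this
    refine (hall' g).resolve_right fun h => hnotM t htD ?_
    have := mul_mem (inv_mem hg) (hPM h)
    rwa [inv_mul_cancel_left] at this
  exact hP3


end CfsgLib.ThreeT
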