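import Cfsg.Agent.Spor3T.Basic

/-! The symmetric group of degree four from the Coxeter relations. -/

set_option autoImplicit false

namespace CfsgLib.ThreeT.SymFour

def sgen : Fin 3 → Equiv.Perm (Fin 4) := ![Equiv.swap 0 1, Equiv.swap 1 2, Equiv.swap 2 3]

def evW (l : List (Fin 3)) : Equiv.Perm (Fin 4) := (l.map sgen).prod

def words : List (List (Fin 3)) :=
  [[], [2], [2,1], [2,1,0], [1], [1,2], [1,2,1], [1,2,1,0], [1,0], [1,0,2], [1,0,2,1], [1,0,2,1,0], [0], [0,2], [0,2,1], [0,2,1,0], [0,1], [0,1,2], [0,1,2,1], [0,1,2,1,0], [0,1,0], [0,1,0,2], [0,1,0,2,1], [0,1,0,2,1,0]]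

def table : List (List (Fin 3) × Fin 3 × List (Fin 3)) :=
  [([], 0, [0]),
   ([], 1, [1]),
   ([], 2, [2]),
   ([2], 0, [0,2]),
   ([2], 1, [2,1]),
   ([2], 2, []),
   ([2,1], 0, [2,1,0]),
   ([2,1], 1, [2]),
   ([2,1], 2, [1,2,1]),
   ([2,1,0], 0, [2,1]),
   ([2,1,0], 1, [0,2,1,0]),
   ([2,1,0], 2, [1,2,1,0]),
   ([1], 0, [1,0]),
   ([1], 1, []),
   ([1], 2, [1,2]),
   ([1,2], 0, [1,0,2]),
   ([1,2], 1, [1,2,1]),
   ([1,2], 2, [1]),
   ([1,2,1], 0, [1,2,1,0]),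
   ([1,2,1], 1, [1,2]),
   ([1,2,1], 2, [2,1]),
   ([1,2,1,0], 0, [1,2,1]),
   ([1,2,1,0], 1, [1,0,2,1,0]),
   ([1,2,1,0], 2, [2,1,0]),
   ([1,0], 0, [1]),
   ([1,0], 1, [0,1,0]),
   ([1,0], 2, [1,0,2]),
   ([1,0,2], 0, [1,2]),
   ([1,0,2], 1, [1,0,2,1]),
   ([1,0,2], 2, [1,0]),
   ([1,0,2,1], 0, [1,0,2,1,0]),
   ([1,0,2,1], 1, [1,0,2]),
   ([1,0,2,1], 2, [0,1,0,2,1]),
   ([1,0,2,1,0], 0, [1,0,2,1]),
   ([1,0,2,1,0], 1, [1,2,1,0]),
   ([1,0,2,1,0], 2, [0,1,0,2,1,0]),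
   ([0], 0, []),
   ([0], 1, [0,1]),
   ([0], 2, [0,2]),
   ([0,2], 0, [2]),
   ([0,2], 1, [0,2,1]),
   ([0,2], 2, [0]),
   ([0,2,1], 0, [0,2,1,0]),
   ([0,2,1], 1, [0,2]),
   ([0,2,1], 2, [0,1,2,1]),
   ([0,2,1,0], 0, [0,2,1]),
   ([0,2,1,0], 1, [2,1,0]),
   ([0,2,1,0], 2, [0,1,2,1,0]),
   ([0,1], 0, [0,1,0]),
   ([0,1], 1, [0]),
   ([0,1], 2, [0,1,2]),
   ([0,1,2], 0, [0,1,0,2]),
   ([0,1,2], 1, [0,1,2,1]),
   ([0,1,2], 2, [0,1]),
   ([0,1,2,1], 0, [0,1,2,1,0]),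
   ([0,1,2,1], 1, [0,1,2]),
   ([0,1,2,1], 2, [0,2,1]),
   ([0,1,2,1,0], 0, [0,1,2,1]),
   ([0,1,2,1,0], 1, [0,1,0,2,1,0]),
   ([0,1,2,1,0], 2, [0,2,1,0]),
   ([0,1,0], 0, [0,1]),
   ([0,1,0], 1, [1,0]),
   ([0,1,0], 2, [0,1,0,2]),
   ([0,1,0,2], 0, [0,1,2]),
   ([0,1,0,2], 1, [0,1,0,2,1]),
   ([0,1,0,2], 2, [0,1,0]),
   ([0,1,0,2,1], 0, [0,1,0,2,1,0]),
   ([0,1,0,2,1], 1, [0,1,0,2]),
   ([0,1,0,2,1], 2, [1,0,2,1]),
   ([0,1,0,2,1,0], 0, [0,1,0,2,1]),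
   ([0,1,0,2,1,0], 1, [0,1,2,1,0]),
   ([0,1,0,2,1,0], 2, [1,0,2,1,0])]

def witness : List (List (Fin 3) × List (Fin 3) × List (Fin 3)) :=
  [([2], [2,1], [1,2,1,0]),
   ([2,1], [2], [1,0]),
   ([2,1,0], [2], [1,0]),
   ([1], [2], [1,2,1,0]),
   ([1,2], [2], [1,2,1,0]),
   ([1,2,1], [2], [1,0]),
   ([1,2,1,0], [2], [1,0]),
   ([1,0], [2], [1,2,1,0]),
   ([1,0,2], [2], [1,2,1,0]),
   ([1,0,2,1], [2,1], [2]),
   ([1,0,2,1,0], [2,1], [1,2]),
   ([0], [2,1], [2,1]),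
   ([0,2], [2,1], [2]),
   ([0,2,1], [2], [1,2]),
   ([0,2,1,0], [2], [1,2]),
   ([0,1], [2], [2,1]),
   ([0,1,2], [2], [2,1]),
   ([0,1,2,1], [2], [1,2]),
   ([0,1,2,1,0], [2], [1,2]),
   ([0,1,0], [2], [2,1]),
   ([0,1,0,2], [2], [2,1]),
   ([0,1,0,2,1], [2,1], [0,1,2,1]),
   ([0,1,0,2,1,0], [2,1,0], [2])]

def pick (σ : Equiv.Perm (Fin 4)) : List (Fin 3) := (words.find? fun l => evW l = σ).getD []

set_option maxRecDepth 100000 in
lemma evW_pick : ∀ σ, evW (pick σ) = σ := by decide +kernel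

set_option maxRecDepth 100000 in
lemma table_cover : ∀ σ i, (pick σ, i, pick (σ * sgen i)) ∈ table := by decide +kernel

set_option maxRecDepth 100000 in
lemma witness_spec : ∀ σ : Equiv.Perm (Fin 4), σ = 1 ∨ ∃ t ∈ witness, evW t.1 = σ ∧
    (let c := σ * evW t.2.1 * σ⁻¹ * (evW t.2.1)⁻¹
     c * evW t.2.2 * c⁻¹ * (evW t.2.2)⁻¹) = Equiv.swap 0 1 * Equiv.swap 2 3 := by decide +kernel

lemma pick_one : pick 1 = [] := by decide +kernel

variable {G : Type*} [Group G]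

theorem exists_hom {a b c : G} (ha : orderOf a = 2) (hb : orderOf b = 2) (hc : orderOf c = 2)
    (hac : a ≠ c) (hca : Commute a c) (hab : a * b * a = b * a * b) (hbc : b * c * b = c * b * c) :
    ∃ φ : Equiv.Perm (Fin 4) →* G, Function.Injective φ ∧
      φ (Equiv.swap 0 1) = a ∧ φ (Equiv.swap 1 2) = b ∧ φ (Equiv.swap 2 3) = c := by
  have aa := mul_self_of_orderOf ha
  have bb := mul_self_of_orderOf hb
  have cc := mul_self_of_orderOf hc
  have ra : ∀ y, a * (a * y) = y := fun y => invol_cancel ha y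
  have rb : ∀ y, b * (b * y) = y := fun y => invol_cancel hb y
  have rc : ∀ y, c * (c * y) = y := fun y => invol_cancel hc y
  have ca : c * a = a * c := hca.eq.symm
  have bab : b * (a * b) = a * (b * a) := by rw [← mul_assoc, ← hab, mul_assoc]
  have cbc : c * (b * c) = b * (c * b) := by rw [← mul_assoc, ← hbc, mul_assoc]
  have cbac : c * (b * (a * c)) = b * (c * (b * a)) := by
    calc c * (b * (a * c)) = c * (b * (c * a)) := by rw [ca]
      _ = c * (b * c) * a := by group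
      _ = b * (c * b) * a := by rw [cbc]
      _ = _ := by group
  have ca' : ∀ y, c * (a * y) = a * (c * y) := fun y => by rw [← mul_assoc, ca, mul_assoc]
  have bab' : ∀ y, b * (a * (b * y)) = a * (b * (a * y)) := fun y => by
    calc b * (a * (b * y)) = b * (a * b) * y := by group
      _ = _ := by rw [bab]; group
  have cbc' : ∀ y, c * (b * (c * y)) = b * (c * (b * y)) := fun y => by
    calc c * (b * (c * y)) = c * (b * c) * y := by group
      _ = _ := by rw [cbc]; group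
  have cbac' : ∀ y, c * (b * (a * (c * y))) = b * (c * (b * (a * y))) := fun y => by
    calc c * (b * (a * (c * y))) = c * (b * (a * c)) * y := by group
      _ = _ := by rw [cbac]; group
  let g : Fin 3 → G := ![a, b, c]
  have htab : ∀ t ∈ table, (t.2.2.map g).prod = (t.1.map g).prod * g t.2.1 := by
    simp [table, g, mul_assoc, aa, bb, cc, ra, rb, rc, ca, ca', bab, bab', cbc, cbc', cbac, cbac']
  let f : Equiv.Perm (Fin 4) → G := fun σ => ((pick σ).map g).prod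
  have hgen : ∀ σ i, f (σ * sgen i) = f σ * g i := fun σ i => htab _ (table_cover σ i)
  have h1 : f 1 = 1 := by simp [f, pick_one]
  have hmul : ∀ (σ : Equiv.Perm (Fin 4)) (l : List (Fin 3)), f (σ * evW l) = f σ * (l.map g).prod := by
    intro σ l
    induction l generalizing σ with
    | nil => simp [evW]
    | cons i l ih =>
      have : σ * evW (i :: l) = σ * sgen i * evW l := by simp [evW, mul_assoc]
      rw [this, ih, hgen, List.map_cons, List.prod_cons, mul_assoc]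
  let φ : Equiv.Perm (Fin 4) →* G :=
    MonoidHom.mk' f (fun σ τ => by
      calc f (σ * τ) = f (σ * evW (pick τ)) := by rw [evW_pick]
        _ = f σ * f τ := hmul σ (pick τ))
  have hs : ∀ i, f (sgen i) = g i := fun i => by
    have := hgen 1 i; rwa [one_mul, h1, one_mul] at this
  have hsa : φ (Equiv.swap 0 1) = a := hs 0
  have hsb : φ (Equiv.swap 1 2) = b := hs 1
  have hsc : φ (Equiv.swap 2 3) = c := hs 2
  refine ⟨φ, ?_, hsa, hsb, hsc⟩
  rw [injective_iff_map_eq_one]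
  intro σ hσ
  rcases witness_spec σ with h | ⟨t, -, -, e⟩
  · exact h
  exfalso
  have e' := congrArg φ e
  simp only [map_mul, map_inv, hσ] at e'
  apply hac
  have : a * c = 1 := by rw [← hsa, ← hsc, ← e']; simp
  calc a = a * (c * c) := by rw [cc, mul_one]
    _ = c := by rw [← mul_assoc, this, one_mul]

end CfsgLib.ThreeT.SymFour
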