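/-
The involutions of a Fischer space.
-/
import Mathlib
import Cfsg.Prelude.Def_FischerSpaces

set_option autoImplicit false
set_option linter.style.haveILetI false

namespace CfsgLib.ThreeT.Fischer

open Cfsg

variable {X : Type*} {L : Set (Set X)}

theorem dual_map_facts :
    ∀ s : DualAffinePoint, ∀ i : Fin 4, i ∈ s.val → ∃ k : Fin 4, ∀ y z : DualAffinePoint, i ∉ y.val →
      ((∃ j : Fin 4, j ∉ s.val ∧ j ∉ y.val ∧ j ∉ z.val ∧ z ≠ s ∧ z ≠ y) ∨
        ((¬ ∃ j : Fin 4, j ∉ s.val ∧ j ∉ y.val) ∧ z = y)) → k ∉ z.val := by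
  decide +kernel

variable (hL : IsFischerSpace L)
include hL

/-- The third point is unique. -/
theorem third_unique {x y z z' : X} (hzx : z ≠ x) (hzy : z ≠ y) (hxy : x ≠ y) (hz : ({x, y, z} : Set X) ∈ L)
    (hz'x : z' ≠ x) (hz'y : z' ≠ y) (hz' : ({x, y, z'} : Set X) ∈ L) : z = z' := by
  have h : ({x, y, z} : Set X) = {x, y, z'} := hL.1 _ hz _ hz' x y hxy (Or.inl rfl) (Or.inr (Or.inl rfl)) (Or.inl rfl) (Or.inr (Or.inl rfl))
  have hm : z ∈ ({x, y, z'} : Set X) := h ▸ Or.inr (Or.inr rfl)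
  rcases hm with h | h | h
  exacts [absurd h hzx, absurd h hzy, h]

theorem line_third {x y : X} {l : Set X} (hl : l ∈ L) (hx : x ∈ l) (hy : y ∈ l) (hxy : x ≠ y) :
    ∃ z, z ≠ x ∧ z ≠ y ∧ x ≠ y ∧ ({x, y, z} : Set X) ∈ L ∧ z ∈ l := by
  have h3 := hL.2.1 l hl
  have hfin : l.Finite := Set.finite_of_ncard_ne_zero (by omega)
  have h2 : ({x, y} : Set X) ⊆ l := Set.insert_subset hx (Set.singleton_subset_iff.mpr hy)
  obtain ⟨z, hz, hzn⟩ : ∃ z ∈ l, z ∉ ({x, y} : Set X) := by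
    by_contra h
    push Not at h
    have := Set.ncard_le_ncard (fun w hw => h w hw) (Set.toFinite ({x, y} : Set X))
    rw [Set.ncard_pair hxy, h3] at this
    omega
  have hzx : z ≠ x := fun e => hzn (Or.inl e)
  have hzy : z ≠ y := fun e => hzn (Or.inr e)
  refine ⟨z, hzx, hzy, hxy, ?_, hz⟩
  have : ({x, y, z} : Set X) = l := Set.eq_of_subset_of_ncard_le
    (Set.insert_subset hx (Set.insert_subset hy (Set.singleton_subset_iff.mpr hz)))
    (by rw [h3, Set.ncard_eq_three.mpr ⟨x, y, z, hxy, Ne.symm hzx, Ne.symm hzy, rfl⟩]) hfin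
  exact this ▸ hl

omit hL in
theorem map_cases (x y : X) :
    (∃ z, z ≠ x ∧ z ≠ y ∧ x ≠ y ∧ ({x, y, z} : Set X) ∈ L ∧ LineSystem.lineMap L x y = z) ∨
      ((¬ ∃ z, z ≠ x ∧ z ≠ y ∧ x ≠ y ∧ ({x, y, z} : Set X) ∈ L) ∧ LineSystem.lineMap L x y = y) := by
  classical
  by_cases h : ∃ z, z ≠ x ∧ z ≠ y ∧ x ≠ y ∧ ({x, y, z} : Set X) ∈ L
  · obtain ⟨h1, h2, h3, h4⟩ := h.choose_spec
    exact Or.inl ⟨_, h1, h2, h3, h4, by simp [LineSystem.lineMap, h]⟩
  · exact Or.inr ⟨h, by simp [LineSystem.lineMap, h]⟩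

theorem map_eq {x y z : X} (hzx : z ≠ x) (hzy : z ≠ y) (hxy : x ≠ y) (h : ({x, y, z} : Set X) ∈ L) :
    LineSystem.lineMap L x y = z := by
  rcases map_cases (L := L) x y with ⟨z', h1, h2, -, h4, he⟩ | ⟨hno, -⟩
  · rw [he]; exact (third_unique hL h1 h2 hxy h4 hzx hzy h)
  · exact absurd ⟨z, hzx, hzy, hxy, h⟩ hno

omit hL in
theorem map_self (x : X) : LineSystem.lineMap L x x = x := by
  rcases map_cases (L := L) x x with ⟨z, -, -, h, -, -⟩ | ⟨-, h⟩
  · exact absurd rfl h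
  · exact h

theorem map_invol (x : X) : Function.Involutive (LineSystem.lineMap L x) := by
  intro y
  rcases map_cases (L := L) x y with ⟨z, hzx, hzy, hxy, hl, he⟩ | ⟨-, he⟩
  · rw [he]
    exact map_eq hL (Ne.symm hxy) (Ne.symm hzy) (Ne.symm hzx) (by rwa [Set.pair_comm] at hl)
  · rw [he, he]

/-- The map of a point carries lines to lines. -/
theorem map_image_mem (x : X) {m : Set X} (hm : m ∈ L) : LineSystem.lineMap L x '' m ∈ L := by
  classical
  set t := LineSystem.lineMap L x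
  have hm3 := hL.2.1 m hm
  have hmfin : m.Finite := Set.finite_of_ncard_ne_zero (by omega)
  have hinj : Function.Injective t := (map_invol hL x).injective
  have himg : ∀ k ∈ L, t '' m ⊆ k → t '' m ∈ L := by
    intro k hk hsub
    have hkfin : k.Finite := Set.finite_of_ncard_ne_zero (by have := hL.2.1 k hk; omega)
    rwa [Set.eq_of_subset_of_ncard_le hsub (by rw [hL.2.1 k hk, Set.ncard_image_of_injective m hinj, hm3]) hkfin]
  by_cases hxm : x ∈ m
  · refine himg m hm ?_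
    rintro _ ⟨y, hy, rfl⟩
    by_cases hxy : x = y
    · subst hxy; rw [show t x = x from map_self x]; exact hy
    · obtain ⟨z, h1, h2, h3, h4, hz⟩ := line_third hL hm hxm hy hxy
      rwa [show t y = z from map_eq hL h1 h2 h3 h4]
  by_cases hcol : ∃ y ∈ m, ∃ z, z ≠ x ∧ z ≠ y ∧ x ≠ y ∧ ({x, y, z} : Set X) ∈ L
  swap
  · refine himg m hm ?_
    rintro _ ⟨y, hy, rfl⟩
    rcases map_cases (L := L) x y with ⟨z, h1, h2, h3, h4, -⟩ | ⟨-, he⟩
    · exact absurd ⟨y, hy, z, h1, h2, h3, h4⟩ hcol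
    · rwa [show t y = y from he]
  obtain ⟨y₀, hy₀, z₀, h01, h02, h03, hl⟩ := hcol
  set l : Set X := {x, y₀, z₀}
  have hne : l ≠ m := fun e => hxm (e ▸ Or.inl rfl)
  have hplane := hL.2.2 l hl m hm hne ⟨y₀, Or.inr (Or.inl rfl), hy₀⟩
  set S := LineSystem.span L (l ∪ m)
  have hsub : LineSystem.IsSubspace L S := by
    intro k hk a ha b hb hab hak hbk w hw T hT
    exact hT.2 k hk a (ha T hT) b (hb T hT) hab hak hbk hw
  have hlS : l ∪ m ⊆ S := fun w hw T hT => hT.1 hw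
  have hxS : x ∈ S := hlS (Or.inl (Or.inl rfl))
  have hline : ∀ {y z : X}, y ∈ S → x ≠ y → ({x, y, z} : Set X) ∈ L → ({x, y, z} : Set X) ⊆ S := fun {y z} hy hxy h =>
    hsub _ h x hxS y hy hxy (Or.inl rfl) (Or.inr (Or.inl rfl))
  let mS : Set S := {w | (w : X) ∈ m}
  have hmS : mS ∈ LineSystem.restrict L S := ⟨m, hm, fun w hw => hlS (Or.inr hw), rfl⟩
  have hstep : ∀ y (hym : y ∈ m), ∃ hy : t y ∈ S,
      ((∃ k ∈ LineSystem.restrict L S, (⟨x, hxS⟩ : S) ∈ k ∧ (⟨y, hlS (Or.inr hym)⟩ : S) ∈ k ∧ (⟨t y, hy⟩ : S) ∈ k ∧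
          t y ≠ x ∧ t y ≠ y) ∨
        ((¬ ∃ k ∈ LineSystem.restrict L S, (⟨x, hxS⟩ : S) ∈ k ∧ (⟨y, hlS (Or.inr hym)⟩ : S) ∈ k) ∧ t y = y)) := by
    intro y hy
    have hxy : x ≠ y := fun e => hxm (e ▸ hy)
    rcases map_cases (L := L) x y with ⟨z, h1, h2, h3, h4, he⟩ | ⟨hno, he⟩
    · have he' : t y = z := he
      have hs := hline (hlS (Or.inr hy)) hxy h4
      refine ⟨he' ▸ hs (Or.inr (Or.inr rfl)), Or.inl ⟨_, ⟨_, h4, hs, rfl⟩, Or.inl rfl, Or.inr (Or.inl rfl), ?_, ?_, ?_⟩⟩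
      · exact Or.inr (Or.inr he')
      · rw [he']; exact h1
      · rw [he']; exact h2
    · have he' : t y = y := he
      refine ⟨he'.symm ▸ hlS (Or.inr hy), Or.inr ⟨?_, he'⟩⟩
      rintro ⟨_, ⟨k, hk, -, rfl⟩, hxk, hyk⟩
      obtain ⟨z, g1, g2, g3, g4, -⟩ := line_third hL hk hxk hyk hxy
      exact hno ⟨z, g1, g2, g3, g4⟩
  -- it is enough to find a line of the plane containing all the images
  suffices h : ∃ k ∈ LineSystem.restrict L S, ∀ y (hy : y ∈ m), (⟨t y, (hstep y hy).1⟩ : S) ∈ k by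
    obtain ⟨_, ⟨k, hk, -, rfl⟩, hin⟩ := h
    exact himg k hk fun _ ⟨y, hy, he⟩ => he ▸ hin y hy
  rcases hplane with ⟨e, he⟩ | ⟨e, he⟩
  · -- the dual affine plane
    obtain ⟨i, hi⟩ := (he mS).mp hmS
    have hxi : i ∈ (e ⟨x, hxS⟩).val := by
      by_contra h
      have : e ⟨x, hxS⟩ ∈ e '' mS := hi ▸ h
      exact hxm ((e.injective.mem_set_image).mp this)
    obtain ⟨k, hk⟩ := dual_map_facts (e ⟨x, hxS⟩) i hxi
    refine ⟨e ⁻¹' {s | k ∉ s.val}, (he _).mpr ?_, fun y hy => ?_⟩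
    · exact ⟨k, e.image_preimage _⟩
    · have hyi : i ∉ (e ⟨y, hlS (Or.inr hy)⟩).val := by
        have : e ⟨y, hlS (Or.inr hy)⟩ ∈ e '' mS := Set.mem_image_of_mem e (show (⟨y, _⟩ : S) ∈ mS from hy)
        rw [hi] at this
        exact this
      refine hk _ _ hyi ?_
      obtain ⟨hty, ⟨k', hk', hxk, hyk, htk, hne1, hne2⟩ | ⟨hno, heq⟩⟩ := hstep y hy
      · obtain ⟨j, hj⟩ := (he k').mp hk'
        have hmem : ∀ {w : S}, w ∈ k' → j ∉ (e w).val := fun {w} hw => by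
          have := Set.mem_image_of_mem e hw
          rw [hj] at this
          exact this
        exact Or.inl ⟨j, hmem hxk, hmem hyk, hmem htk, fun h => hne1 (congrArg Subtype.val (e.injective h)),
          fun h => hne2 (congrArg Subtype.val (e.injective h))⟩
      · refine Or.inr ⟨fun ⟨j, hjx, hjy⟩ => hno ⟨e ⁻¹' {s | j ∉ s.val}, (he _).mpr ⟨j, e.image_preimage _⟩, hjx, hjy⟩, ?_⟩
        exact congrArg e (Subtype.ext heq)
  · -- the affine plane of order three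
    obtain ⟨v, w, hw, hi⟩ := (he mS).mp hmS
    set p := e ⟨x, hxS⟩
    refine ⟨e ⁻¹' {q | ∃ c : ZMod 3, q = -(p + v) + c • (-w)}, (he _).mpr ⟨_, -w, neg_ne_zero.mpr hw, e.image_preimage _⟩,
      fun y hy => ?_⟩
    obtain ⟨c, hc⟩ : ∃ c : ZMod 3, e ⟨y, hlS (Or.inr hy)⟩ = v + c • w := by
      have := Set.mem_image_of_mem e (show (⟨y, hlS (Or.inr hy)⟩ : S) ∈ mS from hy)
      rw [hi] at this
      exact this
    have hxy : p ≠ e ⟨y, hlS (Or.inr hy)⟩ := fun h => by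
      have he : x = y := congrArg Subtype.val (e.injective h)
      exact hxm (he ▸ hy)
    have hadd : ∀ v' w' : Fin 2 → ZMod 3, ∀ c₁ c₂ c₃ : ZMod 3, c₁ ≠ c₂ → c₃ ≠ c₁ → c₃ ≠ c₂ →
        v' + c₃ • w' = -(v' + c₁ • w' + (v' + c₂ • w')) := by
      have : ∀ a b c₁ c₂ c₃ : ZMod 3, c₁ ≠ c₂ → c₃ ≠ c₁ → c₃ ≠ c₂ → a + c₃ * b = -(a + c₁ * b + (a + c₂ * b)) := by
        decide
      exact fun v' w' c₁ c₂ c₃ h1 h2 h3 => funext fun i => by simpa [smul_eq_mul] using this (v' i) (w' i) c₁ c₂ c₃ h1 h2 h3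
    obtain ⟨hty, ⟨k', hk', hxk, hyk, htk, hne1, hne2⟩ | ⟨hno, -⟩⟩ := hstep y hy
    · obtain ⟨v', w', -, hj⟩ := (he k').mp hk'
      have hmem : ∀ {u : S}, u ∈ k' → ∃ c : ZMod 3, e u = v' + c • w' := fun {u} hu => by
        have := Set.mem_image_of_mem e hu
        rw [hj] at this
        exact this
      obtain ⟨c₁, e1⟩ := hmem hxk
      obtain ⟨c₂, e2⟩ := hmem hyk
      obtain ⟨c₃, e3⟩ := hmem htk
      have d12 : c₁ ≠ c₂ := fun h => hxy (show e ⟨x, hxS⟩ = _ by rw [e1, e2, h])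
      have d31 : c₃ ≠ c₁ := fun h => hne1 (congrArg Subtype.val (e.injective (show e ⟨t y, hty⟩ = e ⟨x, hxS⟩ by rw [e1, e3, h])))
      have d32 : c₃ ≠ c₂ := fun h => hne2 (congrArg Subtype.val (e.injective (show e ⟨t y, hty⟩ = e ⟨y, _⟩ by rw [e2, e3, h])))
      have hres : e ⟨t y, hty⟩ = -(p + (v + c • w)) := by
        rw [← hc, show p = _ from e1, e2, e3]
        exact hadd v' w' c₁ c₂ c₃ d12 d31 d32
      refine ⟨c, hres.trans ?_⟩
      rw [smul_neg]; abel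
    · exfalso
      refine hno ⟨e ⁻¹' {q | ∃ d : ZMod 3, q = p + d • (e ⟨y, hlS (Or.inr hy)⟩ - p)},
        (he _).mpr ⟨_, _, sub_ne_zero.mpr (Ne.symm hxy), e.image_preimage _⟩, ⟨0, by simp [p]⟩, ⟨1, by simp⟩⟩

theorem map_isIso (x : X) : LineSystem.IsIso L L (map_invol hL x).toPerm := by
  intro m
  refine ⟨map_image_mem hL x, fun h => ?_⟩
  have h2 := map_image_mem hL x h
  change LineSystem.lineMap L x '' (LineSystem.lineMap L x '' m) ∈ L at h2
  rwa [← Set.image_comp, (map_invol hL x).comp_self, Set.image_id] at h2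

/-- Automorphisms carry the maps of points to those of the images. -/
theorem map_natural (x u y : X) :
    LineSystem.lineMap L x (LineSystem.lineMap L u y) =
      LineSystem.lineMap L (LineSystem.lineMap L x u) (LineSystem.lineMap L x y) := by
  set t := LineSystem.lineMap L x with ht
  have hinj : Function.Injective t := (map_invol hL x).injective
  rcases map_cases (L := L) u y with ⟨z, h1, h2, h3, h4, he⟩ | ⟨hno, he⟩
  · rw [he]
    refine (map_eq hL (hinj.ne h1) (hinj.ne h2) (hinj.ne h3) ?_).symm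
    have := map_image_mem hL x h4
    rwa [Set.image_insert_eq, Set.image_insert_eq, Set.image_singleton] at this
  · rw [he]
    rcases map_cases (L := L) (t u) (t y) with ⟨z, h1, h2, h3, h4, -⟩ | ⟨-, he'⟩
    · refine absurd ⟨t z, ?_, ?_, fun e => h3 (congrArg t e), ?_⟩ hno
      · exact fun e => h1 ((map_invol hL x z).symm.trans (congrArg t e))
      · exact fun e => h2 ((map_invol hL x z).symm.trans (congrArg t e))
      · have := map_image_mem hL x h4
        rwa [Set.image_insert_eq, Set.image_insert_eq, Set.image_singleton, ← ht, show t (t u) = u from map_invol hL x u,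
          show t (t y) = y from map_invol hL x y] at this
    · exact he'.symm

end CfsgLib.ThreeT.Fischer
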