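/-
Fischer spaces and sets of 3-transpositions.
-/
import Cfsg.Agent.Spor3T.Basic
import Cfsg.Agent.S5344

set_option autoImplicit false
set_option linter.style.haveILetI false
set_option linter.unusedSectionVars false

namespace CfsgLib.ThreeT.Fischer

open Cfsg

/-! ### Lines of a set of 3-transpositions -/

variable {G : Type*} [Group G] {D : Set G}

variable (hset : IsThreeTranspositionSet D) (hconj : ∀ g : G, ∀ d ∈ D, g * d * g⁻¹ ∈ D)

include hconj in
omit hset in
theorem third_mem (x y : D) : (y : G) * x * (y : G)⁻¹ ∈ D := hconj y x x.2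

/-- `z` is the third point of the line through `x` and `y`. -/
def IsThird (x y z : D) : Prop := ¬ Commute (x : G) y ∧ (z : G) = (y : G) * x * (y : G)⁻¹

include hset

theorem IsThird.braid' {x y z : D} (h : IsThird x y z) : (z : G) = (x : G) * y * (x : G)⁻¹ := by
  rw [h.2, inv hset x.2, inv hset y.2, braid hset x.2 y.2 h.1]

theorem IsThird.swap {x y z : D} (h : IsThird x y z) : IsThird y x z :=
  ⟨fun hc => h.1 hc.symm, h.braid' hset⟩

theorem IsThird.rot {x y z : D} (h : IsThird x y z) : IsThird x z y := by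
  have hz := h.braid' hset
  have hback : (z : G) = (x : G) * y * (x : G)⁻¹ := hz
  have hy : (y : G) = (x : G) * z * (x : G)⁻¹ := by
    rw [hback, inv hset x.2]
    calc (y : G) = ((x : G) * x) * y * ((x : G) * x) := by rw [sq hset x.2, one_mul, mul_one]
      _ = _ := by group
  have hnc : ¬ Commute (x : G) z := by
    intro hc
    apply h.1
    have h1 := (commute_conj_iff (x : G) x z).mpr hc
    rw [mul_inv_cancel_right, ← hy] at h1
    exact h1
  refine ⟨hnc, ?_⟩
  rw [hy, inv hset x.2, inv hset z.2, braid hset x.2 z.2 hnc]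

theorem IsThird.unique {x y z z' : D} (h : IsThird x y z) (h' : IsThird x y z') : z = z' :=
  Subtype.ext (h.2.trans h'.2.symm)

theorem IsThird.ne {x y z : D} (h : IsThird x y z) : x ≠ y ∧ x ≠ z ∧ y ≠ z :=
  ⟨fun e => h.1 (by rw [e]), fun e => (h.rot hset).1 (by rw [e]), fun e => ((h.swap hset).rot hset).1 (by rw [e])⟩

/-- Conjugation respects third points. -/
theorem IsThird.conj {x y z x' y' z' : D} (h : IsThird x y z) (g : G) (hx : (x' : G) = g * x * g⁻¹)
    (hy : (y' : G) = g * y * g⁻¹) (hz : (z' : G) = g * z * g⁻¹) : IsThird x' y' z' := by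
  refine ⟨fun hc => h.1 ((commute_conj_iff g _ _).mp (hx ▸ hy ▸ hc)), ?_⟩
  rw [hx, hy, hz, h.2]
  group

include hconj in
theorem exists_third {x y : D} (h : ¬ Commute (x : G) y) : ∃ z : D, IsThird x y z :=
  ⟨⟨_, hconj y x x.2⟩, h, rfl⟩

include hconj in
theorem mem_lines {l : Set D} :
    l ∈ threeTranspositionLines D ↔ ∃ x y z : D, IsThird x y z ∧ l = {x, y, z} := by
  constructor
  · rintro ⟨x, y, hxy, rfl⟩
    obtain ⟨z, hz⟩ := exists_third hset hconj hxy
    exact ⟨x, y, z, hz, by ext w; simp [Subtype.ext_iff, hz.2]⟩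
  · rintro ⟨x, y, z, h, rfl⟩
    exact ⟨x, y, h.1, by ext w; simp [Subtype.ext_iff, h.2]⟩

include hconj in
/-- Two points of a line determine it. -/
theorem line_eq {l : Set D} (hl : l ∈ threeTranspositionLines D) {x y : D} (hx : x ∈ l) (hy : y ∈ l) (hne : x ≠ y) :
    ∃ z, IsThird x y z ∧ l = {x, y, z} := by
  obtain ⟨p, q, r, h, rfl⟩ := (mem_lines hset hconj).mp hl
  have hqp := h.swap hset
  have hpr := h.rot hset
  have hrp := hpr.swap hset
  have hqr := hqp.rot hset
  have hrq := hqr.swap hset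
  rcases hx with rfl | rfl | rfl <;> rcases hy with rfl | rfl | rfl
  all_goals first
    | exact absurd rfl hne
    | exact ⟨_, h, rfl⟩
    | exact ⟨_, hqp, Set.insert_comm _ _ _⟩
    | exact ⟨_, hpr, by rw [Set.pair_comm]⟩
    | exact ⟨_, hrp, by ext w; simp only [Set.mem_insert_iff, Set.mem_singleton_iff]; tauto⟩
    | exact ⟨_, hqr, by ext w; simp only [Set.mem_insert_iff, Set.mem_singleton_iff]; tauto⟩
    | exact ⟨_, hrq, by ext w; simp only [Set.mem_insert_iff, Set.mem_singleton_iff]; tauto⟩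

include hconj in
/-- Recognition of the plane spanned by two lines. -/
theorem plane_iso {P : Type*} (M : Set (Set P)) (f : P → D) (hf : Function.Injective f) {l m : Set D}
    (hlm : l ∪ m ⊆ Set.range f)
    (hgen : ∀ T : Set D, LineSystem.IsSubspace (threeTranspositionLines D) T → l ∪ m ⊆ T → Set.range f ⊆ T)
    (hline : ∀ k ∈ M, ∀ i ∈ k, ∀ j ∈ k, i ≠ j → ∃ r, IsThird (f i) (f j) (f r) ∧ k = {i, j, r})
    (hne : ∀ k ∈ M, ∃ i ∈ k, ∃ j ∈ k, i ≠ j)
    (hpair : ∀ i j, ¬ Commute (f i : G) (f j) → ∃ k ∈ M, i ∈ k ∧ j ∈ k) :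
    LineSystem.Isomorphic (LineSystem.restrict (threeTranspositionLines D)
      (LineSystem.span (threeTranspositionLines D) (l ∪ m))) M := by
  set L := threeTranspositionLines D with hL
  have hij : ∀ {i j : P}, ¬ Commute (f i : G) (f j) → i ≠ j := fun h e => h (by rw [e])
  have hclosed : ∀ i j, ∀ z, IsThird (f i) (f j) z → ∃ k ∈ M, ∃ r, k = {i, j, r} ∧ f r = z := by
    intro i j z hz
    obtain ⟨k, hk, hik, hjk⟩ := hpair i j hz.1
    obtain ⟨r, hr, hkr⟩ := hline k hk i hik j hjk (hij hz.1)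
    exact ⟨k, hk, r, hkr, hr.unique hset hz⟩
  have hsub : LineSystem.IsSubspace L (Set.range f) := by
    rintro k hk _ ⟨i, rfl⟩ _ ⟨j, rfl⟩ hne' hxk hyk
    obtain ⟨z, hz, rfl⟩ := line_eq hset hconj hk hxk hyk hne'
    obtain ⟨k', -, r, -, hr⟩ := hclosed i j z hz
    rintro w (rfl | rfl | rfl)
    exacts [⟨i, rfl⟩, ⟨j, rfl⟩, ⟨r, hr⟩]
  have hspan : LineSystem.span L (l ∪ m) = Set.range f := by
    refine Set.Subset.antisymm (Set.sInter_subset_of_mem ⟨hlm, hsub⟩) ?_
    exact Set.subset_sInter fun T hT => hgen T hT.2 hT.1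
  rw [hspan]
  refine ⟨(Equiv.ofInjective f hf).symm, fun l' => ?_⟩
  have himg : (Equiv.ofInjective f hf).symm '' l' = {i | Equiv.ofInjective f hf i ∈ l'} := by
    ext i
    exact ⟨fun ⟨w, hw, he⟩ => he ▸ (show Equiv.ofInjective f hf _ ∈ l' by rwa [Equiv.apply_symm_apply]),
      fun hi => ⟨_, hi, Equiv.symm_apply_apply _ i⟩⟩
  rw [himg]
  constructor
  · rintro ⟨k, hk, hkr, rfl⟩
    obtain ⟨x, y, z, hxyz, rfl⟩ := (mem_lines hset hconj).mp hk
    obtain ⟨i, rfl⟩ := hkr (Set.mem_insert x _)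
    obtain ⟨j, rfl⟩ := hkr (Set.mem_insert_of_mem _ (Set.mem_insert y _))
    obtain ⟨k', hk', r, rfl, rfl⟩ := hclosed i j z hxyz
    convert hk' using 1
    ext w
    show (f w = f i ∨ f w = f j ∨ f w = f r) ↔ (w = i ∨ w = j ∨ w = r)
    rw [hf.eq_iff, hf.eq_iff, hf.eq_iff]
  · intro hk
    obtain ⟨i, hi, j, hj, hne'⟩ := hne _ hk
    obtain ⟨r, hr, hkr⟩ := hline _ hk i hi j hj hne'
    refine ⟨{f i, f j, f r}, (mem_lines hset hconj).mpr ⟨_, _, _, hr, rfl⟩, ?_, ?_⟩
    · rintro w (rfl | rfl | rfl) <;> exact ⟨_, rfl⟩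
    · ext ⟨w, q, rfl⟩
      have h := Set.ext_iff.mp hkr q
      show (⟨f q, _⟩ : Set.range f) ∈ l' ↔ (f q = f i ∨ f q = f j ∨ f q = f r)
      rw [hf.eq_iff, hf.eq_iff, hf.eq_iff]
      exact h

/-- The transposition attached to a point of the dual affine plane. -/
def swapOf (s : DualAffinePoint) : Equiv.Perm (Fin 4) :=
  if h : s.val.Nonempty then Equiv.swap (s.val.min' h) (s.val.max' h) else 1

omit hset in
theorem swapOf_facts :
    (∀ i : Fin 4, ∀ s u : DualAffinePoint, i ∉ s.val → i ∉ u.val → s ≠ u →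
      ¬ (swapOf s * swapOf u = swapOf u * swapOf s) ∧
        ∃ w : DualAffinePoint, i ∉ w.val ∧ w ≠ s ∧ w ≠ u ∧ swapOf w = swapOf u * swapOf s * (swapOf u)⁻¹ ∧
          ∀ v : DualAffinePoint, i ∉ v.val → v = s ∨ v = u ∨ v = w) ∧
    (∀ s u : DualAffinePoint, ¬ (swapOf s * swapOf u = swapOf u * swapOf s) → ∃ i : Fin 4, i ∉ s.val ∧ i ∉ u.val) ∧
    (∀ i : Fin 4, ∃ s u : DualAffinePoint, i ∉ s.val ∧ i ∉ u.val ∧ s ≠ u) ∧
    (∀ s : DualAffinePoint, ∃ g : Equiv.Perm (Fin 4), swapOf s = g * Equiv.swap 0 1 * g⁻¹) ∧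
    (∀ s u : DualAffinePoint, swapOf s = swapOf u → s = u) := by
  refine ⟨?_, ?_, ?_, ?_, ?_⟩ <;> decide +kernel

include hconj in
/-- A commuting pair on two lines through a point gives the dual affine plane. -/
theorem plane_dual {p a b a' b' : D} (ha : IsThird p a a') (hb : IsThird p b b') (hab : Commute (a : G) b)
    (hne : a ≠ b) :
    LineSystem.Isomorphic (LineSystem.restrict (threeTranspositionLines D)
      (LineSystem.span (threeTranspositionLines D) ({p, a, a'} ∪ {p, b, b'}))) dualAffinePlaneTwo := by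
  obtain ⟨φ, hφ, h01, h12, h23⟩ := Cfsg.Agent.S5344.result hset a.2 p.2 b.2
    (fun e => hne (Subtype.ext e)) hab (fun h => ha.1 h.symm) hb.1
  obtain ⟨F1, F2, F3, F4, F5⟩ := swapOf_facts
  have hmem : ∀ s, φ (swapOf s) ∈ D := fun s => by
    obtain ⟨g, hg⟩ := F4 s
    rw [hg, map_mul, map_mul, map_inv, h01]
    exact hconj _ _ a.2
  let f : DualAffinePoint → D := fun s => ⟨φ (swapOf s), hmem s⟩
  have hf : Function.Injective f := fun s u h => F5 s u (hφ (congrArg Subtype.val h))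
  have hcomm : ∀ s u, Commute (f s : G) (f u) ↔ swapOf s * swapOf u = swapOf u * swapOf s := fun s u => by
    show φ (swapOf s) * φ (swapOf u) = φ (swapOf u) * φ (swapOf s) ↔ _
    rw [← map_mul, ← map_mul, hφ.eq_iff]
  have hline : ∀ k ∈ dualAffinePlaneTwo, ∀ i ∈ k, ∀ j ∈ k, i ≠ j → ∃ r, IsThird (f i) (f j) (f r) ∧ k = {i, j, r} := by
    rintro _ ⟨c, rfl⟩ s hs u hu hsu
    obtain ⟨hnc, w, hw, -, -, hwe, hall⟩ := F1 c s u hs hu hsu
    refine ⟨w, ⟨fun h => hnc ((hcomm s u).mp h), ?_⟩, ?_⟩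
    · show φ (swapOf w) = φ (swapOf u) * φ (swapOf s) * (φ (swapOf u))⁻¹
      rw [hwe, map_mul, map_mul, map_inv]
    · ext v
      refine ⟨fun hv => hall v hv, ?_⟩
      rintro (rfl | rfl | rfl) <;> assumption
  let P : Fin 4 → Fin 4 → DualAffinePoint := fun i j =>
    if h : i ≠ j then ⟨{i, j}, Finset.card_pair h⟩ else ⟨{0, 1}, rfl⟩
  have ea : f (P 0 1) = a := Subtype.ext (by
    show φ (swapOf _) = _; rw [show swapOf (P 0 1) = Equiv.swap 0 1 by decide +kernel, h01])
  have ep : f (P 1 2) = p := Subtype.ext (by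
    show φ (swapOf _) = _; rw [show swapOf (P 1 2) = Equiv.swap 1 2 by decide +kernel, h12])
  have eb : f (P 2 3) = b := Subtype.ext (by
    show φ (swapOf _) = _; rw [show swapOf (P 2 3) = Equiv.swap 2 3 by decide +kernel, h23])
  have ea' : f (P 0 2) = a' := Subtype.ext (by
    show φ (swapOf _) = _
    rw [show swapOf (P 0 2) = Equiv.swap 0 1 * Equiv.swap 1 2 * (Equiv.swap 0 1)⁻¹ by decide +kernel,
      map_mul, map_mul, map_inv, h01, h12, ha.2])
  have eb' : f (P 1 3) = b' := Subtype.ext (by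
    show φ (swapOf _) = _
    rw [show swapOf (P 1 3) = Equiv.swap 2 3 * Equiv.swap 1 2 * (Equiv.swap 2 3)⁻¹ by decide +kernel,
      map_mul, map_mul, map_inv, h23, h12, hb.2])
  refine plane_iso hset hconj dualAffinePlaneTwo f hf ?_ ?_ hline ?_ ?_
  · rintro z ((rfl | rfl | rfl) | (rfl | rfl | rfl))
    exacts [⟨_, ep⟩, ⟨_, ea⟩, ⟨_, ea'⟩, ⟨_, ep⟩, ⟨_, eb⟩, ⟨_, eb'⟩]
  · rintro T hT hsub _ ⟨s, rfl⟩
    have hA : f (P 0 1) ∈ T := ea ▸ hsub (Or.inl (Or.inr (Or.inl rfl)))
    have hP : f (P 1 2) ∈ T := ep ▸ hsub (Or.inl (Or.inl rfl))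
    have hB : f (P 2 3) ∈ T := eb ▸ hsub (Or.inr (Or.inr (Or.inl rfl)))
    have hA' : f (P 0 2) ∈ T := ea' ▸ hsub (Or.inl (Or.inr (Or.inr rfl)))
    have hB' : f (P 1 3) ∈ T := eb' ▸ hsub (Or.inr (Or.inr (Or.inr rfl)))
    obtain ⟨r, hr, hk⟩ := hline {v | (1 : Fin 4) ∉ v.val} ⟨1, rfl⟩ (P 0 2) (show (1 : Fin 4) ∉ (P 0 2).val by decide)
      (P 2 3) (show (1 : Fin 4) ∉ (P 2 3).val by decide) (by decide)
    have hW : f (P 0 3) ∈ T := by
      have h03 : P 0 3 ∈ {v : DualAffinePoint | (1 : Fin 4) ∉ v.val} := show (1 : Fin 4) ∉ (P 0 3).val by decide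
      rw [hk] at h03
      rcases h03 with h | h | h
      · exact absurd h (by decide)
      · exact absurd h (by decide)
      · exact hT _ ((mem_lines hset hconj).mpr ⟨_, _, _, hr, rfl⟩) _ hA' _ hB (hr.ne hset).1
          (Set.mem_insert _ _) (Set.mem_insert_of_mem _ (Set.mem_insert _ _))
          (h ▸ Set.mem_insert_of_mem _ (Set.mem_insert_of_mem _ rfl))
    have hsix : ∀ s : DualAffinePoint, s = P 0 1 ∨ s = P 1 2 ∨ s = P 2 3 ∨ s = P 0 2 ∨ s = P 1 3 ∨ s = P 0 3 := by
      decide +kernel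
    rcases hsix s with rfl | rfl | rfl | rfl | rfl | rfl <;> assumption
  · rintro _ ⟨c, rfl⟩
    obtain ⟨s, u, hs, hu, hsu⟩ := F3 c
    exact ⟨s, hs, u, hu, hsu⟩
  · intro s u h
    obtain ⟨c, hs, hu⟩ := F2 s u fun e => h ((hcomm s u).mpr e)
    exact ⟨_, ⟨c, rfl⟩, hs, hu⟩

include hconj in
set_option maxHeartbeats 2000000 in
/-- Two lines through a point with no commuting pair give the affine plane of order three. -/
theorem plane_affine {p a b a' b' : D} (ha : IsThird p a a') (hb : IsThird p b b')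
    (h1 : ¬ Commute (a : G) b) (h2 : ¬ Commute (a : G) b') (h3 : ¬ Commute (a' : G) b) (h4 : ¬ Commute (a' : G) b') :
    LineSystem.Isomorphic (LineSystem.restrict (threeTranspositionLines D)
      (LineSystem.span (threeTranspositionLines D) ({p, a, a'} ∪ {p, b, b'}))) affinePlaneThree := by
  obtain ⟨c, hc⟩ := exists_third hset hconj h1
  obtain ⟨e, he⟩ := exists_third hset hconj h2
  obtain ⟨d, hd⟩ := exists_third hset hconj h3
  obtain ⟨f₁, hf₁⟩ := exists_third hset hconj h4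
  have r := fun {x y z : D} (h : IsThird x y z) => h.rot hset
  have w := fun {x y z : D} (h : IsThird x y z) => h.swap hset
  -- a member carries third points to third points
  have dist : ∀ {g x x' y y' z z' : D}, IsThird g x x' → IsThird g y y' → IsThird x y z → IsThird x' y' z' →
      (z' : G) = g * z * (g : G)⁻¹ := by
    intro g x x' y y' z z' hx hy h h'
    rw [h'.2, h.2, hx.braid' hset, hy.braid' hset]
    group
  have nc : ∀ {g x x' y y' : D}, IsThird g x x' → IsThird g y y' → ¬ Commute (x' : G) y' → ¬ Commute (x : G) y := by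
    intro g x x' y y' hx hy h hc'
    apply h
    rw [hx.braid' hset, hy.braid' hset]
    exact (commute_conj_iff _ _ _).mpr hc'
  have mk : ∀ {g x z : D}, ¬ Commute (g : G) x → (z : G) = g * x * (g : G)⁻¹ → IsThird g x z := by
    intro g x z h hz
    exact ⟨h, by rw [hz, inv hset g.2, inv hset x.2, braid hset g.2 x.2 h]⟩
  have hpc : IsThird p c f₁ := mk (nc (g := a) (w ha) (r hc) h3) (dist ha hb hc hf₁)
  have hpd : IsThird p d e := mk (nc (g := a') (w (r ha)) (r hd) h1) (dist (r ha) hb hd he)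
  have hafd : IsThird a f₁ d := mk (nc (g := a') (r (w (r ha))) (r hf₁) (r hb).1)
    (dist (r (w ha)) he hf₁ (r hpd))
  have ha'ce : IsThird a' c e := mk (nc (g := a) (r (w ha)) (r hc) hb.1)
    (dist (r (w (r ha))) hd hc hpd)
  have hbfe : IsThird b f₁ e := mk (nc (g := b') (r (w (r hb))) (r (w hf₁)) (r ha).1)
    (dist (w hd) (r (w hb)) hf₁ (w hpd))
  have hb'cd : IsThird b' c d := mk (nc (g := b) (r (w hb)) (r (w hc)) ha.1)
    (dist (w he) (r (w (r hb))) hc (w (r hpd)))
  -- coordinates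
  let g : Fin 3 → Fin 3 → D := ![![p, b, b'], ![a, f₁, d], ![a', e, c]]
  have htab : ∀ i j k l : Fin 3, ¬ (i = k ∧ j = l) → IsThird (g i j) (g k l) (g (-(i + k)) (-(j + l))) := by
    have := ha
    have := w ha
    have := r ha
    have := w (r ha)
    have := r (w ha)
    have := w (r (w ha))
    have := hb
    have := w hb
    have := r hb
    have := w (r hb)
    have := r (w hb)
    have := w (r (w hb))
    have := hpc
    have := w hpc
    have := r hpc
    have := w (r hpc)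
    have := r (w hpc)
    have := w (r (w hpc))
    have := hpd
    have := w hpd
    have := r hpd
    have := w (r hpd)
    have := r (w hpd)
    have := w (r (w hpd))
    have := hc
    have := w hc
    have := r hc
    have := w (r hc)
    have := r (w hc)
    have := w (r (w hc))
    have := hf₁
    have := w hf₁
    have := r hf₁
    have := w (r hf₁)
    have := r (w hf₁)
    have := w (r (w hf₁))
    have := hd
    have := w hd
    have := r hd
    have := w (r hd)
    have := r (w hd)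
    have := w (r (w hd))
    have := he
    have := w he
    have := r he
    have := w (r he)
    have := r (w he)
    have := w (r (w he))
    have := hafd
    have := w hafd
    have := r hafd
    have := w (r hafd)
    have := r (w hafd)
    have := w (r (w hafd))
    have := ha'ce
    have := w ha'ce
    have := r ha'ce
    have := w (r ha'ce)
    have := r (w ha'ce)
    have := w (r (w ha'ce))
    have := hbfe
    have := w hbfe
    have := r hbfe
    have := w (r hbfe)
    have := r (w hbfe)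
    have := w (r (w hbfe))
    have := hb'cd
    have := w hb'cd
    have := r hb'cd
    have := w (r hb'cd)
    have := r (w hb'cd)
    have := w (r (w hb'cd))
    intro i j k l hne
    fin_cases i <;> fin_cases j <;> fin_cases k <;> fin_cases l
    all_goals first
      | exact absurd ⟨rfl, rfl⟩ hne
      | (simp [g] <;> assumption)
  let f : (Fin 2 → ZMod 3) → D := fun v => g (v 0) (v 1)
  have hthird : ∀ u v : Fin 2 → ZMod 3, u ≠ v → IsThird (f u) (f v) (f (-(u + v))) := fun u v huv =>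
    htab (u 0) (u 1) (v 0) (v 1) fun h => huv (funext fun i => by fin_cases i; exacts [h.1, h.2])
  have hf : Function.Injective f := fun u v h => by_contra fun huv => (hthird u v huv).1 (by rw [h])
  have hmid : ∀ c₁ c₂ : ZMod 3, c₁ ≠ c₂ →
      (∀ c : ZMod 3, c = c₁ ∨ c = c₂ ∨ c = -(c₁ + c₂)) ∧ ∀ v0 w0 : ZMod 3, -(v0 + c₁ * w0 + (v0 + c₂ * w0)) = v0 + -(c₁ + c₂) * w0 := by
    decide
  refine plane_iso hset hconj affinePlaneThree f hf ?_ ?_ ?_ ?_ ?_
  · rintro z ((rfl | rfl | rfl) | (rfl | rfl | rfl))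
    exacts [⟨![0, 0], rfl⟩, ⟨![1, 0], rfl⟩, ⟨![2, 0], rfl⟩, ⟨![0, 0], rfl⟩, ⟨![0, 1], rfl⟩, ⟨![0, 2], rfl⟩]
  · rintro T hT hsub _ ⟨v, rfl⟩
    have step : ∀ {x y z : D}, IsThird x y z → x ∈ T → y ∈ T → z ∈ T := fun {x y z} h hx hy =>
      hT _ ((mem_lines hset hconj).mpr ⟨x, y, z, h, rfl⟩) x hx y hy (h.ne hset).1 (Set.mem_insert _ _)
        (Set.mem_insert_of_mem _ (Set.mem_insert _ _)) (Set.mem_insert_of_mem _ (Set.mem_insert_of_mem _ rfl))
    have mp : p ∈ T := hsub (Or.inl (Or.inl rfl))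
    have ma : a ∈ T := hsub (Or.inl (Or.inr (Or.inl rfl)))
    have ma' : a' ∈ T := hsub (Or.inl (Or.inr (Or.inr rfl)))
    have mb : b ∈ T := hsub (Or.inr (Or.inr (Or.inl rfl)))
    have mb' : b' ∈ T := hsub (Or.inr (Or.inr (Or.inr rfl)))
    have mc := step hc ma mb
    have me := step he ma mb'
    have md := step hd ma' mb
    have mf := step hf₁ ma' mb'
    have hall : ∀ i j : Fin 3, g i j ∈ T := fun i j => by fin_cases i <;> fin_cases j <;> assumption
    exact hall _ _
  · rintro _ ⟨v, w, hw, rfl⟩ i ⟨c₁, rfl⟩ j ⟨c₂, rfl⟩ hne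
    have hcc : c₁ ≠ c₂ := fun e => hne (by rw [e])
    obtain ⟨hall, hmid'⟩ := hmid c₁ c₂ hcc
    have hr : -(v + c₁ • w + (v + c₂ • w)) = v + (-(c₁ + c₂)) • w := funext fun k => by
      simpa [smul_eq_mul] using hmid' (v k) (w k)
    refine ⟨_, hthird _ _ hne, ?_⟩
    rw [hr]
    ext x
    refine ⟨fun ⟨c, hc⟩ => ?_, ?_⟩
    · rcases hall c with rfl | rfl | rfl
      exacts [Or.inl hc, Or.inr (Or.inl hc), Or.inr (Or.inr hc)]
    · rintro (rfl | rfl | rfl) <;> exact ⟨_, rfl⟩
  · rintro _ ⟨v, w, hw, rfl⟩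
    exact ⟨v + (0 : ZMod 3) • w, ⟨0, rfl⟩, v + (1 : ZMod 3) • w, ⟨1, rfl⟩, fun e => hw (by simpa using e.symm)⟩
  · intro u v h
    have huv : u ≠ v := fun e => h (by rw [e])
    exact ⟨_, ⟨u, v - u, sub_ne_zero.mpr (Ne.symm huv), rfl⟩, ⟨0, by simp⟩, ⟨1, by simp⟩⟩

include hconj in
/-- The lines of a set of 3-transpositions form a Fischer space. -/
theorem isFischerSpace : IsFischerSpace (threeTranspositionLines D) := by
  refine ⟨?_, ?_, ?_⟩
  · intro l hl m hm x y hxy hxl hyl hxm hym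
    obtain ⟨z, hz, rfl⟩ := line_eq hset hconj hl hxl hyl hxy
    obtain ⟨z', hz', rfl⟩ := line_eq hset hconj hm hxm hym hxy
    rw [hz.unique hset hz']
  · intro l hl
    obtain ⟨x, y, z, h, rfl⟩ := (mem_lines hset hconj).mp hl
    obtain ⟨h1, h2, h3⟩ := h.ne hset
    exact Set.ncard_eq_three.mpr ⟨x, y, z, h1, h2, h3, rfl⟩
  · intro l hl m hm hlm hmeet
    obtain ⟨p, hpl, hpm⟩ := hmeet
    have hother : ∀ k ∈ threeTranspositionLines D, p ∈ k → ∃ a a', IsThird p a a' ∧ k = {p, a, a'} := by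
      intro k hk hpk
      obtain ⟨x, y, z, h, rfl⟩ := (mem_lines hset hconj).mp hk
      obtain ⟨hxy, hxz, -⟩ := h.ne hset
      by_cases hpx : p = x
      · exact ⟨y, z, hpx ▸ h, hpx ▸ rfl⟩
      · obtain ⟨a', ha', he⟩ := line_eq hset hconj hk hpk (Set.mem_insert x _) hpx
        exact ⟨x, a', ha', he⟩
    obtain ⟨a, a', ha, rfl⟩ := hother l hl hpl
    obtain ⟨b, b', hb, rfl⟩ := hother m hm hpm
    have swp : ∀ x y : D, ({p, x, y} : Set D) = {p, y, x} := fun x y => by rw [Set.pair_comm x y]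
    have hdist : ∀ {x x' y y'}, IsThird p x x' → IsThird p y y' → ({p, x, x'} : Set D) ≠ {p, y, y'} → x ≠ y := by
      intro x x' y y' hx hy hne e
      subst e
      exact hne (by rw [hx.unique hset hy])
    by_cases h1 : Commute (a : G) b
    · exact Or.inl (plane_dual hset hconj ha hb h1 (hdist ha hb hlm))
    by_cases h2 : Commute (a : G) b'
    · rw [swp b b'] at hlm ⊢
      exact Or.inl (plane_dual hset hconj ha (hb.rot hset) h2 (hdist ha (hb.rot hset) hlm))
    by_cases h3 : Commute (a' : G) b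
    · rw [swp a a'] at hlm ⊢
      exact Or.inl (plane_dual hset hconj (ha.rot hset) hb h3 (hdist (ha.rot hset) hb hlm))
    by_cases h4 : Commute (a' : G) b'
    · rw [swp a a', swp b b'] at hlm ⊢
      exact Or.inl (plane_dual hset hconj (ha.rot hset) (hb.rot hset) h4 (hdist (ha.rot hset) (hb.rot hset) hlm))
    exact Or.inr (plane_affine hset hconj ha hb h1 h2 h3 h4)

end CfsgLib.ThreeT.Fischer
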