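import Cfsg.Agent.Spor3T.Level

/-!
A bijection of the transpositions keeping commutation gives an isomorphism of the groups, as soon as
lines are determined by their common neighbours.
-/

set_option autoImplicit false
set_option linter.unusedSectionVars false

namespace CfsgLib.ThreeT

open CfsgLib.ThreeT.Prod

/-- From a conjugation-preserving bijection of generating classes to an isomorphism. -/
theorem exists_iso_of_conj_bij {G₁ G₂ : Type*} [Group G₁] [Group G₂] {D₁ : Set G₁} {D₂ : Set G₂}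
    (hT₁ : TT0 D₁) (hT₂ : TT0 D₂) (hgen₁ : Subgroup.closure D₁ = ⊤) (hgen₂ : Subgroup.closure D₂ = ⊤)
    (hZ₁ : Subgroup.center G₁ = ⊥) (hZ₂ : Subgroup.center G₂ = ⊥) (φ : G₁ → G₂) (hφ : Set.BijOn φ D₁ D₂)
    (hconj : ∀ x ∈ D₁, ∀ y ∈ D₁, φ (x * y * x) = φ x * φ y * φ x) :
    ∃ e : G₁ ≃* G₂, e '' D₁ = D₂ := by
  let R : Subgroup (G₁ × G₂) :=
    { carrier := {p | ∀ y ∈ D₁, φ (p.1 * y * p.1⁻¹) = p.2 * φ y * p.2⁻¹}
      one_mem' := fun y _ => by simp
      mul_mem' := fun {p q} hp hq y hy => by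
        show φ (p.1 * q.1 * y * (p.1 * q.1)⁻¹) = p.2 * q.2 * φ y * (p.2 * q.2)⁻¹
        rw [show p.1 * q.1 * y * (p.1 * q.1)⁻¹ = p.1 * (q.1 * y * q.1⁻¹) * p.1⁻¹ by group,
          hp _ (hT₁.conj _ y hy), hq y hy]
        group
      inv_mem' := fun {p} hp y hy => by
        have := hp (p.1⁻¹ * y * p.1⁻¹⁻¹) (hT₁.conj _ y hy)
        rw [show p.1 * (p.1⁻¹ * y * p.1⁻¹⁻¹) * p.1⁻¹ = y by group] at this
        show φ (p.1⁻¹ * y * p.1⁻¹⁻¹) = p.2⁻¹ * φ y * p.2⁻¹⁻¹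
        rw [this]; group }
  have hmem : ∀ x ∈ D₁, (x, φ x) ∈ R := fun x hx y hy => by
    show φ (x * y * x⁻¹) = φ x * φ y * (φ x)⁻¹
    rw [hT₁.inv hx, hT₂.inv (hφ.mapsTo hx)]
    exact hconj x hx y hy
  let π₁ : ↥R →* G₁ := (MonoidHom.fst G₁ G₂).comp R.subtype
  let π₂ : ↥R →* G₂ := (MonoidHom.snd G₁ G₂).comp R.subtype
  have hs1 : Function.Surjective π₁ := by
    rw [← MonoidHom.range_eq_top, eq_top_iff, ← hgen₁, Subgroup.closure_le]
    exact fun x hx => ⟨⟨_, hmem x hx⟩, rfl⟩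
  have hs2 : Function.Surjective π₂ := by
    rw [← MonoidHom.range_eq_top, eq_top_iff, ← hgen₂, Subgroup.closure_le]
    intro x hx
    obtain ⟨a, ha, rfl⟩ := hφ.surjOn hx
    exact ⟨⟨_, hmem a ha⟩, rfl⟩
  have hi1 : Function.Injective π₁ := by
    rw [injective_iff_map_eq_one]
    intro p hp
    have h1 : (p : G₁ × G₂).1 = 1 := hp
    refine Subtype.ext (Prod.ext h1 ?_)
    show (p : G₁ × G₂).2 = 1
    rw [← Subgroup.mem_bot, ← hZ₂, Subgroup.mem_center_iff]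
    intro g
    refine (commute_of_closure (S := D₂) (fun x hx => ?_) g (hgen₂ ▸ Subgroup.mem_top g)).eq
    obtain ⟨a, ha, rfl⟩ := hφ.surjOn hx
    have h2 := p.2 a ha
    rw [h1] at h2
    simp only [one_mul, inv_one, mul_one] at h2
    exact (mul_inv_eq_iff_eq_mul.1 h2.symm).symm
  have hi2 : Function.Injective π₂ := by
    rw [injective_iff_map_eq_one]
    intro p hp
    have h1 : (p : G₁ × G₂).2 = 1 := hp
    refine Subtype.ext (Prod.ext ?_ h1)
    show (p : G₁ × G₂).1 = 1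
    rw [← Subgroup.mem_bot, ← hZ₁, Subgroup.mem_center_iff]
    intro g
    refine (commute_of_closure (S := D₁) (fun a ha => ?_) g (hgen₁ ▸ Subgroup.mem_top g)).eq
    have h2 := p.2 a ha
    rw [h1] at h2
    simp only [one_mul, inv_one, mul_one] at h2
    exact (mul_inv_eq_iff_eq_mul.1 (hφ.injOn (hT₁.conj _ a ha) ha h2)).symm
  let e := (MulEquiv.ofBijective π₁ ⟨hi1, hs1⟩).symm.trans (MulEquiv.ofBijective π₂ ⟨hi2, hs2⟩)
  refine ⟨e, ?_⟩
  have hval : ∀ x ∈ D₁, e x = φ x := fun x hx => by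
    show π₂ ((MulEquiv.ofBijective π₁ ⟨hi1, hs1⟩).symm x) = φ x
    rw [show (MulEquiv.ofBijective π₁ ⟨hi1, hs1⟩).symm x = ⟨_, hmem x hx⟩ from
      (MulEquiv.ofBijective π₁ ⟨hi1, hs1⟩).symm_apply_eq.2 rfl]
    rfl
  rw [Set.image_congr hval, hφ.image_eq]

/-- Lines are kept by an isomorphism of commuting graphs. -/
theorem line_bij {G₁ G₂ : Type*} [Group G₁] [Finite G₁] [Group G₂] [Finite G₂] {D₁ : Set G₁} {D₂ : Set G₂}
    {n k l m r w c : ℕ} (h₁ : Level.Pre D₁ n k l m r) (h₂ : Level.Pre D₂ n k l m r)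
    (hA : Level.Arith n k l m r w c) (φ : G₁ → G₂) (hφ : Set.BijOn φ D₁ D₂)
    (hcomm : ∀ x ∈ D₁, ∀ y ∈ D₁, (Commute (φ x) (φ y) ↔ Commute x y)) :
    ∀ x ∈ D₁, ∀ y ∈ D₁, φ (x * y * x) = φ x * φ y * φ x := by
  intro x hx y hy
  have hT := h₁.tt
  by_cases hxy : Commute x y
  · have h1 := (hcomm x hx y hy).2 hxy
    rw [hxy.eq, mul_assoc, hT.sq x hx, mul_one, h1.eq, mul_assoc, h₂.tt.sq _ (hφ.mapsTo hx), mul_one]
  set z := x * y * x with hzdef
  have hz : z ∈ D₁ := by have := hT.conj x y hy; rwa [hT.inv hx] at this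
  have hxz : ¬ Commute x z := fun q => hxy (by
    refine (commute_conj_iff x x y).1 ?_
    rw [show x * x * x⁻¹ = x by group, hT.inv hx]
    exact q)
  have hall : ∀ v ∈ tri D₂ (φ x) (φ y), Commute v (φ z) := by
    intro v hv
    obtain ⟨u, hu, rfl⟩ := hφ.surjOn hv.1.1
    have hux : Commute u x := ((hcomm x hx u hu).1 hv.1.2.2).symm
    exact (hcomm u hu z hz).2 ((hux.mul_right ((hcomm u hu y hy).1 hv.2)).mul_right hux)
  have hne : z ≠ y := fun q => hxy (by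
    have h2 : x * (x * y * x) = x * y := congrArg (x * ·) q
    rw [mul_assoc x y x, cancel2 hT hx] at h2
    exact h2.symm)
  rcases Level.line_eq h₂ hA (hφ.mapsTo hx) (hφ.mapsTo hy) (hφ.mapsTo hz)
    (fun q => hxy ((hcomm x hx y hy).1 q)) (fun q => hxz ((hcomm x hx z hz).1 q)) hall with q | q
  · exact absurd (hφ.injOn hz hy q) hne
  · exact q

end CfsgLib.ThreeT
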