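import Cfsg.Agent.Spor3T.M22Order
import Cfsg.Agent.Comp.Basic

/-!
Type M(22): the group is simple and each centraliser of a transposition is quasisimple. Otherwise
two hexads through one triangle of a plane would give three factorisations of a triple product.
-/

set_option autoImplicit false
set_option linter.unusedSectionVars false
set_option linter.style.haveILetI false

namespace CfsgLib.ThreeT.Prod

theorem charP_two {F : Type} [Field F] [Fintype F] (hF : Fintype.card F = 4) : CharP F 2 := by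
  obtain ⟨p, hp⟩ := CharP.exists F
  haveI := hp
  obtain ⟨n, hprime, hn⟩ := FiniteField.card F p
  rw [hF] at hn
  have h2 : p ∣ 2 ^ 2 := ⟨p ^ ((n : ℕ) - 1), by
    rw [← pow_succ', Nat.sub_add_cancel (show 1 ≤ (n : ℕ) from n.2)]; exact hn⟩
  rwa [(Nat.prime_dvd_prime_iff_eq hprime Nat.prime_two).1 (hprime.dvd_of_dvd_pow h2)] at hp

variable {G : Type*} [Group G] [Finite G] {D : Set G} (h : Geo22 D)

include h

/-- In the unitary quotient the neighbours become the transvections. -/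
theorem model_image {d : G} (hd : d ∈ D) {F : Type} [Field F] [Fintype F] [CharP F 2]
    (hF : Fintype.card F = 4)
    (e : ↥(hsub D d) ⧸ Subgroup.center ↥(hsub D d) ≃* Cfsg.PSU 6 F 2) :
    (e.toMonoidHom.comp (QuotientGroup.mk' (Subgroup.center ↥(hsub D d)))) '' {x | (x : G) ∈ nb D d} =
      SixTwo.tvSet (F := F) (by rw [Nat.card_eq_fintype_card, hF]; rfl) := by
  set E := (e.toMonoidHom.comp (QuotientGroup.mk' (Subgroup.center ↥(hsub D d)))) '' {x | (x : G) ∈ nb D d}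
  have hI := img_tt0 (d := d) h.tt
  have hmem : ∀ {x : Cfsg.PSU 6 F 2}, x ∈ E → e.symm x ∈ img D d := by
    rintro _ ⟨y, hy, rfl⟩
    exact ⟨y, hy, (e.symm_apply_apply _).symm⟩
  have hE : TT0 E := by
    refine ⟨fun a ha => e.symm.injective ?_, fun a ha a' ha' => ?_, fun g a ha => ?_⟩
    · rw [map_mul, map_one]; exact hI.sq _ (hmem ha)
    · rcases hI.pair _ (hmem ha) _ (hmem ha') with h | h
      · exact Or.inl (e.symm.injective (by rwa [map_pow, map_mul, map_one]))
      · exact Or.inr (e.symm.injective (by rwa [map_pow, map_mul, map_one]))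
    · obtain ⟨y, hy, hye⟩ := hI.conj (e.symm g) _ (hmem ha)
      refine ⟨y, hy, e.symm.injective ?_⟩
      show e.symm (e (y : ↥(hsub D d) ⧸ Subgroup.center ↥(hsub D d))) = _
      rw [map_mul, map_mul, map_inv, e.symm_apply_apply, hye]
  have h1E : (1 : Cfsg.PSU 6 F 2) ∉ E := fun ⟨x, hx, hx1⟩ =>
    not_central h.tt h.conjD h.twinFree hd (h.ne_one d hd) hx (h.ne_one _ hx.1) fun z hz =>
      central_of_mk_eq_one (e.injective (hx1.trans e.map_one.symm)) hz
  obtain ⟨b, hb⟩ : (nb D d).Nonempty :=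
    Set.nonempty_of_ncard_ne_zero (by rw [(h.loc d hd).card_nb]; norm_num)
  exact SixTwo.class_eq _ hE h1E ⟨_, ⟨b, Subgroup.subset_closure hb⟩, hb, rfl⟩

theorem triple_prod_inv {l : List G} (hl : Triple D l) : l.prod⁻¹ = l.prod := by
  obtain ⟨a, b, c, rfl⟩ := List.length_eq_three.1 hl.2.1
  have hm := hl.2.2.1
  have hc := hl.2.2.2
  simp only [List.prod_cons, List.prod_nil, mul_one, mul_inv_rev, h.tt.inv (hm a (by simp)),
    h.tt.inv (hm b (by simp)), h.tt.inv (hm c (by simp))]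
  rw [((hc a (by simp) b (by simp)).mul_right (hc a (by simp) c (by simp))).eq,
    (hc b (by simp) c (by simp)).eq, mul_assoc]

/-- Perfectness at the point where the unitary group is given. -/
theorem perfect_at {d : G} (hd : d ∈ D) {F : Type} [Field F] [Fintype F] (hF : Fintype.card F = 4)
    (e : ↥(hsub D d) ⧸ Subgroup.center ↥(hsub D d) ≃* Cfsg.PSU 6 F 2) :
    commutator ↥(hsub D d) = ⊤ := by
  have hF' : Nat.card F = 2 ^ 2 := by rw [Nat.card_eq_fintype_card, hF]; rfl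
  haveI : CharP F 2 := charP_two hF
  have hs : IsSimpleGroup (Cfsg.PSU 6 F 2) := (psu_facts hF).1
  set H := hsub D d with hHdef
  set φ : ↥H →* Cfsg.PSU 6 F 2 := e.toMonoidHom.comp (QuotientGroup.mk' (Subgroup.center ↥H)) with hφ
  have hφsurj : Function.Surjective φ := e.surjective.comp (QuotientGroup.mk'_surjective _)
  have hker : ∀ x, φ x = 1 → x ∈ Subgroup.center ↥H := fun x hx =>
    (QuotientGroup.eq_one_iff x).1 (e.injective (hx.trans e.map_one.symm))
  have hd1 := h.ne_one d hd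
  set δ : ↥H := ⟨d, self_mem_hsub h hd⟩ with hδ
  have hZ : ∀ x ∈ Subgroup.center ↥H, x = 1 ∨ x = δ := fun x hx => by
    rcases cent_nb h hd (commute_hsub x.2).symm (fun y hy => commute_of_mem_center hx hy) with q | q
    · exact Or.inl (Subtype.ext q)
    · exact Or.inr (Subtype.ext q)
  by_contra hne
  set H' := commutator ↥H
  -- the quotient is perfect
  have hna : ¬ ∀ a b : Cfsg.PSU 6 F 2, Commute a b := by
    intro hab
    letI : CommGroup (Cfsg.PSU 6 F 2) :=
      { (inferInstance : Group (Cfsg.PSU 6 F 2)) with mul_comm := fun a b => (hab a b).eq }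
    haveI := hs
    have := IsSimpleGroup.prime_card (α := Cfsg.PSU 6 F 2)
    rw [card_psu_six hF] at this
    exact absurd (this.eq_one_or_self_of_dvd 2 (by norm_num)) (by norm_num)
  have hperf : commutator (Cfsg.PSU 6 F 2) = ⊤ := by
    haveI := hs
    refine (inferInstance : (commutator (Cfsg.PSU 6 F 2)).Normal).eq_bot_or_eq_top.resolve_left fun hb => hna ?_
    intro a b
    have := Subgroup.commutator_mem_commutator (Subgroup.mem_top a) (Subgroup.mem_top b)
    rw [← commutator_def, hb, Subgroup.mem_bot] at this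
    exact commutatorElement_eq_one_iff_commute.1 this
  have hsplit : ∀ x : ↥H, x ∈ H' ∨ x * δ ∈ H' := by
    intro x
    have hm : φ x ∈ H'.map φ := by
      rw [show H'.map φ = ⊤ by
        rw [← hperf]
        simp only [H', commutator_def]
        rw [ Subgroup.map_commutator,
          Subgroup.map_top_of_surjective _ hφsurj]]
      exact Subgroup.mem_top _
    obtain ⟨y, hy, e'⟩ := hm
    rcases hZ _ (hker (x⁻¹ * y) (by rw [map_mul, map_inv, e', inv_mul_cancel])) with q | q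
    · exact Or.inl (inv_mul_eq_one.1 q ▸ hy)
    · right; rw [← q, mul_inv_cancel_left]; exact hy
  have hδ' : δ ∉ H' := fun hm => hne (by
    rw [eq_top_iff]
    intro x _
    exact (hsplit x).elim id fun q => by simpa using mul_mem q (inv_mem hm))
  have hnb : ∀ x : ↥H, (x : G) ∈ nb D d → x ∉ H' := by
    intro x hx hm
    refine hne (eq_top_iff.2 ?_)
    rw [← show Subgroup.closure {y : ↥H | (y : G) ∈ nb D d} = ⊤ from Subgroup.closure_closure_coe_preimage,
      Subgroup.closure_le]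
    intro y hy
    obtain ⟨g, hg, eg⟩ := h.near d hd x hx y hy
    have := (inferInstance : H'.Normal).conj_mem x hm ⟨g, hg⟩
    rwa [show (⟨g, hg⟩ : ↥H) * x * (⟨g, hg⟩ : ↥H)⁻¹ = y from Subtype.ext eg] at this
  -- lifts of two hexads
  obtain ⟨t, l₁, l₂, hmem, hcomm, ht3, h13, h23, hn1, hn2, ⟨x₀, hx₀, hx₀'⟩, hp1, hp2⟩ :=
    SixTwo.exists_two_hexads hF'
  have hmod := model_image h hd hF e
  have hlift : ∀ z ∈ SixTwo.tvSet hF', ∃ y : ↥H, (y : G) ∈ nb D d ∧ φ y = z := fun z hz => by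
    obtain ⟨y, hy, rfl⟩ := (hmod ▸ hz : z ∈ φ '' {y : ↥H | (y : G) ∈ nb D d})
    exact ⟨y, hy, rfl⟩
  choose! s hs1 hs2 using hlift
  have hsG : ∀ m : List (Cfsg.PSU 6 F 2), (∀ x ∈ m, x ∈ t ++ l₁ ++ l₂) → m.Nodup → m.length = 3 →
      Triple D (m.map fun z => (s z : G)) := by
    intro m hm hnd hlen
    refine ⟨?_, by rw [List.length_map, hlen], ?_, ?_⟩
    · refine hnd.map_on fun a ha b hb q => ?_
      rw [← hs2 a (hmem a (hm a ha)), ← hs2 b (hmem b (hm b hb)), Subtype.ext q]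
    · intro a ha
      obtain ⟨z, hz, rfl⟩ := List.mem_map.1 ha
      exact (hs1 z (hmem z (hm z hz))).1
    · intro a ha b hb
      obtain ⟨z, hz, rfl⟩ := List.mem_map.1 ha
      obtain ⟨z', hz', rfl⟩ := List.mem_map.1 hb
      refine (map_commute_iff h.tt (hs1 z (hmem z (hm z hz))) (hs1 z' (hmem z' (hm z' hz')))).1 ?_
      have q := (hcomm z (hm z hz) z' (hm z' hz')).map e.symm
      rw [← hs2 z (hmem z (hm z hz)), ← hs2 z' (hmem z' (hm z' hz'))] at q
      simpa [hφ] using q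
  have hthree : ∀ m : List (Cfsg.PSU 6 F 2), (∀ x ∈ m, x ∈ t ++ l₁ ++ l₂) → m.length = 3 →
      (m.map s).prod * δ ∈ H' := by
    intro m hm hlen
    obtain ⟨a, b, c, rfl⟩ := List.length_eq_three.1 hlen
    have hout : ∀ z ∈ [a, b, c], s z * δ ∈ H' := fun z hz =>
      (hsplit (s z)).resolve_left (hnb _ (hs1 z (hmem z (hm z hz))))
    have hc : ∀ x : ↥H, Commute x δ := fun x => Subtype.ext (commute_hsub x.2).eq
    have hm' := mul_mem (mul_mem (hout a (by simp)) (hout b (by simp))) (hout c (by simp))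
    have hδ2 : δ * δ = 1 := Subtype.ext (h.tt.sq d hd)
    convert hm' using 1
    simp only [List.map_cons, List.map_nil, List.prod_cons, List.prod_nil, mul_one]
    symm
    calc s a * δ * (s b * δ) * (s c * δ) = s a * (δ * s b) * (δ * s c) * δ := by group
      _ = s a * (s b * δ) * (δ * s c) * δ := by rw [(hc (s b)).eq]
      _ = s a * s b * (δ * δ) * s c * δ := by group
      _ = _ := by rw [hδ2, mul_one]; group
  have hfac : ∀ m, (∀ x ∈ m, x ∈ t ++ l₁ ++ l₂) → m.length = 3 → (t ++ m).Nodup → t.prod * m.prod = 1 →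
      (m.map fun z => (s z : G)).prod = (t.map fun z => (s z : G)).prod := by
    intro m hm hlen hnd hpm
    have hφl : ∀ k : List (Cfsg.PSU 6 F 2), (∀ x ∈ k, x ∈ t ++ l₁ ++ l₂) → φ ((k.map s).prod) = k.prod := by
      intro k hk
      rw [map_list_prod, List.map_map]
      congr 1
      conv_rhs => rw [← List.map_id k]
      exact List.map_congr_left fun z hz => hs2 z (hmem z (hk z hz))
    have hts : ∀ x ∈ t, x ∈ t ++ l₁ ++ l₂ := fun x hx => by simp [hx]
    set P := (t.map s).prod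
    set Q := (m.map s).prod
    have hPQ : P * Q ∈ H' := by
      have := mul_mem (hthree t hts ht3) (hthree m hm hlen)
      rwa [mul_assoc, ← mul_assoc δ, show δ * Q = Q * δ from Subtype.ext (commute_hsub Q.2).symm.eq,
        mul_assoc Q, show δ * δ = 1 from Subtype.ext (h.tt.sq d hd), mul_one] at this
    have hone : P * Q = 1 := by
      refine (hZ _ (hker _ (by rw [map_mul, hφl t hts, hφl m hm, hpm]))).resolve_right fun q => hδ' (q ▸ hPQ)
    have hval : ∀ k : List (Cfsg.PSU 6 F 2), (((k.map s).prod : ↥H) : G) = (k.map fun z => (s z : G)).prod :=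
      fun k => by rw [Subgroup.val_list_prod, List.map_map]; rfl
    rw [← hval, ← hval]
    show (Q : G) = (P : G)
    rw [show (Q : G) = ((P⁻¹ : ↥H) : G) from congrArg Subtype.val (inv_eq_of_mul_eq_one_right hone).symm,
      Subgroup.coe_inv, hval]
    exact triple_prod_inv h (hsG t hts (List.nodup_append.1 hnd).1 ht3)
  classical
  have hts : ∀ x ∈ t, x ∈ t ++ l₁ ++ l₂ := fun x hx => by simp [hx]
  have h1s : ∀ x ∈ l₁, x ∈ t ++ l₁ ++ l₂ := fun x hx => by simp [hx]
  have h2s : ∀ x ∈ l₂, x ∈ t ++ l₁ ++ l₂ := fun x hx => by simp [hx]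
  obtain ⟨k₁, k₂, -, -, -, hall⟩ := two_triples h.toSetup22 (hsG t hts (List.nodup_append.1 hn1).1 ht3)
  have hA := hall _ (hsG t hts (List.nodup_append.1 hn1).1 ht3) rfl
  have hB := hall _ (hsG l₁ h1s (List.nodup_append.1 hn1).2.1 h13) (hfac l₁ h1s h13 hn1 hp1)
  have hC := hall _ (hsG l₂ h2s (List.nodup_append.1 hn2).2.1 h23) (hfac l₂ h2s h23 hn2 hp2)
  have hsame : ∀ m n : List (Cfsg.PSU 6 F 2), (∀ x ∈ m, x ∈ t ++ l₁ ++ l₂) → (∀ x ∈ n, x ∈ t ++ l₁ ++ l₂) →
      ∀ z ∈ m, (∀ x : G, x ∈ m.map (fun z => (s z : G)) ↔ x ∈ n.map fun z => (s z : G)) → z ∈ n := by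
    intro m n hm hn z hz hiff
    obtain ⟨w, hw, q⟩ := List.mem_map.1 ((hiff (s z)).1 (List.mem_map.2 ⟨z, hz, rfl⟩))
    have := congrArg φ (Subtype.ext q)
    rw [hs2 w (hmem w (hn w hw)), hs2 z (hmem z (hm z hz))] at this
    exact this ▸ hw
  obtain ⟨z₀, hz₀⟩ : ∃ z, z ∈ t := List.exists_mem_of_ne_nil t fun q => by simp [q] at ht3
  have hd1' : z₀ ∉ l₁ := fun q => (List.nodup_append.1 hn1).2.2 z₀ hz₀ z₀ q rfl
  have hd2' : z₀ ∉ l₂ := fun q => (List.nodup_append.1 hn2).2.2 z₀ hz₀ z₀ q rfl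
  rcases hA with a | a <;> rcases hB with b | b <;> rcases hC with c | c <;>
    first
      | exact hd1' (hsame t l₁ hts h1s z₀ hz₀ fun x => (a x).trans (b x).symm)
      | exact hd2' (hsame t l₂ hts h2s z₀ hz₀ fun x => (a x).trans (c x).symm)
      | exact hx₀' (hsame l₂ l₁ h2s h1s x₀ hx₀ fun x => (c x).trans (b x).symm)

/-- The neighbourhood subgroups are quasisimple. -/
theorem quasisimple_hsub (ht : Cfsg.IsOfTypeM22 G D) {d : G} (hd : d ∈ D) :
    Cfsg.IsQuasisimple ↥(hsub D d) := by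
  obtain ⟨-, d₀, hd₀, c, -, -, ⟨F, _, _, hF, ⟨e⟩⟩, -⟩ := id ht
  have h0 : Cfsg.IsQuasisimple ↥(hsub D d₀) := by
    refine ⟨⟨perfect_at h hd₀ hF e⟩, ?_⟩
    haveI := (psu_facts hF).1
    haveI := e.toEquiv.nontrivial
    exact IsSimpleGroup.isSimpleGroup_of_surjective e.symm.toMonoidHom e.symm.surjective
  obtain ⟨g, rfl⟩ := h.conjD d₀ hd₀ d hd (h.ne_one _ hd₀) (h.ne_one _ hd)
  have hmap : (hsub D d₀).map (MulAut.conj g).toMonoidHom = hsub D (g * d₀ * g⁻¹) := by
    rw [MonoidHom.map_closure]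
    congr 1
    ext y
    obtain ⟨y, rfl⟩ := (MulAut.conj g).surjective y
    show MulAut.conj g y ∈ MulAut.conj g '' nb D d₀ ↔ MulAut.conj g y ∈ nb D (MulAut.conj g d₀)
    rw [(MulAut.conj g).injective.mem_set_image, mem_nb_conj h.tt]
  exact CfsgLib.Comp.isQuasisimple_of_equiv
    ((Subgroup.equivMapOfInjective _ _ (MulAut.conj g).injective).trans (MulEquiv.subgroupCongr hmap)) h0

/-- Groups of type M(22) are simple. -/
theorem simple22 (hp : Cfsg.IsPrimitiveUnderConj D) (ht : Cfsg.IsOfTypeM22 G D) : IsSimpleGroup G := by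
  obtain ⟨d, hd, -⟩ := hp.2.1
  haveI : Nontrivial G := ⟨⟨d, 1, h.ne_one d hd⟩⟩
  refine ⟨fun N hN => ?_⟩
  by_contra hbad
  push Not at hbad
  obtain ⟨hbot, htop⟩ := hbad
  -- `N` is transitive on `D`
  let B : Set G := {x | ∃ n ∈ N, n * d * n⁻¹ = x}
  have hBD : B ⊆ D := by rintro _ ⟨n, -, rfl⟩; exact h.tt.conj n d hd
  have horb : ∀ g : G, ∀ x, x ∈ (fun y => g * y * g⁻¹) '' B ↔ ∃ n ∈ N, n * (g * d * g⁻¹) * n⁻¹ = x := by
    intro g x
    constructor
    · rintro ⟨_, ⟨n, hn, rfl⟩, rfl⟩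
      exact ⟨g * n * g⁻¹, hN.conj_mem n hn g, by group⟩
    · rintro ⟨n, hn, rfl⟩
      refine ⟨_, ⟨g⁻¹ * n * g⁻¹⁻¹, hN.conj_mem n hn g⁻¹, rfl⟩, ?_⟩
      group
  rcases hp.2.2 B hBD (fun g => by
    by_cases hd' : Disjoint ((fun y => g * y * g⁻¹) '' B) B
    · exact Or.inr hd'
    · left
      obtain ⟨x, hx, hxB⟩ := Set.not_disjoint_iff.1 hd'
      obtain ⟨n, hn, e1⟩ := (horb g x).1 hx
      obtain ⟨m, hm, e2⟩ := hxB
      have key : g * d * g⁻¹ = n⁻¹ * m * d * (n⁻¹ * m)⁻¹ := by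
        rw [show n⁻¹ * m * d * (n⁻¹ * m)⁻¹ = n⁻¹ * (m * d * m⁻¹) * n by group, e2, ← e1]; group
      ext z
      rw [horb g z]
      constructor
      · rintro ⟨k, hk, rfl⟩
        exact ⟨k * (n⁻¹ * m), mul_mem hk (mul_mem (inv_mem hn) hm), by rw [key]; group⟩
      · rintro ⟨k, hk, rfl⟩
        exact ⟨k * (n⁻¹ * m)⁻¹, mul_mem hk (inv_mem (mul_mem (inv_mem hn) hm)), by rw [key]; group⟩) with hB | hB
  · -- trivial action
    have hcd : ∀ x ∈ D, ∀ n ∈ N, Commute n x := by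
      intro x hx n hn
      obtain ⟨g, rfl⟩ := hp.1 d hd x hx
      have e : g⁻¹ * n * g⁻¹⁻¹ * d * (g⁻¹ * n * g⁻¹⁻¹)⁻¹ = d :=
        hB ⟨_, hN.conj_mem n hn g⁻¹, rfl⟩ ⟨1, one_mem _, by group⟩
      have := (commute_conj_iff g _ d).2 (show Commute (g⁻¹ * n * g⁻¹⁻¹) d from mul_inv_eq_iff_eq_mul.1 e)
      rwa [show g * (g⁻¹ * n * g⁻¹⁻¹) * g⁻¹ = n by group] at this
    refine hbot (le_bot_iff.1 fun n hn => ?_)
    rw [← h.center, Subgroup.mem_center_iff]
    exact fun y => (commute_of_closure (fun x hx => (hcd x hx n hn).symm) y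
      (h.class3.2.2 ▸ Subgroup.mem_top y)).eq
  have hnd : d ∉ N := fun hdN => htop (eq_top_iff.2 (by
    rw [← h.class3.2.2, Subgroup.closure_le]
    intro x hx
    obtain ⟨g, rfl⟩ := hp.1 d hd x hx
    exact hN.conj_mem d hdN g))
  set H := hsub D d
  have hdec : ∀ g : G, ∃ n ∈ N, n⁻¹ * g ∈ H := by
    intro g
    obtain ⟨n, hn, e⟩ : g * d * g⁻¹ ∈ B := hB.symm ▸ h.tt.conj g d hd
    refine ⟨n, hn, ?_⟩
    rw [show H = hsub D d from rfl, (centralizer_eq h hd).1]
    exact (conj_fib).1 e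
  set π := QuotientGroup.mk' N
  have hsurj : ∀ q : G ⧸ N, ∃ k ∈ H, π k = q := by
    intro q
    obtain ⟨g, rfl⟩ := QuotientGroup.mk'_surjective N q
    obtain ⟨n, hn, hk⟩ := hdec g
    refine ⟨n⁻¹ * g, hk, ?_⟩
    rw [map_mul, map_inv, show π n = 1 from (QuotientGroup.eq_one_iff n).2 hn, inv_one, one_mul]
  -- all members have the same central image
  have hcen : ∀ x ∈ D, π x = π d := by
    intro x hx
    obtain ⟨g, rfl⟩ := hp.1 d hd x hx
    obtain ⟨k, hk, e⟩ := hsurj (π g)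
    rw [map_mul, map_mul, map_inv, ← e, ← map_inv, ← map_mul, ← map_mul, (commute_hsub hk).eq, mul_inv_cancel_right]
  obtain ⟨b, hb⟩ : (nb D d).Nonempty :=
    Set.nonempty_of_ncard_ne_zero (by rw [(h.loc d hd).card_nb]; norm_num)
  obtain ⟨y, hy⟩ : {y | y ∈ nb D d ∧ y ≠ b ∧ Commute y b}.Nonempty :=
    Set.nonempty_of_ncard_ne_zero (by rw [(h.loc d hd).card_pair b hb]; norm_num)
  -- `d` is in the derived subgroup of `H`, so `π d` would be trivial
  have hab : ∀ u ∈ (⊤ : Subgroup G), Commute (π u) (π d) ∧ π u ∈ Subgroup.zpowers (π d) := by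
    rw [← h.class3.2.2]
    intro u hu
    induction hu using Subgroup.closure_induction with
    | mem x hx => rw [hcen x hx]; exact ⟨Commute.refl _, Subgroup.mem_zpowers _⟩
    | one => rw [map_one]; exact ⟨Commute.one_left _, one_mem _⟩
    | mul u v _ _ hu hv => rw [map_mul]; exact ⟨hu.1.mul_left hv.1, mul_mem hu.2 hv.2⟩
    | inv u _ hu => rw [map_inv]; exact ⟨hu.1.inv_left, inv_mem hu.2⟩
  have hcomm : (commutator ↥H).map (π.comp H.subtype) = ⊥ := by
    rw [commutator_def, Subgroup.map_commutator, eq_bot_iff, Subgroup.commutator_le]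
    rintro _ ⟨u, -, rfl⟩ _ ⟨v, -, rfl⟩
    rw [Subgroup.mem_bot]
    obtain ⟨i, hi⟩ := Subgroup.mem_zpowers_iff.1 (hab (u : G) (Subgroup.mem_top _)).2
    obtain ⟨j, hj⟩ := Subgroup.mem_zpowers_iff.1 (hab (v : G) (Subgroup.mem_top _)).2
    refine commutatorElement_eq_one_iff_commute.2 ?_
    show Commute (π (u : G)) (π (v : G))
    rw [← hi, ← hj]
    exact Commute.zpow_zpow (Commute.refl _) i j
  have hperf := (quasisimple_hsub h ht hd).1.commutator_eq_top
  rw [hperf] at hcomm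
  refine hnd ((QuotientGroup.eq_one_iff d).1 ?_)
  have : π d ∈ (⊤ : Subgroup ↥H).map (π.comp H.subtype) :=
    ⟨⟨d, self_mem_hsub h hd⟩, Subgroup.mem_top _, rfl⟩
  rw [hcomm, Subgroup.mem_bot] at this
  exact this

end CfsgLib.ThreeT.Prod
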