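import Mathlib

/-!
Central extensions by elementary abelian 2-groups of PSL(3,4): the kernel of a perfect one has at most four
elements.  Elementary proof: a torus element of order three gives canonical lifts of the root elements, the
only obstruction to splitting over a Sylow 2-subgroup is a torus-invariant biadditive map, and transfer does
the rest.
-/

set_option autoImplicit false

namespace CfsgLib.CoverPSL34

open scoped Matrix

variable {F : Type*} [Field F]

abbrev SL3 (F : Type*) [Field F] := Matrix.SpecialLinearGroup (Fin 3) F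

def tA (a : F) : SL3 F := Matrix.SpecialLinearGroup.transvection (show (0 : Fin 3) ≠ 1 by decide) a
def tB (b : F) : SL3 F := Matrix.SpecialLinearGroup.transvection (show (1 : Fin 3) ≠ 2 by decide) b
def tC (c : F) : SL3 F := Matrix.SpecialLinearGroup.transvection (show (0 : Fin 3) ≠ 2 by decide) c

lemma tA_coe (a : F) : (tA a).1 = !![1, a, 0; 0, 1, 0; 0, 0, 1] := by
  ext i j
  fin_cases i <;> fin_cases j <;> simp [tA, Matrix.SpecialLinearGroup.transvection, Matrix.transvection]

lemma tB_coe (a : F) : (tB a).1 = !![1, 0, 0; 0, 1, a; 0, 0, 1] := by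
  ext i j
  fin_cases i <;> fin_cases j <;> simp [tB, Matrix.SpecialLinearGroup.transvection, Matrix.transvection]

lemma tC_coe (a : F) : (tC a).1 = !![1, 0, a; 0, 1, 0; 0, 0, 1] := by
  ext i j
  fin_cases i <;> fin_cases j <;> simp [tC, Matrix.SpecialLinearGroup.transvection, Matrix.transvection]

lemma mat_ext {u v : SL3 F} (h : u.1 = v.1) : u = v := Subtype.ext h

lemma tA_add (a a' : F) : tA a * tA a' = tA (a + a') := by
  apply mat_ext; simp [tA_coe, add_comm]

lemma tB_add (a a' : F) : tB a * tB a' = tB (a + a') := by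
  apply mat_ext; simp [tB_coe, add_comm]

lemma tC_add (a a' : F) : tC a * tC a' = tC (a + a') := by
  apply mat_ext; simp [tC_coe, add_comm]

lemma tA_zero : tA (0 : F) = 1 := by
  apply mat_ext; simp [tA_coe, Matrix.one_fin_three]

lemma tB_zero : tB (0 : F) = 1 := by
  apply mat_ext; simp [tB_coe, Matrix.one_fin_three]

lemma tC_zero : tC (0 : F) = 1 := by
  apply mat_ext; simp [tC_coe, Matrix.one_fin_three]

lemma tA_tB (a b : F) : tA a * tB b = tC (a * b) * (tB b * tA a) := by
  apply mat_ext; simp [tA_coe, tB_coe, tC_coe]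

lemma tAC_coe (a c : F) : (tA a * tC c).1 = !![1, a, c; 0, 1, 0; 0, 0, 1] := by
  simp [tA_coe, tC_coe]

lemma tCB_coe (c b : F) : (tC c * tB b).1 = !![1, 0, c; 0, 1, b; 0, 0, 1] := by
  simp [tB_coe, tC_coe]

def mk3 (M : Matrix (Fin 3) (Fin 3) F) (h : M.det = 1) : SL3 F := ⟨M, h⟩

lemma mk3_coe (M : Matrix (Fin 3) (Fin 3) F) (h : M.det = 1) : (mk3 M h).1 = M := rfl

lemma conj_row (a c : F) (h : ¬ (a = 0 ∧ c = 0)) :
    ∃ g : SL3 F, tC 1 * g = g * (tA a * tC c) := by
  by_cases ha : a = 0
  · have hc : c ≠ 0 := fun hc => h ⟨ha, hc⟩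
    refine ⟨mk3 !![1, 0, 0; 0, c⁻¹, 0; 0, 0, c] ?_, ?_⟩
    · simp [Matrix.det_fin_three, hc]
    · apply mat_ext; simp [mk3_coe, tC_coe, tA_coe, ha]
  · refine ⟨mk3 !![1, 0, 0; 0, 0, -a⁻¹; 0, a, c] ?_, ?_⟩
    · simp [Matrix.det_fin_three, ha]
    · apply mat_ext; simp [mk3_coe, tC_coe, tA_coe]

lemma conj_col (c b : F) (h : ¬ (c = 0 ∧ b = 0)) :
    ∃ g : SL3 F, g * tC 1 = (tC c * tB b) * g := by
  by_cases hc : c = 0
  · have hb : b ≠ 0 := fun hb => h ⟨hc, hb⟩
    refine ⟨mk3 !![0, -b⁻¹, 0; b, 0, 0; 0, 0, 1] ?_, ?_⟩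
    · simp [Matrix.det_fin_three, hb]
    · apply mat_ext; simp [mk3_coe, tC_coe, tB_coe, hc]
  · refine ⟨mk3 !![c, 0, 0; b, c⁻¹, 0; 0, 0, 1] ?_, ?_⟩
    · simp [Matrix.det_fin_three, hc]
    · apply mat_ext; simp [mk3_coe, tC_coe, tB_coe]

/-- upper unitriangular matrices -/
def U3 (F : Type*) [Field F] : Subgroup (SL3 F) where
  carrier := {g | ∃ a b c : F, g.1 = !![1, a, c; 0, 1, b; 0, 0, 1]}
  one_mem' := ⟨0, 0, 0, by simp [Matrix.one_fin_three]⟩
  mul_mem' := by
    rintro g g' ⟨a, b, c, h⟩ ⟨a', b', c', h'⟩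
    exact ⟨a' + a, b' + b, c' + a * b' + c, by simp [h, h', add_assoc]⟩
  inv_mem' := by
    rintro g ⟨a, b, c, h⟩
    refine ⟨-a, -b, a * b - c, ?_⟩
    have : g⁻¹ = mk3 !![1, -a, a * b - c; 0, 1, -b; 0, 0, 1] (by simp [Matrix.det_fin_three]) := by
      apply inv_eq_of_mul_eq_one_right
      apply mat_ext
      simp [h, mk3_coe, Matrix.one_fin_three]
    rw [this, mk3_coe]

lemma card_U3 : Nat.card (U3 F) = Nat.card F ^ 3 := by
  classical
  have e : (F × F × F) ≃ U3 F :=
    Equiv.ofBijective (fun p => ⟨⟨!![1, p.1, p.2.2; 0, 1, p.2.1; 0, 0, 1], by simp [Matrix.det_fin_three]⟩,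
        ⟨p.1, p.2.1, p.2.2, rfl⟩⟩) (by
      constructor
      · intro p p' h
        have h' := congrArg (fun g : U3 F => g.1.1) h
        have h1 := congrFun (congrFun h' 0) 1
        have h2 := congrFun (congrFun h' 1) 2
        have h3 := congrFun (congrFun h' 0) 2
        simp at h1 h2 h3
        exact Prod.ext h1 (Prod.ext h2 h3)
      · rintro ⟨g, a, b, c, h⟩
        exact ⟨(a, b, c), Subtype.ext (mat_ext h.symm)⟩)
  rw [← Nat.card_congr e, Nat.card_prod, Nat.card_prod]
  ring

lemma index_U3_odd [Finite F] (h4 : Nat.card F = 4) : Odd (U3 F).index := by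
  classical
  haveI := Fintype.ofFinite F
  let det : GL (Fin 3) F →* Fˣ := Matrix.GeneralLinearGroup.det
  have hsurj : Function.Surjective det := by
    intro u
    refine ⟨Matrix.GeneralLinearGroup.mkOfDetNeZero (Matrix.diagonal ![(u : F), 1, 1])
      (by simp [Matrix.det_diagonal, Fin.prod_univ_three]), ?_⟩
    ext
    simp [det, Matrix.GeneralLinearGroup.mkOfDetNeZero, Matrix.det_diagonal, Fin.prod_univ_three]
  have hker : Nat.card (SL3 F) = Nat.card det.ker := by
    refine Nat.card_congr (Equiv.ofBijective (fun g => ⟨Matrix.SpecialLinearGroup.toGL g, ?_⟩) ⟨?_, ?_⟩)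
    · rw [MonoidHom.mem_ker]; ext; simp [det]
    · intro g g' h
      exact mat_ext (congrArg (fun x : det.ker => (x.1 : Matrix (Fin 3) (Fin 3) F)) h)
    · rintro ⟨g, hg⟩
      rw [MonoidHom.mem_ker] at hg
      refine ⟨⟨g.1, ?_⟩, ?_⟩
      · simpa [det] using congrArg (fun x : Fˣ => (x : F)) hg
      · ext1; ext1; rfl
  have hGL : Nat.card (GL (Fin 3) F) = 181440 := by
    rw [Matrix.card_GL_field, Fin.prod_univ_three, ← Nat.card_eq_fintype_card, h4]
    decide
  have h3 : Nat.card Fˣ = 3 := by rw [Nat.card_units, h4]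
  have hidx : det.ker.index = 3 := by
    rw [Subgroup.index_ker, MonoidHom.range_eq_top.2 hsurj, ← h3]
    exact Nat.card_congr Subgroup.topEquiv.toEquiv
  have h1 := det.ker.card_mul_index
  rw [hidx, hGL, ← hker] at h1
  have h2 := (U3 F).card_mul_index
  rw [card_U3, h4] at h2
  have h4' : Nat.card (SL3 F) = 60480 := by omega
  rw [h4'] at h2
  rw [show (U3 F).index = 945 by omega]
  decide

section Ext

variable {S : Type*} [Group S] {q : SL3 F →* S} {P : Type*} [Group P] {π : P →* S}

/-- every lift of `u` squares to one -/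
def LiftsInvol (q : SL3 F →* S) (π : P →* S) (u : SL3 F) : Prop := ∀ l : P, π l = q u → l * l = 1

variable (hπ : Function.Surjective π) (hc : π.ker ≤ Subgroup.center P) (h2 : ∀ k ∈ π.ker, k * k = 1)

include hc in
lemma ker_comm {k : P} (hk : k ∈ π.ker) (g : P) : g * k = k * g :=
  Subgroup.mem_center_iff.1 (hc hk) g

lemma div_ker {l l' : P} (h : π l = π l') : l'⁻¹ * l ∈ π.ker := by
  rw [MonoidHom.mem_ker]; simp [h]

include hc h2 in
lemma sq_eq {l l' : P} (h : π l = π l') : l * l = l' * l' := by
  obtain ⟨k, hk, rfl⟩ : ∃ k ∈ π.ker, l = l' * k := ⟨_, div_ker h, (mul_inv_cancel_left l' l).symm⟩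
  calc l' * k * (l' * k) = l' * (k * l') * k := by group
    _ = l' * (l' * k) * k := by rw [ker_comm hc hk l']
    _ = (l' * l') * (k * k) := by group
    _ = _ := by rw [h2 k hk, mul_one]

include hπ hc h2 in
lemma sq_conj {u v g : SL3 F} (hg : u * g = g * v) (hv : v * v = 1) {l m : P}
    (hl : π l = q u) (hm : π m = q v) : l * l = m * m := by
  obtain ⟨x, hx⟩ := hπ (q g)
  have h1 : π (x * m * x⁻¹) = π l := by
    rw [map_mul, map_mul, map_inv, hx, hm, hl, ← map_mul, ← map_inv, ← map_mul, ← hg,
      mul_inv_cancel_right]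
  have hk : m * m ∈ π.ker := by rw [MonoidHom.mem_ker, map_mul, hm, ← map_mul, hv, map_one]
  rw [← sq_eq hc h2 h1]
  calc x * m * x⁻¹ * (x * m * x⁻¹) = x * (m * m) * x⁻¹ := by group
    _ = m * m := by rw [ker_comm hc hk x, mul_inv_cancel_right]

include hc in
lemma comm_of_invol {u v : SL3 F} (hu : LiftsInvol q π u) (hv : LiftsInvol q π v)
    (huv : LiftsInvol q π (u * v)) {l m : P} (hl : π l = q u) (hm : π m = q v) : Commute l m := by
  have a := hu l hl
  have b := hv m hm
  have c := huv (l * m) (by rw [map_mul, hl, hm, map_mul])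
  show l * m = m * l
  calc l * m = (l * m)⁻¹ := (inv_eq_of_mul_eq_one_right c).symm
    _ = m⁻¹ * l⁻¹ := mul_inv_rev l m
    _ = m * l := by rw [inv_eq_of_mul_eq_one_right a, inv_eq_of_mul_eq_one_right b]

include hπ hc h2 in
/-- the three-independent-elements argument -/
lemma sq_one_of_three {u v w s : SL3 F} (hs : s * s = 1)
    (H : ∀ x ∈ [u, v, w, u * v, u * w, v * w, u * v * w], ∃ g, s * g = g * x ∧ x * x = 1)
    {l : P} (hl : π l = q s) : l * l = 1 := by
  obtain ⟨a, ha⟩ := hπ (q u)
  obtain ⟨b, hb⟩ := hπ (q v)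
  obtain ⟨c, hc'⟩ := hπ (q w)
  have K : ∀ x ∈ [u, v, w, u * v, u * w, v * w, u * v * w], ∀ m, π m = q x → m * m = l * l := by
    intro x hx m hm
    obtain ⟨g, hg, hxx⟩ := H x hx
    exact (sq_conj hπ hc h2 hg hxx hl hm).symm
  have hk : l * l ∈ π.ker := by rw [MonoidHom.mem_ker, map_mul, hl, ← map_mul, hs, map_one]
  have ea := K u (by simp) a ha
  have eb := K v (by simp) b hb
  have ec := K w (by simp) c hc'
  have eab := K (u * v) (by simp) (a * b) (by rw [map_mul, ha, hb, map_mul])
  have eac := K (u * w) (by simp) (a * c) (by rw [map_mul, ha, hc', map_mul])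
  have ebc := K (v * w) (by simp) (b * c) (by rw [map_mul, hb, hc', map_mul])
  have eabc := K (u * v * w) (by simp) (a * b * c) (by rw [map_mul, map_mul, ha, hb, hc', map_mul, map_mul])
  generalize hz : l * l = z at ea eb ec eab eac ebc eabc hk
  have zc : ∀ g, g * z = z * g := ker_comm hc hk
  have zz := h2 z hk
  have swap : ∀ x y : P, x * x = z → y * y = z → x * y * (x * y) = z → y * x = x * y * z := by
    intro x y ex ey exy
    have e1 : y * x * y = x := by
      calc y * x * y = x⁻¹ * (x * y * (x * y)) := by group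
        _ = x⁻¹ * (x * x) := by rw [exy, ex]
        _ = x := by group
    calc y * x = y * x * y * y⁻¹ := by group
      _ = x * y⁻¹ := by rw [e1]
      _ = x * (y * z) := by
          rw [inv_eq_of_mul_eq_one_right (show y * (y * z) = 1 by rw [← mul_assoc, ey, zz])]
      _ = x * y * z := by group
  have s1 := swap a c ea ec eac
  have s2 := swap b c eb ec ebc
  calc z = a * b * c * (a * b * c) := eabc.symm
    _ = a * b * (c * a) * b * c := by group
    _ = a * b * (a * c * z) * b * c := by rw [s1]
    _ = a * b * a * c * (z * b) * c := by group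
    _ = a * b * a * c * (b * z) * c := by rw [zc b]
    _ = a * b * a * (c * b) * (z * c) := by group
    _ = a * b * a * (b * c * z) * (c * z) := by rw [s2, zc c]
    _ = (a * b * (a * b)) * c * (z * c) * z := by group
    _ = z * c * (c * z) * z := by rw [eab, zc c]
    _ = z * (c * c) * (z * z) := by group
    _ = 1 := by rw [ec, zz, mul_one]

end Ext

section Main

variable {S : Type*} [Group S] {q : SL3 F →* S} {P : Type*} [Group P] {π : P →* S}

include F in
theorem card_ker_le_four [Finite F] [Finite P] (h4 : Nat.card F = 4) (hperf : commutator P = ⊤)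
    (hq : Function.Surjective q) (hqk : q.ker ≤ Subgroup.center (SL3 F))
    (hπ : Function.Surjective π) (hc : π.ker ≤ Subgroup.center P) (h2 : ∀ k ∈ π.ker, k * k = 1) :
    Nat.card π.ker ≤ 4 := by
  classical
  haveI := Fintype.ofFinite F
  have hcard : Fintype.card F = 4 := by rwa [← Nat.card_eq_fintype_card]
  have two0 : (2 : F) = 0 := by
    have h := Nat.cast_card_eq_zero F
    rw [hcard] at h
    have : (2 : F) * 2 = 0 := by rw [← h]; norm_num
    exact mul_self_eq_zero.1 this
  have adds : ∀ x : F, x + x = 0 := fun x => by rw [← two_mul, two0, zero_mul]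
  obtain ⟨om, ho0, ho1⟩ : ∃ om : F, om ≠ 0 ∧ om ≠ 1 := by
    by_contra hh
    push Not at hh
    have hsub : (Finset.univ : Finset F) ⊆ {0, 1} := by
      intro x _
      by_cases hx : x = 0
      · simp [hx]
      · simp [hh x hx]
    have := Finset.card_le_card hsub
    rw [Finset.card_univ, hcard] at this
    exact absurd (this.trans Finset.card_le_two) (by norm_num)
  have ho3 : om ^ 3 = 1 := by
    have := FiniteField.pow_card_sub_one_eq_one om ho0
    rwa [hcard] at this
  have ho2 : om * om = om + 1 := by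
    have : (om - 1) * (om * om + om + 1) = 0 := by linear_combination ho3
    rcases mul_eq_zero.1 this with h | h
    · exact absurd (sub_eq_zero.1 h) ho1
    · linear_combination h - (om + 1) * two0
  have allF : ∀ x : F, x = 0 ∨ x = 1 ∨ x = om ∨ x = om + 1 := by
    have hd : om + 1 ≠ 0 := by rw [← ho2]; exact mul_ne_zero ho0 ho0
    have hd1 : om + 1 ≠ 1 := by simpa using ho0
    have hcs : ({0, 1, om, om + 1} : Finset F).card = 4 := by
      rw [Finset.card_insert_of_notMem, Finset.card_insert_of_notMem, Finset.card_pair]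
      · simp
      · simp [Ne.symm ho1, Ne.symm hd1]
      · simp [Ne.symm ho0, Ne.symm hd]
    intro x
    have := (Finset.card_eq_iff_eq_univ _).1 (hcs.trans hcard.symm)
    have hx : x ∈ ({0, 1, om, om + 1} : Finset F) := this ▸ Finset.mem_univ x
    simpa using hx
  -- involutions in the two elementary abelian maximal subgroups of U
  have sqA : ∀ a c : F, (tA a * tC c) * (tA a * tC c) = 1 := by
    intro a c
    apply mat_ext
    simp [tAC_coe, tA_coe, tC_coe, Matrix.one_fin_three, adds]
  have sqB : ∀ c b : F, (tC c * tB b) * (tC c * tB b) = 1 := by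
    intro c b
    apply mat_ext
    simp [tCB_coe, tB_coe, tC_coe, Matrix.one_fin_three, adds]
  have s11 : tC (1 : F) * tC 1 = 1 := by rw [tC_add, adds, tC_zero]
  have key : LiftsInvol q π (tC (1 : F)) := by
    intro l hl
    refine sq_one_of_three hπ hc h2 (u := tA 1) (v := tA om) (w := tC 1) s11 ?_ hl
    intro x hx
    have gen : ∀ a c : F, ¬ (a = 0 ∧ c = 0) → x = tA a * tC c →
        ∃ g, tC 1 * g = g * x ∧ x * x = 1 := by
      intro a c h e
      obtain ⟨g, hg⟩ := conj_row a c h
      exact ⟨g, e ▸ hg, e ▸ sqA a c⟩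
    have hd : (1 : F) + om ≠ 0 := by
      rw [add_comm, ← ho2]; exact mul_ne_zero ho0 ho0
    simp only [List.mem_cons, List.not_mem_nil, or_false] at hx
    rcases hx with h | h | h | h | h | h | h
    · exact gen 1 0 (by simp) (by rw [h, tC_zero, mul_one])
    · exact gen om 0 (by simp [ho0]) (by rw [h, tC_zero, mul_one])
    · exact gen 0 1 (by simp) (by rw [h, tA_zero, one_mul])
    · exact gen (1 + om) 0 (by simp [hd]) (by rw [h, tC_zero, mul_one, tA_add])
    · exact gen 1 1 (by simp) h
    · exact gen om 1 (by simp) h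
    · exact gen (1 + om) 1 (by simp) (by rw [h, tA_add])
  have one_inv : LiftsInvol q π 1 := fun l hl => h2 l (by rw [MonoidHom.mem_ker, hl, map_one])
  have invA : ∀ a c : F, LiftsInvol q π (tA a * tC c) := by
    intro a c l hl
    by_cases h : a = 0 ∧ c = 0
    · exact one_inv l (by rw [hl, h.1, h.2, tA_zero, tC_zero, one_mul])
    · obtain ⟨g, hg⟩ := conj_row a c h
      obtain ⟨m, hm⟩ := hπ (q (tC 1))
      exact (sq_conj hπ hc h2 hg (sqA a c) hm hl).symm.trans (key m hm)
  have invB : ∀ c b : F, LiftsInvol q π (tC c * tB b) := by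
    intro c b l hl
    by_cases h : c = 0 ∧ b = 0
    · exact one_inv l (by rw [hl, h.1, h.2, tB_zero, tC_zero, one_mul])
    · obtain ⟨g, hg⟩ := conj_col c b h
      obtain ⟨m, hm⟩ := hπ (q (tC 1))
      exact (sq_conj hπ hc h2 hg.symm s11 hl hm).trans (key m hm)
  have iA : ∀ a, LiftsInvol q π (tA a) := fun a => by simpa [tC_zero] using invA a 0
  have iB : ∀ b, LiftsInvol q π (tB b) := fun b => by simpa [tC_zero] using invB 0 b
  have iC : ∀ c, LiftsInvol q π (tC c) := fun c => by simpa [tA_zero] using invA 0 c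
  -- the torus element
  let hd : SL3 F := mk3 !![om, 0, 0; 0, 1, 0; 0, 0, om * om] (by
    rw [Matrix.det_fin_three]; simp; linear_combination ho3)
  have hdA : ∀ a, hd * tA a = tA (om * a) * hd := by
    intro a; apply mat_ext; simp [hd, mk3_coe, tA_coe, mul_comm]
  have hdB : ∀ b, hd * tB b = tB (om * b) * hd := by
    intro b; apply mat_ext; simp [hd, mk3_coe, tB_coe]; linear_combination (-b) * ho3
  have hdC : ∀ c, hd * tC c = tC (om * om * c) * hd := by
    intro c; apply mat_ext; simp [hd, mk3_coe, tC_coe]; linear_combination (-(c * om)) * ho3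
  obtain ⟨ht, hht⟩ := hπ (q hd)
  let X : (F → SL3 F) → F → F → P := fun u lam a =>
    ht * Function.surjInv hπ (q (u ((lam - 1)⁻¹ * a))) * ht⁻¹ *
      (Function.surjInv hπ (q (u ((lam - 1)⁻¹ * a))))⁻¹
  have indep : ∀ l l' : P, π l = π l' → ht * l * ht⁻¹ * l⁻¹ = ht * l' * ht⁻¹ * l'⁻¹ := by
    intro l l' h
    obtain ⟨k, hk, rfl⟩ : ∃ k ∈ π.ker, l = l' * k := ⟨_, div_ker h, (mul_inv_cancel_left l' l).symm⟩
    have := ker_comm hc hk ht⁻¹
    calc ht * (l' * k) * ht⁻¹ * (l' * k)⁻¹ = ht * l' * (k * ht⁻¹) * k⁻¹ * l'⁻¹ := by group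
      _ = ht * l' * (ht⁻¹ * k) * k⁻¹ * l'⁻¹ := by rw [this]
      _ = _ := by group
  have root : ∀ (u : F → SL3 F) (lam : F), lam - 1 ≠ 0 → (∀ a b, u a * u b = u (a + b)) →
      (∀ a, hd * u a = u (lam * a) * hd) → (∀ a, LiftsInvol q π (u a)) →
      (∀ a, π (X u lam a) = q (u a)) ∧ (∀ a b, X u lam (a + b) = X u lam a * X u lam b) ∧
      (∀ a, ht * X u lam a * ht⁻¹ = X u lam (lam * a)) := by
    intro u lam hl hu hh hi
    have hX : ∀ a l, π l = q (u ((lam - 1)⁻¹ * a)) → X u lam a = ht * l * ht⁻¹ * l⁻¹ := by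
      intro a l hl'
      exact indep _ _ (by rw [Function.surjInv_eq hπ, hl'])
    have hconj : ∀ a, hd * u a * hd⁻¹ = u (lam * a) := fun a => by
      rw [hh, mul_inv_cancel_right]
    have hpi : ∀ a, π (X u lam a) = q (u a) := by
      intro a
      obtain ⟨l, hl'⟩ := hπ (q (u ((lam - 1)⁻¹ * a)))
      rw [hX a l hl']
      simp only [map_mul, map_inv, hl', hht]
      rw [← map_inv, ← map_inv, ← map_mul, ← map_mul, ← map_mul, hconj]
      congr 1
      rw [mul_inv_eq_iff_eq_mul, hu]
      congr 1
      have e1 : (lam - 1) * ((lam - 1)⁻¹ * a) = a := mul_inv_cancel_left₀ hl a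
      linear_combination e1
    refine ⟨hpi, ?_, ?_⟩
    · intro a b
      obtain ⟨l, hl'⟩ := hπ (q (u ((lam - 1)⁻¹ * a)))
      obtain ⟨m, hm'⟩ := hπ (q (u ((lam - 1)⁻¹ * b)))
      rw [hX (a + b) (l * m) (by rw [map_mul, hl', hm', ← map_mul, hu, mul_add]),
        hX a l hl', hX b m hm']
      have hcm : Commute (ht * m * ht⁻¹ * m⁻¹) l⁻¹ := by
        refine Commute.inv_right ?_
        rw [← hX b m hm']
        exact comm_of_invol hc (hi b) (hi _) (by rw [hu]; exact hi _) (hpi b) hl'
      calc ht * (l * m) * ht⁻¹ * (l * m)⁻¹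
          = ht * l * ht⁻¹ * ((ht * m * ht⁻¹ * m⁻¹) * l⁻¹) := by group
        _ = ht * l * ht⁻¹ * (l⁻¹ * (ht * m * ht⁻¹ * m⁻¹)) := by rw [hcm.eq]
        _ = _ := by group
    · intro a
      obtain ⟨l, hl'⟩ := hπ (q (u ((lam - 1)⁻¹ * a)))
      rw [hX a l hl', hX (lam * a) (ht * l * ht⁻¹)
        (by simp only [map_mul, map_inv, hl', hht]
            rw [← map_inv, ← map_mul, ← map_mul, hconj, mul_left_comm])]
      group
  have ho11 : om - 1 ≠ 0 := sub_ne_zero.2 ho1
  have ho21 : om * om - 1 ≠ 0 := by rw [ho2]; simpa using ho0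
  obtain ⟨pA, addA, eqA⟩ := root tA om ho11 tA_add hdA iA
  obtain ⟨pB, addB, eqB⟩ := root tB om ho11 tB_add hdB iB
  obtain ⟨pC, addC, eqC⟩ := root tC (om * om) ho21 tC_add hdC iC
  generalize X tA om = A at pA addA eqA
  generalize X tB om = B at pB addB eqB
  generalize X tC (om * om) = C at pC addC eqC
  have cAC : ∀ a c, Commute (A a) (C c) := fun a c =>
    comm_of_invol hc (iA a) (iC c) (invA a c) (pA a) (pC c)
  have cBC : ∀ b c, Commute (C c) (B b) := fun b c =>
    comm_of_invol hc (iC c) (iB b) (invB c b) (pC c) (pB b)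
  have Csq : ∀ c, C c * C c = 1 := fun c => iC c _ (pC c)
  have Asq : ∀ a, A a * A a = 1 := fun a => iA a _ (pA a)
  have Bsq : ∀ b, B b * B b = 1 := fun b => iB b _ (pB b)
  let g : F → F → P := fun a b => A a * B b * (B b * A a)⁻¹ * (C (a * b))⁻¹
  have gk : ∀ a b, g a b ∈ π.ker := by
    intro a b
    rw [MonoidHom.mem_ker]
    simp only [g, map_mul, map_inv, pA, pB, pC]
    rw [← map_mul, tA_tB, map_mul, map_mul, mul_inv_cancel_right, mul_inv_cancel]
  have AB : ∀ a b, A a * B b = g a b * C (a * b) * (B b * A a) := by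
    intro a b; simp only [g]; group
  have zero_g : ∀ b, g 0 b = 1 := by
    intro b
    have e : A 0 = 1 := by
      have := addA 0 0
      rw [add_zero] at this
      exact left_eq_mul.1 this
    have e' : C 0 = 1 := by
      have := addC 0 0
      rw [add_zero] at this
      exact left_eq_mul.1 this
    simp [g, e, e']
  have g_zero : ∀ a, g a 0 = 1 := by
    intro a
    have e : B 0 = 1 := by
      have := addB 0 0
      rw [add_zero] at this
      exact left_eq_mul.1 this
    have e' : C 0 = 1 := by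
      have := addC 0 0
      rw [add_zero] at this
      exact left_eq_mul.1 this
    simp [g, e, e']
  have gc : ∀ a b (x : P), x * g a b = g a b * x := fun a b x => ker_comm hc (gk a b) x
  have addg1 : ∀ a a' b, g (a + a') b = g a b * g a' b := by
    intro a a' b
    have h := AB (a + a') b
    have h' : A (a + a') * B b = (g a b * g a' b) * C ((a + a') * b) * (B b * A (a + a')) := by
      calc A (a + a') * B b = A a * (A a' * B b) := by rw [addA, mul_assoc]
        _ = A a * g a' b * (C (a' * b) * (B b * A a')) := by rw [AB a' b]; group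
        _ = g a' b * (A a * C (a' * b)) * (B b * A a') := by rw [gc a' b (A a)]; group
        _ = g a' b * C (a' * b) * (A a * B b) * A a' := by rw [(cAC a _).eq]; group
        _ = g a' b * (C (a' * b) * g a b) * C (a * b) * (B b * A a) * A a' := by rw [AB a b]; group
        _ = g a' b * g a b * (C (a' * b) * C (a * b)) * (B b * (A a * A a')) := by
            rw [gc a b (C (a' * b))]; group
        _ = _ := by
            rw [← addC, ← addA, gc a b (g a' b), add_mul, add_comm (a' * b)]
    rw [h] at h'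
    exact mul_right_cancel (mul_right_cancel h')
  have addg2 : ∀ a b b', g a (b + b') = g a b * g a b' := by
    intro a b b'
    have h := AB a (b + b')
    have h' : A a * B (b + b') = (g a b * g a b') * C (a * (b + b')) * (B (b + b') * A a) := by
      calc A a * B (b + b') = (A a * B b) * B b' := by rw [addB, mul_assoc]
        _ = g a b * C (a * b) * B b * (A a * B b') := by rw [AB a b]; group
        _ = g a b * C (a * b) * (B b * g a b') * C (a * b') * (B b' * A a) := by rw [AB a b']; group
        _ = g a b * (C (a * b) * g a b') * (B b * C (a * b')) * (B b' * A a) := by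
            rw [gc a b' (B b)]; group
        _ = g a b * g a b' * (C (a * b) * C (a * b')) * (B b * B b' * A a) := by
            rw [gc a b' (C (a * b)), ← (cBC b (a * b')).eq]; group
        _ = _ := by rw [← addC, ← addB, mul_add]
    rw [h] at h'
    exact mul_right_cancel (mul_right_cancel h')
  have equiv : ∀ a b, g (om * a) (om * b) = g a b := by
    intro a b
    calc g (om * a) (om * b)
        = (ht * A a * ht⁻¹) * (ht * B b * ht⁻¹) * ((ht * B b * ht⁻¹) * (ht * A a * ht⁻¹))⁻¹ *
          (ht * C (a * b) * ht⁻¹)⁻¹ := by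
            rw [eqA, eqB, eqC, mul_mul_mul_comm om om]
      _ = ht * g a b * ht⁻¹ := by simp only [g]; group
      _ = g a b := by rw [gc a b ht, mul_inv_cancel_right]
  set p := g 1 1 with hp
  set r := g 1 om with hr
  have pp : p * p = 1 := h2 _ (gk _ _)
  have rr : r * r = 1 := h2 _ (gk _ _)
  have e11 : g om om = p := by simpa using equiv 1 1
  have e1o : g om 1 = p * r := by
    have := equiv 1 om
    rw [mul_one, ho2, addg2, e11] at this
    calc g om 1 = p * (p * g om 1) := by rw [← mul_assoc, pp, one_mul]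
      _ = p * r := by rw [this]
  have pr : r * p = p * r := (gc _ _ r)
  let K0 : Subgroup P :=
    { carrier := {1, p, r, p * r}
      one_mem' := by simp
      inv_mem' := by
        intro x hx
        simp only [Set.mem_insert_iff, Set.mem_singleton_iff] at hx ⊢
        rcases hx with rfl | rfl | rfl | rfl
        · simp
        · right; left; exact inv_eq_of_mul_eq_one_right pp
        · right; right; left; exact inv_eq_of_mul_eq_one_right rr
        · right; right; right
          rw [mul_inv_rev, inv_eq_of_mul_eq_one_right pp, inv_eq_of_mul_eq_one_right rr, pr]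
      mul_mem' := by
        intro x y hx hy
        simp only [Set.mem_insert_iff, Set.mem_singleton_iff] at hx hy ⊢
        have a1 : p * (p * r) = r := by rw [← mul_assoc, pp, one_mul]
        have a2 : r * (p * r) = p := by rw [← mul_assoc, pr, mul_assoc, rr, mul_one]
        have a3 : p * r * p = r := by rw [mul_assoc, pr, a1]
        have a4 : p * r * r = p := by rw [mul_assoc, rr, mul_one]
        have a5 : p * r * (p * r) = 1 := by rw [← mul_assoc, a3, rr]
        rcases hx with rfl | rfl | rfl | rfl <;> rcases hy with rfl | rfl | rfl | rfl <;>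
          simp [pp, rr, pr, a1, a2, a3, a4, a5] }
  have mK : ∀ x : P, x = 1 ∨ x = p ∨ x = r ∨ x = p * r → x ∈ K0 := fun x hx => hx
  have pK : p ∈ K0 := mK _ (Or.inr (Or.inl rfl))
  have rK : r ∈ K0 := mK _ (Or.inr (Or.inr (Or.inl rfl)))
  have hK0k : K0 ≤ π.ker := by
    intro x hx
    rcases (hx : x = 1 ∨ x = p ∨ x = r ∨ x = p * r) with rfl | rfl | rfl | rfl
    · exact one_mem _
    · exact gk _ _
    · exact gk _ _
    · exact mul_mem (gk _ _) (gk _ _)
  have gK : ∀ a b, g a b ∈ K0 := by
    intro a b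
    rcases allF a with rfl | rfl | rfl | rfl <;> rcases allF b with rfl | rfl | rfl | rfl <;>
      simp only [zero_g, g_zero, addg1, addg2, e11, e1o, ← hp, ← hr] <;>
      first
        | exact one_mem _
        | exact pK
        | exact rK
        | exact mul_mem pK rK
        | exact mul_mem (mul_mem pK rK) pK
        | exact mul_mem pK (mul_mem pK rK)
        | exact mul_mem rK pK
        | exact mul_mem (mul_mem pK (mul_mem pK rK)) (mul_mem rK pK)
        | exact mul_mem (mul_mem rK pK) (mul_mem pK (mul_mem pK rK))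
        | exact mul_mem (mul_mem pK rK) (mul_mem (mul_mem pK rK) pK)
        | (repeat' first | apply mul_mem | exact pK | exact rK | exact one_mem _)
  -- the complement in the preimage of U
  let T0 : Submonoid P :=
    { carrier := {x | ∃ a b c, ∃ k ∈ K0, x = k * C c * (B b * A a)}
      one_mem' := by
        refine ⟨0, 0, 0, g 0 0, gK 0 0, ?_⟩
        have h0 := AB 0 0
        have e1 : A 0 = 1 := by
          have := addA 0 0
          rw [add_zero] at this
          exact left_eq_mul.1 this
        have e2 : B 0 = 1 := by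
          have := addB 0 0
          rw [add_zero] at this
          exact left_eq_mul.1 this
        rw [mul_zero] at h0
        rw [← h0, e1, e2, one_mul]
      mul_mem' := by
        rintro x y ⟨a, b, c, k, hk, rfl⟩ ⟨a', b', c', k', hk', rfl⟩
        refine ⟨a + a', b + b', c + c' + a * b', k * k' * g a b', mul_mem (mul_mem hk hk') (gK _ _), ?_⟩
        have kc : ∀ z, z * k' = k' * z := ker_comm hc (hK0k hk')
        calc k * C c * (B b * A a) * (k' * C c' * (B b' * A a'))
            = k * ((C c * B b * A a) * k') * (C c' * B b' * A a') := by group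
          _ = k * (k' * (C c * B b * A a)) * (C c' * B b' * A a') := by rw [kc]
          _ = k * k' * (C c * B b) * (A a * C c') * (B b' * A a') := by group
          _ = k * k' * (C c * B b) * (C c' * A a) * (B b' * A a') := by rw [(cAC a c').eq]
          _ = k * k' * C c * (B b * C c') * (A a * B b') * A a' := by group
          _ = k * k' * C c * (C c' * B b) * (g a b' * C (a * b') * (B b' * A a)) * A a' := by
              rw [← (cBC b c').eq, AB a b']
          _ = k * k' * ((C c * C c' * B b) * g a b') * C (a * b') * (B b' * A a) * A a' := by group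
          _ = k * k' * (g a b' * (C c * C c' * B b)) * C (a * b') * (B b' * A a) * A a' := by
              rw [gc a b' (C c * C c' * B b)]
          _ = k * k' * g a b' * (C c * C c') * (B b * C (a * b')) * (B b' * A a) * A a' := by group
          _ = k * k' * g a b' * (C c * C c') * (C (a * b') * B b) * (B b' * A a) * A a' := by
              rw [← (cBC b (a * b')).eq]
          _ = k * k' * g a b' * (C c * C c' * C (a * b')) * ((B b * B b') * (A a * A a')) := by group
          _ = _ := by rw [← addC, ← addC, ← addA, ← addB] }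
  let T : Subgroup P :=
    { T0 with
      inv_mem' := fun {x} hx => by
        have : x⁻¹ = x ^ (orderOf x - 1) := by
          apply inv_eq_of_mul_eq_one_right
          rw [← pow_succ', Nat.sub_add_cancel (orderOf_pos x), pow_orderOf_eq_one]
        show x⁻¹ ∈ T0
        rw [this]
        exact pow_mem (show x ∈ T0 from hx) _ }
  have hTk : ∀ x ∈ T, x ∈ π.ker → x ∈ K0 := by
    rintro x ⟨a, b, c, k, hk, rfl⟩ hx
    rw [MonoidHom.mem_ker, map_mul, map_mul, (MonoidHom.mem_ker.1 (hK0k hk)), one_mul, map_mul,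
      pC, pB, pA, ← map_mul, ← map_mul, ← MonoidHom.mem_ker] at hx
    have hmem := Matrix.SpecialLinearGroup.mem_center_iff.1 (hqk hx)
    obtain ⟨t, -, ht⟩ := hmem
    have hm : (tC c * (tB b * tA a)).1 = !![1, a, c; 0, 1, b; 0, 0, 1] := by
      simp [tC_coe, tB_coe, tA_coe]
    rw [hm] at ht
    have h01 := congrFun (congrFun ht 0) 1
    have h12 := congrFun (congrFun ht 1) 2
    have h02 := congrFun (congrFun ht 0) 2
    simp at h01 h12 h02
    subst h01 h12 h02
    have h0 := AB 0 0
    rw [mul_zero] at h0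
    have e1 : A 0 = 1 := by
      have := addA 0 0
      rw [add_zero] at this
      exact left_eq_mul.1 this
    have e2 : B 0 = 1 := by
      have := addB 0 0
      rw [add_zero] at this
      exact left_eq_mul.1 this
    have e3 : C 0 = 1 := by
      have := addC 0 0
      rw [add_zero] at this
      exact left_eq_mul.1 this
    rw [e1, e2, e3, mul_one, one_mul, mul_one]
    exact hk
  let H : Subgroup P := Subgroup.comap π ((U3 F).map q)
  have hTH : T ≤ H := by
    rintro x ⟨a, b, c, k, hk, rfl⟩
    refine ⟨tC c * (tB b * tA a), ⟨a, b, c, by simp [tC_coe, tB_coe, tA_coe]⟩, ?_⟩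
    rw [map_mul, map_mul π (k * C c), map_mul π k, MonoidHom.mem_ker.1 (hK0k hk), one_mul,
      map_mul π, pA, pB, pC, map_mul]
  have hHdec : ∀ x ∈ H, ∃ k ∈ π.ker, ∃ t ∈ T, x = k * t := by
    rintro x ⟨u, ⟨a, b, c, hu⟩, hxu⟩
    refine ⟨x * (C c * (B b * A a))⁻¹, ?_, C c * (B b * A a), ⟨a, b, c, 1, one_mem _, by rw [one_mul]⟩, by group⟩
    rw [MonoidHom.mem_ker, map_mul, map_inv, map_mul, map_mul, pA, pB, pC, ← map_mul, ← map_mul,
      mul_inv_eq_one, ← hxu]
    congr 1
    apply mat_ext
    rw [hu]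
    simp [tC_coe, tB_coe, tA_coe]
  let N : Subgroup H := T.subgroupOf H
  have hcommH : ∀ x y : H, x * y * x⁻¹ * y⁻¹ ∈ N := by
    rintro ⟨x, hx⟩ ⟨y, hy⟩
    obtain ⟨k, hk, t, ht, rfl⟩ := hHdec x hx
    obtain ⟨k', hk', t', ht', rfl⟩ := hHdec y hy
    show k * t * (k' * t') * (k * t)⁻¹ * (k' * t')⁻¹ ∈ T
    have c1 := ker_comm hc hk
    have c2 := ker_comm hc hk'
    have : k * t * (k' * t') * (k * t)⁻¹ * (k' * t')⁻¹ = t * t' * t⁻¹ * t'⁻¹ := by
      calc k * t * (k' * t') * (k * t)⁻¹ * (k' * t')⁻¹
          = k * (t * k') * t' * t⁻¹ * k⁻¹ * t'⁻¹ * k'⁻¹ := by group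
        _ = k * k' * (t * t' * t⁻¹) * (k⁻¹ * (t'⁻¹ * k'⁻¹)) := by rw [c2 t]; group
        _ = k * k' * ((t * t' * t⁻¹) * k⁻¹) * (t'⁻¹ * k'⁻¹) := by group
        _ = k * k' * (k⁻¹ * (t * t' * t⁻¹)) * (t'⁻¹ * k'⁻¹) := by
            rw [ker_comm hc (inv_mem hk) (t * t' * t⁻¹)]
        _ = (k * k' * k⁻¹) * ((t * t' * t⁻¹ * t'⁻¹) * k'⁻¹) := by group
        _ = (k' * k * k⁻¹) * (k'⁻¹ * (t * t' * t⁻¹ * t'⁻¹)) := by
            rw [ker_comm hc (inv_mem hk') (t * t' * t⁻¹ * t'⁻¹), c2 k]
        _ = _ := by group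
    rw [this]
    exact mul_mem (mul_mem (mul_mem ht ht') (inv_mem ht)) (inv_mem ht')
  haveI hN : N.Normal := ⟨fun n hn x => by
    have := mul_mem (hcommH x n) hn
    simpa [mul_assoc] using this⟩
  letI : CommGroup (H ⧸ N) :=
    { (inferInstance : Group (H ⧸ N)) with
      mul_comm := by
        intro x y
        induction x using QuotientGroup.induction_on with
        | H x => induction y using QuotientGroup.induction_on with
          | H y =>
            rw [← QuotientGroup.mk_mul, ← QuotientGroup.mk_mul, eq_comm, QuotientGroup.eq]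
            have := hcommH x⁻¹ y⁻¹
            simpa [mul_assoc] using this }
  let φ : H →* H ⧸ N := QuotientGroup.mk' N
  have htr : ∀ x : P, MonoidHom.transfer φ x = 1 := by
    intro x
    have : commutator P ≤ (MonoidHom.transfer φ).ker := Abelianization.commutator_subset_ker _
    exact MonoidHom.mem_ker.1 (this (by rw [hperf]; trivial))
  have hodd : Odd H.index := by
    have hdvd : H.index ∣ (U3 F).index := by
      rw [Subgroup.index_comap_of_surjective _ hπ]
      exact Subgroup.index_map_dvd _ hq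
    exact (index_U3_odd h4).of_dvd_nat hdvd
  have hker : π.ker ≤ K0 := by
    intro z hz
    have hkey : ∀ (n : ℕ) (g₀ : P), g₀⁻¹ * z ^ n * g₀ ∈ H → g₀⁻¹ * z ^ n * g₀ = z ^ n := by
      intro n g₀ _
      rw [ker_comm hc (pow_mem hz n) g₀⁻¹, inv_mul_cancel_right]
    have h1 := htr z
    rw [MonoidHom.transfer_eq_pow φ z hkey] at h1
    have h1' : z ^ H.index ∈ T := by
      have := (QuotientGroup.eq_one_iff _).1 h1
      exact this
    obtain ⟨n, hn⟩ := hodd
    rw [hn, pow_succ, pow_mul, pow_two, h2 z hz, one_pow, one_mul] at h1'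
    exact hTk z h1' hz
  calc Nat.card π.ker ≤ Nat.card K0 := Nat.card_mono (Set.toFinite _) hker
    _ ≤ 4 := by
      rw [← SetLike.coe_sort_coe, Nat.card_coe_set_eq]
      have hset : (K0 : Set P) = {1, p, r, p * r} := rfl
      rw [hset]
      refine (Set.ncard_insert_le _ _).trans ?_
      refine Nat.succ_le_succ ((Set.ncard_insert_le _ _).trans ?_)
      refine Nat.succ_le_succ ((Set.ncard_insert_le _ _).trans ?_)
      rw [Set.ncard_singleton]

end Main

end CfsgLib.CoverPSL34
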