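import Cfsg.Agent.Spor3T.UnitarySix

/-!
In every extension of `PSU₆(2)` by a central subgroup of exponent two the involutions lift to involutions.
-/

set_option autoImplicit false
set_option linter.unusedSectionVars false
set_option linter.style.haveILetI false

namespace CfsgLib.ThreeT.SixTwo

open Matrix CfsgLib.Unitary

variable {F : Type} [Field F] [Finite F] [CharP F 2] (hF : Nat.card F = 2 ^ 2)

local notation "V" => Fin 6 → F
local notation "hh" => Cfsg.hermForm 6 F 2
local notation "π" => QuotientGroup.mk' (Subgroup.center (Cfsg.SU 6 F 2))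

include hF

theorem exists_perp_not_mem {k : ℕ} (w : Fin k → V) (H : Submodule F V)
    (hH : Module.finrank F H + k < 6) : ∃ x, (∀ i, hh x (w i) = 0) ∧ x ∉ H := by
  let f : V →ₗ[F] (Fin k → F) :=
    { toFun := fun x i => hh x (w i)
      map_add' := fun x y => funext fun i => herm_add_left 6 x y (w i)
      map_smul' := fun c x => funext fun i => herm_smul_left 6 c x (w i) }
  by_contra hc
  push Not at hc
  have hker : LinearMap.ker f ≤ H := fun x hx =>
    hc x fun i => congrFun (LinearMap.mem_ker.1 hx) i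
  have h1 := Submodule.finrank_mono hker
  have h2 := LinearMap.finrank_range_add_finrank_ker f
  have h3 := Submodule.finrank_le (LinearMap.range f)
  rw [Module.finrank_pi, Fintype.card_fin] at h2 h3
  omega

theorem herm_self_bit (x : V) : hh x x = 0 ∨ hh x x = 1 := by
  have h := herm_self_fixed hF (n := 6) x
  have : hh x x * (hh x x - 1) = 0 := by linear_combination h
  rcases mul_eq_zero.1 this with h0 | h0
  · exact Or.inl h0
  · exact Or.inr (sub_eq_zero.1 h0)

/-- An isotropic vector outside a totally isotropic line, orthogonal to it, with a partner there. -/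
theorem exists_frame {y u : V} (hy : hh y y = 0) (hu : hh u u = 0) (hyu : hh y u = 0) :
    ∃ u' v : V, hh u' u' = 0 ∧ hh v v = 0 ∧ hh u' v = 1 ∧ hh u' y = 0 ∧ hh u' u = 0 ∧
      hh v y = 0 ∧ hh v u = 0 := by
  have huy : hh u y = 0 := (hh_comm hF).1 hyu
  set H : Submodule F V := Submodule.span F (Set.range ![y, u]) with hHdef
  have hH : Module.finrank F H ≤ 2 := (finrank_range_le_card (R := F) ![y, u]).trans (by simp)
  obtain ⟨p, hp, hpH⟩ := exists_perp_not_mem hF ![y, u] H (by omega)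
  have hperp : ∀ x : V, hh x y = 0 → hh x u = 0 → ∀ h ∈ H, hh h x = 0 := by
    intro x h1 h2 h hh'
    induction hh' using Submodule.span_induction with
    | mem z hz =>
      obtain ⟨i, rfl⟩ := hz
      fin_cases i
      · exact (hh_comm hF).1 h1
      · exact (hh_comm hF).1 h2
    | zero => exact hh_zero_left hF x
    | add a b _ _ ha hb => rw [herm_add_left, ha, hb, add_zero]
    | smul c a _ ha => rw [herm_smul_left, ha, mul_zero]
  obtain ⟨u', hu'0, hu'y, hu'u, hu'H⟩ : ∃ u', hh u' u' = 0 ∧ hh u' y = 0 ∧ hh u' u = 0 ∧ u' ∉ H := by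
    rcases herm_self_bit hF p with hpp | hpp
    · exact ⟨p, hpp, hp 0, hp 1, hpH⟩
    obtain ⟨r, hr, hrH⟩ := exists_perp_not_mem hF ![y, u, p] H (by omega)
    rcases herm_self_bit hF r with hrr | hrr
    · exact ⟨r, hrr, hr 0, hr 1, hrH⟩
    have hrp : hh r p = 0 := hr 2
    have hpr : hh p r = 0 := (hh_comm hF).1 hrp
    refine ⟨p + r, ?_, ?_, ?_, fun hm => ?_⟩
    · rw [herm_add_left, hh_add_right hF, hh_add_right hF, hpp, hrr, hrp, hpr, add_zero, zero_add,
        CharTwo.add_self_eq_zero]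
    · rw [herm_add_left, show hh p y = 0 from hp 0, show hh r y = 0 from hr 0, add_zero]
    · rw [herm_add_left, show hh p u = 0 from hp 1, show hh r u = 0 from hr 1, add_zero]
    · have := hperp p (hp 0) (hp 1) _ hm
      rw [herm_add_left, hpp, hrp, add_zero] at this
      exact one_ne_zero this
  obtain ⟨v, hvH, huv, -, hvv⟩ := exists_partner hF (H := H) hu'H hu'0 (hperp u' hu'y hu'u)
  exact ⟨u', v, hu'0, hvv, huv, hu'y, hu'u,
    (hh_comm hF).1 (hvH y (Submodule.subset_span ⟨0, rfl⟩)),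
    (hh_comm hF).1 (hvH u (Submodule.subset_span ⟨1, rfl⟩))⟩

theorem line_iso {p q : V} (hp : hh p p = 0) (hq : hh q q = 0) (hpq : hh p q = 0) (a b c d : F) :
    hh (a • p + b • q) (c • p + d • q) = 0 := by
  simp [herm_add_left, hh_add_right hF, herm_smul_left, herm_smul_right hF, hp, hq, hpq,
    (hh_comm hF).1 hpq]

theorem tv_comm {u v : V} (hu : hh u u = 0) (hv : hh v v = 0) (h : hh u v = 0) :
    Commute (tv hF u) (tv hF v) := by
  have h' := (hh_comm hF).1 h
  refine su_ext fun x => ?_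
  rw [tv_mul_apply hF hu hv, tv_mul_apply hF hv hu, h, h', mul_zero, mul_zero, add_zero, add_zero]
  abel

/-- A product of transvections with pairwise orthogonal centres. -/
theorem tv_list_apply (l : List V) (hl : ∀ p ∈ l, hh p p = 0) (ho : l.Pairwise fun p r => hh p r = 0)
    (x : V) : suMat ((l.map (tv hF)).prod) *ᵥ x = x + (l.map fun p => hh x p • p).sum := by
  induction l with
  | nil => simp [suMat_one]
  | cons p l ih =>
    rw [List.pairwise_cons] at ho
    simp only [List.map_cons, List.prod_cons, List.sum_cons]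
    rw [suMat_mul, ← Matrix.mulVec_mulVec, ih (fun r hr => hl r (List.mem_cons_of_mem _ hr)) ho.2,
      tv_apply hF (hl p (List.mem_cons_self))]
    have : hh ((l.map fun r => hh x r • r).sum) p = 0 := by
      clear ih hl
      induction l with
      | nil => simp [hh_zero_left hF]
      | cons r l ih =>
        simp only [List.map_cons, List.sum_cons, herm_add_left, herm_smul_left]
        rw [(hh_comm hF).1 (ho.1 r List.mem_cons_self), mul_zero, zero_add]
        exact ih ⟨fun s hs => ho.1 s (List.mem_cons_of_mem _ hs), (List.pairwise_cons.1 ho.2).2⟩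
    rw [herm_add_left, this, add_zero]
    abel

/-- A transvection as a commutator of products of transvections commuting with it. -/
theorem exists_commutator {y u : V} (hy : hh y y = 0) (hu : hh u u = 0) (hyu : hh y u = 0) :
    ∃ (a : Cfsg.SU 6 F 2) (r s : V), hh r r = 0 ∧ hh s s = 0 ∧ hh r s = 0 ∧ hh r u = 0 ∧ hh s u = 0 ∧
      Commute a (tv hF y) ∧ Commute (tv hF r * tv hF s) (tv hF y) ∧
      a * (tv hF r * tv hF s) * a⁻¹ * (tv hF r * tv hF s)⁻¹ = tv hF u := by
  obtain ⟨u', v, hu', hv, huv', hu'y, hu'u, hvy, hvu⟩ := exists_frame hF hy hu hyu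
  obtain ⟨w, hw0, -, hw⟩ := exists_omega hF
  have e2 : (2 : F) = 0 := CharTwo.two_eq_zero
  have hw3 : w ^ 3 = 1 := pow_three hF hw0
  have huy : hh u y = 0 := (hh_comm hF).1 hyu
  have huu' : hh u u' = 0 := (hh_comm hF).1 hu'u
  have huv : hh u v = 0 := (hh_comm hF).1 hvu
  have line : ∀ (q : V), hh q q = 0 → hh u q = 0 → ∀ a c : F,
      hh (u + a • q) (u + c • q) = 0 := by
    intro q hq huq a c
    simpa using line_iso hF hu hq huq 1 a 1 c
  set m₁ : V := u + w • v with hm₁
  set m₂ : V := u + (w ^ 2) • v with hm₂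
  have hm11 : hh m₁ m₁ = 0 := line v hv huv _ _
  have hm22 : hh m₂ m₂ = 0 := line v hv huv _ _
  set a : Cfsg.SU 6 F 2 := tv hF m₁ * tv hF m₂ with ha
  set r : V := u + (1 : F) • u' with hr
  set s : V := u + w • u' with hs
  have hrr : hh r r = 0 := line u' hu' huu' _ _
  have hss : hh s s = 0 := line u' hu' huu' _ _
  have hrs : hh r s = 0 := line u' hu' huu' _ _
  have perp : ∀ (q : V) (c : F), hh q y = 0 → hh (u + c • q) y = 0 := fun q c hq => by
    rw [herm_add_left, herm_smul_left, huy, hq, mul_zero, add_zero]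
  have perpu : ∀ (q : V) (c : F), hh q u = 0 → hh (u + c • q) u = 0 := fun q c hq => by
    rw [herm_add_left, herm_smul_left, hu, hq, mul_zero, add_zero]
  have happ : ∀ c : F, suMat a *ᵥ (u + c • u') = (1 + c) • u + c • u' := by
    intro c
    rw [ha, tv_mul_apply hF hm11 hm22]
    have h1 : hh m₂ m₁ = 0 := line v hv huv _ _
    simp only [h1, mul_zero, add_zero]
    simp only [hm₁, hm₂, herm_add_left, herm_smul_left, hh_add_right hF, herm_smul_right hF, hu,
      huv, hu'u, huv', mul_zero, mul_one, add_zero, zero_add]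
    have f2 : (w ^ 2) ^ 2 = w := by linear_combination w * hw3
    rw [f2]
    match_scalars
    · linear_combination c * hw + (c * w) * e2
    · ring
    · linear_combination (c * w ^ 3) * e2
  refine ⟨a, r, s, hrr, hss, hrs, perpu u' _ hu'u, perpu u' _ hu'u, ?_, ?_, ?_⟩
  · exact (tv_comm hF hm11 hy (perp v _ hvy)).mul_left (tv_comm hF hm22 hy (perp v _ hvy))
  · exact (tv_comm hF hrr hy (perp u' _ hu'y)).mul_left (tv_comm hF hss hy (perp u' _ hu'y))
  · set c : V := w • u + u' with hc
    have hcc : hh c c = 0 := by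
      simpa [hc] using line_iso hF hu hu' huu' w 1 w 1
    have e1 : suMat a *ᵥ r = u' := by
      rw [hr, happ, one_smul, CharTwo.add_self_eq_zero, zero_smul, zero_add]
    have e3 : suMat a *ᵥ s = w • c := by
      rw [hs, happ, hc, smul_add, smul_smul]
      congr 2
      linear_combination -hw
    have ew : tv hF (w • c) = tv hF c := su_ext fun x => by
      rw [tv_apply hF hcc, tv_apply hF (by rw [herm_smul_left, herm_smul_right hF, hcc, mul_zero, mul_zero]),
        herm_smul_right hF, smul_smul]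
      congr 2
      linear_combination hh x c * hw3
    have hca : a * (tv hF r * tv hF s) * a⁻¹ = tv hF u' * tv hF c := by
      rw [conj_mul.symm, tv_conj hF a hrr, tv_conj hF a hss, e1, e3, ew]
    have hinv : (tv hF r * tv hF s)⁻¹ = tv hF r * tv hF s := by
      refine inv_eq_of_mul_eq_one_right ?_
      rw [(tv_comm hF hrr hss hrs).symm.mul_mul_mul_comm, tv_sq hF hrr, tv_sq hF hss, one_mul]
    rw [hca, hinv]
    have hl : [u', c, r, s].Pairwise fun p t => hh p t = 0 := by
      have L := line_iso hF hu hu' huu'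
      refine List.pairwise_cons.2 ⟨?_, List.pairwise_cons.2 ⟨?_, List.pairwise_cons.2 ⟨?_,
        List.pairwise_singleton _ _⟩⟩⟩
      · intro t ht
        simp only [List.mem_cons, List.not_mem_nil, or_false] at ht
        rcases ht with rfl | rfl | rfl
        · simpa [hc] using L 0 1 w 1
        · simpa [hr] using L 0 1 1 1
        · simpa [hs] using L 0 1 1 w
      · intro t ht
        simp only [List.mem_cons, List.not_mem_nil, or_false] at ht
        rcases ht with rfl | rfl
        · simpa [hc, hr] using L w 1 1 1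
        · simpa [hc, hs] using L w 1 1 w
      · intro t ht
        simp only [List.mem_cons, List.not_mem_nil, or_false] at ht
        subst ht
        exact hrs
    have hiso : ∀ p ∈ [u', c, r, s], hh p p = 0 := by simp [hu', hcc, hrr, hss]
    refine su_ext fun x => ?_
    have h := tv_list_apply hF [u', c, r, s] hiso hl x
    simp only [List.map_cons, List.map_nil, List.prod_cons, List.prod_nil, mul_one, List.sum_cons,
      List.sum_nil, add_zero] at h
    rw [mul_assoc, h, tv_apply hF hu]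
    simp only [hc, hr, hs, hh_add_right hF, herm_smul_right hF]
    match_scalars
    · ring
    · linear_combination hh x u * hw + hh x u' * hw3 + (hh x u * (w + 1) + 2 * hh x u') * e2
    · linear_combination hh x u * hw3 + hh x u' * hw + (hh x u + hh x u' * (w + 1)) * e2

/-- Every involution is a product of transvections with pairwise orthogonal centres. -/
theorem exists_tv_list {g : Cfsg.SU 6 F 2} (hg : g * g = 1) :
    ∃ l : List V, (∀ p ∈ l, hh p p = 0) ∧ (l.Pairwise fun p r => hh p r = 0) ∧ (l.map (tv hF)).prod = g := by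
  have hN := Unitary.Invol.isUDev_of_invol hF hg
  set N := Matrix.mulVecLin (suMat g - 1) with hNdef
  obtain ⟨e, he⟩ := Unitary.Invol.exists_fam hF hN
  have hiso := fun i j => Unitary.Invol.image_isotropic hF hN (e i) (e j)
  refine ⟨List.ofFn fun i => N (e i), ?_, ?_, su_ext fun x => ?_⟩
  · intro p hp
    obtain ⟨i, rfl⟩ := List.mem_ofFn.1 hp
    exact hiso i i
  · exact List.pairwise_ofFn.2 fun i j _ => hiso i j
  · rw [tv_list_apply hF _ (by intro p hp; obtain ⟨i, rfl⟩ := List.mem_ofFn.1 hp; exact hiso i i)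
      (List.pairwise_ofFn.2 fun i j _ => hiso i j), List.map_ofFn, List.sum_ofFn]
    have happ : suMat g *ᵥ x = x + N x := by
      rw [hNdef, Matrix.mulVecLin_apply, Matrix.sub_mulVec, Matrix.one_mulVec, add_sub_cancel]
    rw [happ]
    exact congrArg (x + ·) (he.expand x).symm

section Cover

variable {C : Type*} [Group C] (φ : C →* Cfsg.PSU 6 F 2) (hφ : Function.Surjective φ)
  (hker : φ.ker ≤ Subgroup.center C) (hexp : ∀ z ∈ φ.ker, z * z = 1)

include hφ hker

theorem lift_commute {x y : C} {u v : V} (hu : hh u u = 0) (hv : hh v v = 0) (h : hh u v = 0)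
    (hx : φ x = π (tv hF u)) (hy : φ y = π (tv hF v)) : Commute x y := by
  obtain ⟨a, r, s, -, -, -, -, -, ha, hb, he⟩ := exists_commutator hF hu hv h
  obtain ⟨A, hA⟩ := hφ (π a)
  obtain ⟨B, hB⟩ := hφ (π (tv hF r * tv hF s))
  have key : ∀ {g : C} {t : Cfsg.SU 6 F 2}, φ g = π t → Commute t (tv hF u) →
      ∃ z ∈ φ.ker, g * x * g⁻¹ = z * x := fun {g t} hg ht => by
    refine ⟨g * x * g⁻¹ * x⁻¹, ?_, by group⟩
    rw [MonoidHom.mem_ker, map_mul, map_mul, map_mul, map_inv, map_inv, hg, hx, (ht.map π).eq]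
    group
  obtain ⟨z₁, hz₁, e₁⟩ := key hA ha
  obtain ⟨z₂, hz₂, e₂⟩ := key hB hb
  have c₁ := fun g => Subgroup.mem_center_iff.1 (hker hz₁) g
  have c₂ := fun g => Subgroup.mem_center_iff.1 (hker hz₂) g
  have i₁ : A⁻¹ * x * A = z₁⁻¹ * x := by
    calc A⁻¹ * x * A = z₁⁻¹ * (A⁻¹ * (z₁ * x) * A) := by
          rw [← mul_assoc A⁻¹, c₁ A⁻¹]; group
      _ = z₁⁻¹ * x := by rw [← e₁]; group
  have i₂ : B⁻¹ * x * B = z₂⁻¹ * x := by
    calc B⁻¹ * x * B = z₂⁻¹ * (B⁻¹ * (z₂ * x) * B) := by
          rw [← mul_assoc B⁻¹, c₂ B⁻¹]; group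
      _ = z₂⁻¹ * x := by rw [← e₂]; group
  have n₁ : ∀ g, g * z₁⁻¹ = z₁⁻¹ * g := fun g => Subgroup.mem_center_iff.1 (inv_mem (hker hz₁)) g
  have n₂ : ∀ g, g * z₂⁻¹ = z₂⁻¹ * g := fun g => Subgroup.mem_center_iff.1 (inv_mem (hker hz₂)) g
  have hT : Commute (A * B * A⁻¹ * B⁻¹) x := by
    have : (A * B * A⁻¹ * B⁻¹) * x * (A * B * A⁻¹ * B⁻¹)⁻¹ = x :=
      calc (A * B * A⁻¹ * B⁻¹) * x * (A * B * A⁻¹ * B⁻¹)⁻¹
          = A * (B * (A⁻¹ * (B⁻¹ * x * B) * A) * B⁻¹) * A⁻¹ := by group
        _ = A * (B * (z₂⁻¹ * (A⁻¹ * x * A)) * B⁻¹) * A⁻¹ := by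
            rw [i₂, ← mul_assoc A⁻¹, n₂]; group
        _ = A * (z₂⁻¹ * z₁⁻¹ * (B * x * B⁻¹)) * A⁻¹ := by
            rw [i₁, ← mul_assoc z₂⁻¹ z₁⁻¹ x, ← mul_assoc B, ← mul_assoc B, n₂, mul_assoc z₂⁻¹ B, n₁]
            group
        _ = z₂⁻¹ * z₁⁻¹ * z₂ * (A * x * A⁻¹) := by
            rw [e₂, ← mul_assoc (z₂⁻¹ * z₁⁻¹) z₂ x, ← mul_assoc A,
              Subgroup.mem_center_iff.1 (hker (mul_mem (mul_mem (inv_mem hz₂) (inv_mem hz₁)) hz₂)) A]
            group
        _ = x := by
            rw [e₁, mul_assoc z₂⁻¹ z₁⁻¹ z₂, c₂ z₁⁻¹]; group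
    exact mul_inv_eq_iff_eq_mul.1 this
  have hz : y * (A * B * A⁻¹ * B⁻¹)⁻¹ ∈ φ.ker := by
    rw [MonoidHom.mem_ker, map_mul, map_inv, map_mul, map_mul, map_mul, map_inv, map_inv, hA, hB, hy,
      ← he, map_mul, map_mul, map_mul, map_inv, map_inv, map_mul, mul_inv_cancel]
  have hzc : Commute (y * (A * B * A⁻¹ * B⁻¹)⁻¹) x :=
    ((Subgroup.mem_center_iff.1 (hker hz)) x).symm
  have := hzc.mul_left hT
  rw [inv_mul_cancel_right] at this
  exact this.symm

include hexp

theorem lift_sq {x : C} {u : V} (hu : hh u u = 0) (hx : φ x = π (tv hF u)) : x * x = 1 := by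
  obtain ⟨a, r, s, hr, hs, hrs, hru, hsu, -, -, he⟩ := exists_commutator hF hu hu hu
  obtain ⟨A, hA⟩ := hφ (π a)
  obtain ⟨R, hR⟩ := hφ (π (tv hF r))
  obtain ⟨S, hS⟩ := hφ (π (tv hF s))
  set T := A * (R * S) * A⁻¹ * (R * S)⁻¹ with hTdef
  have hTu : φ T = π (tv hF u) := by
    rw [hTdef, ← he]
    simp only [map_mul, map_inv, hA, hR, hS]
  have hc : Commute (R * S) T :=
    (lift_commute hF φ hφ hker hr hu hru hR hTu).mul_left (lift_commute hF φ hφ hker hs hu hsu hS hTu)
  have hB2 : (R * S) * (R * S) ∈ Subgroup.center C := by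
    refine hker ?_
    rw [MonoidHom.mem_ker]
    simp only [map_mul, hR, hS]
    rw [← map_mul, ← map_mul, (tv_comm hF hr hs hrs).symm.mul_mul_mul_comm, tv_sq hF hr,
      tv_sq hF hs, one_mul, map_one]
  have hTT : T * T = 1 := by
    have e : A * (R * S) * A⁻¹ = T * (R * S) := by rw [hTdef]; group
    have h : T * T * ((R * S) * (R * S)) = 1 * ((R * S) * (R * S)) := by
      rw [one_mul]
      calc T * T * ((R * S) * (R * S)) = (T * (R * S)) * (T * (R * S)) := by
            rw [hc.symm.mul_mul_mul_comm]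
        _ = A * ((R * S) * (R * S)) * A⁻¹ := by rw [← e]; group
        _ = (R * S) * (R * S) := by rw [Subgroup.mem_center_iff.1 hB2 A, mul_inv_cancel_right]
    exact mul_right_cancel h
  have hz : x * T⁻¹ ∈ φ.ker := by rw [MonoidHom.mem_ker, map_mul, map_inv, hx, hTu, mul_inv_cancel]
  have hzc : Commute (x * T⁻¹) T := ((Subgroup.mem_center_iff.1 (hker hz)) T).symm
  calc x * x = (x * T⁻¹ * T) * (x * T⁻¹ * T) := by rw [inv_mul_cancel_right]
    _ = (x * T⁻¹) * (x * T⁻¹) * (T * T) := by rw [hzc.symm.mul_mul_mul_comm]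
    _ = 1 := by rw [hexp _ hz, hTT, one_mul]

theorem lift_list (l : List V) (hl : ∀ p ∈ l, hh p p = 0) (ho : l.Pairwise fun p r => hh p r = 0) :
    ∃ y : C, φ y = π ((l.map (tv hF)).prod) ∧ y * y = 1 ∧
      ∀ (q : V) (z : C), hh q q = 0 → (∀ p ∈ l, hh q p = 0) → φ z = π (tv hF q) → Commute z y := by
  induction l with
  | nil => exact ⟨1, by simp, one_mul 1, fun _ z _ _ _ => Commute.one_right z⟩
  | cons p l ih =>
    rw [List.pairwise_cons] at ho
    obtain ⟨y, hy, hy2, hyc⟩ := ih (fun r hr => hl r (List.mem_cons_of_mem _ hr)) ho.2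
    obtain ⟨x, hx⟩ := hφ (π (tv hF p))
    have hp := hl p List.mem_cons_self
    refine ⟨x * y, by simp [hx, hy], ?_, fun q z hq hqp hz => ?_⟩
    · rw [(hyc p x hp ho.1 hx).symm.mul_mul_mul_comm, lift_sq hF φ hφ hker hexp hp hx, hy2, one_mul]
    · exact (lift_commute hF φ hφ hker hq hp (hqp p List.mem_cons_self) hz hx).mul_right
        (hyc q z hq (fun r hr => hqp r (List.mem_cons_of_mem _ hr)) hz)

theorem cover_lift_invol {x : Cfsg.PSU 6 F 2} (hx : x * x = 1) : ∃ y : C, φ y = x ∧ y * y = 1 := by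
  obtain ⟨g, hg, rfl⟩ := lift_invol hF hx
  obtain ⟨l, hl, ho, rfl⟩ := exists_tv_list hF hg
  obtain ⟨y, hy, hy2, -⟩ := lift_list hF φ hφ hker hexp l hl ho
  exact ⟨y, hy, hy2⟩

end Cover

end CfsgLib.ThreeT.SixTwo
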