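import Cfsg.Agent.Spor3T.M22Pentad
import Cfsg.Agent.Spor3T.UnitaryCover

/-!
In every perfect extension of a group of type M(22) by a central subgroup of exponent two the
involutions lift to involutions.
-/

set_option autoImplicit false
set_option linter.unusedSectionVars false
set_option linter.style.haveILetI false

namespace CfsgLib.ThreeT.SixTwo

open Matrix CfsgLib.Unitary

variable {F : Type} [Field F] [Finite F] [CharP F 2] (hF : Nat.card F = 2 ^ 2)

local notation "V" => Fin 6 → F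
local notation "hh" => Cfsg.hermForm 6 F 2
local notation "π" => QuotientGroup.mk' (Subgroup.center (Cfsg.SU 6 F 2))

include hF

theorem smul_of_pi_tv_eq {u v : V} (hu : IsPt u) (hv : IsPt v) (h : π (tv hF u) = π (tv hF v)) :
    tv hF u = tv hF v :=
  pi_inj hF (tv_sq hF hu.2) (tv_sq hF hv.2) h

/-- Two hyperovals of transvections in a totally isotropic plane with three common members. -/
theorem two_hyperovals {y : V} (hy : IsPt y) {E : Set (Cfsg.PSU 6 F 2)}
    (hE : E = {x | ∃ v, IsPt v ∧ π (tv hF v) = x}) :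
    ∃ a b c p q r p' q' r' : Cfsg.PSU 6 F 2,
      (∀ x ∈ [a, b, c, p, q, r, p', q', r'], x ∈ E ∧
        ∀ z ∈ [a, b, c, p, q, r, p', q', r'], Commute x z) ∧
      [a, b, c, p, q, r].Nodup ∧ [a, b, c, p', q', r'].Nodup ∧ p ∉ [p', q', r'] ∧
      a * b * c * p * q * r = 1 ∧ a * b * c * p' * q' * r' = 1 := by
  classical
  obtain ⟨w, hw0, hw1, hw⟩ := exists_omega hF
  have e2 : (2 : F) = 0 := CharTwo.two_eq_zero
  have hw3 : w ^ 3 = 1 := pow_three hF hw0
  obtain ⟨u₀, v₀, hu₀, -, hv₀, hu₀y, -, hv₀y, -⟩ := exists_frame hF hy.2 hy.2 hy.2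
  have hyu₀ : hh y u₀ = 0 := (hh_comm hF).1 hu₀y
  obtain ⟨u', v, hu', -, huv', hu'y, hu'u, hvy, hvu⟩ := exists_frame hF hy.2 hu₀ hyu₀
  have hyu' : hh y u' = 0 := (hh_comm hF).1 hu'y
  have huu' : hh u₀ u' = 0 := (hh_comm hF).1 hu'u
  have hyv : hh y v = 0 := (hh_comm hF).1 hvy
  have huv : hh u₀ v = 0 := (hh_comm hF).1 hvu
  have hyv₀ : hh y v₀ = 0 := (hh_comm hF).1 hv₀y
  let pt : F → F → F → V := fun a b c => a • y + b • u₀ + c • u'
  have hpp : ∀ a b c a' b' c' : F, hh (pt a b c) (pt a' b' c') = 0 := fun a b c a' b' c' => by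
    simp [pt, herm_add_left, hh_add_right hF, herm_smul_left, herm_smul_right hF, hy.2, hu₀, hu',
      hyu₀, hu₀y, hyu', hu'y, huu', hu'u]
  have coord : ∀ a b c : F, pt a b c = 0 → a = 0 ∧ b = 0 ∧ c = 0 := fun a b c h => by
    have hc : c = 0 := by
      have := congrArg (fun x => hh x v) h
      simpa [pt, herm_add_left, herm_smul_left, hyv, huv, huv', hh_zero_left hF] using this
    have hb : b = 0 := by
      have := congrArg (fun x => hh x v₀) h
      simpa [pt, herm_add_left, herm_smul_left, hc, hyv₀, hv₀, hh_zero_left hF] using this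
    subst hb hc
    exact ⟨(smul_eq_zero.1 (by simpa [pt] using h)).resolve_right hy.1, rfl, rfl⟩
  have hpt : ∀ a b c : F, (a ≠ 0 ∨ b ≠ 0 ∨ c ≠ 0) → IsPt (pt a b c) := fun a b c h =>
    ⟨fun e => by obtain ⟨ea, eb, ec⟩ := coord a b c e; simp [ea, eb, ec] at h, hpp a b c a b c⟩
  have inj : ∀ {a b c a' b' c' : F}, (a ≠ 0 ∨ b ≠ 0 ∨ c ≠ 0) → (a' ≠ 0 ∨ b' ≠ 0 ∨ c' ≠ 0) →
      π (tv hF (pt a b c)) = π (tv hF (pt a' b' c')) → ∃ k : F, a = k * a' ∧ b = k * b' ∧ c = k * c' := by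
    intro a b c a' b' c' h h' e
    obtain ⟨k, hk⟩ := tv_eq_smul hF (hpt _ _ _ h) (hpt _ _ _ h') (smul_of_pi_tv_eq hF (hpt _ _ _ h) (hpt _ _ _ h') e)
    refine ⟨k, ?_⟩
    obtain ⟨e₁, e₂, e₃⟩ := coord (a - k * a') (b - k * b') (c - k * c') (by
      calc pt (a - k * a') (b - k * b') (c - k * c') = pt a b c - k • pt a' b' c' := by simp only [pt]; module
        _ = 0 := by rw [hk, sub_self])
    exact ⟨sub_eq_zero.1 e₁, sub_eq_zero.1 e₂, sub_eq_zero.1 e₃⟩
  let T : F → F → F → Cfsg.PSU 6 F 2 := fun a b c => π (tv hF (pt a b c))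
  have hprod : ∀ t : F, t ^ 3 = 1 →
      T 1 0 0 * T 0 1 0 * T 0 0 1 * T 1 1 t * T 1 w (w ^ 2 * t) * T 1 (w ^ 2) (w * t) = 1 := by
    intro t ht
    let l : List V := [pt 1 0 0, pt 0 1 0, pt 0 0 1, pt 1 1 t, pt 1 w (w ^ 2 * t), pt 1 (w ^ 2) (w * t)]
    have hl : ∀ p ∈ l, ∃ a b c, pt a b c = p := by
      intro p hp
      simp only [l, List.mem_cons, List.not_mem_nil, or_false] at hp
      rcases hp with rfl | rfl | rfl | rfl | rfl | rfl <;> exact ⟨_, _, _, rfl⟩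
    have hlz : ∀ p ∈ l, hh p p = 0 := fun p hp => by obtain ⟨a, b, c, rfl⟩ := hl p hp; exact hpp ..
    have hlp : l.Pairwise fun p r => hh p r = 0 := by
      refine List.pairwise_of_forall_mem_list fun p hp r hr => ?_
      obtain ⟨a, b, c, rfl⟩ := hl p hp
      obtain ⟨a', b', c', rfl⟩ := hl r hr
      exact hpp ..
    have h1 : (l.map (tv hF)).prod = 1 := su_ext fun x => by
      rw [tv_list_apply hF l hlz hlp, suMat_one, Matrix.one_mulVec, add_eq_left]
      simp only [l, pt, List.map_cons, List.map_nil, List.sum_cons, List.sum_nil, hh_add_right hF,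
        herm_smul_right hF]
      match_scalars <;> grobner
    have h2 := congrArg π h1
    simp only [l, List.map_cons, List.map_nil, List.prod_cons, List.prod_nil, mul_one, map_mul, map_one,
      ← mul_assoc] at h2
    exact h2
  have hw2 : w ^ 2 ≠ 1 := fun e => by apply hw0; linear_combination e - hw
  have hww : w ^ 2 ≠ w := fun e => by apply one_ne_zero (α := F); linear_combination e - hw
  have hw1' : (1 : F) ≠ w := Ne.symm hw1
  have hw2' : (1 : F) ≠ w ^ 2 := Ne.symm hw2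
  have hww' : w ≠ w ^ 2 := Ne.symm hww
  have hne : ∀ {a b c a' b' c' : F}, (a ≠ 0 ∨ b ≠ 0 ∨ c ≠ 0) → (a' ≠ 0 ∨ b' ≠ 0 ∨ c' ≠ 0) →
      (a * b' ≠ a' * b ∨ a * c' ≠ a' * c ∨ b * c' ≠ b' * c) → T a b c ≠ T a' b' c' := by
    intro a b c a' b' c' h h' hh' e
    obtain ⟨k, rfl, rfl, rfl⟩ := inj h h' e
    rcases hh' with h | h | h <;> exact h (by ring)
  have nd : ∀ t : F, t ≠ 0 →
      [T 1 0 0, T 0 1 0, T 0 0 1, T 1 1 t, T 1 w (w ^ 2 * t), T 1 (w ^ 2) (w * t)].Nodup := by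
    intro t ht
    simp only [List.nodup_cons, List.mem_cons, List.not_mem_nil, List.nodup_nil, not_false_eq_true,
      and_true, or_false, not_or]
    refine ⟨⟨?_, ?_, ?_, ?_, ?_⟩, ⟨?_, ?_, ?_, ?_⟩, ⟨?_, ?_, ?_⟩, ⟨?_, ?_⟩, ?_⟩ <;>
      (apply hne <;> simp [hw0, hw1, hw2, hww, hw1', hw2', hww', ht])
  refine ⟨T 1 0 0, T 0 1 0, T 0 0 1, T 1 1 1, T 1 w (w ^ 2 * 1), T 1 (w ^ 2) (w * 1),
    T 1 1 w, T 1 w (w ^ 2 * w), T 1 (w ^ 2) (w * w), ?_, nd 1 one_ne_zero, nd w hw0, ?_,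
    hprod 1 (one_pow 3), hprod w hw3⟩
  · have mem : ∀ {x}, x ∈ [T 1 0 0, T 0 1 0, T 0 0 1, T 1 1 1, T 1 w (w ^ 2 * 1), T 1 (w ^ 2) (w * 1),
        T 1 1 w, T 1 w (w ^ 2 * w), T 1 (w ^ 2) (w * w)] →
        ∃ a b c, (a ≠ 0 ∨ b ≠ 0 ∨ c ≠ 0) ∧ T a b c = x := by
      intro x hx
      simp only [List.mem_cons, List.not_mem_nil, or_false] at hx
      rcases hx with rfl | rfl | rfl | rfl | rfl | rfl | rfl | rfl | rfl <;>
        exact ⟨_, _, _, by simp, rfl⟩
    intro x hx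
    obtain ⟨a, b, c, ha, rfl⟩ := mem hx
    refine ⟨hE ▸ ⟨pt a b c, hpt _ _ _ ha, rfl⟩, fun z hz => ?_⟩
    obtain ⟨a', b', c', -, rfl⟩ := mem hz
    exact (tv_comm hF (hpp ..) (hpp ..) (hpp ..)).map π
  · simp only [List.mem_cons, List.not_mem_nil, or_false, not_or]
    refine ⟨?_, ?_, ?_⟩ <;>
      (apply hne <;> simp [hw0, hw1, hw2, hww, hw1', hw2', hww'])

end CfsgLib.ThreeT.SixTwo

namespace CfsgLib.ThreeT.M22Double

open CfsgLib.ThreeT.Prod

/-- An involution of a perfect group fixes a point of a set of cardinality twice an odd number. -/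
theorem exists_fixed {G X : Type*} [Group G] [MulAction G X] [Finite X] (hperf : commutator G = ⊤)
    (hX : Nat.card X % 4 = 2) {g : G} (hg : g * g = 1) : ∃ x : X, g • x = x := by
  classical
  haveI := Fintype.ofFinite X
  by_contra h
  push Not at h
  have hh : Equiv.Perm.sign ((MulAction.toPermHom G X) g) = 1 :=
    (Abelianization.commutator_subset_ker ((Equiv.Perm.sign).comp (MulAction.toPermHom G X))
      (hperf ▸ Subgroup.mem_top g) : _)
  set σ := (MulAction.toPermHom G X) g with hσ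
  have hs : σ ^ 2 = 1 := by rw [hσ, pow_two, ← map_mul, hg, map_one]
  rw [Equiv.Perm.sign_of_pow_two_eq_one hs] at hh
  have hfix : ∀ x : X, ¬ Function.IsFixedPt (⇑σ) x := fun x => h x
  simp [hfix] at hh
  rw [Nat.card_eq_fintype_card] at hX
  have : Odd (Fintype.card X / 2) := ⟨Fintype.card X / 4, by omega⟩
  rw [this.neg_one_pow] at hh
  exact absurd hh (by decide)

/-- A commutator of two elements moving `x` by central elements commutes with `x`. -/
theorem commute_commutator {C : Type*} [Group C] {x A B : C}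
    (hA : A * x * A⁻¹ * x⁻¹ ∈ Subgroup.center C) (hB : B * x * B⁻¹ * x⁻¹ ∈ Subgroup.center C) :
    Commute (A * B * A⁻¹ * B⁻¹) x := by
  set z₁ := A * x * A⁻¹ * x⁻¹ with e₁
  set z₂ := B * x * B⁻¹ * x⁻¹ with e₂
  have c₁ := fun g => Subgroup.mem_center_iff.1 hA g
  have n₁ := fun g => Subgroup.mem_center_iff.1 (inv_mem hA) g
  have n₂ := fun g => Subgroup.mem_center_iff.1 (inv_mem hB) g
  have i₁ : A⁻¹ * x * A = z₁⁻¹ * x := by
    calc A⁻¹ * x * A = A⁻¹ * z₁⁻¹ * (z₁ * x) * A := by group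
      _ = z₁⁻¹ * (A⁻¹ * (z₁ * x) * A) := by rw [n₁]; group
      _ = z₁⁻¹ * x := by rw [e₁]; group
  have i₂ : B⁻¹ * x * B = z₂⁻¹ * x := by
    calc B⁻¹ * x * B = B⁻¹ * z₂⁻¹ * (z₂ * x) * B := by group
      _ = z₂⁻¹ * (B⁻¹ * (z₂ * x) * B) := by rw [n₂]; group
      _ = z₂⁻¹ * x := by rw [e₂]; group
  have j₁ : A * x * A⁻¹ = z₁ * x := by rw [e₁]; group
  have j₂ : B * x * B⁻¹ = z₂ * x := by rw [e₂]; group
  have key : (A * B * A⁻¹ * B⁻¹) * x * (A * B * A⁻¹ * B⁻¹)⁻¹ = x :=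
    calc (A * B * A⁻¹ * B⁻¹) * x * (A * B * A⁻¹ * B⁻¹)⁻¹
        = A * (B * (A⁻¹ * (B⁻¹ * x * B) * A) * B⁻¹) * A⁻¹ := by group
      _ = A * (B * z₂⁻¹ * (A⁻¹ * x * A) * B⁻¹) * A⁻¹ := by
          rw [i₂, ← mul_assoc A⁻¹, n₂]; group
      _ = A * (z₂⁻¹ * (B * z₁⁻¹) * x * B⁻¹) * A⁻¹ := by rw [i₁, n₂]; group
      _ = A * (z₂⁻¹ * z₁⁻¹) * (B * x * B⁻¹) * A⁻¹ := by rw [n₁]; group
      _ = A * (z₂⁻¹ * z₁⁻¹ * z₂) * x * A⁻¹ := by rw [j₂]; group
      _ = z₂⁻¹ * z₁⁻¹ * z₂ * (A * x * A⁻¹) := by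
          rw [Subgroup.mem_center_iff.1 (mul_mem (mul_mem (inv_mem hB) (inv_mem hA)) hB) A]; group
      _ = x := by rw [j₁, mul_assoc z₂⁻¹ z₁⁻¹ z₂, c₁ |> fun _ => n₁ z₂ |>.symm]; group
  exact mul_inv_eq_iff_eq_mul.1 key

theorem mul_self_list {C : Type*} [Group C] {s : C} (l : List C)
    (hl : ∀ x ∈ l, x * x = s) (hc : ∀ x ∈ l, ∀ y ∈ l, Commute x y) :
    l.prod * l.prod = s ^ l.length := by
  induction l with
  | nil => simp
  | cons a l ih =>
    have hal : Commute a l.prod :=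
      Commute.list_prod_right l a fun y hy => hc a List.mem_cons_self y (List.mem_cons_of_mem _ hy)
    rw [List.prod_cons, hal.symm.mul_mul_mul_comm, hl a List.mem_cons_self,
      ih (fun x hx => hl x (List.mem_cons_of_mem _ hx))
        (fun x hx y hy => hc x (List.mem_cons_of_mem _ hx) y (List.mem_cons_of_mem _ hy)),
      List.length_cons, pow_succ']

variable {G : Type*} [Group G] [Finite G] {D : Set G}

/-- Even expressions of a transposition and the structure of its centralizer in type M(22). -/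
structure Data (D : Set G) (d : G) : Prop where
  mem : d ∈ D
  six : ∃ l : List G, l.length = 6 ∧ (∀ b ∈ l, b ∈ nb D d) ∧ (∀ a ∈ l, ∀ b ∈ l, Commute a b) ∧ l.prod = d
  comm : ∀ b ∈ nb D d, ∃ a ∈ hsub D d, ∃ a' ∈ hsub D d,
    b = a * a' * a⁻¹ * a'⁻¹ ∨ b = a * a' * a⁻¹ * a'⁻¹ * d
  invol : ∀ x ∈ hsub D d, x * x = 1 → ∃ l : List G, (∀ b ∈ l, b ∈ D) ∧
    (∀ b ∈ l, b = d ∨ b ∈ nb D d) ∧ (∀ a ∈ l, ∀ b ∈ l, Commute a b) ∧ l.prod = x

theorem exists_data (h : Setup22 D) (h22 : Cfsg.IsOfTypeM22 G D)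
    (hcen : ∀ a ∈ D, ∀ w ∈ Subgroup.center ↥(hsub D a), (w : G) = 1 ∨ (w : G) = a) :
    ∃ d, Data D d := by
  classical
  obtain ⟨-, d, hd, c, -, hdc, ⟨F, _, _, hF4, ⟨e⟩⟩, -⟩ := h22
  have hF : Nat.card F = 2 ^ 2 := by rw [Nat.card_eq_fintype_card, hF4]; rfl
  haveI : CharP F 2 := charP_of_card_eq_prime_pow (f := 2) (by rw [hF4]; rfl)
  have hD := h.tt
  have hd1 := h.ne_one d hd
  set φ : ↥(hsub D d) →* Cfsg.PSU 6 F 2 :=
    e.toMonoidHom.comp (QuotientGroup.mk' (Subgroup.center ↥(hsub D d))) with hφ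
  have hφs : Function.Surjective φ := e.surjective.comp (QuotientGroup.mk'_surjective _)
  have ker : ∀ {x : ↥(hsub D d)}, φ x = 1 → (x : G) = 1 ∨ (x : G) = d := fun {x} hx =>
    hcen d hd x ((QuotientGroup.eq_one_iff x).1 (e.injective (hx.trans e.map_one.symm)))
  have eqd : ∀ {x y : ↥(hsub D d)}, φ x = φ y → (x : G) = y ∨ (x : G) = y * d := fun {x y} hxy => by
    rcases ker (x := y⁻¹ * x) (by rw [map_mul, map_inv, hxy, inv_mul_cancel]) with k | k <;>
      rw [Subgroup.coe_mul, Subgroup.coe_inv, inv_mul_eq_iff_eq_mul] at k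
    · exact Or.inl (by rw [k, mul_one])
    · exact Or.inr k
  set E : Set (Cfsg.PSU 6 F 2) := φ '' {x | (x : G) ∈ nb D d}
  have hI := img_tt0 (d := d) hD
  have hmem : ∀ {x : Cfsg.PSU 6 F 2}, x ∈ E ↔ e.symm x ∈ img D d := by
    intro x
    constructor
    · rintro ⟨y, hy, rfl⟩
      exact ⟨y, hy, (e.symm_apply_apply _).symm⟩
    · rintro ⟨y, hy, hye⟩
      refine ⟨y, hy, ?_⟩
      show e (y : ↥(hsub D d) ⧸ Subgroup.center ↥(hsub D d)) = x
      rw [hye, e.apply_symm_apply]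
  have hE : TT0 E := by
    refine ⟨fun a ha => e.symm.injective ?_, fun a ha a' ha' => ?_, fun g a ha => hmem.2 ?_⟩
    · rw [map_mul, map_one]; exact hI.sq _ (hmem.1 ha)
    · rcases hI.pair _ (hmem.1 ha) _ (hmem.1 ha') with h | h
      · exact Or.inl (e.symm.injective (by rwa [map_pow, map_mul, map_one]))
      · exact Or.inr (e.symm.injective (by rwa [map_pow, map_mul, map_one]))
    · rw [map_mul, map_mul, map_inv]; exact hI.conj _ _ (hmem.1 ha)
  have h1E : (1 : Cfsg.PSU 6 F 2) ∉ E := fun ⟨x, hx, h'⟩ => (ker h').elim (h.ne_one _ hx.1) hx.2.1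
  have hEne : E.Nonempty := by
    by_contra hno
    rw [Set.not_nonempty_iff_eq_empty] at hno
    have hnb : nb D d = ∅ := Set.eq_empty_of_forall_notMem fun b hb =>
      Set.eq_empty_iff_forall_notMem.1 hno (φ ⟨b, Subgroup.subset_closure hb⟩) ⟨_, hb, rfl⟩
    obtain ⟨-, hcard⟩ := psu_facts hF4
    have hbot : hsub D d = ⊥ := by rw [hsub, hnb, Subgroup.closure_empty]
    have h3 := Subgroup.card_quotient_dvd_card (Subgroup.center ↥(hsub D d))
    rw [Nat.card_congr e.toEquiv, hcard, show Nat.card ↥(hsub D d) = 1 by rw [hbot]; exact Subgroup.card_bot] at h3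
    norm_num at h3
  have hEeq := SixTwo.class_eq hF hE h1E hEne
  have hcom : ∀ {x y : ↥(hsub D d)}, (x : G) ∈ nb D d → (y : G) ∈ nb D d →
      Commute (φ x) (φ y) → Commute (x : G) (y : G) := fun {x y} hx hy h' =>
    (map_commute_iff hD hx hy).1 (by simpa [hφ] using h'.map e.symm)
  obtain ⟨_, ⟨v, hv, rfl⟩⟩ : ∃ x, ∃ v, SixTwo.IsPt v ∧
      QuotientGroup.mk' (Subgroup.center (Cfsg.SU 6 F 2)) (SixTwo.tv hF v) = x := by
    obtain ⟨x, hx⟩ := hEne
    rw [hEeq] at hx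
    exact ⟨x, hx⟩
  refine ⟨d, hd, ?_, ?_, ?_⟩
  · obtain ⟨a₀, b₀, c₀, p₀, q₀, r₀, p₁, q₁, r₁, hall, hn₀, hn₁, hp, he₀, he₁⟩ :=
      SixTwo.two_hyperovals hF hv hEeq
    simp only [List.mem_cons, List.not_mem_nil, or_false, forall_eq_or_imp, forall_eq] at hall
    obtain ⟨⟨⟨A, hA, rfl⟩, cA⟩, ⟨⟨B, hB, rfl⟩, cB⟩, ⟨⟨C, hC, rfl⟩, cC⟩, ⟨⟨P, hP, rfl⟩, cP⟩,
      ⟨⟨Q, hQ, rfl⟩, cQ⟩, ⟨⟨R, hR, rfl⟩, cR⟩, ⟨⟨P', hP', rfl⟩, cP'⟩, ⟨⟨Q', hQ', rfl⟩, cQ'⟩,
      ⟨⟨R', hR', rfl⟩, cR'⟩⟩ := hall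
    have hval : ∀ {X : List ↥(hsub D d)}, (X.map φ).Nodup → (X.map Subtype.val).Nodup := fun hn =>
      (List.Nodup.of_map φ hn).map Subtype.val_injective
    have n₀ : [(A : G), B, C, P, Q, R].Nodup := hval (X := [A, B, C, P, Q, R]) hn₀
    have n₁ : [(A : G), B, C, P', Q', R'].Nodup := hval (X := [A, B, C, P', Q', R']) hn₁
    obtain ⟨-, cAB, cAC, cAP, cAQ, cAR, cAP', cAQ', cAR'⟩ := cA
    obtain ⟨-, -, cBC, cBP, cBQ, cBR, cBP', cBQ', cBR'⟩ := cB
    obtain ⟨-, -, -, cCP, cCQ, cCR, cCP', cCQ', cCR'⟩ := cC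
    obtain ⟨-, -, -, -, cPQ, cPR, -, -, -⟩ := cP
    obtain ⟨-, -, -, -, -, cQR, -, -, -⟩ := cQ
    obtain ⟨-, -, -, -, -, -, -, cPQ', cPR'⟩ := cP'
    obtain ⟨-, -, -, -, -, -, -, -, cQR'⟩ := cQ'
    have k₀ := ker (x := A * B * C * P * Q * R) (by simp only [map_mul]; exact he₀)
    have k₁ := ker (x := A * B * C * P' * Q' * R') (by simp only [map_mul]; exact he₁)
    simp only [Subgroup.coe_mul] at k₀ k₁
    replace cAB := hcom hA hB cAB
    replace cAC := hcom hA hC cAC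
    replace cBC := hcom hB hC cBC
    rcases k₀ with k₀ | k₀
    swap
    · refine ⟨[(A : G), B, C, P, Q, R], rfl, ?_, ?_, ?_⟩
      · simp only [List.mem_cons, List.not_mem_nil, or_false, forall_eq_or_imp, forall_eq]
        exact ⟨hA, hB, hC, hP, hQ, hR⟩
      · simp only [List.mem_cons, List.not_mem_nil, or_false, forall_eq_or_imp, forall_eq]
        exact ⟨⟨.refl _, cAB, cAC, hcom hA hP cAP, hcom hA hQ cAQ, hcom hA hR cAR⟩,
          ⟨cAB.symm, .refl _, cBC, hcom hB hP cBP, hcom hB hQ cBQ, hcom hB hR cBR⟩,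
          ⟨cAC.symm, cBC.symm, .refl _, hcom hC hP cCP, hcom hC hQ cCQ, hcom hC hR cCR⟩,
          ⟨(hcom hA hP cAP).symm, (hcom hB hP cBP).symm, (hcom hC hP cCP).symm, .refl _,
            hcom hP hQ cPQ, hcom hP hR cPR⟩,
          ⟨(hcom hA hQ cAQ).symm, (hcom hB hQ cBQ).symm, (hcom hC hQ cCQ).symm,
            (hcom hP hQ cPQ).symm, .refl _, hcom hQ hR cQR⟩,
          ⟨(hcom hA hR cAR).symm, (hcom hB hR cBR).symm, (hcom hC hR cCR).symm,
            (hcom hP hR cPR).symm, (hcom hQ hR cQR).symm, .refl _⟩⟩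
      · simp only [List.prod_cons, List.prod_nil, mul_one]
        exact Eq.trans (by group) k₀
    rcases k₁ with k₁ | k₁
    swap
    · refine ⟨[(A : G), B, C, P', Q', R'], rfl, ?_, ?_, ?_⟩
      · simp only [List.mem_cons, List.not_mem_nil, or_false, forall_eq_or_imp, forall_eq]
        exact ⟨hA, hB, hC, hP', hQ', hR'⟩
      · simp only [List.mem_cons, List.not_mem_nil, or_false, forall_eq_or_imp, forall_eq]
        exact ⟨⟨.refl _, cAB, cAC, hcom hA hP' cAP', hcom hA hQ' cAQ', hcom hA hR' cAR'⟩,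
          ⟨cAB.symm, .refl _, cBC, hcom hB hP' cBP', hcom hB hQ' cBQ', hcom hB hR' cBR'⟩,
          ⟨cAC.symm, cBC.symm, .refl _, hcom hC hP' cCP', hcom hC hQ' cCQ', hcom hC hR' cCR'⟩,
          ⟨(hcom hA hP' cAP').symm, (hcom hB hP' cBP').symm, (hcom hC hP' cCP').symm, .refl _,
            hcom hP' hQ' cPQ', hcom hP' hR' cPR'⟩,
          ⟨(hcom hA hQ' cAQ').symm, (hcom hB hQ' cBQ').symm, (hcom hC hQ' cCQ').symm,
            (hcom hP' hQ' cPQ').symm, .refl _, hcom hQ' hR' cQR'⟩,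
          ⟨(hcom hA hR' cAR').symm, (hcom hB hR' cBR').symm, (hcom hC hR' cCR').symm,
            (hcom hP' hR' cPR').symm, (hcom hQ' hR' cQR').symm, .refl _⟩⟩
      · simp only [List.prod_cons, List.prod_nil, mul_one]
        exact Eq.trans (by group) k₁
    exfalso
    have inv3 : ∀ {x y z : G}, x ∈ D → y ∈ D → z ∈ D → Commute x y → Commute x z → Commute y z →
        (x * y * z) * (x * y * z) = 1 := fun {x y z} hx hy hz hxy hxz hyz => by
      rw [(hxz.mul_left hyz).symm.mul_mul_mul_comm, hxy.symm.mul_mul_mul_comm, hD.sq _ hx, hD.sq _ hy,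
        hD.sq _ hz, one_mul, one_mul]
    have eP : (P : G) * (Q * (R * 1)) = A * (B * (C * 1)) := by
      rw [← mul_right_inj ((A : G) * B * C)]
      calc (A : G) * B * C * (P * (Q * (R * 1))) = A * B * C * P * Q * R := by group
        _ = 1 := k₀
        _ = _ := (inv3 hA.1 hB.1 hC.1 cAB cAC cBC).symm.trans (by group)
    have eP' : (P' : G) * (Q' * (R' * 1)) = A * (B * (C * 1)) := by
      rw [← mul_right_inj ((A : G) * B * C)]
      calc (A : G) * B * C * (P' * (Q' * (R' * 1))) = A * B * C * P' * Q' * R' := by group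
        _ = 1 := k₁
        _ = _ := (inv3 hA.1 hB.1 hC.1 cAB cAC cBC).symm.trans (by group)
    simp only [List.nodup_cons, List.mem_cons, List.not_mem_nil, or_false, not_or, not_false_eq_true,
      List.nodup_nil, and_true, and_assoc] at n₀ n₁
    obtain ⟨ab, ac, ap, aq, ar, bc, bp, bq, br, cp, cq, cr, pq, pr, qr⟩ := n₀
    obtain ⟨-, -, ap', aq', ar', -, bp', bq', br', cp', cq', cr', pq', pr', qr'⟩ := n₁
    have t₀ : Triple D [(A : G), B, C] := ⟨by simp [ab, ac, bc], rfl, by simp [hA.1, hB.1, hC.1],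
      by simp [cAB, cAC, cBC, cAB.symm, cAC.symm, cBC.symm]⟩
    have t₁ : Triple D [(P : G), Q, R] := ⟨by simp [pq, pr, qr], rfl, by simp [hP.1, hQ.1, hR.1],
      by simp [hcom hP hQ cPQ, hcom hP hR cPR, hcom hQ hR cQR, (hcom hP hQ cPQ).symm,
        (hcom hP hR cPR).symm, (hcom hQ hR cQR).symm]⟩
    have t₂ : Triple D [(P' : G), Q', R'] := ⟨by simp [pq', pr', qr'], rfl, by simp [hP'.1, hQ'.1, hR'.1],
      by simp [hcom hP' hQ' cPQ', hcom hP' hR' cPR', hcom hQ' hR' cQR', (hcom hP' hQ' cPQ').symm,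
        (hcom hP' hR' cPR').symm, (hcom hQ' hR' cQR').symm]⟩
    obtain ⟨l₁, l₂, -, -, -, hu⟩ := two_triples h t₀
    have u₀ := hu _ t₀ rfl
    have u₁ := hu _ t₁ eP
    have u₂ := hu _ t₂ eP'
    have d01 : ¬ ∀ x : G, x ∈ [(A : G), B, C] ↔ x ∈ [(P : G), Q, R] := fun hh => by
      simpa [ap, aq, ar] using (hh A).1 (by simp)
    have d02 : ¬ ∀ x : G, x ∈ [(A : G), B, C] ↔ x ∈ [(P' : G), Q', R'] := fun hh => by
      simpa [ap', aq', ar'] using (hh A).1 (by simp)
    have d12 : ¬ ∀ x : G, x ∈ [(P : G), Q, R] ↔ x ∈ [(P' : G), Q', R'] := fun hh => by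
      refine hp ?_
      obtain hx | hx | hx : (P : G) = P' ∨ (P : G) = Q' ∨ (P : G) = R' := by
        simpa using (hh P).1 (by simp)
      all_goals rw [Subtype.ext hx]; simp
    rcases u₀ with v₀ | v₀ <;> rcases u₁ with v₁ | v₁ <;> rcases u₂ with v₂ | v₂
    all_goals first
      | exact d01 fun x => (v₀ x).trans (v₁ x).symm
      | exact d02 fun x => (v₀ x).trans (v₂ x).symm
      | exact d12 fun x => (v₁ x).trans (v₂ x).symm
  · intro b hb
    have hb' : φ ⟨b, Subgroup.subset_closure hb⟩ ∈ E := ⟨_, hb, rfl⟩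
    rw [hEeq] at hb'
    obtain ⟨u, hu, hub⟩ := hb'
    obtain ⟨a, r, s, -, -, -, -, -, -, -, he⟩ := SixTwo.exists_commutator hF hu.2 hu.2 hu.2
    obtain ⟨A, hA⟩ := hφs (QuotientGroup.mk' _ a)
    obtain ⟨B, hB⟩ := hφs (QuotientGroup.mk' _ (SixTwo.tv hF r * SixTwo.tv hF s))
    refine ⟨A, A.2, B, B.2, eqd (x := ⟨b, Subgroup.subset_closure hb⟩) (y := A * B * A⁻¹ * B⁻¹) ?_⟩
    rw [← hub, ← he]
    simp only [map_mul, map_inv] at hB ⊢
    rw [hA, hB]
  · intro x hx hxx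
    obtain ⟨g, hg, hgx⟩ := SixTwo.lift_invol hF (x := φ ⟨x, hx⟩)
      (by rw [← map_mul, show (⟨x, hx⟩ : ↥(hsub D d)) * ⟨x, hx⟩ = 1 from Subtype.ext hxx, map_one])
    obtain ⟨l, hl, ho, rfl⟩ := SixTwo.exists_tv_list hF hg
    suffices ∃ X : List ↥(hsub D d), (∀ b ∈ X, (b : G) ∈ nb D d) ∧ (∀ a ∈ X, ∀ b ∈ X, Commute (a : G) b) ∧
        (∀ b ∈ X, ∃ r ∈ l, φ b = QuotientGroup.mk' _ (SixTwo.tv hF r)) ∧
        φ X.prod = QuotientGroup.mk' _ ((l.map (SixTwo.tv hF)).prod) by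
      obtain ⟨X, hX, hXc, -, hXp⟩ := this
      have hm : ∀ b ∈ X.map Subtype.val, b ∈ nb D d := fun b hb => by
        obtain ⟨y, hy, rfl⟩ := List.mem_map.1 hb; exact hX y hy
      have hc : ∀ a ∈ X.map Subtype.val, ∀ b ∈ X.map Subtype.val, Commute a b := fun a ha b hb => by
        obtain ⟨y, hy, rfl⟩ := List.mem_map.1 ha
        obtain ⟨z, hz, rfl⟩ := List.mem_map.1 hb
        exact hXc y hy z hz
      rcases eqd (x := ⟨x, hx⟩) (y := X.prod) (hgx.symm.trans hXp.symm) with k | k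
      · refine ⟨X.map Subtype.val, fun b hb => (hm b hb).1, fun b hb => Or.inr (hm b hb), hc, ?_⟩
        exact (k.trans (map_list_prod (hsub D d).subtype X)).symm
      · refine ⟨X.map Subtype.val ++ [d], fun b hb => ?_, fun b hb => ?_, fun a ha b hb => ?_, ?_⟩
        · rcases List.mem_append.1 hb with hb | hb
          · exact (hm b hb).1
          · rw [List.mem_singleton.1 hb]; exact hd
        · rcases List.mem_append.1 hb with hb | hb
          · exact Or.inr (hm b hb)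
          · exact Or.inl (List.mem_singleton.1 hb)
        · rcases List.mem_append.1 ha with ha | ha <;> rcases List.mem_append.1 hb with hb | hb
          · exact hc a ha b hb
          · rw [List.mem_singleton.1 hb]; exact (hm a ha).2.2.symm
          · rw [List.mem_singleton.1 ha]; exact (hm b hb).2.2
          · rw [List.mem_singleton.1 ha, List.mem_singleton.1 hb]
        · rw [List.prod_append, List.prod_singleton]
          exact (congrArg (· * d) (map_list_prod (hsub D d).subtype X).symm).trans k.symm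
    clear hg hgx hxx hx x
    induction l with
    | nil => exact ⟨[], by simp, by simp, by simp, by simp⟩
    | cons p l ih =>
      rw [List.pairwise_cons] at ho
      have hp := hl p List.mem_cons_self
      obtain ⟨X, hX, hXc, hXr, hXp⟩ := ih (fun r hr => hl r (List.mem_cons_of_mem _ hr)) ho.2
      by_cases hp0 : SixTwo.tv hF p = 1
      · exact ⟨X, hX, hXc, fun b hb => (hXr b hb).imp fun r hr => ⟨List.mem_cons_of_mem _ hr.1, hr.2⟩,
          by simpa [hp0] using hXp⟩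
      have hpp : SixTwo.IsPt p := ⟨fun e0 => hp0 (Unitary.su_ext fun y => by
        rw [SixTwo.tv_apply hF hp, e0, smul_zero, add_zero, Unitary.suMat_one, Matrix.one_mulVec]), hp⟩
      obtain ⟨P, hP, hPe⟩ : QuotientGroup.mk' _ (SixTwo.tv hF p) ∈ E := hEeq ▸ ⟨p, hpp, rfl⟩
      have hPX : ∀ b ∈ X, Commute (P : G) b := fun b hb => by
        obtain ⟨r, hr, hbr⟩ := hXr b hb
        refine hcom hP (hX b hb) ?_
        rw [hPe, hbr]
        exact (SixTwo.tv_comm hF hp (hl r (List.mem_cons_of_mem _ hr)) (ho.1 r hr)).map _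
      refine ⟨P :: X, fun b hb => ?_, fun a ha b hb => ?_, fun b hb => ?_, ?_⟩
      · rcases List.mem_cons.1 hb with rfl | hb
        · exact hP
        · exact hX b hb
      · rcases List.mem_cons.1 ha with ea | ha <;> rcases List.mem_cons.1 hb with eb | hb
        · rw [ea, eb]
        · rw [ea]; exact hPX b hb
        · rw [eb]; exact (hPX a ha).symm
        · exact hXc a ha b hb
      · rcases List.mem_cons.1 hb with rfl | hb
        · exact ⟨p, List.mem_cons_self, hPe⟩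
        · exact (hXr b hb).imp fun r hr => ⟨List.mem_cons_of_mem _ hr.1, hr.2⟩
      · simp only [List.prod_cons, List.map_cons, map_mul, hPe, hXp]

theorem perfect_of_surjective {C Q : Type*} [Group C] [Group Q] (ψ : C →* Q) (hψ : Function.Surjective ψ)
    (hC : commutator C = ⊤) : commutator Q = ⊤ := by
  rw [commutator_def, ← Subgroup.map_top_of_surjective ψ hψ, ← Subgroup.map_commutator, ← commutator_def, hC]

section Cover

variable {C : Type*} [Group C] (ψ : C →* G) (hψ : Function.Surjective ψ)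
  (hker : ψ.ker ≤ Subgroup.center C) (hexp : ∀ z ∈ ψ.ker, z * z = 1)

include hψ hker hexp

/-- In a perfect central extension with kernel of exponent two of a group of type M(22) every
involution is the image of an involution. -/
theorem cover_lift_invol (h : Setup22 D) (h22 : Cfsg.IsOfTypeM22 G D) (hperf : commutator C = ⊤)
    (hcent : ∀ a ∈ D, Subgroup.centralizer ({a} : Set G) ≤ hsub D a)
    (hcen : ∀ a ∈ D, ∀ w ∈ Subgroup.center ↥(hsub D a), (w : G) = 1 ∨ (w : G) = a)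
    (hcard : D.ncard % 4 = 2) {x : G} (hx : x * x = 1) : ∃ y : C, ψ y = x ∧ y * y = 1 := by
  classical
  obtain ⟨d, hd, ⟨l₆, hl6, hl6n, hl6c, hl6p⟩, hcomm, hinvol⟩ := exists_data h h22 hcen
  have hD := h.tt
  -- lifts of `d` and central differences
  obtain ⟨δ, hδ⟩ := hψ d
  have hz : ∀ {g : C}, Commute (ψ g) d → g * δ * g⁻¹ * δ⁻¹ ∈ Subgroup.center C := fun {g} hg => hker (by
    rw [MonoidHom.mem_ker, map_mul, map_mul, map_mul, map_inv, map_inv, hδ, hg.eq]
    group)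
  have hcd : ∀ {y : C}, ψ y ∈ nb D d → Commute y δ := fun {y} hy => by
    obtain ⟨a, ha, a', ha', hb⟩ := hcomm _ hy
    obtain ⟨A, rfl⟩ := hψ a
    obtain ⟨A', rfl⟩ := hψ a'
    have hK := commute_commutator (hz (commute_hsub ha)) (hz (commute_hsub ha'))
    rcases hb with hb | hb
    · have hk : (A * A' * A⁻¹ * A'⁻¹)⁻¹ * y ∈ ψ.ker := by
        rw [MonoidHom.mem_ker, map_mul, map_inv, inv_mul_eq_one]
        simp only [map_mul, map_inv]
        exact hb.symm
      have := hK.mul_left (((Subgroup.mem_center_iff.1 (hker hk)) δ).symm : Commute _ δ)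
      rwa [mul_inv_cancel_left] at this
    · have hk : (A * A' * A⁻¹ * A'⁻¹ * δ)⁻¹ * y ∈ ψ.ker := by
        simp [MonoidHom.mem_ker, hb, hδ, mul_assoc]
      have := (hK.mul_left (Commute.refl δ)).mul_left
        (((Subgroup.mem_center_iff.1 (hker hk)) δ).symm : Commute _ δ)
      rwa [mul_inv_cancel_left] at this
  have conj' : ∀ a ∈ D, ∃ g : G, g * d * g⁻¹ = a := fun a ha =>
    h.conjD d hd a ha (h.ne_one d hd) (h.ne_one a ha)
  -- lifts of commuting members commute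
  have hlift : ∀ {y z : C}, ψ y ∈ D → ψ z ∈ D → Commute (ψ y) (ψ z) → Commute y z := by
    intro y z hy hz' hc
    by_cases e : ψ y = ψ z
    · have hk : z⁻¹ * y ∈ ψ.ker := by simp [MonoidHom.mem_ker, e]
      have := (Commute.refl z).mul_left (((Subgroup.mem_center_iff.1 (hker hk)) z).symm : Commute _ z)
      rwa [mul_inv_cancel_left] at this
    obtain ⟨g, hg⟩ := conj' _ hz'
    obtain ⟨γ, rfl⟩ := hψ g
    set y' := γ⁻¹ * y * γ with hy'
    set z' := γ⁻¹ * z * γ with hz''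
    have e1 : ψ z' = d := by rw [hz'', map_mul, map_mul, map_inv, ← hg]; group
    have hy'n : ψ y' ∈ nb D d := by
      refine ⟨by simpa [hy'] using hD.conj (ψ γ⁻¹) _ hy, fun e2 => e ?_, ?_⟩
      · rw [← e1, hy', hz''] at e2
        simpa using e2
      · rw [← e1, hy', hz'', map_mul, map_mul, map_mul, map_mul, map_inv]
        simpa using (commute_conj_iff (ψ γ)⁻¹ _ _).2 hc.symm
    have hk : δ⁻¹ * z' ∈ ψ.ker := by simp [MonoidHom.mem_ker, e1, hδ]
    have := (hcd hy'n).mul_right (((Subgroup.mem_center_iff.1 (hker hk)) y') : Commute y' _)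
    rw [mul_inv_cancel_left] at this
    have := (commute_conj_iff γ _ _).2 this
    simpa [hy', hz'', mul_assoc] using this
  -- all lifts of members have the same square
  have hsq : ∀ {y : C}, ψ y ∈ D → y * y = δ * δ := by
    intro y hy
    obtain ⟨g, hg⟩ := conj' _ hy
    obtain ⟨γ, rfl⟩ := hψ g
    have hk : y * (γ * δ * γ⁻¹)⁻¹ ∈ ψ.ker := by
      rw [MonoidHom.mem_ker, map_mul, map_inv, map_mul, map_mul, map_inv, hδ, hg, mul_inv_cancel]
    have hkc := Subgroup.mem_center_iff.1 (hker hk)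
    have hδ2 : δ * δ ∈ ψ.ker := by rw [MonoidHom.mem_ker, map_mul, hδ, hD.sq d hd]
    calc y * y = (y * (γ * δ * γ⁻¹)⁻¹ * (γ * δ * γ⁻¹)) * (y * (γ * δ * γ⁻¹)⁻¹ * (γ * δ * γ⁻¹)) := by
          rw [inv_mul_cancel_right]
      _ = y * (γ * δ * γ⁻¹)⁻¹ * (y * (γ * δ * γ⁻¹)⁻¹) * (γ * (δ * δ) * γ⁻¹) := by
          rw [(show Commute (γ * δ * γ⁻¹) (y * (γ * δ * γ⁻¹)⁻¹) from hkc _).mul_mul_mul_comm]; group
      _ = δ * δ := by
          rw [hexp _ hk, one_mul, Subgroup.mem_center_iff.1 (hker hδ2) γ, mul_inv_cancel_right]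
  choose lift hlift' using hψ
  have hlist : ∀ l : List G, (∀ b ∈ l, b ∈ D) → (∀ a ∈ l, ∀ b ∈ l, Commute a b) →
      ψ (l.map lift).prod = l.prod ∧ (l.map lift).prod * (l.map lift).prod = (δ * δ) ^ l.length := by
    intro l hl hc
    refine ⟨?_, ?_⟩
    · rw [map_list_prod, List.map_map, show ψ ∘ lift = id from funext hlift', List.map_id]
    · rw [mul_self_list (s := δ * δ) (l.map lift), List.length_map]
      · intro y hy
        obtain ⟨b, hb, rfl⟩ := List.mem_map.1 hy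
        exact hsq (by rw [hlift']; exact hl b hb)
      · intro y hy z hz'
        obtain ⟨a, ha, rfl⟩ := List.mem_map.1 hy
        obtain ⟨b, hb, rfl⟩ := List.mem_map.1 hz'
        exact hlift (by rw [hlift']; exact hl a ha) (by rw [hlift']; exact hl b hb)
          (by rw [hlift', hlift']; exact hc a ha b hb)
  have hδ1 : δ * δ = 1 := by
    obtain ⟨hp, hpp⟩ := hlist l₆ (fun b hb => (hl6n b hb).1) hl6c
    have := hsq (y := (l₆.map lift).prod) (by rw [hp, hl6p]; exact hd)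
    have hk : δ * δ ∈ ψ.ker := by rw [MonoidHom.mem_ker, map_mul, hδ, hD.sq d hd]
    rw [hpp, hl6, show (6 : ℕ) = 2 * 3 from rfl, pow_mul, pow_two, hexp _ hk, one_pow] at this
    exact this.symm
  -- the involution fixes a member
  have hGperf := perfect_of_surjective ψ (fun g => ⟨lift g, hlift' g⟩) hperf
  letI : MulAction G D :=
    { smul := fun g a => ⟨g * (a : G) * g⁻¹, hD.conj g a a.2⟩
      one_smul := fun a => Subtype.ext (show (1 : G) * (a : G) * 1⁻¹ = (a : G) by group)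
      mul_smul := fun g k a => Subtype.ext
        (show g * k * (a : G) * (g * k)⁻¹ = g * (k * (a : G) * k⁻¹) * g⁻¹ by group) }
  obtain ⟨a, ha⟩ := exists_fixed (X := D) hGperf (by rw [Nat.card_coe_set_eq]; exact hcard) hx
  have ha' : x * (a : G) * x⁻¹ = a := congrArg Subtype.val ha
  obtain ⟨g, hg⟩ := conj' _ a.2
  have hxd : (g⁻¹ * x * g) * d = d * (g⁻¹ * x * g) := by
    have := mul_inv_eq_iff_eq_mul.1 ha'
    rw [← hg] at this
    calc g⁻¹ * x * g * d = g⁻¹ * (x * (g * d * g⁻¹)) * g := by group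
      _ = g⁻¹ * (g * d * g⁻¹ * x) * g := by rw [this]
      _ = _ := by group
  obtain ⟨l, hlD, -, hlc, hlp⟩ := hinvol (g⁻¹ * x * g)
    (hcent d hd (Subgroup.mem_centralizer_iff.2 fun h' hh' => by
      rw [Set.mem_singleton_iff.1 hh']; exact hxd.symm))
    (by calc g⁻¹ * x * g * (g⁻¹ * x * g) = g⁻¹ * (x * x) * g := by group
          _ = 1 := by rw [hx]; group)
  obtain ⟨hp, hpp⟩ := hlist l hlD hlc
  refine ⟨lift g * (l.map lift).prod * (lift g)⁻¹, ?_, ?_⟩
  · rw [map_mul, map_mul, map_inv, hp, hlp, hlift']; group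
  · rw [conj_mul, hpp, hδ1, one_pow]; group

end Cover

end CfsgLib.ThreeT.M22Double
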