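import Cfsg.Agent.Spor3T.UnitarySix

/-!
Pentads of commuting transvections of `PSU₆(2)`.
-/

set_option autoImplicit false
set_option linter.unusedSectionVars false
set_option linter.style.haveILetI false

namespace CfsgLib.ThreeT.SixTwo

open Matrix CfsgLib.Unitary CfsgLib.ThreeT.Prod

variable {F : Type} [Field F] [Finite F] [CharP F 2] (hF : Nat.card F = 2 ^ 2)

local notation "V" => Fin 6 → F
local notation "hh" => Cfsg.hermForm 6 F 2
local notation "π" => QuotientGroup.mk' (Subgroup.center (Cfsg.SU 6 F 2))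

include hF

theorem tv_smul {v : V} (hv : hh v v = 0) {a : F} (ha : a ≠ 0) : tv hF (a • v) = tv hF v := by
  have hv' : hh (a • v) (a • v) = 0 := by rw [herm_smul_left, herm_smul_right hF, hv, mul_zero, mul_zero]
  refine su_ext fun x => ?_
  rw [tv_apply hF hv', tv_apply hF hv, herm_smul_right hF, smul_smul]
  congr 2
  linear_combination hh x v * pow_three hF ha

/-- What is needed about pentads. -/
theorem pentad {E : Set (Cfsg.PSU 6 F 2)} (hE : E = {x | ∃ v, IsPt v ∧ π (tv hF v) = x})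
    {x y : Cfsg.PSU 6 F 2} (hx : x ∈ E) (hy : y ∈ E) (hne : x ≠ y) (hc : Commute x y) :
    ∃ p q r, p ∈ E ∧ q ∈ E ∧ r ∈ E ∧ [x, y, p, q, r].Nodup ∧
      (∀ a ∈ [x, y, p, q, r], ∀ b ∈ [x, y, p, q, r], Commute a b) ∧ x * y * p * q * r = 1 ∧
      (∀ z ∈ E, Commute z x → Commute z y → Commute z p ∧ Commute z q ∧ Commute z r) ∧
      ∀ t ∈ E, t ≠ x → t ≠ y → Commute t x → Commute t y →
        (∀ z ∈ E, Commute z x → Commute z y → Commute z t) → t = p ∨ t = q ∨ t = r := by
  have hcomm : ∀ {u v : V}, IsPt u → IsPt v →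
      (Commute (π (tv hF u)) (π (tv hF v)) ↔ hh u v = 0) := fun hu hv =>
    (pi_commute_iff hF (tv_sq hF hu.2) (tv_sq hF hv.2)).trans (tv_comm_iff hF hu hv)
  rw [hE] at hx hy
  obtain ⟨u, hu, rfl⟩ := hx
  obtain ⟨v, hv, rfl⟩ := hy
  have huv : hh u v = 0 := (hcomm hu hv).1 hc
  have hvu : hh v u = 0 := (hh_comm hF).1 huv
  have hind : ∀ a b : F, a • u + b • v = 0 → a = 0 ∧ b = 0 := by
    intro a b h
    by_cases ha : a = 0
    · subst ha
      rw [zero_smul, zero_add] at h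
      exact ⟨rfl, (smul_eq_zero.1 h).resolve_right hv.1⟩
    exfalso
    have e : u = -(b / a) • v := by
      have := congrArg (fun w => a⁻¹ • w) h
      simp only [smul_add, smul_zero, smul_smul, inv_mul_cancel₀ ha, one_smul] at this
      rw [eq_neg_of_add_eq_zero_left this, neg_smul, div_eq_mul_inv, mul_comm b]
    have hb : -(b / a) ≠ 0 := fun e' => hu.1 (by rw [e, e', zero_smul])
    exact hne (by rw [e, tv_smul hF hv.2 hb])
  obtain ⟨ω, hω0, hω1, hω⟩ := exists_omega hF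
  have e2 : (2 : F) = 0 := CharTwo.two_eq_zero
  have hω3 : ω ^ 3 = 1 := pow_three hF hω0
  set P : F → V := fun a => u + a • v with hPdef
  have hP : ∀ a, IsPt (P a) := fun a => by
    refine ⟨fun e => ?_, ?_⟩
    · exact one_ne_zero (hind 1 a (by rwa [one_smul])).1
    · simp [P, herm_add_left, hh_add_right hF, herm_smul_left, herm_smul_right hF, hu.2, hv.2, huv, hvu]
  have hperp : ∀ w, hh w u = 0 → hh w v = 0 → ∀ a, hh w (P a) = 0 := fun w h1 h2 a => by
    simp [P, hh_add_right hF, herm_smul_right hF, h1, h2]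
  have hPu : ∀ a, hh (P a) u = 0 := fun a => by simp [P, herm_add_left, herm_smul_left, hu.2, hvu]
  have hPv : ∀ a, hh (P a) v = 0 := fun a => by simp [P, herm_add_left, herm_smul_left, hv.2, huv]
  have hdiff : ∀ {a b : F}, a ≠ b → π (tv hF (P a)) ≠ π (tv hF (P b)) := by
    intro a b hab e
    obtain ⟨c, hc⟩ := tv_eq_smul hF (hP a) (hP b) (pi_inj hF (tv_sq hF (hP a).2) (tv_sq hF (hP b).2) e)
    obtain ⟨h1, h2⟩ := hind (1 - c) (a - c * b) (by
      rw [sub_smul, sub_smul, one_smul, ← smul_smul]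
      simp only [P, smul_add] at hc
      rw [← sub_eq_zero.2 hc]; abel)
    rw [← sub_eq_zero.1 h1, one_mul] at h2
    exact hab (sub_eq_zero.1 h2)
  have hdu : ∀ a, a ≠ 0 → π (tv hF u) ≠ π (tv hF (P a)) := fun a ha => by
    have := hdiff ha.symm
    simpa [P] using this
  have hdv : ∀ a, π (tv hF v) ≠ π (tv hF (P a)) := by
    intro a e
    obtain ⟨c, hc⟩ := tv_eq_smul hF hv (hP a) (pi_inj hF (tv_sq hF hv.2) (tv_sq hF (hP a).2) e)
    obtain ⟨h1, h2⟩ := hind c (c * a - 1) (by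
      rw [sub_smul, one_smul, ← smul_smul]
      simp only [P, smul_add] at hc
      rw [← sub_eq_zero.2 hc.symm]; abel)
    rw [h1, zero_mul, zero_sub, neg_eq_zero] at h2
    exact one_ne_zero h2
  have w1 : (1 : F) ≠ ω := fun e => hω1 e.symm
  have w2 : (1 : F) ≠ ω ^ 2 := fun e => by
    rw [hω] at e; exact hω0 (by linear_combination -e)
  have w3 : ω ≠ ω ^ 2 := fun e => by rw [hω] at e; simp at e
  refine ⟨π (tv hF (P 1)), π (tv hF (P ω)), π (tv hF (P (ω ^ 2))), ?_, ?_, ?_, ?_, ?_, ?_, ?_, ?_⟩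
  · rw [hE]; exact ⟨_, hP _, rfl⟩
  · rw [hE]; exact ⟨_, hP _, rfl⟩
  · rw [hE]; exact ⟨_, hP _, rfl⟩
  · simp only [List.nodup_cons, List.mem_cons, List.not_mem_nil, or_false, not_or, not_false_eq_true,
      List.nodup_nil, and_true]
    exact ⟨⟨hne, hdu _ one_ne_zero, hdu _ hω0, hdu _ (pow_ne_zero _ hω0)⟩, ⟨hdv _, hdv _, hdv _⟩,
      ⟨hdiff w1, hdiff w2⟩, hdiff w3⟩
  · have hall : ∀ a ∈ [π (tv hF u), π (tv hF v), π (tv hF (P 1)), π (tv hF (P ω)), π (tv hF (P (ω ^ 2)))],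
        ∃ w, IsPt w ∧ hh w u = 0 ∧ hh w v = 0 ∧ (w = u ∨ w = v ∨ ∃ c, w = P c) ∧ π (tv hF w) = a := by
      intro a ha
      simp only [List.mem_cons, List.not_mem_nil, or_false] at ha
      rcases ha with rfl | rfl | rfl | rfl | rfl
      · exact ⟨u, hu, hu.2, huv, Or.inl rfl, rfl⟩
      · exact ⟨v, hv, hvu, hv.2, Or.inr (Or.inl rfl), rfl⟩
      all_goals exact ⟨_, hP _, hPu _, hPv _, Or.inr (Or.inr ⟨_, rfl⟩), rfl⟩
    intro a ha b hb
    obtain ⟨w, hw, h1, h2, -, rfl⟩ := hall a ha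
    obtain ⟨w', hw', -, -, h3, rfl⟩ := hall b hb
    refine (hcomm hw hw').2 ?_
    rcases h3 with rfl | rfl | ⟨c, rfl⟩
    · exact h1
    · exact h2
    · exact hperp w h1 h2 c
  · rw [← map_mul, ← map_mul, ← map_mul, ← map_mul, ← map_one π]
    refine congrArg π (su_ext fun x => ?_)
    simp only [suMat_mul, ← Matrix.mulVec_mulVec, tv_apply hF hu.2, tv_apply hF hv.2, tv_apply hF (hP _).2,
      suMat_one, Matrix.one_mulVec, herm_add_left, herm_smul_left, hPu, hPv, huv, hvu, hu.2, hv.2,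
      hperp _ (hPu _) (hPv _), mul_zero, add_zero]
    simp only [P, hh_add_right hF, herm_smul_right hF, smul_add, smul_smul, add_smul]
    funext i
    simp only [Pi.add_apply, Pi.smul_apply, smul_eq_mul]
    linear_combination (hh x u * v i + hh x v * u i) * hω + (hh x v * u i) * (ω * hω3) +
      (hh x v * v i) * (hω3 * (ω ^ 3 + 1) + hω3) +
      (hh x u * u i * 2 + hh x v * v i * 2 + hh x u * v i * (ω + 1) + hh x v * u i * (ω + 1)) * e2
  · intro z hz h1 h2
    rw [hE] at hz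
    obtain ⟨w, hw, rfl⟩ := hz
    have := hperp w ((hcomm hw hu).1 h1) ((hcomm hw hv).1 h2)
    exact ⟨(hcomm hw (hP _)).2 (this _), (hcomm hw (hP _)).2 (this _), (hcomm hw (hP _)).2 (this _)⟩
  · intro t ht htu htv ctu ctv hall
    rw [hE] at ht
    obtain ⟨w, hw, rfl⟩ := ht
    let e₀ : V := ![1, 1, 0, 0, 0, 0]
    let f₀ : V := ![0, 0, 1, 1, 0, 0]
    obtain ⟨G, hG⟩ := exists_GU_family hF ![e₀, f₀] ![u, v] (indep_pair (fun e => by
        simpa [e₀] using congrFun e 0) fun a e => by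
        have h0 := congrFun e 0
        have h2 := congrFun e 2
        simp [e₀, f₀] at h0 h2)
      (indep_pair hu.1 fun a e => one_ne_zero (α := F) (neg_eq_zero.1
        (hind a (-1) (by rw [e, neg_smul, one_smul, add_neg_cancel])).2))
      (fun i j => by fin_cases i <;> fin_cases j <;> simp [hu.2, hv.2, huv, hvu] <;>
        simp [e₀, f₀, Cfsg.hermForm, Fin.sum_univ_six, CharTwo.add_self_eq_zero])
    have hp := mem_GU_iff.1 G.2
    set M := ((G : Matrix.GeneralLinearGroup (Fin 6) F) : Matrix (Fin 6) (Fin 6) F) with hM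
    have hGu : M *ᵥ e₀ = u := hG 0
    have hGv : M *ᵥ f₀ = v := hG 1
    set w' : V := ((G : Matrix.GeneralLinearGroup (Fin 6) F)⁻¹ :
      Matrix.GeneralLinearGroup (Fin 6) F).1 *ᵥ w with hw'
    have hMw : M *ᵥ w' = w := by
      rw [hw', Matrix.mulVec_mulVec, hM, ← Units.val_mul, mul_inv_cancel, Units.val_one,
        Matrix.one_mulVec]
    have k1 : hh w' e₀ = 0 := by rw [← hp, hMw, hGu]; exact (hcomm hw hu).1 ctu
    have k2 : hh w' f₀ = 0 := by rw [← hp, hMw, hGv]; exact (hcomm hw hv).1 ctv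
    have k3 : ∀ z : V, z ≠ 0 → hh z z = 0 → hh z e₀ = 0 → hh z f₀ = 0 → hh w' z = 0 := by
      intro z z0 zz ze zf
      have hMz : IsPt (M *ᵥ z) := ⟨fun e => z0 (uForm_nondeg hF 6 z fun x => by
        show hh x z = 0
        rw [← hp, e, hh_zero_right hF]), by rw [hp]; exact zz⟩
      have := hall _ (by rw [hE]; exact ⟨_, hMz, rfl⟩) ((hcomm hMz hu).2 (by rw [← hGu, hp, ze]))
        ((hcomm hMz hv).2 (by rw [← hGv, hp, zf]))
      rw [← hp, hMw]
      exact (hcomm hw hMz).1 this.symm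
    have k4 := k3 ![0, 0, 0, 0, 1, 1] (fun e => by simpa using congrFun e 4)
      (by simp [Cfsg.hermForm, Fin.sum_univ_six, CharTwo.add_self_eq_zero])
      (by simp [e₀, Cfsg.hermForm, Fin.sum_univ_six]) (by simp [f₀, Cfsg.hermForm, Fin.sum_univ_six])
    have k5 := k3 ![0, 0, 0, 0, 1, ω] (fun e => by simpa using congrFun e 4)
      (by simp [Cfsg.hermForm, Fin.sum_univ_six]; linear_combination hω3 + e2)
      (by simp [e₀, Cfsg.hermForm, Fin.sum_univ_six]) (by simp [f₀, Cfsg.hermForm, Fin.sum_univ_six])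
    simp [e₀, f₀, Cfsg.hermForm, Fin.sum_univ_six] at k1 k2 k4 k5
    have h5 : w' 5 = 0 := by
      have : w' 5 * (ω ^ 2 - 1) = 0 := by linear_combination k5 - k4
      exact (mul_eq_zero.1 this).resolve_right (sub_ne_zero.2 w2.symm)
    have h4 : w' 4 = 0 := by linear_combination k4 - h5
    have hw'' : w' = w' 0 • e₀ + w' 2 • f₀ := by
      funext i
      fin_cases i
      · simp [e₀, f₀]
      · simp [e₀, f₀]; linear_combination k1 - w' 0 * e2
      · simp [e₀, f₀]
      · simp [e₀, f₀]; linear_combination k2 - w' 2 * e2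
      · simp [e₀, f₀, h4]
      · simp [e₀, f₀, h5]
    have hwe : w = w' 0 • u + w' 2 • v := by
      rw [← hMw]
      conv_lhs => rw [hw'']
      rw [Matrix.mulVec_add, Matrix.mulVec_smul, Matrix.mulVec_smul, hGu, hGv]
    by_cases ha : w' 0 = 0
    · exfalso
      refine htv ?_
      rw [ha, zero_smul, zero_add] at hwe
      rw [hwe, tv_smul hF hv.2 fun e => hw.1 (by rw [hwe, e, zero_smul])]
    by_cases hb : w' 2 = 0
    · exfalso
      refine htu ?_
      rw [hb, zero_smul, add_zero] at hwe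
      rw [hwe, tv_smul hF hu.2 ha]
    set c := w' 2 / w' 0 with hcdef
    have hc0 : c ≠ 0 := div_ne_zero hb ha
    have hwP : w = w' 0 • P c := by
      rw [hwe, smul_add, smul_smul, mul_div_cancel₀ _ ha]
    have hπ : π (tv hF w) = π (tv hF (P c)) := by rw [hwP, tv_smul hF (hP c).2 ha]
    have hprod : (c - 1) * (c - ω) * (c - ω ^ 2) = 0 := by
      linear_combination pow_three hF hc0 + (-(c ^ 2) + c * ω + c * ω ^ 2 * 0) * 0 +
        (-(c ^ 2) + c) * hω + c * (hω3) - hω3 + (c ^ 2 * (-ω - 1) + c * (ω + 1)) * e2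
    rw [hπ]
    rcases mul_eq_zero.1 hprod with h | h
    · rcases mul_eq_zero.1 h with h | h
      · left; rw [sub_eq_zero.1 h]
      · right; left; rw [sub_eq_zero.1 h]
    · right; right; rw [sub_eq_zero.1 h]

end CfsgLib.ThreeT.SixTwo
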