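import Cfsg.Agent.Spor3T.HexadUnique
import Cfsg.Agent.Spor3T.UnitaryPentad
import Cfsg.Agent.Spor3T.Simple

/-!
Pentads around a transposition in a group of type M(22), and the two factorisations of a triple product.
-/

set_option autoImplicit false
set_option linter.unusedSectionVars false
set_option linter.style.haveILetI false

namespace CfsgLib.ThreeT.Prod

variable {G : Type*} [Group G] {D : Set G} {d : G}

/-- Any commuting pair of neighbours lies in a unique pentad with central product. -/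
def LineProp (D : Set G) (d : G) : Prop :=
  ∀ b ∈ nb D d, ∀ c ∈ nb D d, b ≠ c → Commute b c → ∃ p q r, p ∈ nb D d ∧ q ∈ nb D d ∧ r ∈ nb D d ∧
    [b, c, p, q, r].Nodup ∧ (∀ x ∈ [b, c, p, q, r], ∀ y ∈ [b, c, p, q, r], Commute x y) ∧
    (∀ z ∈ nb D d, Commute z (b * c * p * q * r)) ∧
    (∀ z ∈ nb D d, Commute z b → Commute z c → Commute z p ∧ Commute z q ∧ Commute z r) ∧
    ∀ t ∈ nb D d, t ≠ b → t ≠ c → Commute t b → Commute t c →
      (∀ z ∈ nb D d, Commute z b → Commute z c → Commute z t) → t = p ∨ t = q ∨ t = r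

theorem mem_nb_conj (hD : TT0 D) (g : G) {x : G} :
    MulAut.conj g x ∈ nb D (MulAut.conj g d) ↔ x ∈ nb D d := by
  refine ⟨fun h => ⟨?_, fun e => h.2.1 (by rw [e]), ?_⟩, fun h => ⟨hD.conj g x h.1,
    fun e => h.2.1 ((MulAut.conj g).injective e), (commute_conj_iff g d x).2 h.2.2⟩⟩
  · simpa [mul_assoc] using hD.conj g⁻¹ _ h.1
  · exact (commute_conj_iff g d x).1 h.2.2

theorem LineProp.conj (hD : TT0 D) (h : LineProp D d) (g : G) : LineProp D (MulAut.conj g d) := by
  intro b hb c hc hbc hcm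
  set σ := MulAut.conj g
  obtain ⟨b, rfl⟩ := σ.surjective b
  obtain ⟨c, rfl⟩ := σ.surjective c
  rw [mem_nb_conj hD] at hb hc
  have hcom : ∀ {x y : G}, Commute (σ x) (σ y) ↔ Commute x y := fun {x y} => commute_conj_iff g x y
  obtain ⟨p, q, r, hp, hq, hr, hn, hpw, hz, hnear, huniq⟩ :=
    h b hb c hc (fun e => hbc (by rw [e])) (hcom.1 hcm)
  refine ⟨σ p, σ q, σ r, (mem_nb_conj hD g).2 hp, (mem_nb_conj hD g).2 hq, (mem_nb_conj hD g).2 hr,
    hn.map σ.injective, ?_, ?_, ?_, ?_⟩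
  · intro x hx y hy
    obtain ⟨x, hx', rfl⟩ := List.mem_map.1 (show x ∈ [b, c, p, q, r].map σ from hx)
    obtain ⟨y, hy', rfl⟩ := List.mem_map.1 (show y ∈ [b, c, p, q, r].map σ from hy)
    exact hcom.2 (hpw x hx' y hy')
  · intro z hz'
    obtain ⟨z, rfl⟩ := σ.surjective z
    rw [← map_mul, ← map_mul, ← map_mul, ← map_mul]
    exact hcom.2 (hz z ((mem_nb_conj hD g).1 hz'))
  · intro z hz' h1 h2
    obtain ⟨z, rfl⟩ := σ.surjective z
    obtain ⟨k1, k2, k3⟩ := hnear z ((mem_nb_conj hD g).1 hz') (hcom.1 h1) (hcom.1 h2)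
    exact ⟨hcom.2 k1, hcom.2 k2, hcom.2 k3⟩
  · intro t ht h1 h2 h3 h4 h5
    obtain ⟨t, rfl⟩ := σ.surjective t
    rcases huniq t ((mem_nb_conj hD g).1 ht) (fun e => h1 (by rw [e])) (fun e => h2 (by rw [e]))
      (hcom.1 h3) (hcom.1 h4) (fun z hz' k1 k2 =>
        hcom.1 (h5 (σ z) ((mem_nb_conj hD g).2 hz') (hcom.2 k1) (hcom.2 k2))) with rfl | rfl | rfl
    · exact Or.inl rfl
    · exact Or.inr (Or.inl rfl)
    · exact Or.inr (Or.inr rfl)

theorem lineProp_of_iso [Finite G] (hD : TT0 D) (hcj : ConjD D) (htf : TwinFree D)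
    (h1 : ∀ a ∈ D, a ≠ 1) (hd : d ∈ D) {F : Type} [Field F] [Fintype F] (hF : Fintype.card F = 4)
    (e : ↥(hsub D d) ⧸ Subgroup.center ↥(hsub D d) ≃* Cfsg.PSU 6 F 2) : LineProp D d := by
  have hF' : Nat.card F = 2 ^ 2 := by rw [Nat.card_eq_fintype_card, hF]; rfl
  haveI : CharP F 2 := by
    obtain ⟨p, hp⟩ := CharP.exists F
    haveI := hp
    obtain ⟨n, hprime, hn⟩ := FiniteField.card F p
    rw [hF] at hn
    have h2 : p ∣ 2 ^ 2 := ⟨p ^ ((n : ℕ) - 1), by
      rw [← pow_succ', Nat.sub_add_cancel (show 1 ≤ (n : ℕ) from n.2)]; exact hn⟩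
    rwa [(Nat.prime_dvd_prime_iff_eq hprime Nat.prime_two).1 (hprime.dvd_of_dvd_pow h2)] at hp
  intro b hb c hc hbc hcm
  set φ : ↥(hsub D d) →* Cfsg.PSU 6 F 2 :=
    e.toMonoidHom.comp (QuotientGroup.mk' (Subgroup.center ↥(hsub D d))) with hφ
  set E : Set (Cfsg.PSU 6 F 2) := φ '' {x | (x : G) ∈ nb D d}
  have hI := img_tt0 (d := d) hD
  have hmem : ∀ {x : Cfsg.PSU 6 F 2}, x ∈ E ↔ e.symm x ∈ img D d := by
    intro x
    constructor
    · rintro ⟨y, hy, rfl⟩
      exact ⟨y, hy, (e.symm_apply_apply _).symm⟩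
    · rintro ⟨y, hy, hye⟩
      refine ⟨y, hy, ?_⟩
      show e (y : ↥(hsub D d) ⧸ Subgroup.center ↥(hsub D d)) = x
      rw [hye, e.apply_symm_apply]
  have hE : TT0 E := by
    refine ⟨fun a ha => e.symm.injective ?_, fun a ha a' ha' => ?_, fun g a ha => hmem.2 ?_⟩
    · rw [map_mul, map_one]; exact hI.sq _ (hmem.1 ha)
    · rcases hI.pair _ (hmem.1 ha) _ (hmem.1 ha') with h | h
      · exact Or.inl (e.symm.injective (by rwa [map_pow, map_mul, map_one]))
      · exact Or.inr (e.symm.injective (by rwa [map_pow, map_mul, map_one]))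
    · rw [map_mul, map_mul, map_inv]; exact hI.conj _ _ (hmem.1 ha)
  have hd1 := h1 d hd
  have hne1 : ∀ {x : ↥(hsub D d)}, (x : G) ∈ nb D d → φ x ≠ 1 := fun {x} hx h =>
    not_central hD hcj htf hd hd1 hx (h1 _ hx.1) fun z hz =>
      central_of_mk_eq_one (e.injective (h.trans e.map_one.symm)) hz
  have hinj : ∀ {x y : ↥(hsub D d)}, (x : G) ∈ nb D d → (y : G) ∈ nb D d → φ x = φ y → (x : G) = y :=
    fun {x y} hx hy h => by
      by_contra hne
      exact not_central hD hcj htf hd hd1 hx (h1 _ hx.1) fun z hz =>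
        central_of_mk_eq hD hx hy hne (e.injective h) hz
  have hcom : ∀ {x y : ↥(hsub D d)}, (x : G) ∈ nb D d → (y : G) ∈ nb D d →
      (Commute (φ x) (φ y) ↔ Commute (x : G) (y : G)) := fun {x y} hx hy =>
    ⟨fun h => (map_commute_iff hD hx hy).1 (by simpa [hφ] using h.map e.symm),
      fun h => ((map_commute_iff hD hx hy).2 h).map e.toMonoidHom⟩
  have h1E : (1 : Cfsg.PSU 6 F 2) ∉ E := fun ⟨x, hx, h⟩ => hne1 hx h
  let B : ↥(hsub D d) := ⟨b, Subgroup.subset_closure hb⟩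
  let C : ↥(hsub D d) := ⟨c, Subgroup.subset_closure hc⟩
  have hEeq := SixTwo.class_eq hF' hE h1E ⟨φ B, B, hb, rfl⟩
  obtain ⟨_, _, _, ⟨P, hP, rfl⟩, ⟨Q, hQ, rfl⟩, ⟨R, hR, rfl⟩, hn, hpw, hprod, hnear, huniq⟩ :=
    SixTwo.pentad hF' hEeq (⟨B, hb, rfl⟩ : φ B ∈ E) (⟨C, hc, rfl⟩ : φ C ∈ E)
      (fun h => hbc (hinj (x := B) (y := C) hb hc h)) ((hcom (x := B) (y := C) hb hc).2 hcm)
  have hnG : [(B : G), C, P, Q, R].Nodup := by
    refine (List.Nodup.of_map φ (l := [B, C, P, Q, R]) hn).map Subtype.val_injective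
  have hall : ∀ x ∈ [B, C, P, Q, R], (x : G) ∈ nb D d := by
    intro x hx
    simp only [List.mem_cons, List.not_mem_nil, or_false] at hx
    rcases hx with rfl | rfl | rfl | rfl | rfl <;> assumption
  refine ⟨P, Q, R, hP, hQ, hR, hnG, ?_, ?_, ?_, ?_⟩
  · intro x hx y hy
    obtain ⟨x, hx', rfl⟩ := List.mem_map.1 (show x ∈ [B, C, P, Q, R].map Subtype.val from hx)
    obtain ⟨y, hy', rfl⟩ := List.mem_map.1 (show y ∈ [B, C, P, Q, R].map Subtype.val from hy)
    exact (hcom (hall x hx') (hall y hy')).1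
      (hpw (φ x) (List.mem_map_of_mem hx') (φ y) (List.mem_map_of_mem hy'))
  · intro z hz
    have hk : φ (B * C * P * Q * R) = 1 := by simpa only [map_mul] using hprod
    exact central_of_mk_eq_one (e.injective (hk.trans e.map_one.symm)) hz
  · intro z hz h₁ h₂
    let Z : ↥(hsub D d) := ⟨z, Subgroup.subset_closure hz⟩
    obtain ⟨k1, k2, k3⟩ := hnear (φ Z) ⟨Z, hz, rfl⟩ ((hcom (x := Z) hz hb).2 h₁)
      ((hcom (x := Z) hz hc).2 h₂)
    exact ⟨(hcom (x := Z) hz hP).1 k1, (hcom (x := Z) hz hQ).1 k2, (hcom (x := Z) hz hR).1 k3⟩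
  · intro t ht t1 t2 t3 t4 t5
    let T : ↥(hsub D d) := ⟨t, Subgroup.subset_closure ht⟩
    rcases huniq (φ T) ⟨T, ht, rfl⟩ (fun h => t1 (hinj (x := T) (y := B) ht hb h))
      (fun h => t2 (hinj (x := T) (y := C) ht hc h)) ((hcom (x := T) (y := B) ht hb).2 t3)
      ((hcom (x := T) (y := C) ht hc).2 t4) (by
        rintro _ ⟨z, hz, rfl⟩ k1 k2
        exact (hcom hz ht).2 (t5 z hz ((hcom (y := B) hz hb).1 k1) ((hcom (y := C) hz hc).1 k2)))
      with h | h | h
    · exact Or.inl (hinj (x := T) ht hP h)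
    · exact Or.inr (Or.inl (hinj (x := T) ht hQ h))
    · exact Or.inr (Or.inr (hinj (x := T) ht hR h))

/-- Data for a group of type M(22). -/
structure Setup22 (D : Set G) : Prop where
  class3 : Cfsg.IsThreeTranspositionClass D
  tt : TT0 D
  ne_one : ∀ a ∈ D, a ≠ 1
  center : Subgroup.center G = ⊥
  conjD : ConjD D
  twinFree : TwinFree D
  point : ∃ d ∈ D, TwinFree (img D d)
  line : ∀ a ∈ D, LineProp D a
  conn : ∀ p q : D, Relation.ReflTransGen (fun p q : D => Commute (p : G) q) p q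
  near : ∀ a ∈ D, ∀ b ∈ nb D a, ∀ b' ∈ nb D a, ∃ g ∈ hsub D a, g * b * g⁻¹ = b'

theorem setup22 [Finite G] (hD : Cfsg.IsThreeTranspositionGroup D)
    (hp : Cfsg.IsPrimitiveUnderConj D) (h : Cfsg.IsOfTypeM22 G D) : Setup22 D := by
  have hT := tt0_of_group hD
  have hF := facts22 hT hD.2.2 h
  have h1 : ∀ a ∈ D, a ≠ 1 := fun a ha e => by simpa [e] using hD.1.1 a ha
  have hcl : Cfsg.IsThreeTranspositionClass D := by
    obtain ⟨a, ha, -⟩ := hp.2.1
    refine ⟨hD.1, ⟨a, ha, Set.ext fun x => ⟨fun hx => isConj_iff.2 (hp.1 a ha x hx), fun hx => ?_⟩⟩,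
      hD.2.2⟩
    obtain ⟨g, rfl⟩ := isConj_iff.1 hx
    exact hD.2.1 g a ha
  obtain ⟨-, d, hd, c, -, hdc, ⟨F, _, _, hF4, ⟨e⟩⟩, -⟩ := id h
  have hne : (nb D d).Nonempty := by
    by_contra hno
    rw [Set.not_nonempty_iff_eq_empty] at hno
    have hbot : hsub D d = ⊥ := by rw [hsub, hno, Subgroup.closure_empty]
    obtain ⟨-, hcard⟩ := psu_facts hF4
    have h2 := card_img_dvd (D := D) (d := d)
    rw [← Nat.card_congr e.toEquiv] at hcard
    have h3 := (Subgroup.card_quotient_dvd_card (Subgroup.center ↥(hsub D d)))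
    rw [hcard, show Nat.card ↥(hsub D d) = 1 by rw [hbot]; exact Subgroup.card_bot] at h3
    norm_num at h3
  obtain ⟨b, hb⟩ := hne
  have hw : ∃ a ∈ D, ∃ b ∈ D, a ≠ b ∧ Commute a b := ⟨d, hd, b, hb.1, fun e => hb.2.1 e.symm, hb.2.2⟩
  have hcores := cores_of_primitive hcl hF.center hp hw
  have hsol := solvable_normal_eq_bot hcl hF.center hcores.1 hcores.2
  have hC := connected_of_primitive hcl hp hw
  have hline := lineProp_of_iso hT hF.conjD hF.twinFree h1 hd hF4 e
  obtain ⟨-, htQ⟩ : True ∧ TwinFree (img D d) := by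
    obtain ⟨hs, hcard⟩ := psu_facts hF4
    haveI : IsSimpleGroup (↥(hsub D d) ⧸ Subgroup.center ↥(hsub D d)) :=
      haveI := hs
      haveI := e.toEquiv.nontrivial
      IsSimpleGroup.isSimpleGroup_of_surjective e.symm.toMonoidHom e.symm.surjective
    refine ⟨trivial, twinFree_of_simple (fun hab => ?_) (img_tt0 (d := d) hT)⟩
    letI : CommGroup (↥(hsub D d) ⧸ Subgroup.center ↥(hsub D d)) :=
      { (inferInstance : Group (↥(hsub D d) ⧸ Subgroup.center ↥(hsub D d))) with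
        mul_comm := fun a b => (hab a b).eq }
    have := IsSimpleGroup.prime_card (α := ↥(hsub D d) ⧸ Subgroup.center ↥(hsub D d))
    rw [(Nat.card_congr e.toEquiv).trans hcard] at this
    exact absurd (this.eq_one_or_self_of_dvd 2 (by norm_num)) (by norm_num)
  refine ⟨hcl, hT, h1, hF.center, hF.conjD, hF.twinFree, ⟨d, hd, htQ⟩, ?_, hC, ?_⟩
  · intro a ha
    obtain ⟨g, rfl⟩ := hp.1 d hd a ha
    exact hline.conj hT g
  · intro a ha b₁ hb₁ b₂ hb₂
    exact (rank_three_of_connected hcl hsol hC ⟨⟨d, hd⟩, ⟨b, hb.1⟩, fun e => hb.2.1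
      (congrArg Subtype.val e).symm⟩ ha).2.2.1 b₁ hb₁.1 b₂ hb₂.1 hb₁.2.1 hb₂.2.1 hb₁.2.2 hb₂.2.2

/-- An element commuting with all neighbours of two commuting members is trivial. -/
theorem eq_one_of_commute_nb (h : Setup22 D) {a b w : G} (ha : a ∈ D) (hb : b ∈ nb D a)
    (haw : Commute a w) (hbw : Commute b w) (wa : ∀ y ∈ nb D a, Commute y w)
    (wb : ∀ y ∈ nb D b, Commute y w) : w = 1 := by
  let P : G → Prop := fun u => Commute u w ∧ (∀ y ∈ nb D u, Commute y w) ∧
    ∃ v ∈ nb D u, Commute v w ∧ ∀ y ∈ nb D v, Commute y w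
  have step : ∀ u v : G, u ∈ D → P u → v ∈ nb D u → P v := by
    intro u v hu ⟨huw, hun, x, hx, hxw, hxn⟩ hv
    obtain ⟨g, hg, hgx⟩ := h.near u hu x hx v hv
    have hgw : Commute g w := commute_of_closure hun g hg
    have hfix : g * w * g⁻¹ = w := by rw [hgw.eq, mul_inv_cancel_right]
    refine ⟨hun v hv, fun y hy => ?_, u, ⟨hu, fun e => hv.2.1 e.symm, hv.2.2.symm⟩, huw, hun⟩
    have hy' : MulAut.conj g⁻¹ y ∈ nb D x := by
      rw [← mem_nb_conj h.tt g]
      simpa [mul_assoc, hgx] using hy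
    have h2 := (commute_conj_iff g _ w).2 (hxn _ hy')
    rw [hfix] at h2
    simpa [mul_assoc] using h2
  have hPa : P a := ⟨haw, wa, b, hb, hbw, wb⟩
  have key : ∀ q : D, Relation.ReflTransGen (fun p q : D => Commute (p : G) q) ⟨a, ha⟩ q → P q := by
    intro q hq
    induction hq with
    | refl => exact hPa
    | @tail p q _ hpq ih =>
      by_cases e : (q : G) = p
      · rw [e]; exact ih
      · exact step p q p.2 ih ⟨q.2, e, hpq⟩
  have hw : w ∈ Subgroup.center G := Subgroup.mem_center_iff.2 fun g =>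
    (commute_of_closure (fun z hz => (key ⟨z, hz⟩ (h.conn _ _)).1) g
      (h.class3.2.2 ▸ Subgroup.mem_top g)).eq
  rwa [h.center, Subgroup.mem_bot] at hw

/-- A transposition is the product of each pentad of its neighbours. -/
theorem exists_pentad [Finite G] (h : Setup22 D) {a b c : G} (ha : a ∈ D) (hb : b ∈ nb D a)
    (hc : c ∈ nb D a) (hbc : b ≠ c) (hcm : Commute b c) :
    ∃ p q r, p ∈ nb D a ∧ q ∈ nb D a ∧ r ∈ nb D a ∧ [b, c, p, q, r].Nodup ∧
      (∀ x ∈ [b, c, p, q, r], ∀ y ∈ [b, c, p, q, r], Commute x y) ∧ a = b * c * p * q * r ∧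
      ∀ t ∈ nb D a, t ≠ b → t ≠ c → Commute t b → Commute t c →
        (∀ z ∈ nb D a, Commute z b → Commute z c → Commute z t) → t = p ∨ t = q ∨ t = r := by
  have hD := h.tt
  obtain ⟨p, q, r, hp, hq, hr, hn, hpw, hz, hnear, huniq⟩ := h.line a ha b hb c hc hbc hcm
  refine ⟨p, q, r, hp, hq, hr, hn, hpw, ?_, huniq⟩
  simp only [List.mem_cons, List.not_mem_nil, or_false, forall_eq_or_imp, forall_eq] at hpw
  obtain ⟨⟨-, -, cbp, cbq, cbr⟩, ⟨-, -, ccp, ccq, ccr⟩, ⟨-, -, -, cpq, cpr⟩, ⟨-, -, -, -, cqr⟩, -⟩ := hpw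
  simp only [List.nodup_cons, List.mem_cons, List.not_mem_nil, or_false, not_or, not_false_eq_true,
    List.nodup_nil, and_true, and_assoc] at hn
  obtain ⟨-, nbp, nbq, nbr, ncp, ncq, ncr, npq, npr, nqr⟩ := hn
  have hab : Commute b a := hb.2.2.symm
  have hbA : a ∈ nb D b := ⟨ha, fun e => hb.2.1 e.symm, hab⟩
  have hbC : c ∈ nb D b := ⟨hc.1, fun e => hbc e.symm, hcm⟩
  have hbP : p ∈ nb D b := ⟨hp.1, fun e => nbp e.symm, cbp⟩
  have hbQ : q ∈ nb D b := ⟨hq.1, fun e => nbq e.symm, cbq⟩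
  have hbR : r ∈ nb D b := ⟨hr.1, fun e => nbr e.symm, cbr⟩
  -- the pentad of `a, c` at `b` is again `p, q, r`
  obtain ⟨p', q', r', -, -, -, hn', hpw', hz', -, huniq'⟩ :=
    h.line b hb.1 a hbA c hbC (fun e => hc.2.1 e.symm) hc.2.2
  have hin : ∀ t ∈ [p, q, r], t ∈ [p', q', r'] := by
    intro t ht
    have key : t ∈ nb D b ∧ t ∈ nb D a ∧ t ≠ c ∧ Commute t c ∧
        (∀ z ∈ nb D a, Commute z b → Commute z c → Commute z t) := by
      simp only [List.mem_cons, List.not_mem_nil, or_false] at ht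
      rcases ht with rfl | rfl | rfl
      · exact ⟨hbP, hp, fun e => ncp e.symm, ccp.symm, fun z hz a b => (hnear z hz a b).1⟩
      · exact ⟨hbQ, hq, fun e => ncq e.symm, ccq.symm, fun z hz a b => (hnear z hz a b).2.1⟩
      · exact ⟨hbR, hr, fun e => ncr e.symm, ccr.symm, fun z hz a b => (hnear z hz a b).2.2⟩
    obtain ⟨tb, ta, tc, ctc, tnear⟩ := key
    have := huniq' t tb ta.2.1 tc ta.2.2.symm ctc fun z hz za zc => by
      by_cases e : z = a
      · rw [e]; exact ta.2.2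
      · exact tnear z ⟨hz.1, e, za.symm⟩ hz.2.2.symm zc
    simpa using this
  have hperm : [p, q, r].Perm [p', q', r'] :=
    (List.subperm_of_subset (by simp [npq, npr, nqr]) hin).perm_of_length_le le_rfl
  have hprod : p * q * r = p' * q' * r' := by
    have := hperm.prod_eq' (by simp [cpq, cpr, cqr])
    simpa [mul_assoc] using this
  set z₀ := b * c * p * q * r with hz₀
  have caz : Commute a z₀ :=
    (((hb.2.2.mul_right hc.2.2).mul_right hp.2.2).mul_right hq.2.2).mul_right hr.2.2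
  have cbz : Commute b z₀ :=
    ((((Commute.refl b).mul_right hcm).mul_right cbp).mul_right cbq).mul_right cbr
  have hw2 : a * z₀ = b * (a * c * p' * q' * r') := by
    rw [show a * c * p' * q' * r' = a * c * (p' * q' * r') by group, ← hprod, hz₀]
    calc a * (b * c * p * q * r) = a * b * (c * (p * q * r)) := by group
      _ = b * a * (c * (p * q * r)) := by rw [hab.eq]
      _ = _ := by group
  have hw : a * z₀ = 1 := eq_one_of_commute_nb h ha hb
    ((Commute.refl a).mul_right caz) (hab.mul_right cbz)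
    (fun y hy => hy.2.2.symm.mul_right (hz y hy))
    (fun y hy => by rw [hw2]; exact hy.2.2.symm.mul_right (hz' y hy))
  calc a = a * (a * z₀) := by rw [hw, mul_one]
    _ = z₀ := cancel2 hD ha z₀

/-- A product of three commuting members has exactly two factorisations in type M(22). -/
theorem two_triples [Finite G] [DecidableEq G] (h : Setup22 D) {l₀ : List G} (hl : Triple D l₀) :
    ∃ l₁ l₂ : List G, (Triple D l₁ ∧ l₁.prod = l₀.prod) ∧ (Triple D l₂ ∧ l₂.prod = l₀.prod) ∧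
      ¬ (∀ x : G, x ∈ l₁ ↔ x ∈ l₂) ∧
      ∀ l : List G, Triple D l → l.prod = l₀.prod → (∀ x : G, x ∈ l ↔ x ∈ l₁) ∨ ∀ x : G, x ∈ l ↔ x ∈ l₂ := by
  have hD := h.tt
  obtain ⟨a, b, c, rfl⟩ := List.length_eq_three.1 hl.2.1
  have hm := hl.2.2.1
  have hcc := hl.2.2.2
  have hn : a ≠ b ∧ a ≠ c ∧ b ≠ c := by simpa [List.nodup_cons, and_assoc] using hl.1
  have ha := hm a (by simp)
  have hb : b ∈ nb D a := ⟨hm b (by simp), hn.1.symm, hcc a (by simp) b (by simp)⟩
  have hc : c ∈ nb D a := ⟨hm c (by simp), hn.2.1.symm, hcc a (by simp) c (by simp)⟩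
  have cbc := hcc b (by simp) c (by simp)
  obtain ⟨p, q, r, hp, hq, hr, hnd, hpw, hprod, huniq⟩ := exists_pentad h ha hb hc hn.2.2 cbc
  have hsubl : ∀ x ∈ [p, q, r], x ∈ [b, c, p, q, r] := fun x hx =>
    List.mem_cons_of_mem _ (List.mem_cons_of_mem _ hx)
  have hl₂ : Triple D [p, q, r] := by
    refine ⟨hnd.of_cons.of_cons, rfl, fun x hx => ?_, fun x hx y hy => hpw x (hsubl x hx) y (hsubl y hy)⟩
    simp only [List.mem_cons, List.not_mem_nil, or_false] at hx
    rcases hx with rfl | rfl | rfl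
    exacts [hp.1, hq.1, hr.1]
  have hp₂ : [p, q, r].prod = [a, b, c].prod := by
    simp only [List.prod_cons, List.prod_nil, mul_one]
    have key : Commute (p * (q * r)) (b * c) := by
      have k : ∀ x ∈ [p, q, r], Commute x (b * c) := fun x hx =>
        (hpw x (hsubl x hx) b (by simp)).mul_right (hpw x (hsubl x hx) c (by simp))
      exact (k p (by simp)).mul_left ((k q (by simp)).mul_left (k r (by simp)))
    rw [hprod]
    calc p * (q * r) = p * (q * r) * ((b * c) * (b * c)) := by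
          rw [show b * c * (b * c) = 1 by
            rw [← pow_two, cbc.mul_pow, pow_two, pow_two, hD.sq b hb.1, hD.sq c hc.1, one_mul], mul_one]
      _ = (b * c) * (p * (q * r)) * (b * c) := by rw [← mul_assoc, key.eq]
      _ = b * c * p * q * r * (b * c) := by group
  refine ⟨[a, b, c], [p, q, r], ⟨hl, rfl⟩, ⟨hl₂, hp₂⟩, fun he => ?_, fun l hlt hlp => ?_⟩
  · have := (he a).1 (by simp)
    simp only [List.mem_cons, List.not_mem_nil, or_false] at this
    rcases this with e | e | e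
    exacts [hp.2.1 e.symm, hq.2.1 e.symm, hr.2.1 e.symm]
  refine (triple_eq_or_disjoint hD h.twinFree h.ne_one hlt hl hlp).imp id fun hd => ?_
  obtain ⟨s, t, u, rfl⟩ := List.length_eq_three.1 hlt.2.1
  have hstu : Commute s t ∧ Commute s u ∧ Commute t u :=
    ⟨hlt.2.2.2 s (by simp) t (by simp), hlt.2.2.2 s (by simp) u (by simp), hlt.2.2.2 t (by simp) u (by simp)⟩
  have hne : s ≠ t ∧ s ≠ u ∧ t ≠ u := by simpa [List.nodup_cons, and_assoc] using hlt.1
  have hin : ∀ x ∈ [s, t, u], x ∈ [p, q, r] := by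
    intro x hx
    have xa := hd.2 x hx a (by simp)
    have hxn : x ∈ nb D a := ⟨hlt.2.2.1 x hx, fun e => hd.1 x hx (by simp [e]), xa.symm⟩
    have := huniq x hxn (fun e => hd.1 x hx (by simp [e])) (fun e => hd.1 x hx (by simp [e]))
      (hd.2 x hx b (by simp)) (hd.2 x hx c (by simp)) fun z hz zb zc => by
        have hzl : Commute z [s, t, u].prod := by
          rw [hlp]
          simp only [List.prod_cons, List.prod_nil, mul_one]
          exact hz.2.2.symm.mul_right (zb.mul_right zc)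
        simp only [List.prod_cons, List.prod_nil, mul_one, ← mul_assoc] at hzl
        have := (commute_triple_iff hD (hlt.2.2.1 s (by simp)) (hlt.2.2.1 t (by simp))
          (hlt.2.2.1 u (by simp)) hz.1 hstu.1 hstu.2.1 hstu.2.2 hne.1 hne.2.1 hne.2.2).1 hzl.symm
        simp only [List.mem_cons, List.not_mem_nil, or_false] at hx
        rcases hx with rfl | rfl | rfl
        exacts [this.1.symm, this.2.1.symm, this.2.2.symm]
    simpa using this
  have := (List.subperm_of_subset hlt.1 hin).perm_of_length_le le_rfl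
  exact fun x => this.mem_iff

end CfsgLib.ThreeT.Prod
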