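import Cfsg.Agent.Spor3T.M24Invol
import Cfsg.Agent.Spor3T.M23Pair
import Cfsg.Agent.Comp.Layer
import Cfsg.Agent.S0815

/-!
Type M(24): the centraliser in the subgroup of index two of a product of three commuting transpositions.
-/

set_option autoImplicit false
set_option linter.unusedSectionVars false
set_option linter.style.haveILetI false

namespace CfsgLib.ThreeT.Prod

open CfsgLib
open scoped commutatorElement

variable {G : Type*} [Group G] [Finite G] {D : Set G}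

theorem mem_cent_three {a b c g : G} :
    g ∈ Subgroup.centralizer ({a, b, c} : Set G) ↔ Commute g a ∧ Commute g b ∧ Commute g c := by
  rw [Subgroup.mem_centralizer_iff]
  refine ⟨fun h => ⟨(h a (by simp)).symm, (h b (by simp)).symm, (h c (by simp)).symm⟩, ?_⟩
  rintro h x (rfl | rfl | rfl)
  exacts [h.1.eq.symm, h.2.1.eq.symm, h.2.2.eq.symm]

variable {d : G}

/-- The members are outside a subgroup of index two, and the product of two of them inside. -/
theorem outside_two (P : Point24 D d) {L : Subgroup G} (hL : L.index = 2) :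
    (∀ x ∈ D, x ∉ L) ∧ ∀ x ∈ D, ∀ y ∈ D, x * y ∈ L := by
  haveI : L.Normal := Subgroup.normal_of_index_eq_two hL
  have h1 : ∀ x ∈ D, x ∉ L := by
    intro x hx hxL
    have hle : Subgroup.closure D ≤ L := (Subgroup.closure_le _).2 fun y hy => by
      obtain ⟨g, rfl⟩ := P.base.conjD x hx y hy (P.base.ne_one x hx) (P.base.ne_one y hy)
      exact Subgroup.Normal.conj_mem inferInstance x hxL g
    rw [P.base.class3.2.2, top_le_iff] at hle
    rw [hle, Subgroup.index_top] at hL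
    norm_num at hL
  exact ⟨h1, fun x hx y hy =>
    (Subgroup.mul_mem_iff_of_index_two hL).2 ⟨fun q => absurd q (h1 x hx), fun q => absurd q (h1 y hy)⟩⟩

theorem triple_cover24 (P : Point24 D d) {L : Subgroup G} (hL : L.index = 2) {a b c : G} (ha : a ∈ D)
    (hb : b ∈ nb D a) (hc : c ∈ nb D a) (hbc : b ≠ c) (cbc : Commute b c) :
    Cfsg.IsQuasisimple ↥(L ⊓ Subgroup.centralizer ({a, b, c} : Set G)) ∧
      (Subgroup.center ↥(L ⊓ Subgroup.centralizer ({a, b, c} : Set G))).map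
          (L ⊓ Subgroup.centralizer ({a, b, c} : Set G)).subtype = Subgroup.closure ({a * b, a * c} : Set G) ∧
      ∃ (F : Type) (_ : Field F) (_ : Fintype F), Fintype.card F = 4 ∧
        Nonempty (↥(L ⊓ Subgroup.centralizer ({a, b, c} : Set G)) ⧸
          Subgroup.center ↥(L ⊓ Subgroup.centralizer ({a, b, c} : Set G)) ≃* Cfsg.PSU 6 F 2) := by
  classical
  obtain ⟨e₀, P'⟩ := P.below
  obtain ⟨hout, hin2⟩ := outside_two P hL
  have hT := P.base.tt
  obtain ⟨g, hg⟩ := P.base.conjD a ha d P.mem (P.base.ne_one a ha) (P.base.ne_one d P.mem)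
  set H := hsub D d
  set π := QuotientGroup.mk' (Subgroup.center ↥H)
  have hb' : g * b * g⁻¹ ∈ nb D d := nb_conj hT hb.1 hb.2.1 hb.2.2 hg
  have hc' : g * c * g⁻¹ ∈ nb D d := nb_conj hT hc.1 hc.2.1 hc.2.2 hg
  set B : ↥H := ⟨_, Subgroup.subset_closure hb'⟩
  set C : ↥H := ⟨_, Subgroup.subset_closure hc'⟩
  have hBC : π B ≠ π C := fun q => hbc (by
    have := mk_inj24 P (x := B) (y := C) hb' hc' q
    exact mul_left_cancel (mul_right_cancel this))
  have hBCc : Commute (π B) (π C) := (map_commute_iff hT hb' hc').2 ((commute_conj_iff g b c).2 cbc)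
  obtain ⟨hcen, hqs, F, iF, iT, hF, ⟨eF⟩⟩ := pair_cover23 P' P.group P.prim P.type (a := π B) (b := π C)
    ⟨B, hb', rfl⟩ ⟨⟨C, hc', rfl⟩, hBC.symm, hBCc⟩
  set Kb := Subgroup.centralizer ({π B, π C} : Set (↥H ⧸ Subgroup.center ↥H))
  set T := Subgroup.centralizer ({a, b, c} : Set G)
  set K := L ⊓ T with hK
  have haT : a ∈ T := mem_cent_three.2 ⟨Commute.refl a, hb.2.2, hc.2.2⟩
  have hbT : b ∈ T := mem_cent_three.2 ⟨hb.2.2.symm, Commute.refl b, cbc⟩
  have hcT : c ∈ T := mem_cent_three.2 ⟨hc.2.2.symm, cbc.symm, Commute.refl c⟩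
  have hH : ∀ x ∈ T, g * x * g⁻¹ ∈ H := fun x hx => by
    show g * x * g⁻¹ ∈ hsub D d
    rw [centralizer24 P P.mem, Subgroup.mem_centralizer_singleton_iff, ← hg]
    exact ((commute_conj_iff g x a).2 (mem_cent_three.1 hx).1).eq
  let f₀ : ↥T →* ↥H := ((MulAut.conj g).toMonoidHom.comp T.subtype).codRestrict H fun x => hH x x.2
  have hf₀ : ∀ x, (f₀ x : G) = g * x * g⁻¹ := fun x => rfl
  have hfK : ∀ x, π (f₀ x) ∈ Kb := fun x => by
    obtain ⟨-, x2, x3⟩ := mem_cent_three.1 x.2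
    exact mem_cent_pair.2
      ⟨(show Commute (f₀ x) B from Subtype.ext ((commute_conj_iff g (x : G) b).2 x2).eq).map π,
        (show Commute (f₀ x) C from Subtype.ext ((commute_conj_iff g (x : G) c).2 x3).eq).map π⟩
  let f : ↥T →* ↥Kb := (π.comp f₀).codRestrict Kb hfK
  have hker : ∀ x, f x = 1 → (x : G) = 1 ∨ (x : G) = a := by
    intro x hx
    rcases mk_one24 P (x := f₀ x) (congrArg Subtype.val hx) with q | q <;> rw [hf₀] at q
    · exact Or.inl (conj_eq_one_iff.1 q)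
    · exact Or.inr (mul_left_cancel (mul_right_cancel (q.trans hg.symm)))
  have hfa : f ⟨a, haT⟩ = 1 := by
    refine Subtype.ext ((QuotientGroup.eq_one_iff _).2 (mem_center_hsub fun y hy => ?_))
    rw [hf₀, hg]
    exact hy.2.2.symm
  have hsurj : Function.Surjective f := by
    intro z
    obtain ⟨k, hk⟩ := QuotientGroup.mk'_surjective (Subgroup.center ↥H) (z : ↥H ⧸ Subgroup.center ↥H)
    have hkd : (k : G) * d * (k : G)⁻¹ = d := by rw [(commute_hsub k.2).eq, mul_inv_cancel_right]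
    have key : ∀ (X : ↥H), (X : G) ∈ nb D d → Commute (π k) (π X) → Commute (k : G) X := by
      intro X hX hcom
      have e := mk_inj24 P (x := k * X * k⁻¹) (y := X) (nb_conj hT hX.1 hX.2.1 hX.2.2 hkd) hX (by
        show π (k * X * k⁻¹) = π X
        rw [map_mul, map_mul, map_inv, hcom.eq, mul_inv_cancel_right])
      exact mul_inv_eq_iff_eq_mul.1 e
    have hz := mem_cent_pair.1 z.2
    rw [← hk] at hz
    have h1 := key B hb' hz.1
    have h2 := key C hc' hz.2
    have h0 : Commute (k : G) (g * a * g⁻¹) := by rw [hg]; exact commute_hsub k.2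
    refine ⟨⟨g⁻¹ * k * g, mem_cent_three.2 ⟨?_, ?_, ?_⟩⟩, Subtype.ext ?_⟩
    · rw [← commute_conj_iff g, show g * (g⁻¹ * k * g) * g⁻¹ = (k : G) by group]; exact h0
    · rw [← commute_conj_iff g, show g * (g⁻¹ * k * g) * g⁻¹ = (k : G) by group]; exact h1
    · rw [← commute_conj_iff g, show g * (g⁻¹ * k * g) * g⁻¹ = (k : G) by group]; exact h2
    · rw [← hk]
      show π _ = π k
      exact congrArg π (Subtype.ext (by rw [hf₀]; show g * (g⁻¹ * k * g) * g⁻¹ = _; group))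
  let φ : ↥K →* ↥Kb := f.comp (Subgroup.inclusion inf_le_right)
  have hφ : Function.Bijective φ := by
    refine ⟨(injective_iff_map_eq_one φ).2 fun x hx => ?_, fun z => ?_⟩
    · rcases hker _ hx with q | q
      · exact Subtype.ext q
      · exact absurd ((show (x : G) = a from q) ▸ x.2.1) (hout a ha)
    · obtain ⟨x, hx⟩ := hsurj z
      by_cases hxL : (x : G) ∈ L
      · exact ⟨⟨x, hxL, x.2⟩, hx⟩
      · refine ⟨⟨(x : G) * a, (Subgroup.mul_mem_iff_of_index_two hL).2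
          ⟨fun q => absurd q hxL, fun q => absurd q (hout a ha)⟩, mul_mem x.2 haT⟩, ?_⟩
        show f (x * ⟨a, haT⟩) = z
        rw [map_mul, hfa, mul_one, hx]
  let ε : ↥K ≃* ↥Kb := MulEquiv.ofBijective φ hφ
  have hval : ∀ (x : ↥K), ((ε x : ↥Kb) : ↥H ⧸ Subgroup.center ↥H) = π (f₀ ⟨x, x.2.2⟩) := fun x => rfl
  have hcε : (Subgroup.center ↥K).map ε.toMonoidHom = Subgroup.center ↥Kb := by
    ext y
    obtain ⟨y, rfl⟩ := ε.surjective y
    rw [show ε y = ε.toMonoidHom y from rfl, Subgroup.mem_map_iff_mem ε.injective, Subgroup.mem_center_iff,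
      Subgroup.mem_center_iff]
    refine ⟨fun h z => ?_, fun h z => ε.injective (by rw [map_mul, map_mul]; exact h (ε z))⟩
    obtain ⟨z, rfl⟩ := ε.surjective z
    show ε z * ε y = ε y * ε z
    rw [← map_mul, ← map_mul, h z]
  refine ⟨Comp.isQuasisimple_of_equiv ε.symm hqs, ?_, F, iF, iT, hF, ⟨(QuotientGroup.congr _ _ ε hcε).trans eF⟩⟩
  have hab : a * b ∈ K := ⟨hin2 a ha b hb.1, mul_mem haT hbT⟩
  have hac : a * c ∈ K := ⟨hin2 a ha c hc.1, mul_mem haT hcT⟩
  have hcentral : ∀ y ∈ K, Commute y (a * b) ∧ Commute y (a * c) := fun y hy => by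
    obtain ⟨y1, y2, y3⟩ := mem_cent_three.1 hy.2
    exact ⟨y1.mul_right y2, y1.mul_right y3⟩
  refine le_antisymm ?_ ((Subgroup.closure_le _).2 ?_)
  · rintro _ ⟨x, hx, rfl⟩
    have hm : (ε x : ↥H ⧸ Subgroup.center ↥H) ∈ Subgroup.closure ({π B, π C} : Set _) := by
      rw [← hcen]
      refine ⟨ε x, ?_, rfl⟩
      rw [SetLike.mem_coe, ← hcε]
      exact ⟨x, hx, rfl⟩
    have hBv : ((ε ⟨a * b, hab⟩ : ↥Kb) : ↥H ⧸ Subgroup.center ↥H) = π B := by
      show ((f (⟨a, haT⟩ * ⟨b, hbT⟩) : ↥Kb) : ↥H ⧸ Subgroup.center ↥H) = π B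
      rw [map_mul, hfa, one_mul]
      rfl
    have hCv : ((ε ⟨a * c, hac⟩ : ↥Kb) : ↥H ⧸ Subgroup.center ↥H) = π C := by
      show ((f (⟨a, haT⟩ * ⟨c, hcT⟩) : ↥Kb) : ↥H ⧸ Subgroup.center ↥H) = π C
      rw [map_mul, hfa, one_mul]
      rfl
    have hmemE : (⟨a * b, hab⟩ : ↥K).1 ∈ Subgroup.closure ({a * b, a * c} : Set G) :=
      Subgroup.subset_closure (by simp)
    -- pull back along the isomorphism
    have key : ∀ v ∈ Subgroup.closure ({π B, π C} : Set (↥H ⧸ Subgroup.center ↥H)),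
        ∃ y : ↥K, (y : G) ∈ Subgroup.closure ({a * b, a * c} : Set G) ∧ ((ε y : ↥Kb) : _) = v := by
      intro v hv
      induction hv using Subgroup.closure_induction with
      | mem u hu =>
        rcases hu with rfl | rfl
        · exact ⟨_, hmemE, hBv⟩
        · exact ⟨⟨a * c, hac⟩, Subgroup.subset_closure (by simp), hCv⟩
      | one => exact ⟨1, one_mem _, by rw [map_one]; rfl⟩
      | mul u w _ _ hu hw =>
        obtain ⟨y, hy, rfl⟩ := hu
        obtain ⟨y', hy', rfl⟩ := hw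
        exact ⟨y * y', mul_mem hy hy', by rw [map_mul]; rfl⟩
      | inv u _ hu =>
        obtain ⟨y, hy, rfl⟩ := hu
        exact ⟨y⁻¹, inv_mem hy, by rw [map_inv]; rfl⟩
    obtain ⟨y, hy, hyx⟩ := key _ hm
    rw [show x = y from ε.injective (Subtype.ext hyx.symm)]
    exact hy
  · rintro x (rfl | rfl)
    · exact ⟨⟨_, hab⟩, Subgroup.mem_center_iff.2 fun y => Subtype.ext (hcentral y y.2).1.eq, rfl⟩
    · exact ⟨⟨_, hac⟩, Subgroup.mem_center_iff.2 fun y => Subtype.ext (hcentral y y.2).2.eq, rfl⟩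

/-- An element whose commutators with a perfect subgroup are central in it centralises it. -/
theorem commute_of_comm_central {K E : Subgroup G} {x : G} (hperf : commutator ↥K = ⊤) (hEK : E ≤ K)
    (hE : ∀ k ∈ K, ∀ e ∈ E, Commute k e) (hx : ∀ k ∈ K, x * k * x⁻¹ * k⁻¹ ∈ E) :
    ∀ k ∈ K, Commute x k := by
  let φ : ↥K →* G := MonoidHom.mk' (fun k => x * k * x⁻¹ * (k : G)⁻¹) fun k k' => by
    have h2 := hE (k : G)⁻¹ (inv_mem k.2) _ (hx k' k'.2)
    simp only [Subgroup.coe_mul]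
    calc x * (k * k') * x⁻¹ * ((k : G) * k')⁻¹ = x * k * x⁻¹ * ((x * k' * x⁻¹ * (k' : G)⁻¹) * (k : G)⁻¹) := by group
      _ = x * k * x⁻¹ * ((k : G)⁻¹ * (x * k' * x⁻¹ * (k' : G)⁻¹)) := by rw [h2.eq]
      _ = _ := by group
  intro k hk
  have hle : commutator ↥K ≤ φ.ker := by
    rw [commutator_def, Subgroup.commutator_le]
    intro u _ v _
    rw [MonoidHom.mem_ker, map_commutatorElement, commutatorElement_eq_one_iff_commute]
    exact hE _ (hEK (hx u u.2)) _ (hx v v.2)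
  rw [hperf] at hle
  exact mul_inv_eq_iff_eq_mul.1 (mul_inv_eq_one.1 (MonoidHom.mem_ker.1 (hle (Subgroup.mem_top ⟨k, hk⟩))))

theorem triple_product24 (P : Point24 D d) (hD : Cfsg.IsThreeTranspositionGroup D)
    (hprim : Cfsg.IsPrimitiveUnderConj D) (h24 : Cfsg.IsOfTypeM24 G D) {L : Subgroup G} (hL : L.index = 2)
    {a b c : G} (ha : a ∈ D) (hb : b ∈ nb D a) (hc : c ∈ nb D a) (hbc : b ≠ c) (cbc : Commute b c)
    (E CL K : Subgroup G) (hE : E = Subgroup.closure ({a * b, a * c} : Set G))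
    (hCL : CL = L ⊓ Subgroup.centralizer ({a * b * c} : Set G))
    (hK : K = (Cfsg.generalizedFittingSubgroup ↥CL).map CL.subtype) :
    Cfsg.IsQuasisimple ↥K ∧ (Subgroup.center ↥K).map K.subtype = E ∧
      K = L ⊓ Subgroup.centralizer (E : Set G) ∧
      (∃ (_ : (E.subgroupOf K).Normal) (F : Type) (_ : Field F) (_ : Fintype F), Fintype.card F = 4 ∧
        Nonempty (↥K ⧸ E.subgroupOf K ≃* Cfsg.PSU 6 F 2)) ∧
      ∃ _ : (K.subgroupOf CL).Normal, Nonempty (↥CL ⧸ K.subgroupOf CL ≃* Equiv.Perm (Fin 3)) ∧ E ≤ CL ∧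
        ∃ (_ : (E.subgroupOf CL).Normal) (F : Type) (_ : Field F) (_ : Fintype F), Fintype.card F = 4 ∧
          Nonempty (↥CL ⧸ E.subgroupOf CL ≃* MulAut (Cfsg.PSU 6 F 2)) := by
  classical
  obtain ⟨hout, hin2⟩ := outside_two P hL
  obtain ⟨hqs, hcen, F, iF, iT, hF, ⟨eF⟩⟩ := triple_cover24 P hL ha hb hc hbc cbc
  have hT := P.base.tt
  have hac' : a ≠ c := hc.2.1.symm
  have hab' : a ≠ b := hb.2.1.symm
  set K0 := L ⊓ Subgroup.centralizer ({a, b, c} : Set G) with hK0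
  rw [← hE] at hcen
  have hEK : E ≤ K0 := hcen ▸ Subgroup.map_subtype_le _
  have hEc : ∀ k ∈ K0, ∀ e ∈ E, Commute k e := by
    intro k hk e he
    rw [← hcen] at he
    obtain ⟨e, he, rfl⟩ := he
    exact congrArg Subtype.val (Subgroup.mem_center_iff.1 he ⟨k, hk⟩)
  -- elements centralising the four-group
  have hfixE : ∀ g, (∀ e ∈ E, Commute g e) → g ∈ Subgroup.centralizer ({a, b, c} : Set G) := by
    intro g hg
    have key : ∀ u, u ∈ nb D a → Commute g (a * u) →
        (g * a * g⁻¹ = a ∨ g * a * g⁻¹ = u) ∧ (g * u * g⁻¹ = a ∨ g * u * g⁻¹ = u) := by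
      intro u hu hgu
      have hprod : g * a * g⁻¹ * (g * u * g⁻¹) = a * u := by
        rw [show g * a * g⁻¹ * (g * u * g⁻¹) = g * (a * u) * g⁻¹ by group, hgu.eq, mul_inv_cancel_right]
      have h2 := uniq_two hT P.base.twinFree P.base.ne_one (l := [g * a * g⁻¹, g * u * g⁻¹]) (l' := [a, u])
        ⟨by simpa using fun q => hu.2.1 q.symm, rfl, by simpa using ⟨hT.conj g a ha, hT.conj g u hu.1⟩, by
          simpa [commute_conj_iff] using ⟨hu.2.2, hu.2.2.symm⟩⟩
        ⟨by simpa using hu.2.1.symm, rfl, by simpa using ⟨ha, hu.1⟩, by simpa using ⟨hu.2.2, hu.2.2.symm⟩⟩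
        (by simpa using hprod)
      exact ⟨by simpa using (h2 (g * a * g⁻¹)).1 (by simp), by simpa using (h2 (g * u * g⁻¹)).1 (by simp)⟩
    obtain ⟨kb1, kb2⟩ := key b hb (hg _ (hE ▸ Subgroup.subset_closure (by simp)))
    obtain ⟨kc1, kc2⟩ := key c hc (hg _ (hE ▸ Subgroup.subset_closure (by simp)))
    have ea : g * a * g⁻¹ = a := by
      rcases kb1 with q | q
      · exact q
      · rcases kc1 with q' | q'
        · exact q'
        · exact absurd (q.symm.trans q') hbc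
    refine mem_cent_three.2 ⟨mul_inv_eq_iff_eq_mul.1 ea, mul_inv_eq_iff_eq_mul.1 (kb2.resolve_left fun q => ?_),
      mul_inv_eq_iff_eq_mul.1 (kc2.resolve_left fun q => ?_)⟩
    · exact hab' (mul_left_cancel (mul_right_cancel (ea.trans q.symm)))
    · exact hac' (mul_left_cancel (mul_right_cancel (ea.trans q.symm)))
  -- the permutations of the three
  set v : Fin 3 → G := ![a, b, c] with hv
  have hvinj : Function.Injective v := by
    intro i j q
    fin_cases i <;> fin_cases j <;> simp [v, hab', hac', hbc, hab'.symm, hac'.symm, Ne.symm hbc] at q ⊢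
  have hvD : ∀ i, v i ∈ D := by intro i; fin_cases i <;> simp [v, ha, hb.1, hc.1]
  have hvc : ∀ i j, Commute (v i) (v j) := by
    intro i j
    fin_cases i <;> fin_cases j <;> simp [v, hb.2.2, hc.2.2, cbc, hb.2.2.symm, hc.2.2.symm, cbc.symm]
  have hperm : ∀ g : ↥CL, ∀ i, ∃ j, (g : G) * v i * (g : G)⁻¹ = v j := by
    intro g i
    have hgp : Commute (g : G) (a * b * c) := by
      have : (g : G) ∈ L ⊓ Subgroup.centralizer ({a * b * c} : Set G) := hCL ▸ g.2
      exact Subgroup.mem_centralizer_singleton_iff.1 this.2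
    have hu := uniq_le_three hD hprim (Or.inr h24) (m := 3) le_rfl
      (l := [(g : G) * a * (g : G)⁻¹, g * b * (g : G)⁻¹, g * c * (g : G)⁻¹]) (l' := [a, b, c])
      ⟨by simp [hab', hac', hbc], rfl, by simp [hT.conj _ _ ha, hT.conj _ _ hb.1, hT.conj _ _ hc.1],
        by simp [commute_conj_iff, hb.2.2, hc.2.2, cbc, hb.2.2.symm, hc.2.2.symm, cbc.symm]⟩
      ⟨by simp [hab', hac', hbc], rfl, by simp [ha, hb.1, hc.1],
        by simp [hb.2.2, hc.2.2, cbc, hb.2.2.symm, hc.2.2.symm, cbc.symm]⟩ (by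
        simp only [List.prod_cons, List.prod_nil, mul_one]
        calc (g : G) * a * (g : G)⁻¹ * ((g : G) * b * (g : G)⁻¹ * ((g : G) * c * (g : G)⁻¹))
            = g * (a * b * c) * (g : G)⁻¹ := by group
          _ = a * (b * c) := by rw [hgp.eq, mul_inv_cancel_right, mul_assoc])
    have hm : (g : G) * v i * (g : G)⁻¹ ∈ [a, b, c] := (hu _).1 (by fin_cases i <;> simp [v])
    simp only [List.mem_cons, List.not_mem_nil, or_false] at hm
    rcases hm with q | q | q
    exacts [⟨0, q⟩, ⟨1, q⟩, ⟨2, q⟩]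
  choose s hs using hperm
  have hsinj : ∀ g, Function.Injective (s g) := fun g i j q => hvinj (by
    have e1 := (hs g i).trans ((congrArg v q).trans (hs g j).symm)
    exact mul_left_cancel (mul_right_cancel e1))
  let σ : ↥CL →* Equiv.Perm (Fin 3) :=
    MonoidHom.mk' (fun g => Equiv.ofBijective (s g) (Finite.injective_iff_bijective.1 (hsinj g))) fun g g' => by
      refine Equiv.ext fun i => hvinj ?_
      show v (s (g * g') i) = v (s g (s g' i))
      rw [← hs, ← hs, ← hs, Subgroup.coe_mul]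
      group
  have hσ1 : ∀ g, σ g = 1 ↔ (g : G) ∈ K0 := by
    intro g
    have hgL : (g : G) ∈ L := ((hCL ▸ g.2 : (g : G) ∈ L ⊓ Subgroup.centralizer ({a * b * c} : Set G))).1
    constructor
    · intro q
      have e : ∀ i, (g : G) * v i * (g : G)⁻¹ = v i := fun i => by
        rw [hs]; exact congrArg v (Equiv.Perm.ext_iff.1 q i)
      exact ⟨hgL, mem_cent_three.2 ⟨mul_inv_eq_iff_eq_mul.1 (e 0), mul_inv_eq_iff_eq_mul.1 (e 1),
        mul_inv_eq_iff_eq_mul.1 (e 2)⟩⟩
    · intro q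
      obtain ⟨q1, q2, q3⟩ := mem_cent_three.1 q.2
      refine Equiv.ext fun i => hvinj ?_
      show v (s g i) = v i
      rw [← hs]
      fin_cases i
      exacts [mul_inv_eq_iff_eq_mul.2 q1.eq, mul_inv_eq_iff_eq_mul.2 q2.eq, mul_inv_eq_iff_eq_mul.2 q3.eq]
  have hK0CL : K0 ≤ CL := fun x hx => by
    rw [hCL]
    obtain ⟨x1, x2, x3⟩ := mem_cent_three.1 hx.2
    exact ⟨hx.1, Subgroup.mem_centralizer_singleton_iff.2 ((x1.mul_right x2).mul_right x3).eq⟩
  have hker : σ.ker = K0.subgroupOf CL := by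
    ext g; rw [MonoidHom.mem_ker, Subgroup.mem_subgroupOf]; exact hσ1 g
  have hsurj : Function.Surjective σ := by
    intro τ
    have hn : ∀ i j, i ≠ j → v (τ i) ≠ v (τ j) := fun i j hij q => hij (τ.injective (hvinj q))
    obtain ⟨g, g1, g2, g3⟩ := Level.triple_conj (geo24 P) arith24 (a := v (τ 0)) (b := v (τ 1)) (c' := v (τ 2))
      (hvD _) ⟨hvD _, hn 1 0 (by decide), hvc _ _⟩ ⟨hvD _, hn 2 0 (by decide), hvc _ _⟩ (hn 1 2 (by decide))
      (hvc _ _) (s := a) (t := b) (u := c) ha hb hc hbc cbc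
    obtain ⟨g', hg'L, h1, h2, h3⟩ : ∃ g' ∈ L, g' * a * g'⁻¹ = v (τ 0) ∧ g' * b * g'⁻¹ = v (τ 1) ∧
        g' * c * g'⁻¹ = v (τ 2) := by
      by_cases hgL : g ∈ L
      · exact ⟨g, hgL, g1, g2, g3⟩
      · refine ⟨g * a, (Subgroup.mul_mem_iff_of_index_two hL).2
          ⟨fun q => absurd q hgL, fun q => absurd q (hout a ha)⟩, ?_, ?_, ?_⟩
        · rw [← g1]; group
        · rw [show g * a * b * (g * a)⁻¹ = g * (a * b * a⁻¹) * g⁻¹ by group, hb.2.2.eq, mul_inv_cancel_right, g2]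
        · rw [show g * a * c * (g * a)⁻¹ = g * (a * c * a⁻¹) * g⁻¹ by group, hc.2.2.eq, mul_inv_cancel_right, g3]
    have hmem : g' ∈ CL := by
      rw [hCL]
      refine ⟨hg'L, Subgroup.mem_centralizer_singleton_iff.2 (mul_inv_eq_iff_eq_mul.1 ?_)⟩
      rw [show g' * (a * b * c) * g'⁻¹ = g' * a * g'⁻¹ * (g' * b * g'⁻¹) * (g' * c * g'⁻¹) by group, h1, h2, h3]
      have hperm' : [v (τ 0), v (τ 1), v (τ 2)].Perm [v 0, v 1, v 2] := by
        have := (Equiv.Perm.ofFn_comp_perm τ v)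
        simpa [List.ofFn_succ, Function.comp] using this
      have := hperm'.prod_eq' (List.pairwise_iff_forall_sublist.2 fun hab => by
        have h1 := hab.subset (List.mem_cons_self)
        have h2 := hab.subset (List.mem_cons_of_mem _ List.mem_cons_self)
        simp only [List.mem_cons, List.not_mem_nil, or_false] at h1 h2
        rcases h1 with rfl | rfl | rfl <;> rcases h2 with rfl | rfl | rfl <;> exact hvc _ _)
      simpa [v, mul_assoc] using this
    refine ⟨⟨g', hmem⟩, Equiv.ext fun i => hvinj ?_⟩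
    show v (s _ i) = v (τ i)
    rw [← hs]
    fin_cases i
    exacts [h1, h2, h3]
  haveI hKn : (K0.subgroupOf CL).Normal := hker ▸ MonoidHom.normal_ker σ
  -- the generalised Fitting subgroup
  set Kc := K0.subgroupOf CL
  have hcomp : Cfsg.IsComponent Kc :=
    ⟨Subgroup.Normal.isSubnormal inferInstance,
      Comp.isQuasisimple_of_equiv (Subgroup.subgroupOfEquivOfLe hK0CL).symm hqs⟩
  have hCK : Subgroup.centralizer (Kc : Set ↥CL) ≤ Kc := by
    intro x hx
    have hxL : (x : G) ∈ L := ((hCL ▸ x.2 : (x : G) ∈ L ⊓ Subgroup.centralizer ({a * b * c} : Set G))).1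
    refine ⟨hxL, hfixE x fun e he => ?_⟩
    exact (congrArg Subtype.val (Subgroup.mem_centralizer_iff.1 hx ⟨e, hK0CL (hEK he)⟩ (hEK he))).symm
  have hFs : Cfsg.generalizedFittingSubgroup ↥CL = Kc := by
    refine le_antisymm (Comp.Fstar_le_of_self_centralizing Kc ?_ hCK)
      ((Comp.component_le_layer hcomp).trans Comp.layer_le_Fstar)
    exact (Subgroup.le_centralizer_iff.1 (Comp.component_le_centralizer_fitting hcomp)).trans hCK
  have hKK0 : K = K0 := by rw [hK, hFs, Subgroup.map_subgroupOf_eq_of_le hK0CL]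
  subst hKK0
  have hcz : Subgroup.center ↥K0 = E.subgroupOf K0 := by
    ext x
    rw [Subgroup.mem_subgroupOf, ← hcen]
    exact ⟨fun q => ⟨x, q, rfl⟩, fun ⟨y, hy, q⟩ => Subtype.ext q ▸ hy⟩
  haveI hEKn : (E.subgroupOf K0).Normal := hcz ▸ inferInstance
  haveI hECn : (E.subgroupOf CL).Normal := by
    refine ⟨fun x hx g => ?_⟩
    have hk : ((g * x * g⁻¹ : ↥CL) : G) ∈ K0 := hKn.conj_mem x (hEK hx) g
    show ((g * x * g⁻¹ : ↥CL) : G) ∈ E
    rw [← hcen]
    refine ⟨⟨_, hk⟩, Subgroup.mem_center_iff.2 fun y => Subtype.ext ?_, rfl⟩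
    have hy := hKn.conj_mem ⟨y, hK0CL y.2⟩ y.2 g⁻¹
    have h1 := (commute_conj_iff (g : G) _ _).2 (hEc _ hy _ hx)
    simp only [Subgroup.coe_subtype, Subgroup.coe_mul, Subgroup.coe_inv, inv_inv] at h1 ⊢
    rw [show (g : G) * ((g : G)⁻¹ * (y : G) * g) * (g : G)⁻¹ = (y : G) by group] at h1
    exact h1.eq
  refine ⟨hqs, hcen, le_antisymm (le_inf inf_le_left fun x hx => ?_) (fun x hx => ?_),
    ⟨hEKn, F, iF, iT, hF, ⟨(QuotientGroup.quotientMulEquivOfEq hcz).symm.trans eF⟩⟩, hKn,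
    ⟨(QuotientGroup.quotientMulEquivOfEq hker).symm.trans (QuotientGroup.quotientKerEquivOfSurjective σ hsurj)⟩,
    hEK.trans hK0CL, hECn, F, iF, iT, hF, ?_⟩
  · exact Subgroup.mem_centralizer_iff.2 fun e he => (hEc x hx e he).eq.symm
  · exact ⟨hx.1, hfixE x fun e he => (Subgroup.mem_centralizer_iff.1 hx.2 e he).symm⟩
  -- the quotient by the four-group
  set ω := QuotientGroup.mk' (E.subgroupOf CL)
  set Kq := Kc.map ω
  haveI : Kq.Normal := hKn.map ω (QuotientGroup.mk'_surjective _)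
  let Φ : ↥K0 →* ↥Kq :=
    (ω.comp (Subgroup.inclusion hK0CL)).codRestrict Kq fun x => ⟨⟨x, hK0CL x.2⟩, x.2, rfl⟩
  have hΦs : Function.Surjective Φ := by
    rintro ⟨_, y, hy, rfl⟩
    exact ⟨⟨y, hy⟩, rfl⟩
  have hΦk : Φ.ker = Subgroup.center ↥K0 := by
    ext x
    rw [hcz, MonoidHom.mem_ker, Subgroup.mem_subgroupOf]
    exact ⟨fun q => (QuotientGroup.eq_one_iff (Subgroup.inclusion hK0CL x)).1 (congrArg Subtype.val q),
      fun q => Subtype.ext ((QuotientGroup.eq_one_iff (Subgroup.inclusion hK0CL x)).2 q)⟩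
  let eK : ↥Kq ≃* Cfsg.PSU 6 F 2 :=
    ((QuotientGroup.quotientMulEquivOfEq hΦk).symm.trans (QuotientGroup.quotientKerEquivOfSurjective Φ hΦs)).symm.trans eF
  let ρ : ↥CL ⧸ E.subgroupOf CL →* MulAut ↥Kq := MulAut.conjNormal
  have hρ : Function.Injective ρ := by
    rw [injective_iff_map_eq_one]
    intro q hq
    obtain ⟨x, rfl⟩ := QuotientGroup.mk'_surjective (E.subgroupOf CL) q
    have hcomm : ∀ k ∈ K0, (x : G) * k * (x : G)⁻¹ * k⁻¹ ∈ E := by
      intro k hk
      have := congrArg Subtype.val (DFunLike.congr_fun hq ⟨ω ⟨k, hK0CL hk⟩, ⟨k, hK0CL hk⟩, hk, rfl⟩)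
      rw [MulAut.conjNormal_apply, MulAut.one_apply] at this
      have e3 : ω (x * ⟨k, hK0CL hk⟩ * x⁻¹ * ⟨k, hK0CL hk⟩⁻¹) = 1 := by
        rw [map_mul, map_mul, map_mul, map_inv, map_inv]
        exact mul_inv_eq_one.2 this
      exact MonoidHom.mem_ker.2 e3 |> (QuotientGroup.ker_mk' (E.subgroupOf CL)).le
    have hxk := commute_of_comm_central hqs.1.commutator_eq_top hEK hEc hcomm
    have hxK : (x : G) ∈ K0 := by
      have hxL : (x : G) ∈ L := ((hCL ▸ x.2 : (x : G) ∈ L ⊓ Subgroup.centralizer ({a * b * c} : Set G))).1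
      exact ⟨hxL, hfixE x fun e he => hxk e (hEK he)⟩
    refine (QuotientGroup.eq_one_iff x).2 ?_
    show (x : G) ∈ E
    rw [← hcen]
    exact ⟨⟨x, hxK⟩, Subgroup.mem_center_iff.2 fun k => Subtype.ext (hxk k k.2).eq.symm, rfl⟩
  have hcard : Nat.card (↥CL ⧸ E.subgroupOf CL) = Nat.card (MulAut ↥Kq) := by
    have e1 : Nat.card ↥CL = 6 * Nat.card ↥K0 := by
      rw [← Subgroup.index_mul_card σ.ker, hker, Nat.card_congr (Subgroup.subgroupOfEquivOfLe hK0CL).toEquiv,
        ← hker, Subgroup.index_ker, MonoidHom.range_eq_top.2 hsurj, Subgroup.card_top, Nat.card_perm, Nat.card_fin]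
      rfl
    have e2 := Subgroup.card_eq_card_quotient_mul_card_subgroup (E.subgroupOf CL)
    rw [Nat.card_congr (Subgroup.subgroupOfEquivOfLe (hEK.trans hK0CL)).toEquiv, e1,
      Subgroup.card_eq_card_quotient_mul_card_subgroup (Subgroup.center ↥K0), Nat.card_congr eF.toEquiv] at e2
    have e3 : Nat.card ↥E = Nat.card ↥(Subgroup.center ↥K0) := by
      rw [hcz, Nat.card_congr (Subgroup.subgroupOfEquivOfLe hEK).toEquiv]
    rw [e3, ← mul_assoc] at e2
    rw [Nat.card_congr (MulAut.congr eK).toEquiv,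
      Cfsg.Agent.S0815.result (F := F) 2 1 le_rfl (q := 2) rfl (by rw [hF]; rfl) 6 (by norm_num) (by omega),
      ← Nat.eq_of_mul_eq_mul_right Nat.card_pos e2]
    norm_num
  exact ⟨(MulEquiv.ofBijective ρ ((Nat.bijective_iff_injective_and_card ρ).2 ⟨hρ, hcard⟩)).trans (MulAut.congr eK)⟩

end CfsgLib.ThreeT.Prod
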