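import Cfsg.Agent.Spor3T.Basic
import Cfsg.Agent.Invol.BaerSuzuki
import Cfsg.Agent.Invol.Dihedral

/-!
Products of two and three commuting 3-transpositions, twins.
-/

set_option autoImplicit false
set_option linter.unusedSectionVars false
set_option linter.style.haveILetI false

namespace CfsgLib.ThreeT.Prod

variable {G : Type*} [Group G]

/-- A conjugation invariant set of 3-transpositions, the identity being allowed as a member. -/
structure TT0 (D : Set G) : Prop where
  sq : ∀ a ∈ D, a * a = 1
  pair : ∀ a ∈ D, ∀ b ∈ D, (a * b) ^ 2 = 1 ∨ (a * b) ^ 3 = 1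
  conj : ∀ g : G, ∀ a ∈ D, g * a * g⁻¹ ∈ D

theorem tt0_of_group {D : Set G} (hD : Cfsg.IsThreeTranspositionGroup D) : TT0 D :=
  ⟨fun a ha => mul_self_of_orderOf (hD.1.1 a ha), hD.1.2, hD.2.1⟩

theorem TT0.tts {D : Set G} (h : TT0 D) :
    Cfsg.IsThreeTranspositionSet {x | x ∈ D ∧ x ≠ 1} :=
  ⟨fun a ha => orderOf_eq_prime (by rw [pow_two]; exact h.sq a ha.1) ha.2,
    fun a ha b hb => h.pair a ha.1 b hb.1⟩

theorem TT0.inv {D : Set G} (h : TT0 D) {a : G} (ha : a ∈ D) : a⁻¹ = a :=
  inv_eq_of_mul_eq_one_right (h.sq a ha)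

theorem TT0.conj' {D : Set G} (h : TT0 D) {a b : G} (ha : a ∈ D) (hb : b ∈ D) : b * a * b ∈ D := by
  have := h.conj b a ha
  rwa [h.inv hb] at this

/-- Two members commute with the same members. -/
def Twin (D : Set G) (a b : G) : Prop := ∀ x ∈ D, (Commute x a ↔ Commute x b)

/-- Non-identity members with the same commuting members are equal. -/
def TwinFree (D : Set G) : Prop := ∀ a ∈ D, ∀ b ∈ D, a ≠ 1 → b ≠ 1 → Twin D a b → a = b

theorem ne_one_left {a b : G} (h : ¬ Commute a b) : a ≠ 1 := by
  rintro rfl; exact h (Commute.one_left _)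

theorem ne_one_right {a b : G} (h : ¬ Commute a b) : b ≠ 1 := by
  rintro rfl; exact h (Commute.one_right _)

variable {D : Set G} (hD : TT0 D)
include hD

theorem braid0 {a b : G} (ha : a ∈ D) (hb : b ∈ D) (h : ¬ Commute a b) :
    a * b * a = b * a * b :=
  braid hD.tts ⟨ha, ne_one_left h⟩ ⟨hb, ne_one_right h⟩ h

theorem cancel2 {a : G} (ha : a ∈ D) (x : G) : a * (a * x) = x := by
  rw [← mul_assoc, hD.sq a ha, one_mul]

theorem commute_mul_iff0 {a b y : G} (ha : a ∈ D) (hb : b ∈ D) (hy : y ∈ D) (hab : Commute a b)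
    (hne : a ≠ b) : Commute (a * b) y ↔ Commute a y ∧ Commute b y := by
  by_cases ha1 : a = 1
  · simp [ha1]
  by_cases hb1 : b = 1
  · simp [hb1]
  by_cases hy1 : y = 1
  · simp [hy1]
  exact commute_mul_iff hD.tts ⟨ha, ha1⟩ ⟨hb, hb1⟩ ⟨hy, hy1⟩ hab hne

theorem not_commute_triple {b c d x : G} (hb : b ∈ D) (hc : c ∈ D) (hd : d ∈ D) (hx : x ∈ D)
    (hbc : Commute b c) (hbd : Commute b d) (hne : b ≠ d)
    (xb : ¬ Commute x b) (xc : ¬ Commute x c) (xd : ¬ Commute x d) :
    ¬ Commute (b * c * d) x := by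
  intro h
  set e := c * x * c with he
  have heD : e ∈ D := hD.conj' hx hc
  have e1 : b * x * b = x * b * x := (braid0 hD hx hb xb).symm
  have e2 : c * x * c = x * c * x := (braid0 hD hx hc xc).symm
  have e3 : d * x * d = x * d * x := (braid0 hD hx hd xd).symm
  have h1 : d * x * d = c * (b * x * b) * c := by
    have h' : b * c * (d * x) = x * (b * c * d) := by rw [← mul_assoc]; exact h.eq
    calc d * x * d = c * (b * (b * (c * (d * x * d)))) := by rw [cancel2 hD hb, cancel2 hD hc]
      _ = c * (b * ((b * c * (d * x)) * d)) := by group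
      _ = c * (b * (x * (b * c * d) * d)) := by rw [h']
      _ = c * (b * x * b) * c * (d * d) := by group
      _ = _ := by rw [hD.sq d hd, mul_one]
  have h2 : d = e * b * e := by
    calc d = x * (x * d * x) * x := by
          rw [mul_assoc x d x, cancel2 hD hx, mul_assoc, hD.sq x hx, mul_one]
      _ = x * (d * x * d) * x := by rw [e3]
      _ = x * (c * (x * b * x) * c) * x := by rw [h1, e1]
      _ = (x * c * x) * b * (x * c * x) := by group
      _ = _ := by rw [he, e2]
  have heb : ¬ Commute e b := by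
    intro hcm
    refine hne ?_
    rw [h2, hcm.eq, mul_assoc, hD.sq e heD, mul_one]
  rw [braid0 hD heD hb heb] at h2
  refine heb ?_
  have h3 : b * (b * e * b) = (b * e * b) * b := by rw [← h2]; exact hbd.eq
  rw [mul_assoc b e b, cancel2 hD hb, ← mul_assoc b e b, mul_assoc (b * e) b b, hD.sq b hb,
    mul_one] at h3
  exact h3

/-- A member commutes with a product of three commuting members iff it commutes with each. -/
theorem commute_triple_iff {b c d x : G} (hb : b ∈ D) (hc : c ∈ D) (hd : d ∈ D) (hx : x ∈ D)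
    (hbc : Commute b c) (hbd : Commute b d) (hcd : Commute c d)
    (nbc : b ≠ c) (nbd : b ≠ d) (ncd : c ≠ d) :
    Commute (b * c * d) x ↔ Commute b x ∧ Commute c x ∧ Commute d x := by
  refine ⟨fun h => ?_, fun h => (h.1.mul_left h.2.1).mul_left h.2.2⟩
  by_cases xb : Commute b x
  · refine ⟨xb, (commute_mul_iff0 hD hc hd hx hcd ncd).1 ?_⟩
    have : c * d = b * (b * c * d) := by rw [mul_assoc b c d, cancel2 hD hb]
    rw [this]; exact xb.mul_left h
  exfalso
  by_cases xc : Commute c x
  · refine xb ((commute_mul_iff0 hD hb hd hx hbd nbd).1 ?_).1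
    have : b * d = c * (b * c * d) := by
      rw [hbc.eq, mul_assoc c b d, cancel2 hD hc]
    rw [this]; exact xc.mul_left h
  by_cases xd : Commute d x
  · refine xb ((commute_mul_iff0 hD hb hc hx hbc nbc).1 ?_).1
    have : b * c = (b * c * d) * d := by rw [mul_assoc (b * c), hD.sq d hd, mul_one]
    rw [this]; exact h.mul_left xd
  exact not_commute_triple hD hb hc hd hx hbc hbd nbd (fun e => xb e.symm) (fun e => xc e.symm)
    (fun e => xd e.symm) h

/-- Four commuting members with product one are twins. -/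
theorem quad_twin {a b c d : G} (ha : a ∈ D) (hb : b ∈ D) (hc : c ∈ D) (hd : d ∈ D)
    (hab : Commute a b) (hac : Commute a c) (had : Commute a d) (hbc : Commute b c)
    (hbd : Commute b d) (hcd : Commute c d)
    (nab : a ≠ b) (nac : a ≠ c) (nad : a ≠ d) (nbc : b ≠ c) (nbd : b ≠ d) (ncd : c ≠ d)
    (h : a = b * c * d) : Twin D a b := by
  intro x hx
  constructor
  · intro hxa
    rw [h] at hxa
    exact ((commute_triple_iff hD hb hc hd hx hbc hbd hcd nbc nbd ncd).1 hxa.symm).1.symm
  · intro hxb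
    have h' : b = a * c * d := by
      have e : a * d = b * c := by rw [h, mul_assoc (b * c), hD.sq d hd, mul_one]
      have e2 : b = a * d * c := by rw [e, mul_assoc, hD.sq c hc, mul_one]
      rw [e2, mul_assoc, hcd.symm.eq, ← mul_assoc]
    rw [h'] at hxb
    exact ((commute_triple_iff hD ha hc hd hx hac had hcd nac nad ncd).1 hxb.symm).1.symm

/-- Two factorisations into two commuting members differ only in order, or give twins. -/
theorem pair_eq {a b c d : G} (ha : a ∈ D) (hb : b ∈ D) (hc : c ∈ D) (hd : d ∈ D)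
    (hab : Commute a b) (hcd : Commute c d) (nab : a ≠ b) (ncd : c ≠ d) (h : a * b = c * d) :
    (a = c ∧ b = d) ∨ (a = d ∧ b = c) ∨ Twin D a b := by
  have h1 : Commute (a * b) c := by rw [h]; exact (Commute.refl c).mul_left hcd.symm
  have h2 : Commute (a * b) d := by rw [h]; exact hcd.mul_left (Commute.refl d)
  obtain ⟨hac, hbc⟩ := (commute_mul_iff0 hD ha hb hc hab nab).1 h1
  obtain ⟨had, hbd⟩ := (commute_mul_iff0 hD ha hb hd hab nab).1 h2
  by_cases e1 : a = c
  · subst e1; exact Or.inl ⟨rfl, mul_left_cancel h⟩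
  by_cases e2 : a = d
  · subst e2
    refine Or.inr (Or.inl ⟨rfl, mul_left_cancel (a := a) ?_⟩)
    rw [h, hcd.eq]
  by_cases e3 : b = c
  · subst e3
    exact absurd (mul_right_cancel (b := b) (h.trans hcd.eq)) e2
  by_cases e4 : b = d
  · subst e4
    exact absurd (mul_right_cancel h) e1
  refine Or.inr (Or.inr (quad_twin hD ha hb hc hd hab hac had hbc hbd hcd nab e1 e2 e3 e4 ncd ?_))
  calc a = a * b * b := by rw [mul_assoc, hD.sq b hb, mul_one]
    _ = c * d * b := by rw [h]
    _ = _ := by rw [← (hbc.mul_right hbd).eq, mul_assoc]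

/-- If `b = c d e f` for five commuting members then `C(b) ∩ C(c) ≤ C(d)`. -/
theorem five_step {b c d e f x : G} (hc : c ∈ D) (hd : d ∈ D) (he : e ∈ D)
    (hf : f ∈ D) (hx : x ∈ D) (hcd : Commute c d) (hde : Commute d e)
    (hdf : Commute d f) (hef : Commute e f) (nde : d ≠ e) (ndf : d ≠ f) (nef : e ≠ f)
    (hce : Commute c e) (hcf : Commute c f)
    (h : b = c * d * e * f) (xb : Commute x b) (xc : Commute x c) : Commute x d := by
  have h' : d * e * f = c * b := by rw [h, mul_assoc c d e, mul_assoc c (d * e) f, cancel2 hD hc]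
  have hx2 : Commute (d * e * f) x := by rw [h']; exact (xc.mul_right xb).symm
  exact ((commute_triple_iff hD hd he hf hx hde hdf hef nde ndf nef).1 hx2).1.symm

/-- A twin product lies in the 2-core. -/
theorem twin_mem_pCore [Finite G] {u v : G} (hu : u ∈ D) (hv : v ∈ D) (ht : Twin D u v) :
    u * v ∈ Cfsg.pCore 2 G := by
  haveI : Fact (Nat.Prime 2) := ⟨Nat.prime_two⟩
  have huv : Commute u v := (ht u hu).1 (Commute.refl u)
  have hsq : ∀ {p q : G}, p ∈ D → q ∈ D → Commute p q → (p * q) * (p * q) = 1 := fun hp hq h => by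
    rw [← pow_two, h.mul_pow, pow_two, pow_two, hD.sq _ hp, hD.sq _ hq, one_mul]
  by_cases huv1 : u * v = 1
  · rw [huv1]; exact one_mem _
  have hw : orderOf (u * v) = 2 := orderOf_eq_prime (by rw [pow_two]; exact hsq hu hv huv) huv1
  refine Invol.mem_pCore_of_pairs _ fun g => ?_
  set p := g * u * g⁻¹ with hp
  set q := g * v * g⁻¹ with hq
  have hpD : p ∈ D := hD.conj g u hu
  have hqD : q ∈ D := hD.conj g v hv
  have hpq : Commute p q := (commute_conj_iff g u v).2 huv
  have htw : ∀ (k : G), ∀ z ∈ D, (Commute z (k * u * k⁻¹) ↔ Commute z (k * v * k⁻¹)) := by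
    intro k z hz
    have hz' := hD.conj k⁻¹ z hz
    have := ht _ hz'
    rw [← commute_conj_iff k, ← commute_conj_iff k (k⁻¹ * z * k⁻¹⁻¹) v] at this
    simpa [mul_assoc] using this
  have hh : g * (u * v) * g⁻¹ = p * q := conj_mul.symm
  rw [hh]
  have h4 : (u * v * (p * q)) ^ 4 = 1 := by
    by_cases hup : Commute u p
    · have hvp : Commute v p := ((ht p hpD).1 hup.symm).symm
      have huq : Commute u q := (htw g u hu).1 hup
      have hvq : Commute v q := (htw g v hv).1 hvp
      have hc : Commute (u * v) (p * q) := (hup.mul_left hvp).mul_right (huq.mul_left hvq)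
      rw [hc.mul_pow, show (4 : ℕ) = 2 * 2 from rfl, pow_mul, pow_mul, pow_two (u * v),
        pow_two (p * q), hsq hu hv huv, hsq hpD hqD hpq, one_pow, one_mul]
    · have hvp : ¬ Commute v p := fun h => hup ((ht p hpD).2 h.symm).symm
      set k := u * v with hk
      have hki : k⁻¹ = k := inv_eq_of_mul_eq_one_right (hsq hu hv huv)
      have hp' : k * p * k⁻¹ ∈ D := hD.conj k p hpD
      have hq' : k * q * k⁻¹ ∈ D := hD.conj k q hqD
      have hpp : Commute p (k * p * k⁻¹) := by
        have hX : k * p * k⁻¹ = u * (v * p * v) * u := by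
          rw [hk, mul_inv_rev, hD.inv hu, hD.inv hv]; group
        have h1 : k * p * k⁻¹ = p * (k * p * k⁻¹) * p := by
          have eu := braid0 hD hu hpD hup
          have ev := braid0 hD hv hpD hvp
          calc k * p * k⁻¹ = u * (p * v * p) * u := by rw [hX, ev]
            _ = (u * p * u) * (u * v * u) * (u * p * u) := by
              rw [huv.eq, mul_assoc v u u, hD.sq u hu, mul_one]
              calc u * (p * v * p) * u = u * p * (v * p * u) := by group
                _ = u * p * (u * (u * v) * (p * u)) := by rw [cancel2 hD hu]; group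
                _ = u * p * u * (v * u) * (p * u) := by rw [huv.eq]; group
                _ = _ := by group
            _ = (p * u * p) * v * (p * u * p) := by
              rw [eu, huv.eq, mul_assoc v u u, hD.sq u hu, mul_one]
            _ = p * (u * (p * v * p) * u) * p := by group
            _ = _ := by rw [hX, ev]
        show p * _ = _ * p
        conv_rhs => rw [h1]
        rw [mul_assoc (p * _) p p, hD.sq p hpD, mul_one]
      have hk2 : ∀ z : G, k * (k * z * k⁻¹) * k⁻¹ = z := fun z => by
        rw [hki]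
        calc k * (k * z * k) * k = (k * k) * z * (k * k) := by group
          _ = z := by rw [hsq hu hv huv, one_mul, mul_one]
      have e3 : ∀ z ∈ D, (Commute z (k * p * k⁻¹) ↔ Commute z (k * q * k⁻¹)) := by
        intro z hz
        have := htw (k * g) z hz
        simpa [hp, hq, mul_assoc] using this
      have hpq' : Commute p (k * q * k⁻¹) := (e3 p hpD).1 hpp
      have hqp' : Commute q (k * p * k⁻¹) := ((htw g _ hp').1 hpp.symm).symm
      have hqq' : Commute q (k * q * k⁻¹) := (e3 q hqD).1 hqp'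
      have hp'q' : Commute (k * p * k⁻¹) (k * q * k⁻¹) := (commute_conj_iff k p q).2 hpq
      have hcomm : Commute (k * (p * q) * k⁻¹) (p * q) := by
        rw [← conj_mul]
        exact (hpp.symm.mul_left hpq'.symm).mul_right (hqp'.symm.mul_left hqq'.symm)
      have e : k * (p * q) * (k * (p * q)) = k * (p * q) * k⁻¹ * (p * q) := by
        rw [hki]; group
      rw [show (4 : ℕ) = 2 * 2 from rfl, pow_mul, pow_two, pow_two, e]
      have s1 : (k * (p * q) * k⁻¹) * (k * (p * q) * k⁻¹) = 1 := by
        rw [conj_mul, hsq hpD hqD hpq, mul_one, mul_inv_cancel]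
      calc k * (p * q) * k⁻¹ * (p * q) * (k * (p * q) * k⁻¹ * (p * q))
          = k * (p * q) * k⁻¹ * ((p * q) * (k * (p * q) * k⁻¹)) * (p * q) := by group
        _ = k * (p * q) * k⁻¹ * (k * (p * q) * k⁻¹ * (p * q)) * (p * q) := by rw [hcomm.eq]
        _ = ((k * (p * q) * k⁻¹) * (k * (p * q) * k⁻¹)) * ((p * q) * (p * q)) := by group
        _ = 1 := by rw [s1, hsq hpD hqD hpq, one_mul]
  have hpo : orderOf (p * q) = 2 := by rw [← hh, Invol.orderOf_conj_eq, hw]
  intro ⟨z, hz⟩
  rcases (Invol.mem_closure_pair_iff hw hpo).1 hz with ⟨i, hi⟩ | ⟨i, hi⟩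
  · refine ⟨2, Subtype.ext ?_⟩
    show z ^ 2 ^ 2 = 1
    rw [hi, show (2 : ℕ) ^ 2 = 4 by norm_num, ← zpow_natCast, ← zpow_mul, mul_comm, zpow_mul,
      zpow_natCast, h4, one_zpow]
  · refine ⟨1, Subtype.ext ?_⟩
    show z ^ 2 ^ 1 = 1
    rw [hi, pow_one, pow_two]
    exact Invol.mul_zpow_mul_self (Invol.mul_self_eq_one hw) (Invol.conj_mul_inv hw hpo) i

end CfsgLib.ThreeT.Prod
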