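import Cfsg.Agent.Spor3T.LocalTwins
import Cfsg.Agent.Spor3T.TripleProducts
import Cfsg.Agent.SpecBlow.CoxeterA

/-!
A closed set of 3-transpositions invariant under an element of prime order that centralises none of them, the
prime exceeding every set of commuting members and being different from three, generates a group with an element
of order five: otherwise the graph of non-commuting pairs has no induced path on four vertices.
-/

set_option autoImplicit false
set_option linter.unusedSectionVars false
set_option linter.style.haveILetI false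

namespace CfsgLib.ThreeT.NoPath

open Relation

/-- Paths inside `V`. -/
def Reach {α : Type*} (R : α → α → Prop) (V : Set α) : α → α → Prop :=
  ReflTransGen fun a b => a ∈ V ∧ b ∈ V ∧ R a b

/-- `V` is connected. -/
def Conn {α : Type*} (R : α → α → Prop) (V : Set α) : Prop := ∀ u ∈ V, ∀ w ∈ V, Reach R V u w

/-- No induced path on four vertices. -/
def P4Free {α : Type*} (R : α → α → Prop) (V : Set α) : Prop :=
  ∀ a ∈ V, ∀ b ∈ V, ∀ c ∈ V, ∀ e ∈ V, R a b → R b c → R c e → ¬ R a c → ¬ R a e → ¬ R b e → a ≠ c → a ≠ e →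
    b ≠ e → False

section Graph

variable {α : Type*} {R : α → α → Prop}

theorem Reach.symm (hs : ∀ a b, R a b → R b a) {V : Set α} {u w : α} (h : Reach R V u w) : Reach R V w u := by
  induction h with
  | refl => exact ReflTransGen.refl
  | tail _ hbc ih => exact ReflTransGen.head ⟨hbc.2.1, hbc.1, hs _ _ hbc.2.2⟩ ih

theorem Reach.mem {V : Set α} {u w : α} (hu : u ∈ V) (h : Reach R V u w) : w ∈ V := by
  induction h with
  | refl => exact hu
  | tail _ hbc _ => exact hbc.2.1

/-- If the complement falls apart after removing `v` and both connect with it, there is a path on four. -/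
theorem p4_step (hs : ∀ a b, R a b → R b a) {S : Set α} {v : α} (hv : v ∉ S)
    (hp : P4Free R (insert v S)) (h1 : Conn R (insert v S))
    (h2 : Conn (fun a b => a ≠ b ∧ ¬ R a b) (insert v S))
    (hne : S.Nonempty) (hd : ¬ Conn (fun a b => a ≠ b ∧ ¬ R a b) S) : False := by
  set R' : α → α → Prop := fun a b => a ≠ b ∧ ¬ R a b with hR'
  have hs' : ∀ a b, R' a b → R' b a := fun a b h => ⟨h.1.symm, fun q => h.2 (hs _ _ q)⟩
  -- the removed vertex has a complementary edge to every part
  have hedge : ∀ z ∈ S, ∃ z', Reach R' S z z' ∧ R' v z' := by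
    intro z hz
    by_contra hno
    push Not at hno
    have hstay : ∀ w, Reach R' (insert v S) z w → Reach R' S z w ∧ w ∈ S := by
      intro w hw
      induction hw with
      | refl => exact ⟨ReflTransGen.refl, hz⟩
      | @tail b c _ hbc ih =>
        obtain ⟨ih1, ih2⟩ := ih
        rcases hbc.2.1 with rfl | hc
        · exact absurd (hs' _ _ hbc.2.2) (hno b ih1)
        · exact ⟨ih1.tail ⟨ih2, hc, hbc.2.2⟩, hc⟩
    exact hv (hstay v (h2 z (Or.inr hz) v (Or.inl rfl))).2
  -- an edge from the removed vertex
  obtain ⟨z₀, hz₀⟩ := hne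
  obtain ⟨w₀, hw₀, hvw₀⟩ : ∃ w, w ∈ S ∧ R v w := by
    rcases ReflTransGen.cases_head (h1 v (Or.inl rfl) z₀ (Or.inr hz₀)) with e | ⟨w, ⟨-, hw, hvw⟩, -⟩
    · exact absurd (e ▸ hz₀) hv
    · rcases hw with rfl | hw
      · -- a loop: look further
        by_contra hno
        push Not at hno
        have hstay : ∀ u, Reach R (insert w S) w u → u = w := by
          intro u hu
          induction hu with
          | refl => rfl
          | @tail b c _ hbc ih =>
            subst ih
            rcases hbc.2.1 with rfl | hc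
            · rfl
            · exact absurd hbc.2.2 (hno c hc)
        exact hv (hstay z₀ (h1 w (Or.inl rfl) z₀ (Or.inr hz₀)) ▸ hz₀)
      · exact ⟨w, hw, hvw⟩
  obtain ⟨a', ha'r, hva'⟩ := hedge w₀ hw₀
  -- another part
  obtain ⟨b₀, hb₀, hb₀r⟩ : ∃ b, b ∈ S ∧ ¬ Reach R' S w₀ b := by
    by_contra hno
    push Not at hno
    exact hd fun u hu w hw => (Reach.symm hs' (hno u hu)).trans (hno w hw)
  obtain ⟨b, hbr, hvb⟩ := hedge b₀ hb₀
  have hbS : b ∈ S := Reach.mem hb₀ hbr
  have hba : ¬ Reach R' S w₀ b := fun q => hb₀r (q.trans (Reach.symm hs' hbr))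
  -- a complementary edge in the part leaving the neighbours of the removed vertex
  obtain ⟨a, a'', haS, ha''S, har, hva, hva'', haa⟩ : ∃ a a'', a ∈ S ∧ a'' ∈ S ∧ Reach R' S w₀ a ∧ R v a ∧
      ¬ R v a'' ∧ R' a a'' := by
    by_contra hno
    push Not at hno
    have hall : ∀ w, Reach R' S w₀ w → R v w := by
      intro w hw
      induction hw with
      | refl => exact hvw₀
      | @tail p q hp' hpq ih =>
        by_contra hq
        exact hno p q hpq.1 hpq.2.1 hp' ih hq hpq.2.2
    exact hva'.2 (hall a' ha'r)
  have ha''r : Reach R' S w₀ a'' := har.tail ⟨haS, ha''S, haa⟩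
  have hab : R a b := by
    by_contra q
    exact hba (har.tail ⟨haS, hbS, ⟨fun e => hba (e ▸ har), q⟩⟩)
  have hba'' : R b a'' := by
    by_contra q
    exact hba (ha''r.tail ⟨ha''S, hbS, ⟨fun e => hba (e ▸ ha''r), fun q' => q (hs _ _ q')⟩⟩)
  exact hp v (Or.inl rfl) a (Or.inr haS) b (Or.inr hbS) a'' (Or.inr ha''S) hva hab hba'' hvb.2 hva'' haa.2
    hvb.1 (fun e => hv (e ▸ ha''S)) haa.1

/-- A finite graph without induced path on four vertices: it or its complement falls apart. -/
theorem not_both_conn (hs : ∀ a b, R a b → R b a) (hirr : ∀ a, ¬ R a a) :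
    ∀ (n : ℕ) (V : Set α), V.Finite → V.ncard = n → 2 ≤ n → P4Free R V →
      Conn R V → Conn (fun a b => a ≠ b ∧ ¬ R a b) V → False := by
  intro n
  induction n using Nat.strong_induction_on with
  | _ n ih =>
    intro V hV hn h2n hp h1 h2
    obtain ⟨v, hv⟩ : V.Nonempty := Set.nonempty_of_ncard_ne_zero (by omega)
    set S := V \ {v}
    have hins : insert v S = V := by
      rw [Set.insert_sdiff_singleton, Set.insert_eq_of_mem hv]
    have hvS : v ∉ S := fun q => q.2 rfl
    have hSn : S.ncard + 1 = n := by rw [Set.ncard_sdiff_singleton_add_one hv hV, hn]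
    have hSne : S.Nonempty := Set.nonempty_of_ncard_ne_zero (by omega)
    have hpS : P4Free R S := fun a ha b hb c hc e he =>
      hp a ha.1 b hb.1 c hc.1 e he.1
    rw [← hins] at hp h1 h2
    by_cases hd : Conn (fun a b => a ≠ b ∧ ¬ R a b) S
    · by_cases hr : Conn R S
      · rcases Nat.lt_or_ge S.ncard 2 with h | h
        · -- two vertices
          obtain ⟨w, hw⟩ := Set.ncard_eq_one.1 (by omega : S.ncard = 1)
          rw [hw] at h1 h2 hvS
          have hvw : v ≠ w := fun q => hvS q
          have key : ∀ Q : α → α → Prop, (∀ a, ¬ Q a a) → Conn Q (insert v {w}) → Q v w := by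
            intro Q hQ hc
            rcases ReflTransGen.cases_head (hc v (Or.inl rfl) w (Or.inr rfl)) with e | ⟨u, ⟨-, hu, hq⟩, -⟩
            · exact absurd e hvw
            · rcases hu with rfl | rfl
              · exact absurd hq (hQ _)
              · exact hq
          exact (key _ (fun a q => q.1 rfl) h2).2 (key R hirr h1)
        · exact ih S.ncard (by omega) S (hV.sdiff) rfl h hpS hr hd
      · -- the complement has the same property
        set R' : α → α → Prop := fun a b => a ≠ b ∧ ¬ R a b
        have hback : ∀ a b, (a ≠ b ∧ ¬ R' a b) ↔ R a b := fun a b => by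
          constructor
          · rintro ⟨hne, hq⟩
            by_contra q
            exact hq ⟨hne, q⟩
          · exact fun q => ⟨fun e => hirr a (by nth_rw 2 [e]; exact q), fun h => h.2 q⟩
        have hR : (fun a b => a ≠ b ∧ ¬ R' a b) = R := funext fun a => funext fun b => propext (hback a b)
        refine p4_step (R := R') (fun a b h => ⟨h.1.symm, fun q => h.2 (hs _ _ q)⟩) hvS ?_ h2 (hR ▸ h1) hSne
          (hR ▸ hr)
        intro a ha b hb c hc e he hab hbc hce nac nae nbe hac hae hbe
        have hac' : R a c := (hback a c).1 ⟨hac, nac⟩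
        have hae' : R a e := (hback a e).1 ⟨hae, nae⟩
        have hbe' : R b e := (hback b e).1 ⟨hbe, nbe⟩
        exact hp b hb e he a ha c hc hbe' (hs _ _ hae') hac' (fun q => hab.2 (hs _ _ q)) hbc.2
          (fun q => hce.2 (hs _ _ q)) hab.1.symm hbc.1 hce.1.symm
    · exact p4_step hs hvS hp h1 h2 hSne hd

end Graph

open CfsgLib.ThreeT.Prod

variable {G : Type*} [Group G] {D : Set G}

/-- Conjugates of a member by two commuting members not commuting with it commute. -/
theorem conj_pair_commute (hT : TT0 D) {a a' c : G} (ha : a ∈ D) (ha' : a' ∈ D) (hc : c ∈ D)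
    (haa : Commute a a') (hac : ¬ Commute a c) (ha'c : ¬ Commute a' c) : Commute (a * c * a) (a' * c * a') := by
  have b1 : c * a * c = a * c * a := braid0 hT hc ha fun q => hac q.symm
  have b2 : c * a' * c = a' * c * a' := braid0 hT hc ha' fun q => ha'c q.symm
  have sa := hT.sq a ha
  have sc := hT.sq c hc
  have k : c * (a * a' * c * a' * a) * c = a * a' * c * a' * a := by
    calc c * (a * a' * c * a' * a) * c = c * a * (a' * c * a') * a * c := by group
      _ = c * a * c * a' * (c * a * c) := by rw [← b2]; group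
      _ = a * c * (a * a' * a) * c * a := by rw [b1]; group
      _ = a * (c * a' * c) * a := by rw [haa.eq, mul_assoc a' a a, sa, mul_one]; group
      _ = a * a' * c * a' * a := by rw [b2]; group
  have h1 : Commute c (a * a' * c * a' * a) := by
    show c * (a * a' * c * a' * a) = a * a' * c * a' * a * c
    calc c * (a * a' * c * a' * a) = c * (a * a' * c * a' * a) * (c * c) := by rw [sc, mul_one]
      _ = c * (a * a' * c * a' * a) * c * c := by group
      _ = _ := by rw [k]
  have h2 := (commute_conj_iff a _ _).2 h1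
  rw [hT.inv ha] at h2
  rwa [show a * (a * a' * c * a' * a) * a = (a * a) * (a' * c * a') * (a * a) by group, sa, one_mul, mul_one] at h2

/-- Four members forming a path give an element of order five. -/
theorem five_of_path (hT : TT0 D) {a b c e : G} (ha : a ∈ D) (hb : b ∈ D) (hc : c ∈ D) (he : e ∈ D)
    (hab : ¬ Commute a b) (hbc : ¬ Commute b c) (hce : ¬ Commute c e) (hac : Commute a c) (hae : Commute a e)
    (hbe : Commute b e) : orderOf (a * b * c * e) = 5 := by
  haveI : Fact (Nat.Prime 5) := ⟨by norm_num⟩
  let s : ℕ → G := fun i => if i = 0 then a else if i = 1 then b else if i = 2 then c else e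
  have cube : ∀ {u v : G}, u ∈ D → v ∈ D → ¬ Commute u v → (u * v) ^ 3 = 1 := fun {u v} hu hv h => by
    refine (hT.pair u hu v hv).resolve_left fun q => h ?_
    show u * v = v * u
    rw [pow_two] at q
    calc u * v = (u * v * (u * v)) * (v⁻¹ * u⁻¹) := by group
      _ = v * u := by rw [q, one_mul, hT.inv hv, hT.inv hu]
  have hrel : CoxeterA.Rel s 4 := by
    refine ⟨fun i hi => ?_, fun i hi => ?_, fun i j hij hj => ?_⟩
    · interval_cases i <;> simp [s, pow_two, hT.sq a ha, hT.sq b hb, hT.sq c hc, hT.sq e he]
    · obtain rfl | rfl | rfl : i = 0 ∨ i = 1 ∨ i = 2 := by omega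
      · simpa [s] using cube ha hb hab
      · simpa [s] using cube hb hc hbc
      · simpa [s] using cube hc he hce
    · obtain ⟨rfl, rfl⟩ | ⟨rfl, rfl⟩ | ⟨rfl, rfl⟩ : i = 0 ∧ j = 2 ∨ i = 0 ∧ j = 3 ∨ i = 1 ∧ j = 3 := by omega
      · simpa [s] using hac
      · simpa [s] using hae
      · simpa [s] using hbe
  obtain ⟨f, -, hf⟩ := CoxeterA.exists_hom (n := 4) s hrel
  refine orderOf_eq_prime ?_ fun q => hab ?_
  · have h5 : (CoxeterA.adj 4 0 * CoxeterA.adj 4 1 * CoxeterA.adj 4 2 * CoxeterA.adj 4 3) ^ 5 = 1 := by
      decide +kernel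
    have := congrArg f h5
    rw [map_pow, map_mul, map_mul, map_mul, hf 0 (by norm_num), hf 1 (by norm_num), hf 2 (by norm_num),
      hf 3 (by norm_num), map_one] at this
    simpa [s] using this
  · have he' : e = c * b * a := by
      rw [eq_inv_of_mul_eq_one_right q, mul_inv_rev, mul_inv_rev, hT.inv ha, hT.inv hb, hT.inv hc, mul_assoc]
    rw [he'] at hae
    have h1 : c * (a * b * a) = c * b := by
      calc c * (a * b * a) = (c * a) * b * a := by group
        _ = a * (c * b * a) := by rw [← hac.eq]; group
        _ = c * b * a * a := hae.eq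
        _ = c * b := by rw [mul_assoc (c * b), hT.sq a ha, mul_one]
    have h2 := mul_left_cancel h1
    show a * b = b * a
    calc a * b = a * b * a * a := by rw [mul_assoc (a * b), hT.sq a ha, mul_one]
      _ = b * a := by rw [h2]

/-- The image of a set under conjugation. -/
def cset (g : G) (S : Set G) : Set G := (fun z => g * z * g⁻¹) '' S

theorem cset_mul (g h : G) (S : Set G) : cset g (cset h S) = cset (g * h) S := by
  simp only [cset, Set.image_image]
  exact Set.image_congr fun z _ => by group

/-- An invariant closed set gives an element of order five. -/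
theorem exists_five [Finite G] (hT : TT0 D) {p : ℕ} [hp : Fact p.Prime] (hp3 : p ≠ 3)
    (hclique : ∀ E ⊆ D, (∀ a ∈ E, ∀ b ∈ E, Commute a b) → E.ncard < p) {x : G} (hx : x ^ p = 1)
    (hfree : ∀ y ∈ D, ¬ Commute x y) :
    ∀ W : Set G, W ⊆ D → (∀ a ∈ W, ∀ b ∈ W, a * b * a ∈ W) → (∀ y ∈ W, x * y * x⁻¹ ∈ W) → W.Nonempty →
      ∃ z ∈ Subgroup.closure W, orderOf z = 5 := by
  classical
  intro W
  induction hn : W.ncard using Nat.strong_induction_on generalizing W with
  | _ n ih =>
    intro hWD hW hxW hne
    subst hn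
    by_contra hno
    push Not at hno
    have hsm : ∀ W' ⊆ W, (∀ a ∈ W', ∀ b ∈ W', a * b * a ∈ W') → (∀ y ∈ W', x * y * x⁻¹ ∈ W') → W'.Nonempty →
        W' = W := by
      intro W' hsub' hW' hxW' hne'
      by_contra hneq
      have hlt : W'.ncard < W.ncard := Set.ncard_lt_ncard (lt_of_le_of_ne hsub' hneq) (Set.toFinite _)
      obtain ⟨z, hz, hz5⟩ := ih _ hlt W' rfl (hsub'.trans hWD) hW' hxW' hne'
      exact hno z (Subgroup.closure_mono hsub' hz) hz5
    set R : G → G → Prop := fun a b => ¬ Commute a b with hRdef
    set R' : G → G → Prop := fun a b => a ≠ b ∧ ¬ R a b with hR'def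
    have hs : ∀ a b, R a b → R b a := fun a b h q => h q.symm
    have hp4 : P4Free R W := by
      intro a ha b hb c hc e he hab hbc hce nac nae nbe _ _ _
      refine hno (a * b * c * e) (mul_mem (mul_mem (mul_mem (Subgroup.subset_closure ha) (Subgroup.subset_closure hb))
        (Subgroup.subset_closure hc)) (Subgroup.subset_closure he)) ?_
      exact five_of_path hT (hWD ha) (hWD hb) (hWD hc) (hWD he) hab hbc hce (not_not.1 nac) (not_not.1 nae)
        (not_not.1 nbe)
    -- conjugation moves paths
    have hmove : ∀ (Q : G → G → Prop), (∀ g a b, Q a b → Q (g * a * g⁻¹) (g * b * g⁻¹)) →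
        ∀ g : G, (∀ y ∈ W, g * y * g⁻¹ ∈ W) → ∀ {u w : G}, Reach Q W u w →
          Reach Q W (g * u * g⁻¹) (g * w * g⁻¹) := by
      intro Q hQ g hg u w h
      induction h with
      | refl => exact ReflTransGen.refl
      | tail _ hab ih => exact ih.tail ⟨hg _ hab.1, hg _ hab.2.1, hQ g _ _ hab.2.2⟩
    have hRc : ∀ g a b, R a b → R (g * a * g⁻¹) (g * b * g⁻¹) := fun g a b h q =>
      h ((commute_conj_iff g a b).1 q)
    have hR'c : ∀ g a b, R' a b → R' (g * a * g⁻¹) (g * b * g⁻¹) := fun g a b h =>
      ⟨fun e => h.1 (mul_left_cancel (mul_right_cancel e)), fun q => h.2 fun q' => q ((commute_conj_iff g a b).2 q')⟩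
    have hgW : ∀ a ∈ W, ∀ y ∈ W, a * y * a⁻¹ ∈ W := fun a ha y hy => by
      rw [hT.inv (hWD ha)]; exact hW a ha y hy
    have hxpow : ∀ i : ℕ, ∀ y ∈ W, x ^ i * y * (x ^ i)⁻¹ ∈ W := by
      intro i
      induction i with
      | zero => intro y hy; simpa using hy
      | succ i ihh =>
        intro y hy
        have := hxW _ (ihh y hy)
        rwa [show x * (x ^ i * y * (x ^ i)⁻¹) * x⁻¹ = x ^ (i + 1) * y * (x ^ (i + 1))⁻¹ by
          rw [pow_succ']; group] at this
    -- connectedness by non-commuting pairs
    have hconnR : Conn R W := by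
      obtain ⟨u, hu⟩ := hne
      by_cases hfix : Reach R W u (x * u * x⁻¹)
      · set W' := {y | Reach R W u y}
        have hW'sub : W' ⊆ W := fun y hy => Reach.mem hu hy
        have heq : W' = W := by
          refine hsm W' hW'sub (fun a ha b hb => ?_) (fun y hy => hfix.trans (hmove R hRc x hxW hy))
            ⟨u, ReflTransGen.refl⟩
          by_cases hab : Commute a b
          · show Reach R W u (a * b * a)
            rwa [hab.eq, mul_assoc, hT.sq a (hWD (hW'sub ha)), mul_one]
          · have hba : a * b * a ∈ W := hW a (hW'sub ha) b (hW'sub hb)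
            refine (show Reach R W u b from hb).tail ⟨hW'sub hb, hba, fun q => hab ?_⟩
            have b1 := braid0 hT (hWD (hW'sub ha)) (hWD (hW'sub hb)) hab
            rw [b1] at q
            have q1 : b * (b * a * b) = b * a * b * b := q.eq
            rw [← mul_assoc b (b * a), ← mul_assoc b b a, hT.sq b (hWD (hW'sub hb)), one_mul, mul_assoc (b * a) b b,
              hT.sq b (hWD (hW'sub hb)), mul_one] at q1
            exact q1
        intro p hpW q hqW
        rw [← heq] at hpW hqW
        exact (Reach.symm hs hpW).trans hqW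
      · exfalso
        set f : ℕ → G := fun i => x ^ i * u * (x ^ i)⁻¹ with hf
        have hperiod : ∀ i, 0 < i → i < p → ¬ Reach R W u (f i) := by
          intro i hi0 hip hr
          have hmul : ∀ k, Reach R W u (f (k * i)) := by
            intro k
            induction k with
            | zero => simp [hf]; exact ReflTransGen.refl
            | succ k ihk =>
              have h5 := hmove R hRc (x ^ i) (hxpow i) ihk
              refine hr.trans ?_
              rw [show x ^ i * f (k * i) * (x ^ i)⁻¹ = f ((k + 1) * i) by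
                simp only [hf]
                rw [show (k + 1) * i = i + k * i by ring, pow_add]; group] at h5
              exact h5
          obtain ⟨m, hm⟩ := Nat.exists_mul_mod_eq_one_of_coprime (n := i) (k := p)
            (((Fact.out : p.Prime).coprime_iff_not_dvd.2 fun q => by
              have := Nat.le_of_dvd hi0 q; omega).symm) (Fact.out : p.Prime).one_lt
          refine hfix ?_
          have := hmul m
          rw [show x * u * x⁻¹ = f (m * i) by
            simp only [hf]
            rw [← Nat.mod_add_div (m * i) p, mul_comm m i, hm.2, pow_add, pow_mul, hx, one_pow, mul_one, pow_one]]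
          exact this
        have hdist : ∀ i < p, ∀ j < p, i ≠ j → f i ≠ f j ∧ Commute (f i) (f j) := by
          intro i hi j hj hij
          wlog hlt : i < j generalizing i j with H
          · obtain ⟨h2, h3⟩ := H j hj i hi (Ne.symm hij) (by omega)
            exact ⟨h2.symm, h3.symm⟩
          have hfij : x ^ i * f (j - i) * (x ^ i)⁻¹ = f j := by
            simp only [hf]
            rw [show x ^ j = x ^ i * x ^ (j - i) by rw [← pow_add]; congr 1; omega]; group
          refine ⟨fun e => ?_, ?_⟩
          · refine hperiod (j - i) (by omega) (by omega) ?_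
            rw [show f (j - i) = u from mul_left_cancel (mul_right_cancel (hfij.trans e.symm))]
            exact ReflTransGen.refl
          · rw [← hfij]
            refine (commute_conj_iff _ _ _).2 (not_not.1 fun q => hperiod (j - i) (by omega) (by omega) ?_)
            exact ReflTransGen.single ⟨hu, hxpow _ u hu, q⟩
        have hcard : (f '' Set.Iio p).ncard = p := by
          have hinjf : Set.InjOn f (Set.Iio p) := fun i hi j hj e => not_not.1 fun hij => (hdist i hi j hj hij).1 e
          rw [hinjf.ncard_image, ← Nat.card_coe_set_eq, Nat.card_eq_fintype_card]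
          simp
        have := hclique (f '' Set.Iio p) (by
          rintro _ ⟨i, -, rfl⟩
          exact hT.conj _ u (hWD hu)) (by
          rintro _ ⟨i, hi, rfl⟩ _ ⟨j, hj, rfl⟩
          by_cases e : i = j
          · subst e; exact Commute.refl _
          · exact (hdist i hi j hj e).2)
        omega
    -- hence not connected by commuting pairs
    have hnR' : ¬ Conn R' W := by
      intro hconn
      rcases Nat.lt_or_ge W.ncard 2 with h | h
      · obtain ⟨u, hu⟩ := hne
        have e : W = {u} := Set.eq_singleton_iff_unique_mem.2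
          ⟨hu, fun v hv => (Set.ncard_le_one (Set.toFinite _)).1 (by omega) v hv u hu⟩
        have := hxW u hu
        rw [e, Set.mem_singleton_iff] at this
        exact hfree u (hWD hu) (mul_inv_eq_iff_eq_mul.1 this)
      · exact not_both_conn hs (fun a q => q (Commute.refl a)) _ W (Set.toFinite _) rfl h hp4 hconnR hconn
    -- the parts
    set part : G → Set G := fun a => {y | Reach R' W a y} with hpart
    have hs' : ∀ a b, R' a b → R' b a := fun a b h => ⟨h.1.symm, fun q => h.2 (hs _ _ q)⟩
    have hpart_eq : ∀ {a b : G}, b ∈ part a → part b = part a := fun {a b} hb => Set.ext fun y =>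
      ⟨fun hy => hb.trans hy, fun hy => (Reach.symm hs' hb).trans hy⟩
    have hcross : ∀ a ∈ W, ∀ b ∈ W, part a ≠ part b → ¬ Commute a b := fun a ha b hb hne' q =>
      hne' (hpart_eq (ReflTransGen.single ⟨ha, hb, fun e => hne' (by rw [e]), fun r => r q⟩)).symm
    have hclosed : ∀ a ∈ W, ∀ u ∈ part a, ∀ w ∈ part a, u * w * u ∈ part a := by
      intro a ha u hu w hw
      have huW := Reach.mem ha hu
      have h5 := hmove R' hR'c u (hgW u huW) ((Reach.symm hs' hu).trans hw)
      rw [hT.inv (hWD huW), show u * u * u = u by rw [hT.sq u (hWD huW), one_mul]] at h5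
      exact hu.trans h5
    have hproper : ∀ a ∈ W, part a ≠ W := fun a ha e => hnR' fun p hpW q hqW => by
      rw [← e] at hpW hqW
      exact (Reach.symm hs' hpW).trans hqW
    have hnofix : ∀ a ∈ W, ∀ (g : G), g = x → part (g * a * g⁻¹) ≠ part a := by
      intro a ha g hg e
      subst hg
      refine hproper a ha (hsm (part a) (fun y hy => Reach.mem ha hy) (hclosed a ha) (fun y hy => ?_)
        ⟨a, ReflTransGen.refl⟩)
      rw [← e]
      exact hmove R' hR'c g hxW hy
    -- conjugation permutes the parts
    have hcset : ∀ g : G, (∀ y ∈ W, g * y * g⁻¹ ∈ W) → (∀ y ∈ W, g⁻¹ * y * g ∈ W) → ∀ a,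
        cset g (part a) = part (g * a * g⁻¹) := by
      intro g hg hg' a
      ext y
      constructor
      · rintro ⟨z, hz, rfl⟩
        exact hmove R' hR'c g hg hz
      · intro hy
        refine ⟨g⁻¹ * y * g, ?_, by group⟩
        have h5 := hmove R' hR'c g⁻¹ (fun z hz => by rw [inv_inv]; exact hg' z hz) hy
        rwa [show g⁻¹ * (g * a * g⁻¹) * g⁻¹⁻¹ = a by group, inv_inv] at h5
    let Q := {S : Set G // ∃ a ∈ W, part a = S}
    have hQfin : Finite Q := inferInstance
    let mk : ∀ a : G, a ∈ W → Q := fun a ha => ⟨part a, a, ha, rfl⟩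
    let act : ∀ g : G, (∀ y ∈ W, g * y * g⁻¹ ∈ W) → (∀ y ∈ W, g⁻¹ * y * g ∈ W) → Q → Q := fun g hg hg' S =>
      ⟨cset g S.1, by
        obtain ⟨a, ha, e⟩ := S.2
        exact ⟨g * a * g⁻¹, hg a ha, by rw [← hcset g hg hg' a, e]⟩⟩
    have hact1 : ∀ a (ha : a ∈ W), ∀ S : Q, act a (hgW a ha) (fun y hy => by
        rw [hT.inv (hWD ha)]; exact hW a ha y hy) (act a (hgW a ha) (fun y hy => by
        rw [hT.inv (hWD ha)]; exact hW a ha y hy) S) = S := by
      intro a ha S
      refine Subtype.ext ?_
      show cset a (cset a S.1) = S.1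
      rw [cset_mul, hT.sq a (hWD ha)]
      simp [cset]
    let τ : ↥W → Equiv.Perm Q := fun a =>
      { toFun := act a (hgW a a.2) (fun y hy => by rw [hT.inv (hWD a.2)]; exact hW a a.2 y hy)
        invFun := act a (hgW a a.2) (fun y hy => by rw [hT.inv (hWD a.2)]; exact hW a a.2 y hy)
        left_inv := hact1 a a.2
        right_inv := hact1 a a.2 }
    have hτv : ∀ (a : ↥W) (b : G) (hb : b ∈ W), ((τ a) (mk b hb)).1 = part ((a : G) * b * (a : G)) := by
      intro a b hb
      show cset (a : G) (part b) = _
      rw [hcset _ (hgW a a.2) (fun y hy => by rw [hT.inv (hWD a.2)]; exact hW a a.2 y hy) b, hT.inv (hWD a.2)]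
    have hfixτ : ∀ (a : ↥W) (b : G) (hb : b ∈ W), τ a (mk b hb) = mk b hb ↔ part (a : G) = part b := by
      intro a b hb
      rw [Subtype.ext_iff, hτv a b hb]
      show part ((a : G) * b * (a : G)) = part b ↔ _
      constructor
      · intro e
        have h5 : (a : G) * b * a ∈ part b := by rw [← e]; exact ReflTransGen.refl
        by_contra hne'
        have hnc := hcross a a.2 b hb hne'
        have h6 := hclosed b hb b ReflTransGen.refl _ h5
        rw [braid0 hT (hWD a.2) (hWD hb) hnc, show b * (b * (a : G) * b) * b = (b * b) * (a : G) * (b * b) by group,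
          hT.sq b (hWD hb), one_mul, mul_one] at h6
        exact hne' (hpart_eq h6)
      · intro e
        exact hpart_eq (hclosed b hb a (by rw [← e]; exact ReflTransGen.refl) b ReflTransGen.refl)
    have hconjτ : ∀ a b : ↥W, τ a * τ b * τ a = τ ⟨(a : G) * b * a, hW a a.2 b b.2⟩ := by
      intro a b
      refine Equiv.ext fun S => Subtype.ext ?_
      show cset (a : G) (cset (b : G) (cset (a : G) S.1)) = cset ((a : G) * b * a) S.1
      rw [cset_mul, cset_mul, mul_assoc]
    have hsqτ : ∀ a : ↥W, τ a * τ a = 1 := fun a => Equiv.ext fun S => hact1 a a.2 S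
    have hsame : ∀ a b : ↥W, part (a : G) = part b → τ a = τ b := by
      intro a b e
      -- along a path
      have key : ∀ w, Reach R' W (a : G) w → ∀ hw : w ∈ W, τ a = τ ⟨w, hw⟩ := by
        intro w hw
        induction hw with
        | refl => intro _; rfl
        | @tail p q _ hpq ihp =>
          intro hq
          rw [ihp hpq.1]
          refine Equiv.ext fun S => ?_
          obtain ⟨c, hc, hcS⟩ := S.2
          have hS : S = mk c hc := Subtype.ext hcS.symm
          have hpqp : part q = part p := hpart_eq (ReflTransGen.single hpq)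
          have hcom : Commute p q := not_not.1 hpq.2.2.2
          by_cases hcp : part c = part p
          · rw [hS, (hfixτ ⟨p, hpq.1⟩ c hc).2 hcp.symm, (hfixτ ⟨q, hq⟩ c hc).2 (hpqp.trans hcp.symm)]
          · refine Subtype.ext ?_
            rw [hS, hτv _ c hc, hτv _ c hc]
            have n1 := hcross p hpq.1 c hc (Ne.symm hcp)
            have n2 := hcross q hq c hc (fun e' => hcp (e'.symm.trans hpqp))
            by_contra hne'
            exact hcross _ (hW p hpq.1 c hc) _ (hW q hq c hc) hne'
              (conj_pair_commute hT (hWD hpq.1) (hWD hq) (hWD hc) hcom n1 n2)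
      exact key b (show (b : G) ∈ part a by rw [e]; exact ReflTransGen.refl) b.2
    have hinj : ∀ a b : ↥W, τ a = τ b → part (a : G) = part b := fun a b e => by
      have h5 := (hfixτ b b b.2).2 rfl
      rw [← e] at h5
      exact (hfixτ a b b.2).1 h5
    -- two parts exist
    have hne1 : ∀ a : ↥W, τ a ≠ 1 := by
      intro a e
      obtain ⟨b, hb, hba⟩ : ∃ b, b ∈ W ∧ b ∉ part (a : G) := by
        by_contra hno'
        push Not at hno'
        exact hproper a a.2 (Set.Subset.antisymm (fun y hy => Reach.mem a.2 hy) hno')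
      have h5 := (hfixτ a b hb).1 (by rw [e]; rfl)
      exact hba (by rw [h5]; exact ReflTransGen.refl)
    set Wb : Set (Equiv.Perm Q) := Set.range τ
    have hWb : Cfsg.IsThreeTranspositionSet Wb := by
      refine ⟨?_, ?_⟩
      · rintro _ ⟨a, rfl⟩
        exact orderOf_eq_prime (by rw [pow_two]; exact hsqτ a) (hne1 a)
      · rintro _ ⟨a, rfl⟩ _ ⟨b, rfl⟩
        by_cases e : part (a : G) = part b
        · left
          rw [hsame a b e, hsqτ, one_pow]
        · right
          have hb3 := braid0 hT (hWD a.2) (hWD b.2) (hcross a a.2 b b.2 e)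
          have h6 : τ a * τ b * τ a = τ b * τ a * τ b := by
            rw [hconjτ, hconjτ]
            exact congrArg τ (Subtype.ext hb3)
          calc (τ a * τ b) ^ 3 = τ a * τ b * τ a * (τ b * τ a * τ b) := by simp only [pow_succ, pow_zero, one_mul, mul_assoc]
            _ = τ a * τ b * τ a * (τ a * τ b * τ a) := by rw [h6]
            _ = τ a * τ b * (τ a * τ a) * τ b * τ a := by group
            _ = 1 := by rw [hsqτ, mul_one, mul_assoc (τ a), hsqτ, mul_one, hsqτ]
    obtain ⟨a₀, ha₀⟩ := id hne
    obtain ⟨-, -, -, i, hi⟩ := noncommuting_closed hWb (W := Wb) subset_rfl (by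
        rintro _ ⟨a, rfl⟩ _ ⟨b, rfl⟩
        exact ⟨⟨(a : G) * b * a, hW a a.2 b b.2⟩, by rw [← hconjτ, inv_eq_of_mul_eq_one_right (hsqτ a)]⟩) (by
        rintro _ ⟨a, rfl⟩ _ ⟨b, rfl⟩ hne' hc
        refine hne' (hsame a b (by_contra fun hne2 => ?_))
        have h6 : τ a * τ b * τ a = τ b := by rw [hc.eq, mul_assoc, hsqτ, mul_one]
        rw [hconjτ] at h6
        have h7 := hinj _ _ h6
        have h8 : τ a (mk b b.2) = mk b b.2 := Subtype.ext (by rw [hτv a b b.2]; exact h7)
        exact hne2 ((hfixτ a b b.2).1 h8)) (d := τ ⟨a₀, ha₀⟩) ⟨_, rfl⟩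
    have hQcard : Nat.card Q = 3 ^ i := by
      let φ : Q → ↥Wb := fun S => ⟨τ ⟨S.2.choose, S.2.choose_spec.1⟩, _, rfl⟩
      rw [← hi, ← Nat.card_coe_set_eq]
      refine Nat.card_eq_of_bijective φ ⟨fun S T e => ?_, ?_⟩
      · have := hinj _ _ (congrArg Subtype.val e)
        exact Subtype.ext (by rw [← S.2.choose_spec.2, ← T.2.choose_spec.2]; exact this)
      · rintro ⟨_, a, rfl⟩
        refine ⟨mk a a.2, Subtype.ext (hsame _ a ?_)⟩
        exact (mk a a.2).2.choose_spec.2
    haveI := Fintype.ofFinite Q
    have hxW' : ∀ y ∈ W, x⁻¹ * y * x ∈ W := fun y hy => by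
      have h5 := hxpow (p - 1) y hy
      have hxi : x ^ (p - 1) = x⁻¹ := by
        rw [eq_inv_iff_mul_eq_one, ← pow_succ, Nat.sub_add_cancel (Fact.out : p.Prime).pos, hx]
      rwa [hxi, inv_inv] at h5
    have hxinj : Function.Injective (act x hxW hxW') := fun S T e => Subtype.ext (by
      have := congrArg (cset x⁻¹) (congrArg Subtype.val e)
      show S.1 = T.1
      change cset x⁻¹ (cset x S.1) = cset x⁻¹ (cset x T.1) at this
      rw [cset_mul, cset_mul, inv_mul_cancel] at this
      simpa [cset] using this)
    let σ : Equiv.Perm Q := Equiv.ofBijective _ (Finite.injective_iff_bijective.1 hxinj)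
    have hσpow : ∀ (k : ℕ) (S : Q), ((σ ^ k) S).1 = cset (x ^ k) S.1 := by
      intro k
      induction k with
      | zero => intro S; simp [cset]
      | succ k ihk =>
        intro S
        rw [pow_succ', Equiv.Perm.mul_apply]
        show cset x ((σ ^ k) S).1 = _
        rw [ihk, cset_mul, ← pow_succ']
    obtain ⟨S, hS⟩ := Equiv.Perm.exists_fixed_point_of_prime (p := p) (n := 1) (σ := σ)
      (by
        rw [← Nat.card_eq_fintype_card, hQcard]
        exact fun q => hp3 ((Nat.prime_dvd_prime_iff_eq Fact.out Nat.prime_three).1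
          ((Fact.out : p.Prime).dvd_of_dvd_pow q)))
      (Equiv.ext fun S => Subtype.ext (by rw [pow_one, hσpow, hx]; simp [cset]))
    obtain ⟨a, ha, e⟩ := S.2
    refine hnofix a ha x rfl ?_
    rw [← hcset x hxW hxW' a, e]
    exact congrArg Subtype.val hS

end CfsgLib.ThreeT.NoPath
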