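import Cfsg.Agent.Spor3T.M24Invol
import Cfsg.Agent.Spor3T.NoPath

/-!
Type M(24): the transpositions commuting with a product of four commuting ones.
-/

set_option autoImplicit false
set_option linter.unusedSectionVars false
set_option linter.style.haveILetI false

namespace CfsgLib.ThreeT.Prod

variable {G : Type*} [Group G] [Finite G] {D : Set G} {d : G} (P : Point24 D d)

include P

omit P in
/-- Three distinct commuting members. -/
theorem facs_three' {u v w : G} (hu : u ∈ D) (hv : v ∈ D) (hw : w ∈ D) (nuv : u ≠ v) (nuw : u ≠ w) (nvw : v ≠ w)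
    (cuv : Commute u v) (cuw : Commute u w) (cvw : Commute v w) : Facs D 3 (u * v * w) := by
  refine ⟨[u, v, w], by simp [nuv, nuw, nvw], rfl, by simpa using ⟨hu, hv, hw⟩, ?_, by simp [mul_assoc]⟩
  simp only [List.mem_cons, List.not_mem_nil, or_false, forall_eq_or_imp, forall_eq]
  exact ⟨⟨Commute.refl _, cuv, cuw⟩, ⟨cuv.symm, Commute.refl _, cvw⟩, cuw.symm, cvw.symm, Commute.refl _⟩

/-- The neighbours of a member commuting with three commuting neighbours. -/
theorem nb_quad24 {a b c e : G} (ha : a ∈ D) (hb : b ∈ nb D a) (hc : c ∈ nb D a) (he : e ∈ nb D a)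
    (nbc : b ≠ c) (nbe : b ≠ e) (nce : c ≠ e) (cbc : Commute b c) (cbe : Commute b e) (cce : Commute c e) :
    {y | y ∈ nb D a ∧ Commute b y ∧ Commute c y ∧ Commute e y}.ncard = 183 := by
  classical
  obtain ⟨e₀, P'⟩ := P.below
  have hT := P.base.tt
  obtain ⟨g, hg⟩ := P.base.conjD a ha d P.mem (P.base.ne_one a ha) (P.base.ne_one d P.mem)
  set H := hsub D d
  set π := QuotientGroup.mk' (Subgroup.center ↥H)
  have hnb : ∀ {y}, y ∈ nb D a → g * y * g⁻¹ ∈ nb D d := fun hy => nb_conj hT hy.1 hy.2.1 hy.2.2 hg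
  let L : ∀ y, y ∈ nb D a → ↥H := fun y hy => ⟨g * y * g⁻¹, Subgroup.subset_closure (hnb hy)⟩
  have hcomm : ∀ y (hy : y ∈ nb D a) z (hz : z ∈ nb D a), Commute (π (L y hy)) (π (L z hz)) ↔ Commute y z :=
    fun y hy z hz => (map_commute_iff hT (hnb hy) (hnb hz)).trans (commute_conj_iff g y z)
  have hne : ∀ y (hy : y ∈ nb D a) z (hz : z ∈ nb D a), y ≠ z → π (L y hy) ≠ π (L z hz) := fun y hy z hz h q =>
    h (mul_left_cancel (mul_right_cancel (mk_inj24 P (hnb hy) (hnb hz) q)))
  have himg : ∀ y (hy : y ∈ nb D a), π (L y hy) ∈ img D d := fun y hy => ⟨L y hy, hnb hy, rfl⟩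
  set B := π (L b hb)
  set C := π (L c hc)
  set E := π (L e he)
  have c1 : Commute B C := (hcomm b hb c hc).2 cbc
  have c2 : Commute B E := (hcomm b hb e he).2 cbe
  have c3 : Commute C E := (hcomm c hc e he).2 cce
  have h3 := facs_three' (himg b hb) (himg c hc) (himg e he) (hne b hb c hc nbc) (hne b hb e he nbe)
    (hne c hc e he nce) c1 c2 c3
  have hcount := Level.ncard_fix (geo23 P') arith23 (by norm_num) le_rfl h3
  simp only [show (3 : ℕ) ≠ 1 by norm_num, show (3 : ℕ) ≠ 2 by norm_num, if_false] at hcount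
  rw [← show {q | q ∈ img D d ∧ Commute (B * C * E) q}.ncard = 183 from hcount]
  refine Set.ncard_congr (fun y hy => π (L y hy.1)) ?_ ?_ ?_
  · rintro y ⟨hy, h1, h2, h3⟩
    exact ⟨himg y hy, (commute_triple_iff P'.base.tt (himg b hb) (himg c hc) (himg e he) (himg y hy) c1 c2 c3
      (hne b hb c hc nbc) (hne b hb e he nbe) (hne c hc e he nce)).2
      ⟨(hcomm b hb y hy).2 h1, (hcomm c hc y hy).2 h2, (hcomm e he y hy).2 h3⟩⟩
  · intro y z hy hz q
    exact not_not.1 fun h => hne y hy.1 z hz.1 h q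
  · rintro q ⟨⟨Y, hY, rfl⟩, hq⟩
    set y := g⁻¹ * (Y : G) * g with hy
    have hgy : g * y * g⁻¹ = Y := by rw [hy]; group
    have hyn : y ∈ nb D a := by
      refine ⟨by simpa [hy] using hT.conj g⁻¹ _ hY.1, fun q => hY.2.1 ?_, ?_⟩
      · rw [← hgy, q, hg]
      · rw [← commute_conj_iff g, hg, hgy]; exact hY.2.2
    have hLY : L y hyn = Y := Subtype.ext hgy
    have h5 := (commute_triple_iff P'.base.tt (himg b hb) (himg c hc) (himg e he) (himg y hyn) c1 c2 c3
      (hne b hb c hc nbc) (hne b hb e he nbe) (hne c hc e he nce)).1 (by rw [hLY]; exact hq)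
    exact ⟨y, ⟨hyn, (hcomm b hb y hyn).1 h5.1, (hcomm c hc y hyn).1 h5.2.1, (hcomm e he y hyn).1 h5.2.2⟩,
      by rw [hLY]; rfl⟩

/-- The members commuting with a triple that commute with all of these are the three. -/
theorem triple_core24 {b c e : G} (hb : b ∈ D) (hc : c ∈ D) (he : e ∈ D) (nbc : b ≠ c) (nbe : b ≠ e) (nce : c ≠ e)
    (cbc : Commute b c) (cbe : Commute b e) (cce : Commute c e) :
    {u | (u ∈ D ∧ Commute (b * c * e) u) ∧ ∀ y ∈ D, Commute (b * c * e) y → Commute u y} = {b, c, e} := by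
  classical
  have hT := P.base.tt
  have key : ∀ y ∈ D, (Commute (b * c * e) y ↔ Commute b y ∧ Commute c y ∧ Commute e y) := fun y hy =>
    commute_triple_iff hT hb hc he hy cbc cbe cce nbc nbe nce
  ext u
  constructor
  · rintro ⟨⟨hu, hgu⟩, hall⟩
    by_contra hne
    simp only [Set.mem_insert_iff, Set.mem_singleton_iff, not_or] at hne
    obtain ⟨h1, h2, h3⟩ := (key u hu).1 hgu
    have hsub' : {y | y ∈ D ∧ Commute (b * c * e) y} ⊆
        insert u {y | y ∈ nb D u ∧ Commute b y ∧ Commute c y ∧ Commute e y} := fun y hy => by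
      by_cases q : y = u
      · exact Or.inl q
      · exact Or.inr ⟨⟨hy.1, q, hall y hy.1 hy.2⟩, (key y hy.1).1 hy.2⟩
    have hcount := Level.ncard_fix (geo24 P) arith24 (by norm_num) le_rfl
      (facs_three' hb hc he nbc nbe nce cbc cbe cce)
    simp only [show (3 : ℕ) ≠ 1 by norm_num, show (3 : ℕ) ≠ 2 by norm_num, if_false] at hcount
    have := (Set.ncard_le_ncard hsub' (Set.toFinite _)).trans (Set.ncard_insert_le _ _)
    rw [hcount, nb_quad24 P hu ⟨hb, Ne.symm hne.1, h1.symm⟩ ⟨hc, Ne.symm hne.2.1, h2.symm⟩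
      ⟨he, Ne.symm hne.2.2, h3.symm⟩ nbc nbe nce cbc cbe cce] at this
    norm_num at this
  · rintro (rfl | rfl | rfl)
    · exact ⟨⟨hb, (key _ hb).2 ⟨Commute.refl _, cbc.symm, cbe.symm⟩⟩, fun y hy h => ((key y hy).1 h).1⟩
    · exact ⟨⟨hc, (key _ hc).2 ⟨cbc, Commute.refl _, cce.symm⟩⟩, fun y hy h => ((key y hy).1 h).2.1⟩
    · exact ⟨⟨he, (key _ he).2 ⟨cbe, cce, Commute.refl _⟩⟩, fun y hy h => ((key y hy).1 h).2.2⟩

/-- Members commuting with one, two or three commuting members. -/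
theorem comm_count24 {u v w : G} (hu : u ∈ D) (hv : v ∈ D) (hw : w ∈ D) (nuv : u ≠ v) (nuw : u ≠ w) (nvw : v ≠ w)
    (cuv : Commute u v) (cuw : Commute u w) (cvw : Commute v w) :
    {y | y ∈ D ∧ Commute u y}.ncard = 31672 ∧ {y | y ∈ D ∧ Commute u y ∧ Commute v y}.ncard = 3512 ∧
      {y | y ∈ D ∧ Commute u y ∧ Commute v y ∧ Commute w y}.ncard = 696 := by
  have hT := P.base.tt
  have h1 := Level.ncard_fix (geo24 P) arith24 le_rfl (by norm_num)
    (⟨[u], by simp, rfl, by simpa using hu, by simp, by simp⟩ : Facs D 1 u)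
  have h2 := Level.ncard_fix (geo24 P) arith24 (by norm_num) (by norm_num)
    (⟨[u, v], by simpa using nuv, rfl, by simpa using ⟨hu, hv⟩, by simpa using ⟨cuv, cuv.symm⟩, by simp⟩ :
      Facs D 2 (u * v))
  have h3 := Level.ncard_fix (geo24 P) arith24 (by norm_num) le_rfl (facs_three' hu hv hw nuv nuw nvw cuv cuw cvw)
  refine ⟨h1, ?_, ?_⟩
  · rw [← show {y | y ∈ D ∧ Commute (u * v) y}.ncard = 3512 from h2]
    congr 1
    ext y
    exact ⟨fun h => ⟨h.1, h.2.1.mul_left h.2.2⟩, fun h => ⟨h.1, (commute_mul_iff0 hT hu hv h.1 cuv nuv).1 h.2⟩⟩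
  · rw [← show {y | y ∈ D ∧ Commute (u * v * w) y}.ncard = 696 from h3]
    congr 1
    ext y
    exact ⟨fun h => ⟨h.1, (commute_triple_iff hT hu hv hw h.1 cuv cuw cvw nuv nuw nvw).2 h.2⟩,
      fun h => ⟨h.1, (commute_triple_iff hT hu hv hw h.1 cuv cuw cvw nuv nuw nvw).1 h.2⟩⟩

/-- A product of four commuting members commutes with 504 members. -/
theorem quad_fix24 {z : G} (hz : Facs D 4 z) : {y | y ∈ D ∧ Commute z y}.ncard = 504 := by
  classical
  haveI := Fintype.ofFinite G
  obtain ⟨a, b, c, e, ha, hb, hc, he, nbc, nbe, nce, cbc, cbe, cce, rfl⟩ := facs_four hz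
  have hT := P.base.tt
  obtain ⟨sb, sc, se⟩ := (⟨hT.sq b hb.1, hT.sq c hc.1, hT.sq e he.1⟩ : b * b = 1 ∧ c * c = 1 ∧ e * e = 1)
  set t := b * c * e with ht
  have key : ∀ y ∈ D, (Commute t y ↔ Commute b y ∧ Commute c y ∧ Commute e y) := fun y hy =>
    commute_triple_iff hT hb.1 hc.1 he.1 hy cbc cbe cce nbc nbe nce
  have httd : t * t = 1 := facs_sq hT (facs_three' hb.1 hc.1 he.1 nbc nbe nce cbc cbe cce)
  have htinv : t⁻¹ = t := inv_eq_of_mul_eq_one_right httd
  -- a member commuting with none of the three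
  set K0 := {y | y ∈ D ∧ ¬ Commute b y ∧ ¬ Commute c y ∧ ¬ Commute e y}
  set U := {u | u ∈ D ∧ Commute t u ∧ u ≠ b ∧ u ≠ c ∧ u ≠ e}
  set fib : G → Set G := fun u => {y | y ∈ D ∧ ¬ Commute u y ∧ Commute (u * t) y}
  have hfibeq : ∀ u ∈ U, ∀ y ∈ fib u, t * y * t = u * y * u := by
    rintro u ⟨hu, htu, -, -, -⟩ y ⟨hy, -, hty⟩
    have h1 : u * t * y = y * (u * t) := hty.eq
    calc t * y * t = (u * u) * t * y * t := by rw [hT.sq u hu, one_mul]
      _ = u * (u * t * y) * t := by group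
      _ = u * y * u * (t * t) := by rw [h1]; group
      _ = u * y * u := by rw [httd, mul_one]
  -- moving by two of the three gives a commuting member
  have hpair : ∀ {p q y : G}, p ∈ D → q ∈ D → y ∈ D → Commute p q → ¬ Commute p y → ¬ Commute q y →
      Commute y (p * q * y * q * p) := by
    intro p q y hp hq hy cpq npy nqy
    have h5 := (commute_conj_iff p _ _).2 (CfsgLib.ThreeT.NoPath.conj_pair_commute hT hp hq hy cpq npy nqy)
    rw [hT.inv hp] at h5
    rwa [show p * (p * y * p) * p = (p * p) * y * (p * p) by group, hT.sq p hp, one_mul, mul_one,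
      show p * (q * y * q) * p = p * q * y * q * p by group] at h5
  have hK0 : ∀ y ∈ K0, ¬ Commute y (t * y * t) := by
    rintro y ⟨hy, n1, n2, n3⟩ h
    set y' := b * c * y * c * b
    have hyy' : Commute y y' := hpair hb.1 hc.1 hy cbc n1 n2
    have hy'D : y' ∈ D := by
      have := hT.conj' (hT.conj' hy hc.1) hb.1
      rwa [show b * (c * y * c) * b = y' by simp only [y']; group] at this
    have hy'e : ¬ Commute e y' := by
      intro q
      refine n3 ((commute_conj_iff (b * c) e y).1 ?_)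
      rwa [mul_inv_rev, hT.inv hb.1, hT.inv hc.1,
        show b * c * e * (c * b) = b * (c * e * c) * b by group, ← cce.eq.symm, mul_assoc e c c, sc, mul_one,
        ← cbe.eq.symm, mul_assoc e b b, sb, mul_one, show b * c * y * (c * b) = y' by simp only [y']; group]
    have htyt : t * y * t = y' * e * y' := by
      rw [← braid0 hT he.1 hy'D hy'e]
      have htt : t = e * (b * c) := by rw [ht]; exact ((cbe.symm.mul_right cce.symm)).eq.symm
      calc t * y * t = t * y * t⁻¹ := by rw [htinv]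
        _ = e * y' * e := by
          rw [htt, mul_inv_rev, mul_inv_rev, hT.inv hb.1, hT.inv hc.1, hT.inv he.1]; simp only [y']; group
    rw [htyt] at h
    have h5 := (commute_conj_iff y' _ _).2 h
    rw [hT.inv hy'D, hyy'.symm.eq, mul_assoc y y' y', hT.sq y' hy'D, mul_one,
      show y' * (y' * e * y') * y' = (y' * y') * e * (y' * y') by group, hT.sq y' hy'D, one_mul, mul_one] at h5
    exact n3 h5.symm
  have hfib_K0 : ∀ u ∈ U, fib u ⊆ K0 := by
    intro u hu y hy
    have heq := hfibeq u hu y hy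
    obtain ⟨hu', -, hub, huc, hue⟩ := hu
    obtain ⟨hy', nuy, -⟩ := hy
    have hfar : ¬ Commute y (u * y * u) := fun q => nuy (by
      rw [braid0 hT hu' hy' nuy] at q
      have h5 := (commute_conj_iff y _ _).2 q
      rwa [hT.inv hy', hT.sq y hy', one_mul, show y * (y * u * y) * y = (y * y) * u * (y * y) by group,
        hT.sq y hy', one_mul, mul_one, Commute.symm_iff] at h5)
    have same : ∀ p ∈ D, p * y * p = u * y * u → ¬ Commute p y → p = u := fun p hp q hpy => by
      rw [braid0 hT hu' hy' nuy, braid0 hT hp hy' hpy] at q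
      exact mul_left_cancel (mul_right_cancel q)
    -- one of the three commuting with `y`
    have one : ∀ {p q r : G}, p ∈ D → q ∈ D → r ∈ D → Commute q r → t = p * q * r → Commute p q → Commute p r →
        q ≠ u → r ≠ u → ¬ Commute p y := by
      intro p q r hp hq hr cqr htp cpq cpr nqu nru hpy
      have h5 : t * y * t = q * r * y * r * q := by
        conv_lhs => arg 2; rw [← htinv]
        rw [htp, mul_inv_rev, mul_inv_rev, hT.inv hp, hT.inv hq, hT.inv hr,
          show p * q * r = q * r * p by rw [mul_assoc]; exact (cpq.mul_right cpr).eq,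
          show q * r * p * y * (r * (q * p)) = q * r * (p * y) * (r * (q * p)) by group, hpy.eq,
          show r * (q * p) = p * (r * q) by rw [← mul_assoc]; exact (cpr.mul_right cpq).eq.symm,
          show q * r * (y * p) * (p * (r * q)) = q * r * y * (p * p) * r * q by group, hT.sq p hp, mul_one]
      rw [heq] at h5
      by_cases hqy : Commute q y <;> by_cases hry : Commute r y
      · refine hfar ?_
        rw [h5, mul_assoc (q * r) y r, hry.symm.eq, show q * r * (r * y) * q = q * (r * r) * y * q by group,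
          hT.sq r hr, mul_one, mul_assoc q y q, hqy.symm.eq, ← mul_assoc, hT.sq q hq, one_mul]
      · refine nru (same r hr ?_ hry)
        rw [h5, show q * r * y * r * q = q * (r * y * r) * q by group]
        have hqc : Commute q (r * y * r) := (cqr.mul_right hqy).mul_right cqr
        rw [hqc.eq, mul_assoc (r * y * r) q q, hT.sq q hq, mul_one]
      · refine nqu (same q hq ?_ hqy)
        rw [h5, show q * r * y * r * q = q * (r * y * r) * q by group, hry.eq, mul_assoc y r r, hT.sq r hr, mul_one]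
      · exact hfar (h5 ▸ hpair hq hr hy' cqr hqy hry)
    refine ⟨hy', one hb.1 hc.1 he.1 cce rfl cbc cbe (Ne.symm huc) (Ne.symm hue),
      one hc.1 hb.1 he.1 cbe ?_ cbc.symm cce (Ne.symm hub) (Ne.symm hue),
      one he.1 hb.1 hc.1 cbc ?_ cbe.symm cce.symm (Ne.symm hub) (Ne.symm huc)⟩
    · rw [ht, cbc.eq]
    · rw [ht, mul_assoc e b c, ← ((cbe.symm.mul_right cce.symm)).eq.symm]
  have hcover : ∀ y ∈ K0, ∃ u ∈ U, y ∈ fib u := by
    intro y hy
    have hyD := hy.1
    have hy2 : t * y * t ∈ D := by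
      have := hT.conj t y hyD
      rwa [htinv] at this
    have hnc := hK0 y hy
    set u := y * (t * y * t) * y with hu
    have huD : u ∈ D := hT.conj' hy2 hyD
    have hbr : u = t * y * t * y * (t * y * t) := braid0 hT hyD hy2 hnc
    have htu : t * u * t = u := by
      conv_rhs => rw [hbr]
      rw [hu, show t * (y * (t * y * t) * y) * t = t * y * t * y * (t * y * t) by group]
    have huy : ¬ Commute u y := fun q => hnc (by
      have h5 := (commute_conj_iff y _ _).2 q
      rwa [hT.inv hyD, hT.sq y hyD, one_mul, hu,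
        show y * (y * (t * y * t) * y) * y = (y * y) * (t * y * t) * (y * y) by group,
        hT.sq y hyD, one_mul, mul_one, Commute.symm_iff] at h5)
    have heq : u * y * u = t * y * t := by
      rw [braid0 hT huD hyD huy, hu, show y * (y * (t * y * t) * y) * y = (y * y) * (t * y * t) * (y * y) by group,
        hT.sq y hyD, one_mul, mul_one]
    have hne : ∀ {p q r : G}, p ∈ D → q ∈ D → r ∈ D → q ≠ r → Commute q r → t = p * (q * r) → Commute p q →
        Commute p r → ¬ Commute q y → u ≠ p := by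
      intro p q r hp hq hr nqr cqr htp cpq cpr nqy e'
      refine nqy ((commute_mul_iff0 hT hq hr hyD cqr nqr).1 ?_).1
      have h5 : q * r * y * (q * r)⁻¹ = y := by
        refine mul_left_cancel (a := p) (mul_right_cancel (b := p) ?_)
        rw [e', show t * y * t = t * y * t⁻¹ by rw [htinv], htp, mul_inv_rev, hT.inv hp] at heq
        rw [heq]; group
      exact mul_inv_eq_iff_eq_mul.1 h5
    refine ⟨u, ⟨huD, ?_, hne hb.1 hc.1 he.1 nce cce (mul_assoc b c e) cbc cbe hy.2.2.1,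
      hne hc.1 hb.1 he.1 nbe cbe ?_ cbc.symm cce hy.2.1,
      hne he.1 hb.1 hc.1 nbc cbc ?_ cbe.symm cce.symm hy.2.1⟩, hyD, huy, ?_⟩
    · show t * u = u * t
      calc t * u = t * u * (t * t) := by rw [httd, mul_one]
        _ = (t * u * t) * t := by group
        _ = u * t := by rw [htu]
    · rw [ht, ← mul_assoc, cbc.eq]
    · rw [ht]; exact ((cbe.symm.mul_right cce.symm)).eq.symm
    · show u * t * y = y * (u * t)
      calc u * t * y = u * (t * y * t) * t := by
            rw [show u * (t * y * t) * t = u * t * y * (t * t) by group, httd, mul_one]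
        _ = (u * u) * y * (u * t) := by rw [← heq]; group
        _ = y * (u * t) := by rw [hT.sq u huD, one_mul]
  -- the fibres have one size
  set N := {y | y ∈ D ∧ ¬ Commute a y ∧ Commute (a * t) y} with hN
  have hfibN : ∀ u ∈ U, (fib u).ncard = N.ncard := by
    intro u hu
    obtain ⟨h1, h2, h3⟩ := (key u hu.1).1 hu.2.1
    obtain ⟨g, g1, g2, g3, g4⟩ := quad_conj P hu.1 (b := b) (c := c) (x := e)
      ⟨hb.1, Ne.symm hu.2.2.1, h1.symm⟩ ⟨hc.1, Ne.symm hu.2.2.2.1, h2.symm⟩ ⟨he.1, Ne.symm hu.2.2.2.2, h3.symm⟩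
      nbc nbe nce cbc cbe cce ha hb hc he nbc nbe nce cbc cbe cce
    have hgt : g * t * g⁻¹ = t := by
      calc g * t * g⁻¹ = g * b * g⁻¹ * (g * c * g⁻¹) * (g * e * g⁻¹) := by rw [ht]; group
        _ = t := by rw [g2, g3, g4]
    have hgat : g * (a * t) * g⁻¹ = u * t := by
      calc g * (a * t) * g⁻¹ = g * a * g⁻¹ * (g * t * g⁻¹) := by group
        _ = _ := by rw [g1, hgt]
    rw [← Set.ncard_image_of_injective N (MulAut.conj g).injective]
    congr 1
    ext y
    obtain ⟨w, rfl⟩ := (MulAut.conj g).surjective y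
    rw [(MulAut.conj g).injective.mem_set_image]
    show g * w * g⁻¹ ∈ D ∧ ¬ Commute u (g * w * g⁻¹) ∧ Commute (u * t) (g * w * g⁻¹) ↔ _
    rw [← g1, show g * a * g⁻¹ * t = u * t by rw [g1], ← hgat, commute_conj_iff, commute_conj_iff]
    exact and_congr_left fun _ => ⟨fun h => by
      have := hT.conj g⁻¹ _ h
      rwa [show g⁻¹ * (g * w * g⁻¹) * g⁻¹⁻¹ = w by group] at this, hT.conj g w⟩
  have hdisj : ∀ u ∈ U, ∀ v ∈ U, u ≠ v → Disjoint (fib u) (fib v) := by
    intro u hu v hv hne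
    refine Set.disjoint_left.2 fun y h1 h2 => hne ?_
    have q : u * y * u = v * y * v := (hfibeq u hu y h1).symm.trans (hfibeq v hv y h2)
    rw [braid0 hT hu.1 h1.1 h1.2.1, braid0 hT hv.1 h1.1 h2.2.1] at q
    exact mul_left_cancel (mul_right_cancel q)
  obtain ⟨cB, cBC, cBCE⟩ := comm_count24 P hb.1 hc.1 he.1 nbc nbe nce cbc cbe cce
  obtain ⟨cC, cCE, -⟩ := comm_count24 P hc.1 he.1 hb.1 nce (Ne.symm nbc) (Ne.symm nbe) cce cbc.symm cbe.symm
  obtain ⟨cE, cEB, -⟩ := comm_count24 P he.1 hb.1 hc.1 (Ne.symm nbe) (Ne.symm nce) nbc cbe.symm cce.symm cbc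
  set SB := {y | y ∈ D ∧ Commute b y}
  set SC := {y | y ∈ D ∧ Commute c y}
  set SE := {y | y ∈ D ∧ Commute e y}
  have hUcard : U.ncard = 693 := by
    have h5 : U = {y | y ∈ D ∧ Commute t y} \ {b, c, e} := by
      ext y
      exact ⟨fun h => ⟨⟨h.1, h.2.1⟩, by simp [h.2.2.1, h.2.2.2.1, h.2.2.2.2]⟩,
        fun h => by
          have := h.2
          simp only [Set.mem_insert_iff, Set.mem_singleton_iff, not_or] at this
          exact ⟨h.1.1, h.1.2, this⟩⟩
    have h3 := Level.ncard_fix (geo24 P) arith24 (by norm_num) le_rfl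
      (facs_three' hb.1 hc.1 he.1 nbc nbe nce cbc cbe cce)
    simp only [show (3 : ℕ) ≠ 1 by norm_num, show (3 : ℕ) ≠ 2 by norm_num, if_false] at h3
    rw [h5, Set.ncard_sdiff (by
      rintro y (rfl | rfl | rfl)
      exacts [⟨hb.1, (key _ hb.1).2 ⟨Commute.refl _, cbc.symm, cbe.symm⟩⟩,
        ⟨hc.1, (key _ hc.1).2 ⟨cbc, Commute.refl _, cce.symm⟩⟩,
        ⟨he.1, (key _ he.1).2 ⟨cbe, cce, Commute.refl _⟩⟩]) (Set.toFinite _), h3,
      Set.ncard_eq_three.2 ⟨b, c, e, nbc, nbe, nce, rfl⟩]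
  have hK0card : K0.ncard = 221760 := by
    have e1 : SB ∩ SC = {y | y ∈ D ∧ Commute b y ∧ Commute c y} := by
      ext y; exact ⟨fun h => ⟨h.1.1, h.1.2, h.2.2⟩, fun h => ⟨⟨h.1, h.2.1⟩, h.1, h.2.2⟩⟩
    have e2 : (SB ∪ SC) ∩ SE = (SB ∩ SE) ∪ (SC ∩ SE) := Set.union_inter_distrib_right _ _ _
    have e3 : (SB ∩ SE) ∩ (SC ∩ SE) = {y | y ∈ D ∧ Commute b y ∧ Commute c y ∧ Commute e y} := by
      ext y
      exact ⟨fun h => ⟨h.1.1.1, h.1.1.2, h.2.1.2, h.1.2.2⟩,
        fun h => ⟨⟨⟨h.1, h.2.1⟩, h.1, h.2.2.2⟩, ⟨h.1, h.2.2.1⟩, h.1, h.2.2.2⟩⟩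
    have e4 : SB ∩ SE = {y | y ∈ D ∧ Commute e y ∧ Commute b y} := by
      ext y; exact ⟨fun h => ⟨h.1.1, h.2.2, h.1.2⟩, fun h => ⟨⟨h.1, h.2.2⟩, h.1, h.2.1⟩⟩
    have e5 : SC ∩ SE = {y | y ∈ D ∧ Commute c y ∧ Commute e y} := by
      ext y; exact ⟨fun h => ⟨h.1.1, h.1.2, h.2.2⟩, fun h => ⟨⟨h.1, h.2.1⟩, h.1, h.2.2⟩⟩
    have i1 := Set.ncard_union_add_ncard_inter SB SC (Set.toFinite _) (Set.toFinite _)
    have i2 := Set.ncard_union_add_ncard_inter (SB ∪ SC) SE (Set.toFinite _) (Set.toFinite _)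
    have i3 := Set.ncard_union_add_ncard_inter (SB ∩ SE) (SC ∩ SE) (Set.toFinite _) (Set.toFinite _)
    rw [e1, cBC, cB, cC] at i1
    rw [e2, cE] at i2
    rw [e3, cBCE, e4, cEB, e5, cCE, ← e4, ← e5] at i3
    have hK : K0 = D \ (SB ∪ SC ∪ SE) := by
      ext y
      simp only [K0, SB, SC, SE, Set.mem_ofPred_eq, Set.mem_sdiff, Set.mem_union]
      tauto
    rw [hK, Set.ncard_sdiff (by rintro y ((h | h) | h) <;> exact h.1) (Set.toFinite _), ncard24 P]
    omega
  have hK0N : U.ncard * N.ncard = K0.ncard := by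
    have h5 : K0.toFinset = U.toFinset.biUnion fun u => (fib u).toFinset := by
      ext y
      simp only [Set.mem_toFinset, Finset.mem_biUnion]
      exact ⟨fun hy => hcover y hy, fun ⟨u, hu, hy⟩ => hfib_K0 u hu hy⟩
    rw [Set.ncard_eq_toFinset_card' K0, h5, Finset.card_biUnion fun u hu v hv hne =>
        Set.disjoint_toFinset.2 (hdisj u (Set.mem_toFinset.1 hu) v (Set.mem_toFinset.1 hv) hne),
      Finset.sum_congr rfl fun u hu => (Set.ncard_eq_toFinset_card' _).symm.trans (hfibN u (Set.mem_toFinset.1 hu)),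
      Finset.sum_const, smul_eq_mul, ← Set.ncard_eq_toFinset_card']
  rw [hUcard, hK0card] at hK0N
  -- the part commuting with the first factor
  have hnear : {y | y ∈ D ∧ Commute (a * t) y ∧ Commute a y} =
      insert a {y | y ∈ nb D a ∧ Commute b y ∧ Commute c y ∧ Commute e y} := by
    have hsplit : ∀ y, Commute a y → (Commute (a * t) y ↔ Commute t y) := fun y hay => by
      refine ⟨fun h => ?_, fun h => hay.mul_left h⟩
      have := hay.mul_left h
      rwa [← mul_assoc, hT.sq a ha, one_mul] at this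
    ext y
    constructor
    · rintro ⟨hy, h, hay⟩
      by_cases q : y = a
      · exact Or.inl q
      · exact Or.inr ⟨⟨hy, q, hay⟩, (key y hy).1 ((hsplit y hay).1 h)⟩
    · rintro (rfl | ⟨hy, h⟩)
      · exact ⟨ha, (hsplit _ (Commute.refl _)).2 ((key _ ha).2 ⟨hb.2.2.symm, hc.2.2.symm, he.2.2.symm⟩), Commute.refl _⟩
      · exact ⟨hy.1, (hsplit y hy.2.2).2 ((key y hy.1).2 h), hy.2.2⟩
  have hall : {y | y ∈ D ∧ Commute (a * b * c * e) y} = {y | y ∈ D ∧ Commute (a * t) y ∧ Commute a y} ∪ N := by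
    rw [show a * b * c * e = a * t by rw [ht]; group]
    ext y
    simp only [hN, Set.mem_ofPred_eq, Set.mem_union]
    tauto
  rw [hall, Set.ncard_union_eq (Set.disjoint_left.2 fun y h1 h2 => h2.2.1 h1.2.2), hnear,
    Set.ncard_insert_of_notMem (fun q => q.1.2.1 rfl) (Set.toFinite _),
    nb_quad24 P ha hb hc he nbc nbe nce cbc cbe cce]
  omega

end CfsgLib.ThreeT.Prod
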