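import Cfsg.Agent.Spor3T.QuadFibre
import Cfsg.Agent.Quad.KleinUnitary
import Cfsg.Agent.Quad.POmega
import Cfsg.Agent.Quad.NegOne
import Mathlib.FieldTheory.Finite.GaloisField

/-!
The image of the commutator subgroup of the orthogonal group on the 126 lines is `PSU₄(3)`, and the action
on the lines has no normal two-subgroup.
-/

set_option autoImplicit false
set_option linter.style.haveILetI false
set_option linter.unusedSectionVars false

namespace CfsgLib.SixSq

open QuadraticMap CfsgLib.Quad
open scoped Matrix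

local instance : Fact (Nat.Prime 3) := ⟨Nat.prime_three⟩

theorem two_ne : (2 : ZMod 3) ≠ 0 := by decide

theorem negIso_mem : negIso sixQ ∈ commutator (oGroup sixQ) := by
  rw [negIso_mem_commutator_iff sixQ_nondeg two_ne (fun i : Fin 6 => Pi.single i 1)
    (by rw [Fintype.card_fin, Module.finrank_fin_fun]) (by simp) (by simp; decide)
    (fun i => by rw [sixQ_apply, dotProduct_single, Pi.single_eq_same, mul_one]; exact one_ne_zero)
    (fun i j h => by rw [sixQ_polar, dotProduct_single, Pi.single_eq_of_ne h.symm, zero_mul, mul_zero])]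
  simp only [sixQ_apply, dotProduct_single, Pi.single_eq_same, mul_one, Finset.prod_const_one]
  exact IsSquare.one

/-- The action of the commutator subgroup. -/
noncomputable def omegaHom : ↥(commutator (oGroup sixQ)) →* Equiv.Perm (Fin 126) :=
  lineHom.comp (commutator (oGroup sixQ)).subtype

theorem ker_omegaHom : omegaHom.ker = Subgroup.center ↥(commutator (oGroup sixQ)) := by
  refine le_antisymm (fun g hg => ?_) fun g hg => ?_
  · refine Subgroup.mem_center_iff.2 fun y => Subtype.ext (Subtype.ext (LinearEquiv.ext fun v => ?_))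
    rcases ker_lineHom g.1 hg with e | e
    · show y.1.1 (g.1.1 v) = g.1.1 (y.1.1 v)
      rw [e]; rfl
    · show y.1.1 (g.1.1 v) = g.1.1 (y.1.1 v)
      rw [e, negIso_apply, negIso_apply, map_neg]
  · refine MonoidHom.mem_ker.2 ?_
    rcases center_omega_subset sixQ_nondeg (by rw [Module.finrank_fin_fun]; norm_num) g hg with e | e
    · rw [e, map_one]
    · show lineHom g.1 = 1
      rw [e, lineHom_neg]

theorem range_omegaHom : omegaHom.range = (commutator (oGroup sixQ)).map lineHom := by
  rw [omegaHom, MonoidHom.range_eq_map, ← Subgroup.map_map, ← MonoidHom.range_eq_map, Subgroup.range_subtype]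

theorem card_omegaLine : Nat.card ↥((commutator (oGroup sixQ)).map lineHom) = 3265920 := by
  rw [← range_omegaHom]
  have h := Subgroup.card_eq_card_quotient_mul_card_subgroup omegaHom.ker
  rw [Nat.card_congr (QuotientGroup.quotientKerEquivRange omegaHom).toEquiv, ker_omegaHom,
    card_center_omega_two sixQ_nondeg (by rw [Module.finrank_fin_fun]; norm_num) two_ne negIso_mem] at h
  have h2 := (commutator (oGroup sixQ)).card_mul_index
  rw [index_commutator_odd sixQ_nondeg two_ne (by rw [Module.finrank_fin_fun]; norm_num),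
    CfsgLib.ReflThree.card_oGroup_six sixQ_nondeg sixQ_det] at h2
  omega

/-- The coordinates of minus type. -/
def toMinus : V6 ≃ₗ[ZMod 3] ((Fin 2 ⊕ Fin 2) ⊕ Fin 2 → ZMod 3) where
  toFun x := Sum.elim (Sum.elim ![x 0 + x 2 + x 3, x 1 + x 2 - x 3] ![x 0 - x 2 - x 3, x 1 - x 2 + x 3]) ![x 4, x 5]
  invFun y := ![-(y (.inl (.inl 0)) + y (.inl (.inr 0))), -(y (.inl (.inl 1)) + y (.inl (.inr 1))),
    y (.inl (.inl 0)) - y (.inl (.inr 0)) + y (.inl (.inl 1)) - y (.inl (.inr 1)),
    y (.inl (.inl 0)) - y (.inl (.inr 0)) - y (.inl (.inl 1)) + y (.inl (.inr 1)), y (.inr 0), y (.inr 1)]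
  map_add' u v := by
    funext i
    rcases i with (i | i) | i <;> fin_cases i <;> simp <;> ring
  map_smul' c v := by
    funext i
    rcases i with (i | i) | i <;> fin_cases i <;> simp <;> ring
  left_inv v := by
    funext i
    fin_cases i <;> simp
    · linear_combination (-v 0) * three_zero
    · linear_combination (-v 1) * three_zero
    · linear_combination (v 2) * three_zero
    · linear_combination (v 3) * three_zero
  right_inv y := by
    funext i
    rcases i with (i | i) | i <;> fin_cases i <;> simp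
    · linear_combination (-y (.inl (.inr 0))) * three_zero
    · linear_combination (-y (.inl (.inr 1))) * three_zero
    · linear_combination (-y (.inl (.inl 0))) * three_zero
    · linear_combination (-y (.inl (.inl 1))) * three_zero

theorem toMinus_form (v : V6) : minusQ 2 (0 : ZMod 3) 1 (toMinus v) = sixQ v := by
  rw [minusQ_coe, sixQ_apply]
  simp [Cfsg.quadFormMinus, toMinus, Fin.sum_univ_two, dotProduct, Fin.sum_univ_six]
  linear_combination (-(v 2 ^ 2) - v 3 ^ 2) * three_zero

theorem omega_iso : ∃ (K : Type) (_ : Field K) (_ : Fintype K), Fintype.card K = 9 ∧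
    Nonempty (↥((commutator (oGroup sixQ)).map lineHom) ≃* Cfsg.PSU 4 K 3) := by
  haveI : Fintype (GaloisField 3 2) := Fintype.ofFinite _
  have hK : Nat.card (GaloisField 3 2) = 3 ^ 2 := GaloisField.card 3 2 (by norm_num)
  refine ⟨GaloisField 3 2, inferInstance, inferInstance, ?_, ?_⟩
  · rw [← Nat.card_eq_fintype_card, hK]; norm_num
  obtain ⟨eU⟩ := nonempty_pOmega_six_minus (F := ZMod 3) (K := GaloisField 3 2) (q := 3) (Nat.card_zmod 3) hK
    (fun x => by rw [← map_pow, ZMod.pow_card]) (a := 0) (b := 1) (by decide)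
  set φ := oGroupCongr toMinus toMinus_form
  set eC : ↥(commutator (oGroup sixQ)) ≃* ↥(commutator (oGroup (minusQ 2 (0 : ZMod 3) 1))) :=
    (φ.subgroupMap _).trans (MulEquiv.subgroupCongr (commutator_map_equiv φ))
  exact ⟨(MulEquiv.subgroupCongr range_omegaHom).symm.trans <|
    (QuotientGroup.quotientKerEquivRange omegaHom).symm.trans <|
    (QuotientGroup.quotientMulEquivOfEq ker_omegaHom).trans <|
    (QuotientGroup.congr _ _ eC (map_center_equiv eC)).trans <| (pOmegaEquiv _).symm.trans eU⟩

theorem refl_far : ∀ j m : Fin 126, adj j m = false → m ≠ j → idx (rf (vec j) (vec m)) ≠ m := by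
  decide +kernel

theorem refl_vec_lineMap (g : oGroup sixQ) (i : Fin 126) :
    g * refl sixQ (vec i) * g⁻¹ = refl sixQ (vec (lineHom g i)) := by
  rw [refl_conj]
  rcases vec_lineMap g i with e | e
  · rw [show vec (lineHom g i) = g.1 (vec i) from e]
  · rw [show vec (lineHom g i) = -g.1 (vec i) from e, ← neg_one_smul (ZMod 3) (g.1 (vec i)),
      refl_smul (neg_ne_zero.2 one_ne_zero)]

theorem refl_braid {j m : Fin 126} (h : adj j m = false) :
    refl sixQ (vec j) * refl sixQ (vec m) * refl sixQ (vec j) =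
      refl sixQ (vec m) * refl sixQ (vec j) * refl sixQ (vec m) := by
  conv_lhs => arg 2; rw [← refl_inv]
  conv_rhs => arg 2; rw [← refl_inv]
  rw [refl_conj, refl_conj, rf_eq, rf_eq]
  have hk : vec m ⬝ᵥ vec j ≠ 0 := fun e => by
    rw [dotProduct_comm] at e
    rw [(adj_iff j m).2 e] at h
    exact Bool.false_ne_true h.symm
  have key : rf (vec m) (vec j) = (vec m ⬝ᵥ vec j) • rf (vec j) (vec m) := by
    have sq : ∀ a : ZMod 3, a ≠ 0 → a * a = 1 := by decide
    simp only [rf, vec_norm, one_mul, smul_add, smul_smul, sq _ hk, one_smul, dotProduct_comm (vec j) (vec m)]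
    abel
  rw [key, refl_smul hk]

/-- The action on the lines has no normal two-subgroup. -/
theorem two_trivial {N : Subgroup (Equiv.Perm (Fin 126))} (hN : IsPGroup 2 ↥N) (hle : N ≤ lineHom.range)
    (hnorm : ∀ g : oGroup sixQ, ∀ n ∈ N, lineHom g * n * (lineHom g)⁻¹ ∈ N) : N = ⊥ := by
  have hnear : ∀ n ∈ N, ∀ j, n j = j ∨ adj j (n j) = true := by
    intro n hn j
    by_contra hc
    rw [not_or, Bool.not_eq_true] at hc
    obtain ⟨hne, hadj⟩ := hc
    obtain ⟨h, rfl⟩ := hle hn
    set m := lineHom h j
    set r := lineHom (refl sixQ (vec j))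
    set s := lineHom (refl sixQ (vec m))
    have hs : s = lineHom h * r * (lineHom h)⁻¹ := by
      simp only [s, r, m, ← refl_vec_lineMap, map_mul, map_inv]
    have hrs : r * s ∈ N := by
      have e : r * s = r * lineHom h * r⁻¹ * (lineHom h)⁻¹ := by
        rw [hs, show r⁻¹ = r by simp only [r, ← map_inv, refl_inv]]
        group
      rw [e]
      exact mul_mem (hnorm _ _ hn) (inv_mem hn)
    have h3 : (r * s) ^ 3 = 1 := by
      have hb : r * s * r = s * r * s := by simp only [r, s, ← map_mul, refl_braid hadj]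
      have r2 : r * r = 1 := by simp only [r, ← map_mul, refl_mul_self, map_one]
      have s2 : s * s = 1 := by simp only [s, ← map_mul, refl_mul_self, map_one]
      calc (r * s) ^ 3 = (r * s * r) * (s * r * s) := by rw [pow_three]; group
        _ = (r * s * r) * (r * s * r) := by rw [hb]
        _ = r * (s * (r * r) * s) * r := by group
        _ = 1 := by rw [r2, mul_one, s2, mul_one, r2]
    obtain ⟨k, hk⟩ := hN ⟨r * s, hrs⟩
    have hk' : (r * s) ^ (2 ^ k) = 1 := congrArg Subtype.val hk
    have h1 : r * s = 1 := by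
      have := pow_gcd_eq_one.2 ⟨hk', h3⟩
      rwa [(Nat.Coprime.pow_left k (by norm_num : Nat.Coprime 2 3)).gcd_eq_one, pow_one] at this
    have hrs' : r = s := by
      rw [eq_inv_of_mul_eq_one_left h1, show s⁻¹ = s by simp only [s, ← map_inv, refl_inv]]
    refine refl_far j m hadj hne ?_
    rw [← rf_eq]
    show r m = m
    rw [hrs']
    exact refl_self_line
  have hfix0 : ∀ n ∈ N, n 0 = 0 := by
    intro n hn
    rcases hnear n hn 0 with e | hk
    · exact e
    exfalso
    obtain ⟨i, i', hi, hi', hne, hfar⟩ : ∃ i i', adj 0 i = true ∧ adj 0 i' = true ∧ i ≠ i' ∧ adj i i' = false := by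
      decide +kernel
    have hget : ∀ i, adj 0 i = true → ∃ n' ∈ N, n' 0 = i := by
      intro i hi
      obtain ⟨g, g0, gk⟩ := pair_move hk hi
      refine ⟨_, hnorm g n hn, ?_⟩
      rw [Equiv.Perm.mul_apply, Equiv.Perm.mul_apply, show (lineHom g)⁻¹ 0 = 0 from
        Equiv.Perm.inv_eq_iff_eq.2 g0.symm, gk]
    obtain ⟨n1, h1, e1⟩ := hget i hi
    obtain ⟨n2, h2, e2⟩ := hget i' hi'
    have e : (n2 * n1⁻¹) i = i' := by
      rw [Equiv.Perm.mul_apply, show n1⁻¹ i = 0 from Equiv.Perm.inv_eq_iff_eq.2 e1.symm, e2]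
    rcases hnear _ (mul_mem h2 (inv_mem h1)) i with r | r <;> rw [e] at r
    · exact hne r.symm
    · rw [hfar] at r; exact Bool.false_ne_true r
  refine (Subgroup.eq_bot_iff_forall N).2 fun n hn => Equiv.ext fun i => ?_
  obtain ⟨g, hg⟩ := line_trans i
  have h := hfix0 _ (hnorm g⁻¹ n hn)
  rw [map_inv, inv_inv, Equiv.Perm.mul_apply, Equiv.Perm.mul_apply, hg, Equiv.Perm.inv_eq_iff_eq] at h
  rw [h, hg]; rfl

end CfsgLib.SixSq
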