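import Cfsg.Agent.Spor3T.QuadGroup
import Cfsg.Agent.Spor3T.QuadOmega
import Cfsg.Agent.Spor3T.M24MinusNorm
import Cfsg.Agent.LocalB.FStar
import Cfsg.Agent.LargeExtra.SimpleCriterion

/-!
Type M(24): the centraliser in the commutator subgroup of a product of four commuting members.
-/

set_option autoImplicit false
set_option linter.style.haveILetI false
set_option linter.unusedSectionVars false

namespace CfsgLib.ThreeT.Prod

open CfsgLib.SevenSq CfsgLib.SixSq
open scoped Matrix

variable {G : Type*} [Group G] [Finite G] {D : Set G} {d : G} (P : Point24 D d) {p q : Fin 6 → G} {w : G}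
  (S : Space7 D p q w)

include P S

theorem quadQ_conj {g x : G} (hg : Commute (tEl p) g) (hx : x ∈ quadQ P S) : g * x * g⁻¹ ∈ quadQ P S := by
  refine ⟨(hg.mul_right hx.1).mul_right hg.inv_right, fun i a ha b hb => ?_⟩
  have ha' := conj_mem_qset P S hg.inv_right ha
  have hb' := conj_mem_qset P S hg.inv_right hb
  have ht : g * tEl p * g⁻¹ = tEl p := by rw [← hg.eq, mul_inv_cancel_right]
  have e0 : g * x * g⁻¹ * (a * b) * (g * x * g⁻¹)⁻¹ =
      g * (x * (g⁻¹ * a * g⁻¹⁻¹ * (g⁻¹ * b * g⁻¹⁻¹)) * x⁻¹) * g⁻¹ := by group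
  rw [e0]
  rcases hx.2 _ _ ha' _ hb' with e | e <;> rw [e]
  · left; group
  · right
    rw [show g * (g⁻¹ * a * g⁻¹⁻¹ * (g⁻¹ * b * g⁻¹⁻¹) * tEl p) * g⁻¹ = a * b * (g * tEl p * g⁻¹) by group, ht]

/-- The structure of the centraliser. -/
theorem quad_structure (C : Subgroup G) (hC : C = commutator G ⊓ Subgroup.centralizer ({tEl p} : Set G)) :
    ∃ (Q : Subgroup ↥C) (_ : Q.Normal), Cfsg.generalizedFittingSubgroup ↥C = Q ∧ Cfsg.IsExtraspecial 2 ↥Q ∧
      Nat.card Q = 2 ^ 13 ∧ ∃ (N M : Subgroup ↥C) (_ : N.Normal) (_ : M.Normal), Q ≤ N ∧ N ≤ M ∧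
        Nat.card N = 3 * Nat.card Q ∧ (∃ (K : Type) (_ : Field K) (_ : Fintype K), Fintype.card K = 9 ∧
          Nonempty (↥M ⧸ N.subgroupOf M ≃* Cfsg.PSU 4 K 3)) ∧ M.index = 2 := by
  haveI : Fact (Nat.Prime 2) := ⟨Nat.prime_two⟩
  set T := Subgroup.centralizer ({tEl p} : Set G) with hT
  have hCT : C ≤ T := hC ▸ inf_le_right
  have hKC : lineKer P S ≤ C := by
    rw [hC]
    exact le_inf (lineKer_le_commutator P S) fun g hg =>
      Subgroup.mem_centralizer_singleton_iff.2 ((mem_lineKer P S).1 hg).1.eq.symm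
  have hQC : quadQ P S ≤ C := (quadQ_le P S).trans hKC
  have hcardC : Nat.card ↥C = 160526499840 := by
    have h := Subgroup.relIndex_mul_relIndex (⊥ : Subgroup G) (commutator G ⊓ T) T bot_le inf_le_right
    rw [Subgroup.relIndex_bot_left, Subgroup.relIndex_bot_left, Subgroup.inf_relIndex_right,
      card_cent_tEl P S, ← hC] at h
    have hd : (commutator G).relIndex T ∣ 2 := index_commutator24 P ▸ Subgroup.relIndex_dvd_index_of_normal _ _
    rw [((Nat.dvd_prime Nat.prime_two).1 hd).resolve_left fun r => notMem_commutator24 P (S.hex.mp 4)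
      (Subgroup.relIndex_eq_one.1 r (side_eq_mem6 P S 4 ▸
        Subgroup.mem_centralizer_singleton_iff.2 (mem6_spec P S _).2.eq.symm))] at h
    omega
  set ψ : ↥C →* Equiv.Perm (Fin 126) := (sigma P S).comp (Subgroup.inclusion hCT) with hψ
  have hker : ψ.ker = (lineKer P S).subgroupOf C := by
    ext c
    rw [Subgroup.mem_subgroupOf, lineKer]
    show Subgroup.inclusion hCT c ∈ (sigma P S).ker ↔ _
    exact (Subgroup.mem_map_iff_mem (K := (sigma P S).ker) T.subtype_injective).symm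
  have hcK : Nat.card ↥ψ.ker = 24576 := by
    rw [hker, Nat.card_congr (Subgroup.subgroupOfEquivOfLe hKC).toEquiv, card_lineKer P S]
  have hcR : Nat.card ↥ψ.range = 6531840 := by
    have h := Subgroup.card_eq_card_quotient_mul_card_subgroup ψ.ker
    rw [Nat.card_congr (QuotientGroup.quotientKerEquivRange ψ).toEquiv, hcK, hcardC] at h
    omega
  set O := (commutator (CfsgLib.Quad.oGroup sixQ)).map lineHom with hO
  have hOR : O ≤ ψ.range := by
    have e : O = ((commutator ↥T).map (sigma P S)) := by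
      rw [hO, commutator_def, commutator_def, Subgroup.map_commutator, Subgroup.map_commutator,
        ← MonoidHom.range_eq_map, ← MonoidHom.range_eq_map, range_sigma P S]
    rw [e]
    rintro _ ⟨c, hc, rfl⟩
    have hcL : (c : G) ∈ commutator G := by
      have hle : (commutator ↥T).map T.subtype ≤ commutator G := by
        rw [commutator_def, Subgroup.map_commutator, commutator_def]
        exact Subgroup.commutator_mono le_top le_top
      exact hle (Subgroup.mem_map_of_mem T.subtype hc)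
    exact ⟨⟨c, hC ▸ Subgroup.mem_inf.2 ⟨hcL, c.2⟩⟩, rfl⟩
  set M := O.comap ψ with hM
  have hMi : M.index = 2 := by
    rw [hM, Subgroup.index_comap]
    have h := Subgroup.relIndex_mul_relIndex (⊥ : Subgroup (Equiv.Perm (Fin 126))) O ψ.range bot_le hOR
    rw [Subgroup.relIndex_bot_left, Subgroup.relIndex_bot_left, hcR, hO, card_omegaLine] at h
    rw [hO]
    omega
  haveI hMn : M.Normal := Subgroup.normal_of_index_eq_two hMi
  set Q := (quadQ P S).subgroupOf C with hQdef
  haveI hQn : Q.Normal := ⟨fun x hx c => Subgroup.mem_subgroupOf.2 (by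
    rw [Subgroup.coe_mul, Subgroup.coe_mul, Subgroup.coe_inv]
    exact quadQ_conj P S (Subgroup.mem_centralizer_singleton_iff.1 (hCT c.2)).symm (Subgroup.mem_subgroupOf.1 hx))⟩
  have hQcard : Nat.card ↥Q = 2 ^ 13 := by
    rw [hQdef, Nat.card_congr (Subgroup.subgroupOfEquivOfLe hQC).toEquiv, (card_quadQ P S).1]
  have hQp : IsPGroup 2 ↥Q := IsPGroup.of_card hQcard
  have hpairC : ∀ i u v, u ∈ qset P S i → v ∈ qset P S i → u * v ∈ C := fun i u v hu hv =>
    hQC (pair_mem P S hu hv)
  have htQ : ∀ x : G, x = 1 ∨ x = tEl p → x ∈ quadQ P S := by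
    rintro x (rfl | rfl)
    · exact one_mem _
    · obtain ⟨a, b, c, e, hq, hF⟩ := (qset_spec P S 0).1
      have hin : ∀ x ∈ ({a, b, c, e} : Set G), x ∈ qset P S 0 := fun x hx => by rw [hF]; exact hx
      rw [show tEl p = a * b * (c * e) by rw [← hq.prod]; group]
      exact mul_mem (pair_mem P S (hin a (by simp)) (hin b (by simp)))
        (pair_mem P S (hin c (by simp)) (hin e (by simp)))
  have hcore : Cfsg.pCore 2 ↥C = Q := by
    refine le_antisymm ?_ (CfsgLib.Solvable.le_pCore 2 hQn hQp)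
    set N₂ := Cfsg.pCore 2 ↥C with hN₂
    haveI hN₂n : N₂.Normal := CfsgLib.Solvable.pCore_normal 2
    have hN₂p : IsPGroup 2 ↥N₂ := CfsgLib.Solvable.isPGroup_pCore 2
    have hbot : N₂.map ψ = ⊥ := by
      refine two_trivial (hN₂p.map ψ) (le_trans (Subgroup.map_le_range _ _) ?_) fun g n hn => ?_
      · rw [← range_sigma P S]
        rintro _ ⟨x, rfl⟩
        exact ⟨_, rfl⟩
      · obtain ⟨c, hc, rfl⟩ := hn
        obtain ⟨h, hh, -⟩ := exists_sigma_eq P S g
        have hmem : ∀ k : ↥T, ∀ x : ↥C, (k : G) * x * (k : G)⁻¹ ∈ C := by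
          intro k x
          have hx : (x : G) ∈ commutator G ⊓ T := hC ▸ x.2
          refine hC.ge ?_
          exact Subgroup.mem_inf.2 ⟨(inferInstance : (commutator G).Normal).conj_mem _ (Subgroup.mem_inf.1 hx).1 _,
            mul_mem (mul_mem k.2 (Subgroup.mem_inf.1 hx).2) (inv_mem k.2)⟩
        let α : ↥C ≃* ↥C :=
          { toFun := fun x => ⟨_, hmem h x⟩
            invFun := fun x => ⟨_, hmem h⁻¹ x⟩
            left_inv := fun x => Subtype.ext (by simp [mul_assoc])
            right_inv := fun x => Subtype.ext (by simp [mul_assoc])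
            map_mul' := fun x y => Subtype.ext (by simp [mul_assoc]) }
        have hαN : N₂.map α.toMonoidHom ≤ N₂ :=
          CfsgLib.Solvable.le_pCore 2 (hN₂n.map _ α.surjective) (hN₂p.map _)
        refine ⟨α c, hαN ⟨c, hc, rfl⟩, ?_⟩
        rw [← hh, hψ, MonoidHom.comp_apply, MonoidHom.comp_apply, ← map_inv, ← map_mul, ← map_mul]
        rfl
    have hle : N₂.map C.subtype ≤ lineKer P S := by
      rintro _ ⟨c, hc, rfl⟩
      have : c ∈ ψ.ker := (Subgroup.map_eq_bot_iff N₂).1 hbot hc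
      rwa [hker] at this
    have hnorm : quadQ P S ≤ Subgroup.normalizer ((N₂.map C.subtype : Subgroup G) : Set G) := fun x hx => by
      have hh := N₂.le_normalizer_map C.subtype
      rw [Subgroup.normalizer_eq_top] at hh
      exact hh ⟨⟨x, hQC hx⟩, Subgroup.mem_top _, rfl⟩
    intro c hc
    exact Subgroup.mem_subgroupOf.2
      (le_quadQ_of_two P S (hN₂p.map _) hle hnorm (Subgroup.mem_map_of_mem C.subtype hc))
  have hF : Cfsg.generalizedFittingSubgroup ↥C = Q := by
    rw [CfsgLib.LocalB.fstar_eq_pCore (p := 2) (H := ↥C) ?_, hcore]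
    rw [hcore]
    intro x hx
    refine Subgroup.mem_subgroupOf.2 (htQ _ (cent_pairs P S
      (Subgroup.mem_centralizer_singleton_iff.1 (hCT x.2)).symm fun i u v hu hv _ => ?_))
    exact congrArg Subtype.val (Subgroup.mem_centralizer_iff.1 hx ⟨u * v, hpairC i u v hu hv⟩
      (Subgroup.mem_subgroupOf.2 (pair_mem P S hu hv))).symm
  have hQex : Cfsg.IsExtraspecial 2 ↥Q :=
    CfsgLib.LargeExtra.isExtraspecial_equiv (Subgroup.subgroupOfEquivOfLe hQC).symm (card_quadQ P S).2
  have hNM : ψ.ker ≤ M := fun c hc => Subgroup.mem_comap.2 (by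
    rw [MonoidHom.mem_ker.1 hc]; exact one_mem _)
  refine ⟨Q, hQn, hF, hQex, hQcard, ψ.ker, M, inferInstance, hMn, ?_, hNM, ?_, ?_, hMi⟩
  · rw [hker]
    exact Subgroup.comap_mono (quadQ_le P S)
  · rw [hcK, hQcard]; norm_num
  · obtain ⟨K, iK, iF, hK, ⟨eK⟩⟩ := omega_iso
    refine ⟨K, iK, iF, hK, ⟨?_⟩⟩
    let ψM : ↥M →* ↥O := (ψ.comp M.subtype).codRestrict O fun m => m.2
    have hsurj : Function.Surjective ψM := by
      rintro ⟨y, hy⟩
      obtain ⟨c, hc⟩ := hOR hy
      exact ⟨⟨c, Subgroup.mem_comap.2 (hc.symm ▸ hy)⟩, Subtype.ext hc⟩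
    have hkM : ψ.ker.subgroupOf M = ψM.ker := by
      ext m
      rw [Subgroup.mem_subgroupOf, MonoidHom.mem_ker, MonoidHom.mem_ker]
      exact ⟨fun h => Subtype.ext h, fun h => congrArg Subtype.val h⟩
    exact (QuotientGroup.quotientMulEquivOfEq hkM).trans
      ((QuotientGroup.quotientKerEquivOfSurjective ψM hsurj).trans eK)

end CfsgLib.ThreeT.Prod
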