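import Cfsg.Agent.Spor3T.M22PairStab
import Cfsg.Agent.Spor3T.MinusSixAut

/-!
Type M(22): the centraliser of a product of two commuting members modulo its 2-radical is `Aut PSU₄(2)`.
-/

set_option autoImplicit false
set_option linter.unusedSectionVars false
set_option linter.style.haveILetI false

namespace CfsgLib.ThreeT.Prod

open CfsgLib
open scoped Matrix

variable {G : Type*} [Group G] [Finite G] {D : Set G}

theorem center_psu_four {F : Type*} [Field F] [Fintype F] (hF : Fintype.card F = 4) :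
    Subgroup.center (Cfsg.PSU 4 F 2) = ⊥ ∧ ¬ IsPGroup 2 (Cfsg.PSU 4 F 2) := by
  obtain ⟨hc, hs⟩ := PairStab.card_psu_four hF
  haveI := hs
  refine ⟨?_, fun q => ?_⟩
  · rcases (inferInstance : (Subgroup.center (Cfsg.PSU 4 F 2)).Normal).eq_bot_or_eq_top with r | r
    · exact r
    · exfalso
      letI := Group.commGroupOfCenterEqTop r
      have := IsSimpleGroup.prime_card (α := Cfsg.PSU 4 F 2)
      rw [hc] at this
      norm_num at this
  · obtain ⟨n, hn⟩ := IsPGroup.iff_card.1 q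
    rw [hc] at hn
    have h3 : 3 ∣ 2 ^ n := hn ▸ (by norm_num)
    have := (Nat.prime_dvd_prime_iff_eq Nat.prime_three Nat.prime_two).1 (Nat.prime_three.dvd_of_dvd_pow h3)
    norm_num at this

variable {a b : G}

theorem mem_cent_prod_iff (h : Geo22 D) (ha : a ∈ D) (hb : b ∈ nb D a) {g : G} :
    g ∈ Subgroup.centralizer ({a * b} : Set G) ↔ PairNorm a b g := by
  constructor
  · intro hg
    have hprod : g * a * g⁻¹ * (g * b * g⁻¹) = a * b := by
      rw [show g * a * g⁻¹ * (g * b * g⁻¹) = g * (a * b) * g⁻¹ by group,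
        Subgroup.mem_centralizer_singleton_iff.1 hg, mul_inv_cancel_right]
    have hu := uniq_two h.tt h.twinFree h.ne_one (l := [g * a * g⁻¹, g * b * g⁻¹]) (l' := [a, b])
      ⟨by simpa using fun q => hb.2.1 q.symm, rfl, by simpa using ⟨h.tt.conj g a ha, h.tt.conj g b hb.1⟩, by
        simpa [commute_conj_iff] using ⟨hb.2.2, hb.2.2.symm⟩⟩
      ⟨by simpa using hb.2.1.symm, rfl, by simpa using ⟨ha, hb.1⟩, by simpa using ⟨hb.2.2, hb.2.2.symm⟩⟩
      (by simpa using hprod)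
    have h1 := (hu (g * a * g⁻¹)).1 (by simp)
    have h2 := (hu (g * b * g⁻¹)).1 (by simp)
    simp only [List.mem_cons, List.not_mem_nil, or_false] at h1 h2
    have hne : g * a * g⁻¹ ≠ g * b * g⁻¹ := fun q => hb.2.1 (mul_left_cancel (mul_right_cancel q)).symm
    rcases h1 with h1 | h1 <;> rcases h2 with h2 | h2
    · exact absurd (h1.trans h2.symm) hne
    · exact Or.inl ⟨h1, h2⟩
    · exact Or.inr ⟨h1, h2⟩
    · exact absurd (h1.trans h2.symm) hne
  · intro hg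
    have e : g * (a * b) * g⁻¹ = g * a * g⁻¹ * (g * b * g⁻¹) := by group
    have e' : g * (a * b) * g⁻¹ = a * b := by
      rcases hg with ⟨e1, e2⟩ | ⟨e1, e2⟩ <;> rw [e, e1, e2]
      exact hb.2.2.eq.symm
    exact Subgroup.mem_centralizer_singleton_iff.2 (mul_inv_eq_iff_eq_mul.1 e')

variable (h : Geo22 D) (hprim : Cfsg.IsPrimitiveUnderConj D) (ht : Cfsg.IsOfTypeM22 G D)

include h hprim ht

/-- A model, a frame based at the pair, and the parameters. -/
theorem exists_pair_data (ha : a ∈ D) (hb : b ∈ nb D a) :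
    ∃ (F : Type) (_ : Field F) (_ : Fintype F) (_ : CharP F 2) (hF : Nat.card F = 2 ^ 2)
      (φ : ↥(hsub D a) →* Cfsg.PSU 6 F 2) (ω : F) (e : Fin 4 → Fin 6 → F), ω ≠ 0 ∧ ω ≠ 1 ∧
      PairData D a b hF φ e SixTwo.baseP (SixTwo.baseQ ω) ∧ e 0 = SixTwo.baseX := by
  obtain ⟨F, _, _, _, hF, φ, hM, rb⟩ := exists_pair_model h hprim ht ha hb
  obtain ⟨ω, e, h0, h1, hfr, he⟩ := SixTwo.exists_frame_base hF
  exact ⟨F, inferInstance, inferInstance, inferInstance, hF, φ, ω, e, h0, h1, ⟨hM, ha, hb, rb, hfr⟩, he⟩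

theorem pair_orders (ha : a ∈ D) (hb : b ∈ nb D a) :
    Nat.card ↥(Subgroup.centralizer ({a * b} : Set G)) = 53084160 ∧
      Nat.card ↥(Subgroup.centralizer ({a, b} : Set G)) = 26542080 ∧
      Nat.card ↥(fibreKer h.tt a b) = 1024 ∧
      fibreKer h.tt a b ≤ Subgroup.centralizer ({a, b} : Set G) ∧
      Subgroup.centralizer ({a, b} : Set G) ≤ Subgroup.centralizer ({a * b} : Set G) ∧
      Subgroup.closure ({a, b} : Set G) ≤ fibreKer h.tt a b := by
  obtain ⟨F, _, _, _, hF, φ, ω, e, -, -, d, -⟩ := exists_pair_data h hprim ht ha hb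
  refine ⟨?_, ?_, (fibre_gen h d).1, fun g hg => mem_pair_centralizer.2 ⟨hg.1, hg.2.1⟩, fun g hg => ?_, ?_⟩
  · have := card_cent_pair h ha hb
    rw [(order22 h hprim ht).1 a ha] at this
    omega
  · rw [← card_cent_nb h hprim ht ha hb, (centralizer_eq h ha).1]
    congr! 2
    ext g
    rw [mem_pair_centralizer, Subgroup.mem_inf, Subgroup.mem_centralizer_singleton_iff,
      Subgroup.mem_centralizer_singleton_iff]
    exact and_comm
  · obtain ⟨g1, g2⟩ := mem_pair_centralizer.1 hg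
    exact Subgroup.mem_centralizer_singleton_iff.2 (g1.mul_right g2).eq
  · rw [(fibre_gen h d).2]
    exact Subgroup.closure_mono fun x hx => Or.inr hx

/-- An element exchanging the pair cannot act trivially on the centraliser of the pair modulo the kernel. -/
theorem swap_false (ha : a ∈ D) (hb : b ∈ nb D a) {g : G} (hga : g * a * g⁻¹ = b) (hgb : g * b * g⁻¹ = a)
    (hg : ∀ k, Commute k a → Commute k b → g * k * g⁻¹ * k⁻¹ ∈ fibreKer h.tt a b) : False := by
  classical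
  obtain ⟨F, _, _, _, hF, φ, ω, e, hω0, hω1, d, he0⟩ := exists_pair_data h hprim ht ha hb
  set E := fibreKer h.tt a b
  obtain ⟨A, B, hA3, hAc, hAp, hAx, hBp, hBx, hBA⟩ := SixTwo.exists_diag hF hω0 hω1
  obtain ⟨x₀, hx₀, rx₀⟩ := frame_elem h d 0
  rw [he0] at rx₀
  have hxpt : SixTwo.IsPt (SixTwo.baseX : Fin 6 → F) := he0 ▸ d.frame.pt 0
  have hx0n := common_nb h d hx₀
  -- a lift of order three
  obtain ⟨g₀, r₀⟩ := d.model.elem A
  set k := g₀ ^ 4
  have hk3 : k ^ 3 = 1 := by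
    have r3 : Lift φ (g₀ * g₀ * g₀) (A * A * A) := (r₀.mul r₀).mul r₀
    have h3 : g₀ ^ 3 = 1 ∨ g₀ ^ 3 = a := by
      have := d.model.ker ⟨g₀ * g₀ * g₀, r3.1⟩ (by
        rw [r3.2, show A * A * A = A ^ 3 by simp [pow_succ], hA3, map_one])
      simpa [pow_succ] using this
    rw [show k ^ 3 = (g₀ ^ 3) ^ 4 by simp only [k]; rw [← pow_mul, ← pow_mul]]
    rcases h3 with r | r <;> rw [r]
    · exact one_pow 4
    · rw [show 4 = 2 * 2 from rfl, pow_mul, pow_two a, h.tt.sq a ha, one_pow]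
  have rk : Lift φ k A := by
    have := ((r₀.mul r₀).mul r₀).mul r₀
    rwa [show g₀ * g₀ * g₀ * g₀ = k by simp [k, pow_succ], show A * A * A * A = A by
      rw [show A * A * A * A = A ^ 3 * A by simp [pow_succ], hA3, one_mul]] at this
  have hk1 : k ≠ 1 := by
    intro r
    refine hAc ((QuotientGroup.eq_one_iff A).1 ?_)
    have := rk.2
    rw [show (⟨k, rk.1⟩ : ↥(hsub D a)) = 1 from Subtype.ext r, map_one] at this
    exact this.symm
  haveI : Fact (3 : ℕ).Prime := ⟨Nat.prime_three⟩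
  have hko : orderOf k = 3 := orderOf_eq_prime hk3 hk1
  have hka : Commute k a := commute_hsub rk.1
  have hkb : Commute k b := (d.model.fix_iff h.tt rk d.memB d.frame.pp d.rb).2 (by rw [hAp])
  have hkx : Commute k x₀ := (d.model.fix_iff h.tt rk hx0n hxpt rx₀).2
    (by rw [hAx, SixTwo.tv_smul hF hxpt.2 hω0])
  have hkzK : ∀ j : ℤ, Commute (k ^ j) a ∧ Commute (k ^ j) b := fun j => ⟨hka.zpow_left j, hkb.zpow_left j⟩
  have hconjE : ∀ j : ℤ, ∀ u ∈ E, k ^ j * u * (k ^ j)⁻¹ ∈ E := fun j u hu =>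
    fibreKer_conj (pairNorm_of_fix (hkzK j).1 (hkzK j).2) hu
  have hconjE' : ∀ j : ℤ, ∀ u ∈ E, (k ^ j)⁻¹ * u * k ^ j ∈ E := fun j u hu => by
    have := hconjE (-j) u hu
    rwa [zpow_neg, inv_inv] at this
  have hcardE := (fibre_gen h d).1
  have hkE : ∀ j : ℤ, k ^ j ∈ E → k ^ j = 1 := by
    intro j hj
    rw [← orderOf_eq_one_iff]
    refine Nat.eq_one_of_dvd_coprimes (show Nat.Coprime 3 1024 by norm_num) ?_ ?_
    · refine orderOf_dvd_of_pow_eq_one ?_
      rw [← zpow_natCast, ← zpow_mul, mul_comm, zpow_mul, zpow_natCast, hk3, one_zpow]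
    · rw [← hcardE]; exact Subgroup.orderOf_dvd_natCard _ hj
  -- the extension of the kernel by it
  let R : Subgroup G :=
    { carrier := {z | ∃ j : ℤ, ∃ u ∈ E, z = k ^ j * u}
      one_mem' := ⟨0, 1, one_mem _, by simp⟩
      mul_mem' := by
        rintro _ _ ⟨i, u, hu, rfl⟩ ⟨j, v, hv, rfl⟩
        exact ⟨i + j, (k ^ j)⁻¹ * u * k ^ j * v, mul_mem (hconjE' j u hu) hv, by rw [zpow_add]; group⟩
      inv_mem' := by
        rintro _ ⟨j, u, hu, rfl⟩
        exact ⟨-j, k ^ j * u⁻¹ * (k ^ j)⁻¹, hconjE j _ (inv_mem hu), by group⟩ }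
  have hER : E ≤ R := fun u hu => ⟨0, u, hu, by simp⟩
  have hcardR : Nat.card R = 3072 := by
    rw [card_orbit_stab R E (fun z => (z : G ⧸ E)) (Set.range fun j : Fin 3 => ((k ^ (j : ℕ) : G) : G ⧸ E))
      (fun z _ z' _ => QuotientGroup.eq) ?_, inf_eq_left.2 hER, hcardE]
    · have hinj : Function.Injective fun j : Fin 3 => ((k ^ (j : ℕ) : G) : G ⧸ E) := by
        intro i j q
        have hm := QuotientGroup.eq.1 q
        have e1 : (k ^ (i : ℕ))⁻¹ * k ^ (j : ℕ) = k ^ ((j : ℤ) - i) := by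
          rw [zpow_sub, zpow_natCast, zpow_natCast, ← ((Commute.pow_pow_self k i j).inv_left).eq]
        rw [e1] at hm
        have h1 := hkE _ hm
        rw [← e1, inv_mul_eq_one] at h1
        exact Fin.ext (pow_injOn_Iio_orderOf (by rw [hko]; exact i.2) (by rw [hko]; exact j.2) h1)
      rw [← Nat.card_coe_set_eq, Nat.card_range_of_injective hinj, Nat.card_fin]
    · ext z
      constructor
      · rintro ⟨w, ⟨j, u, hu, rfl⟩, rfl⟩
        refine ⟨⟨(j % 3).toNat, by omega⟩, QuotientGroup.eq.2 ?_⟩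
        show (k ^ (j % 3).toNat)⁻¹ * (k ^ j * u) ∈ E
        have : k ^ (j % 3).toNat = k ^ j := by
          rw [← zpow_natCast, Int.toNat_of_nonneg (Int.emod_nonneg j (by norm_num)),
            show (3 : ℤ) = (orderOf k : ℤ) by rw [hko]; rfl, zpow_mod_orderOf]
        rw [this, inv_mul_cancel_left]
        exact hu
      · rintro ⟨j, rfl⟩
        exact ⟨k ^ (j : ℕ), ⟨j, 1, one_mem _, by simp⟩, rfl⟩
  set e₀ := g * k * g⁻¹ * k⁻¹ with he₀
  have he₀E : e₀ ∈ E := hg k hka hkb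
  have hk' : g * k * g⁻¹ = e₀ * k := by rw [he₀]; group
  have hR9 : ¬ 3 * 3 ∣ Nat.card R := by rw [hcardR]; norm_num
  obtain ⟨r, ⟨j, u, hu, rfl⟩, hrY⟩ := sylow_conj (p := 3) (H := R) (X := Subgroup.zpowers (g * k * g⁻¹))
    (Y := Subgroup.zpowers k)
    (Subgroup.zpowers_le.2 ⟨1, k⁻¹ * e₀ * k, by simpa using hconjE' 1 e₀ he₀E, by rw [hk']; group⟩)
    (Subgroup.zpowers_le.2 ⟨1, 1, one_mem _, by simp⟩)
    (by rw [Nat.card_zpowers, show g * k * g⁻¹ = MulAut.conj g k from rfl, MulEquiv.orderOf_eq, hko])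
    (by rw [Nat.card_zpowers, hko]) hR9
  set g₁ := k ^ j * u * g with hg₁
  have hg₁k : g₁ * k * g₁⁻¹ = k := by
    have hmem : g₁ * k * g₁⁻¹ ∈ Subgroup.zpowers k := by
      rw [← hrY]
      exact ⟨_, Subgroup.mem_zpowers _, by rw [MulEquiv.coe_toMonoidHom, MulAut.conj_apply]; simp only [g₁]; group⟩
    obtain ⟨i, hi⟩ := Subgroup.mem_zpowers_iff.1 hmem
    have hmE : g₁ * k * g₁⁻¹ * k⁻¹ ∈ E := by
      rw [show g₁ * k * g₁⁻¹ * k⁻¹ = k ^ j * (u * e₀ * (k ^ (1 : ℤ) * u⁻¹ * (k ^ (1 : ℤ))⁻¹)) * (k ^ j)⁻¹ by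
        simp only [g₁]
        rw [show k ^ j * u * g * k * (k ^ j * u * g)⁻¹ = k ^ j * u * (g * k * g⁻¹) * u⁻¹ * (k ^ j)⁻¹ by group, hk']
        group]
      exact hconjE j _ (mul_mem (mul_mem hu he₀E) (hconjE 1 _ (inv_mem hu)))
    rw [← hi, show k ^ i * k⁻¹ = k ^ (i - 1) by rw [zpow_sub, zpow_one]] at hmE
    have := hkE _ hmE
    rw [zpow_sub, zpow_one, mul_inv_eq_one] at this
    rw [← hi, this]
  have hu' := hu
  obtain ⟨hua, hub, -⟩ := hu'
  have hg₁a : g₁ * a * g₁⁻¹ = b := by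
    rw [show g₁ * a * g₁⁻¹ = k ^ j * (u * (g * a * g⁻¹) * u⁻¹) * (k ^ j)⁻¹ by simp only [g₁]; group, hga,
      fix_of_commute hub, fix_of_commute (hkzK j).2]
  have hg₁b : g₁ * b * g₁⁻¹ = a := by
    rw [show g₁ * b * g₁⁻¹ = k ^ j * (u * (g * b * g⁻¹) * u⁻¹) * (k ^ j)⁻¹ by simp only [g₁]; group, hgb,
      fix_of_commute hua, fix_of_commute (hkzK j).1]
  set x₁ := g₁ * x₀ * g₁⁻¹
  have hx₁ : x₁ ∈ common D a b := common_conj h.tt (Or.inr ⟨hg₁a, hg₁b⟩) hx₀
  have hxx : x₁ * x₀ ∈ E := by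
    set e' := g * x₀ * g⁻¹ * x₀⁻¹ with he'
    have he'E : e' ∈ E := hg x₀ hx₀.2.2.2.1 hx₀.2.2.2.2
    have hk0 : Commute (k ^ j) x₀ := hkx.zpow_left j
    have e1 : x₁ * x₀ = k ^ j * (u * e' * (x₀ * u⁻¹ * x₀⁻¹)) * (k ^ j)⁻¹ := by
      calc x₁ * x₀ = k ^ j * (u * (g * x₀ * g⁻¹) * u⁻¹) * (k ^ j)⁻¹ * x₀ := by simp only [x₁, g₁]; group
        _ = k ^ j * (u * (g * x₀ * g⁻¹) * u⁻¹) * (x₀ * (k ^ j)⁻¹) := by rw [mul_assoc, hk0.inv_left.eq]
        _ = k ^ j * (u * e' * (x₀ * u⁻¹ * x₀)) * (k ^ j)⁻¹ := by rw [he']; group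
        _ = _ := by rw [h.tt.inv hx₀.1]
    rw [e1]
    exact hconjE j _ (mul_mem (mul_mem hu he'E)
      (fibreKer_conj (pairNorm_of_fix hx₀.2.2.2.1 hx₀.2.2.2.2) (inv_mem hu)))
  have key : ∀ {x y : G}, x ∈ common D a b → y ∈ common D a b → y * x ∈ E →
      ∀ z ∈ common D a b, Commute z x → Commute z y := by
    intro x y hx hy hyx z hz hzx
    by_contra hzy
    have hs := hyx.2.2 z hz
    rw [show y * x * z * (y * x)⁻¹ = y * (x * z * x⁻¹) * y⁻¹ by group, fix_of_commute hzx.symm] at hs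
    have h1 := (hs z hz).2 (Commute.refl z)
    rw [h.tt.inv hy.1, braid0 h.tt hy.1 hz.1 fun r => hzy r.symm] at h1
    have h2 : Commute (z * z * z⁻¹) (z * y * z⁻¹) := by
      rwa [mul_inv_cancel_right, h.tt.inv hz.1]
    exact hzy ((commute_conj_iff z z y).1 h2)
  have hxx' : x₀ * x₁ ∈ E := by
    have := inv_mem hxx
    rwa [mul_inv_rev, h.tt.inv hx₀.1, h.tt.inv hx₁.1] at this
  have hsim : Sim D a b x₁ x₀ := fun z hz => ⟨key hx₁ hx₀ hxx' z hz, key hx₀ hx₁ hxx z hz⟩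
  obtain ⟨v, hv, rv⟩ := d.model.rep_exists (common_nb h d hx₁)
  obtain ⟨α, β, hvv⟩ := (sim_vec h d hx₀ hx₁ hxpt rx₀ hv rv).1 hsim
  have hkx₁ : Commute k x₁ := by
    have := (commute_conj_iff g₁ k x₀).2 hkx
    rwa [hg₁k] at this
  have hx₁₀ : x₁ = x₀ := by
    obtain ⟨c, hc⟩ := SixTwo.tv_eq_smul hF (isPt_mulVec A hv) hv
      ((d.model.fix_iff h.tt rk (common_nb h d hx₁) hv rv).1 hkx₁)
    rw [hvv, Matrix.mulVec_add, Matrix.mulVec_smul, Matrix.mulVec_smul, hAp, hAx] at hc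
    have e1 := congrArg (fun w => Cfsg.hermForm 6 F 2 w (e 1)) hc
    have e2 := congrArg (fun w => Cfsg.hermForm 6 F 2 w (SixTwo.baseQ ω)) hc
    have z1 := d.frame.ep 1
    have z2 := d.frame.eq 0
    rw [he0] at z2
    have hh1 : Cfsg.hermForm 6 F 2 SixTwo.baseX (e 1) ≠ 0 := he0 ▸ d.frame.adj 0 1 rfl
    simp only [Unitary.herm_add_left, Unitary.herm_smul_left, (SixTwo.hh_comm hF).1 z1, z2, mul_zero, add_zero,
      zero_add] at e1 e2
    have hα : α ≠ 0 := fun r => hx₁.2.2.1 (d.model.rep_inj (common_nb h d hx₁) hb rv d.rb (by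
      have hβ : β ≠ 0 := fun r' => hv.1 (by rw [hvv, r, r', zero_smul, zero_smul, add_zero])
      rw [hvv, r, zero_smul, zero_add, SixTwo.tv_smul hF d.frame.pp.2 hβ]))
    have hcω : c = ω := by
      have e3 : (α * ω) * Cfsg.hermForm 6 F 2 SixTwo.baseX (e 1) =
          (c * α) * Cfsg.hermForm 6 F 2 SixTwo.baseX (e 1) := by linear_combination e1
      exact (mul_left_cancel₀ hα ((mul_right_cancel₀ hh1 e3).trans (mul_comm c α))).symm
    have hβ0 : β = 0 := by
      have e3 : β * (1 - ω) * Cfsg.hermForm 6 F 2 SixTwo.baseP (SixTwo.baseQ ω) = 0 := by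
        rw [hcω] at e2
        linear_combination e2
      exact (mul_eq_zero.1 ((mul_eq_zero.1 e3).resolve_right d.frame.pq)).resolve_right
        (sub_ne_zero.2 (Ne.symm hω1))
    refine d.model.rep_inj (common_nb h d hx₁) hx0n rv rx₀ ?_
    rw [hvv, hβ0, zero_smul, add_zero, SixTwo.tv_smul hF hxpt.2 hα]
  -- the element moving the base point
  obtain ⟨w, rw'⟩ := d.model.elem B
  have hwa : Commute w a := commute_hsub rw'.1
  have hwb : w * b * w⁻¹ = x₀ :=
    d.model.rep_inj (nb_conj_mem h.tt rw'.1 hb) hx0n (d.rb.conj rw' d.frame.pp) rx₀ (by rw [hBp])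
  have hwx : w * x₀ * w⁻¹ = b :=
    d.model.rep_inj (nb_conj_mem h.tt rw'.1 hx0n) hb (rx₀.conj rw' hxpt) d.rb (by rw [hBx])
  have inv_of : ∀ {f : G} {C : Cfsg.SU 6 F 2}, Lift φ f C → C * A * C⁻¹ * A ∈ Subgroup.center (Cfsg.SU 6 F 2) →
      f * k * f⁻¹ = k⁻¹ := by
    intro f C rf hC
    have r := (((rf.mul rk).mul rf.inv).mul rk)
    rcases d.model.ker _ (r.2.trans ((QuotientGroup.eq_one_iff _).2 hC)) with q | q
    · exact eq_inv_of_mul_eq_one_left q
    · exfalso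
      have e1 : f * k * f⁻¹ = a * k⁻¹ := eq_mul_inv_of_mul_eq q
      have e2 : (f * k * f⁻¹) ^ 3 = 1 := by rw [conj_pow, hk3]; group
      rw [e1, (hka.symm.inv_right).mul_pow, inv_pow, hk3, inv_one, mul_one, pow_succ, pow_two, h.tt.sq a ha,
        one_mul] at e2
      exact h.ne_one a ha e2
  have hwk : w * k * w⁻¹ = k⁻¹ := inv_of rw' hBA
  have hwk' : w⁻¹ * k * w = k⁻¹ := by
    have : w⁻¹ * (w * k * w⁻¹)⁻¹ * w = w⁻¹ * k⁻¹⁻¹ * w := by rw [hwk]
    rw [show w⁻¹ * (w * k * w⁻¹)⁻¹ * w = k⁻¹ by group, inv_inv] at this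
    exact this.symm
  have hg₁x : g₁ * x₀ * g₁⁻¹ = x₀ := hx₁₀
  set g' := w * g₁ * w⁻¹
  have c1 : ∀ z, g' * z * g'⁻¹ = w * (g₁ * (w⁻¹ * z * w) * g₁⁻¹) * w⁻¹ := fun z => by simp only [g']; group
  have wia : w⁻¹ * a * w = a := by
    have := hwa.inv_left
    rw [this.eq, inv_mul_cancel_right]
  have wib : w⁻¹ * b * w = x₀ := by rw [← hwx]; group
  have wix : w⁻¹ * x₀ * w = b := by rw [← hwb]; group
  have g'a : g' * a * g'⁻¹ = x₀ := by rw [c1, wia, hg₁a, hwb]
  have g'b : g' * b * g'⁻¹ = b := by rw [c1, wib, hg₁x, hwx]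
  have g'x : g' * x₀ * g'⁻¹ = a := by rw [c1, wix, hg₁b, fix_of_commute hwa]
  have g'k : g' * k * g'⁻¹ = k := by
    rw [c1, hwk', show g₁ * k⁻¹ * g₁⁻¹ = (g₁ * k * g₁⁻¹)⁻¹ by group, hg₁k,
      show w * k⁻¹ * w⁻¹ = (w * k * w⁻¹)⁻¹ by group, hwk, inv_inv]
  set m := g' * g₁ * g'⁻¹
  have c2 : ∀ z, m * z * m⁻¹ = g' * (g₁ * (g'⁻¹ * z * g') * g₁⁻¹) * g'⁻¹ := fun z => by simp only [m]; group
  have iv : ∀ {s t : G}, g' * s * g'⁻¹ = t → g'⁻¹ * t * g' = s := fun {s t} q => by rw [← q]; group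
  have ma : m * a * m⁻¹ = a := by rw [c2, iv g'x, hg₁x, g'x]
  have mb : m * b * m⁻¹ = x₀ := by rw [c2, iv g'b, hg₁b, g'a]
  have mx : m * x₀ * m⁻¹ = b := by rw [c2, iv g'a, hg₁a, g'b]
  have mk' : m * k * m⁻¹ = k := by rw [c2, iv g'k, hg₁k, g'k]
  set f := m * w
  have c3 : ∀ z, f * z * f⁻¹ = m * (w * z * w⁻¹) * m⁻¹ := fun z => by simp only [f]; group
  have fa : Commute f a := commute_of_fix (by rw [c3, fix_of_commute hwa, ma])
  have fb : Commute f b := commute_of_fix (by rw [c3, hwb, mx])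
  have fx : Commute f x₀ := commute_of_fix (by rw [c3, hwx, mb])
  have fk : f * k * f⁻¹ = k⁻¹ := by
    rw [c3, hwk, show m * k⁻¹ * m⁻¹ = (m * k * m⁻¹)⁻¹ by group, mk']
  obtain ⟨C, rf⟩ := lift_exists (φ := φ) (PairData.mem_hsub_of h d fa)
  refine SixTwo.no_invert hF hω0 hω1 d.frame.pp hxpt hAp hAx
    ((d.model.fix_iff h.tt rf d.memB d.frame.pp d.rb).1 fb) ((d.model.fix_iff h.tt rf hx0n hxpt rx₀).1 fx) ?_
  have r := (((rf.mul rk).mul rf.inv).mul rk)
  refine (QuotientGroup.eq_one_iff _).1 (r.2.symm.trans ?_)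
  rw [show (⟨f * k * f⁻¹ * k, r.1⟩ : ↥(hsub D a)) = 1 from Subtype.ext (show f * k * f⁻¹ * k = 1 by rw [fk, inv_mul_cancel]),
    map_one]

/-- The structure of the centraliser of the product modulo the kernel. -/
theorem pair_quot (ha : a ∈ D) (hb : b ∈ nb D a) :
    ∃ (_ : ((fibreKer h.tt a b).subgroupOf (Subgroup.centralizer ({a * b} : Set G))).Normal) (F : Type)
      (_ : Field F) (_ : Fintype F), Fintype.card F = 4 ∧
      Nonempty (↥(Subgroup.centralizer ({a * b} : Set G)) ⧸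
        (fibreKer h.tt a b).subgroupOf (Subgroup.centralizer ({a * b} : Set G)) ≃* MulAut (Cfsg.PSU 4 F 2)) := by
  classical
  obtain ⟨cC, cK, cE, hEK, hKC, hVE⟩ := pair_orders h hprim ht ha hb
  obtain ⟨F, _, _, _, hF, φ, ω, e, hω0, hω1, d, he0⟩ := exists_pair_data h hprim ht ha hb
  have hF4 : Fintype.card F = 4 := by rw [← Nat.card_eq_fintype_card, hF]; rfl
  set C := Subgroup.centralizer ({a * b} : Set G) with hCdef
  set K := Subgroup.centralizer ({a, b} : Set G)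
  set E := fibreKer h.tt a b
  have hn : (E.subgroupOf C).Normal :=
    ⟨fun x hx c => fibreKer_conj (hD := h.tt) ((mem_cent_prod_iff h ha hb).1 c.2) hx⟩
  refine ⟨hn, F, inferInstance, inferInstance, hF4, ?_⟩
  haveI := hn
  set π := QuotientGroup.mk' (E.subgroupOf C)
  set Kc := K.subgroupOf C
  haveI hKn : Kc.Normal := by
    refine ⟨fun x hx c => ?_⟩
    obtain ⟨x1, x2⟩ := mem_pair_centralizer.1 (show (x : G) ∈ K from hx)
    have i1 := (commute_conj_iff (c : G) (x : G) a).2 x1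
    have i2 := (commute_conj_iff (c : G) (x : G) b).2 x2
    refine mem_pair_centralizer.2 ?_
    rcases (mem_cent_prod_iff h ha hb).1 c.2 with ⟨e1, e2⟩ | ⟨e1, e2⟩ <;> rw [e1] at i1 <;> rw [e2] at i2
    exacts [⟨i1, i2⟩, ⟨i2, i1⟩]
  set Kq := Kc.map π with hKq
  haveI : Kq.Normal := hKn.map π (QuotientGroup.mk'_surjective _)
  have cardKq : Nat.card Kq = 25920 := by
    set f := π.comp Kc.subtype
    have hr : f.range = Kq := by rw [MonoidHom.range_comp, Subgroup.range_subtype]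
    have hk : f.ker = (E.subgroupOf C).subgroupOf Kc := by
      ext x
      rw [MonoidHom.mem_ker, Subgroup.mem_subgroupOf]
      exact QuotientGroup.eq_one_iff _
    have e1 := Subgroup.index_mul_card f.ker
    rw [Subgroup.index_ker, hr, hk,
      Nat.card_congr (Subgroup.subgroupOfEquivOfLe (show E.subgroupOf C ≤ Kc from fun x hx => hEK hx)).toEquiv,
      Nat.card_congr (Subgroup.subgroupOfEquivOfLe (hEK.trans hKC)).toEquiv, cE,
      Nat.card_congr (Subgroup.subgroupOfEquivOfLe hKC).toEquiv, cK] at e1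
    omega
  -- the embedded unitary group
  obtain ⟨ι, hfix, hcen⟩ := SixTwo.exists_embed_four hF
  choose σ rσ using fun A => d.model.elem (ι A)
  have hσb : ∀ A, Commute (σ A) b := fun A => (d.model.fix_iff h.tt (rσ A) hb d.frame.pp d.rb).2
    (by rw [hfix A _ (by simp [SixTwo.baseP]) (by simp [SixTwo.baseP]) (by simp [SixTwo.baseP])
      (by simp [SixTwo.baseP])])
  have hσK : ∀ A, σ A ∈ K := fun A => mem_pair_centralizer.2 ⟨commute_hsub (rσ A).1, hσb A⟩
  let η : Cfsg.SU 4 F 2 → ↥Kq := fun A =>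
    ⟨π ⟨σ A, hKC (hσK A)⟩, ⟨⟨σ A, hKC (hσK A)⟩, hσK A, rfl⟩⟩
  have hη : ∀ A B, η (A * B) = η A * η B := by
    intro A B
    refine Subtype.ext ?_
    show π _ = π _ * π _
    rw [← map_mul]
    refine QuotientGroup.eq.2 ?_
    show (σ (A * B))⁻¹ * (σ A * σ B) ∈ E
    have r := (rσ (A * B)).inv.mul ((rσ A).mul (rσ B))
    rcases d.model.ker _ (r.2.trans (by rw [← map_mul ι, inv_mul_cancel, map_one])) with q | q
    · rw [show (σ (A * B))⁻¹ * (σ A * σ B) = 1 from q]; exact one_mem _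
    · rw [show (σ (A * B))⁻¹ * (σ A * σ B) = a from q]; exact hVE (Subgroup.subset_closure (by simp))
  let θ : Cfsg.SU 4 F 2 →* ↥Kq := MonoidHom.mk' η hη
  have hθ : Function.Injective θ := by
    rw [injective_iff_map_eq_one]
    intro A hA
    have hE : σ A ∈ E := (QuotientGroup.eq_one_iff (⟨σ A, hKC (hσK A)⟩ : ↥C)).1 (congrArg Subtype.val hA)
    obtain ⟨c, hc, -, rc⟩ := far_elem h d
    have hgc : Commute (σ A) c := (d.model.fix_iff h.tt (rσ A) hc d.frame.qq rc).2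
      (by rw [hfix A _ (by simp [SixTwo.baseQ]) (by simp [SixTwo.baseQ]) (by simp [SixTwo.baseQ])
        (by simp [SixTwo.baseQ])])
    refine hcen A ((QuotientGroup.eq_one_iff (ι A)).1 ?_)
    rcases fibre_stab h d hc rc hE hgc with q | q
    · have := (rσ A).2
      rw [show (⟨σ A, (rσ A).1⟩ : ↥(hsub D a)) = 1 from Subtype.ext q, map_one] at this
      exact this.symm
    · have := (rσ A).2
      rw [show (⟨σ A, (rσ A).1⟩ : ↥(hsub D a)) = ⟨a, (lift_self h d).1⟩ from Subtype.ext q, (lift_self h d).2,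
        map_one] at this
      exact this.symm
  obtain ⟨cP, hsP⟩ := PairStab.card_psu_four hF4
  haveI := hsP
  have hle : Nat.card (Cfsg.SU 4 F 2) ≤ 25920 := cardKq ▸ Nat.card_le_card_of_injective θ hθ
  have hZ1 : Nat.card (Subgroup.center (Cfsg.SU 4 F 2)) = 1 := by
    have e1 := Subgroup.card_eq_card_quotient_mul_card_subgroup (Subgroup.center (Cfsg.SU 4 F 2))
    rw [show Nat.card (↥(Cfsg.SU 4 F 2) ⧸ Subgroup.center (Cfsg.SU 4 F 2)) = 25920 from cP] at e1
    rw [e1] at hle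
    have : 0 < Nat.card (Subgroup.center (Cfsg.SU 4 F 2)) := Nat.card_pos
    omega
  let eP : Cfsg.PSU 4 F 2 ≃* Cfsg.SU 4 F 2 :=
    (QuotientGroup.quotientMulEquivOfEq (Subgroup.card_eq_one.1 hZ1)).trans QuotientGroup.quotientBot
  have hb' : Function.Bijective θ := (Nat.bijective_iff_injective_and_card θ).2
    ⟨hθ, by rw [cardKq, ← Nat.card_congr eP.toEquiv, cP]⟩
  let eK : ↥Kq ≃* Cfsg.PSU 4 F 2 := (eP.trans (MulEquiv.ofBijective θ hb')).symm
  have hcK : Subgroup.center ↥Kq = ⊥ := by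
    rw [Subgroup.eq_bot_iff_forall]
    intro z hz
    have : eK z ∈ Subgroup.center (Cfsg.PSU 4 F 2) := Subgroup.mem_center_iff.2 fun w => by
      obtain ⟨v, rfl⟩ := eK.surjective w
      rw [← map_mul, ← map_mul, Subgroup.mem_center_iff.1 hz v]
    rw [(center_psu_four hF4).1, Subgroup.mem_bot] at this
    exact eK.injective (this.trans (map_one eK).symm)
  let ρ : ↥C ⧸ E.subgroupOf C →* MulAut ↥Kq := MulAut.conjNormal
  have hρ : Function.Injective ρ := by
    rw [injective_iff_map_eq_one]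
    intro q hq
    obtain ⟨c, rfl⟩ := QuotientGroup.mk'_surjective (E.subgroupOf C) q
    have hcomm : ∀ w ∈ Kq, Commute (π c) w := fun w hw => by
      have := congrArg Subtype.val (DFunLike.congr_fun hq ⟨w, hw⟩)
      rw [MulAut.conjNormal_apply, MulAut.one_apply] at this
      exact mul_inv_eq_iff_eq_mul.1 this
    rcases (mem_cent_prod_iff h ha hb).1 c.2 with ⟨e1, e2⟩ | ⟨e1, e2⟩
    · have hcK' : c ∈ Kc := mem_pair_centralizer.2 ⟨commute_of_fix e1, commute_of_fix e2⟩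
      have hc1 : (⟨π c, c, hcK', rfl⟩ : ↥Kq) ∈ Subgroup.center ↥Kq :=
        Subgroup.mem_center_iff.2 fun w => Subtype.ext (hcomm w w.2).symm
      rw [hcK, Subgroup.mem_bot] at hc1
      exact congrArg Subtype.val hc1
    · exfalso
      refine swap_false h hprim ht ha hb e1 e2 fun k hka hkb => ?_
      have hk : k ∈ K := mem_pair_centralizer.2 ⟨hka, hkb⟩
      have := hcomm (π ⟨k, hKC hk⟩) ⟨⟨k, hKC hk⟩, hk, rfl⟩
      have e3 : π (c * ⟨k, hKC hk⟩ * c⁻¹ * ⟨k, hKC hk⟩⁻¹) = 1 := by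
        rw [map_mul, map_mul, map_mul, map_inv, map_inv, this.eq]; group
      exact MonoidHom.mem_ker.2 e3 |> (QuotientGroup.ker_mk' (E.subgroupOf C)).le
  have hcard : Nat.card (↥C ⧸ E.subgroupOf C) = Nat.card (MulAut ↥Kq) := by
    have e1 := Subgroup.card_eq_card_quotient_mul_card_subgroup (E.subgroupOf C)
    rw [Nat.card_congr (Subgroup.subgroupOfEquivOfLe (hEK.trans hKC)).toEquiv, cE, cC] at e1
    rw [Nat.card_congr (MulAut.congr eK).toEquiv,
      Cfsg.Agent.S0815.result (F := F) 2 1 le_rfl (q := 2) rfl (by rw [hF4]; rfl) 4 (by norm_num) (by omega), cP]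
    norm_num
    omega
  exact ⟨(MulEquiv.ofBijective ρ ((Nat.bijective_iff_injective_and_card ρ).2 ⟨hρ, hcard⟩)).trans (MulAut.congr eK)⟩

/-- The centraliser of the kernel is the pair. -/
theorem cent_fibre (ha : a ∈ D) (hb : b ∈ nb D a) {c : G} (hc : c ∈ Subgroup.centralizer ({a * b} : Set G))
    (hE : ∀ x ∈ fibreKer h.tt a b, Commute c x) : c ∈ Subgroup.closure ({a, b} : Set G) := by
  classical
  obtain ⟨F, _, _, _, hF, φ, ω, e, hω0, hω1, d, he0⟩ := exists_pair_data h hprim ht ha hb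
  obtain ⟨-, -, -, -, -, hVE⟩ := pair_orders h hprim ht ha hb
  have core : ∀ k, Commute k a → Commute k b → (∀ x ∈ fibreKer h.tt a b, Commute k x) →
      k ∈ Subgroup.closure ({a, b} : Set G) := by
    intro k ka kb kE
    refine cent_common h d ka kb fun x hx => ?_
    obtain ⟨u, hu, ru, hup, hne⟩ := common_rep h d hx
    have hswap : ∀ t : F, t ≠ 0 → ∃ x', x' ≠ x ∧ Rep hF φ x' (u + t • SixTwo.baseP) ∧ x' ∈ common D a b ∧
        (k * x * k⁻¹ = x ∨ k * x * k⁻¹ = x') := by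
      intro t ht0
      obtain ⟨y, hy, x', hx', ry, rx', s, hne', hxy⟩ := translation h d hu hup hne t
      obtain rfl : y = x := d.model.rep_inj (common_nb h d hy) (common_nb h d hx) ry ru rfl
      refine ⟨x', hne' ht0, rx', hx', ?_⟩
      have hmem : x' * y ∈ fibreKer h.tt a b := by
        rw [(fibre_gen h d).2]
        exact Subgroup.subset_closure (Or.inl ⟨y, hy, x', hx', s, rfl⟩)
      have hprod : k * y * k⁻¹ * (k * x' * k⁻¹) = y * x' := by
        rw [show k * y * k⁻¹ * (k * x' * k⁻¹) = k * (y * x') * k⁻¹ by group, hxy.symm.eq,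
          fix_of_commute (kE _ hmem)]
      have hu := uniq_two h.tt h.twinFree h.ne_one (l := [k * y * k⁻¹, k * x' * k⁻¹]) (l' := [y, x'])
        ⟨by simpa using fun q => hne' ht0 q.symm, rfl, by
          simpa using ⟨h.tt.conj k y hy.1, h.tt.conj k x' hx'.1⟩, by
          simpa [commute_conj_iff] using ⟨hxy.symm, hxy⟩⟩
        ⟨by simpa using (hne' ht0).symm, rfl, by simpa using ⟨hy.1, hx'.1⟩, by simpa using ⟨hxy.symm, hxy⟩⟩
        (by simpa using hprod)
      simpa using (hu (k * y * k⁻¹)).1 (by simp)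
    obtain ⟨x1, n1, r1, hx1, q1⟩ := hswap 1 one_ne_zero
    obtain ⟨x2, n2, r2, hx2, q2⟩ := hswap ω hω0
    refine commute_of_fix (q1.resolve_right fun q => ?_)
    rcases q2 with q' | q'
    · exact n1 (q.symm.trans q')
    have e12 : x1 = x2 := q.symm.trans q'
    subst e12
    have hu1 : ∀ s : F, SixTwo.IsPt (u + s • SixTwo.baseP) := fun s =>
      ⟨fun r => hne (by
        have hu' : u = (-s) • SixTwo.baseP := by rw [neg_smul]; exact eq_neg_of_add_eq_zero_left r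
        have hs : (-s) ≠ 0 := fun r' => hu.1 (by rw [hu', r', zero_smul])
        rw [hu', SixTwo.tv_smul hF d.frame.pp.2 hs]), SixTwo.iso_shift hF hu.2 d.frame.pp.2 hup s⟩
    obtain ⟨c', hc'⟩ := SixTwo.tv_eq_smul hF (hu1 ω) (hu1 1) (r2.same r1 (hu1 ω) (hu1 1))
    by_cases hc1 : c' = 1
    · rw [hc1, one_smul] at hc'
      exact hω1 (smul_left_injective F d.frame.pp.1 (add_left_cancel hc'))
    · have e3 : (c' - 1) • u = (ω - c') • (SixTwo.baseP : Fin 6 → F) := by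
        rw [one_smul, smul_add] at hc'
        rw [sub_smul, sub_smul, one_smul, sub_eq_sub_iff_add_eq_add, ← hc']
        abel
      have e4 : u = ((c' - 1)⁻¹ * (ω - c')) • (SixTwo.baseP : Fin 6 → F) := by
        rw [mul_smul, ← e3, smul_smul, inv_mul_cancel₀ (sub_ne_zero.2 hc1), one_smul]
      refine hne ?_
      rw [e4, SixTwo.tv_smul hF d.frame.pp.2 fun r => hu.1 (by rw [e4, r, zero_smul])]
  rcases (mem_cent_prod_iff h ha hb).1 hc with ⟨e1, e2⟩ | ⟨e1, e2⟩
  · exact core c (commute_of_fix e1) (commute_of_fix e2) hE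
  · exfalso
    refine swap_false h hprim ht ha hb e1 e2 fun k hka hkb => hVE ?_
    have i1 : Commute (c * k * c⁻¹) a := by
      have := (commute_conj_iff c k b).2 hkb
      rwa [e2] at this
    have i2 : Commute (c * k * c⁻¹) b := by
      have := (commute_conj_iff c k a).2 hka
      rwa [e1] at this
    refine core _ (i1.mul_left hka.inv_left) (i2.mul_left hkb.inv_left) fun x hx => ?_
    have hy := fibreKer_conj (pairNorm_of_fix hka hkb).inv hx
    refine commute_of_fix ?_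
    calc c * k * c⁻¹ * k⁻¹ * x * (c * k * c⁻¹ * k⁻¹)⁻¹
        = c * (k * (c⁻¹ * (k⁻¹ * x * k⁻¹⁻¹) * c⁻¹⁻¹) * k⁻¹) * c⁻¹ := by group
      _ = c * x * c⁻¹ := by rw [fix_of_commute (hE _ hy).inv_left]; group
      _ = x := fix_of_commute (hE x hx)

/-- The kernel is the 2-radical. -/
theorem pCore_pair (ha : a ∈ D) (hb : b ∈ nb D a) :
    Cfsg.pCore 2 ↥(Subgroup.centralizer ({a * b} : Set G)) =
      (fibreKer h.tt a b).subgroupOf (Subgroup.centralizer ({a * b} : Set G)) := by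
  obtain ⟨hn, F, _, _, hF4, ⟨e⟩⟩ := pair_quot h hprim ht ha hb
  obtain ⟨-, -, cE, hEK, hKC, -⟩ := pair_orders h hprim ht ha hb
  set C := Subgroup.centralizer ({a * b} : Set G)
  set EC := (fibreKer h.tt a b).subgroupOf C
  haveI := hn
  refine le_antisymm (sSup_le fun N hN => ?_) (le_sSup ⟨hn, IsPGroup.of_card (n := 10) ?_⟩)
  · obtain ⟨hNn, hN2⟩ := hN
    obtain ⟨hc, hs⟩ := PairStab.card_psu_four hF4
    haveI := hs
    have hbot := PairStab.normal_two_bot (center_psu_four hF4).2 (center_psu_four hF4).1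
      (M := N.map (e.toMonoidHom.comp (QuotientGroup.mk' EC)))
      (hNn.map _ (e.surjective.comp (QuotientGroup.mk'_surjective EC))) (hN2.map _)
    rw [Subgroup.map_eq_bot_iff] at hbot
    intro x hx
    have := hbot hx
    rw [MonoidHom.mem_ker, MonoidHom.comp_apply, MulEquiv.coe_toMonoidHom, MulEquiv.map_eq_one_iff] at this
    exact (QuotientGroup.eq_one_iff x).1 this
  · rw [Nat.card_congr (Subgroup.subgroupOfEquivOfLe (hEK.trans hKC)).toEquiv, cE]
    norm_num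

end CfsgLib.ThreeT.Prod
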