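import Cfsg.Agent.Spor3T.HexadUnique

/-!
Transitivity on commuting pairs; all permutations of a commuting triple in type M(23).
-/

set_option autoImplicit false
set_option linter.unusedSectionVars false
set_option linter.style.haveILetI false

namespace CfsgLib.ThreeT.Prod

variable {G : Type*} [Group G] {D : Set G} {d : G}

/-- Distinct commuting members have a common non-commuting member. -/
def HasBridge (D : Set G) : Prop := ∀ a ∈ D, ∀ b ∈ D, a ≠ 1 → b ≠ 1 → a ≠ b → Commute a b →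
  ∃ e ∈ D, ¬ Commute a e ∧ ¬ Commute b e

theorem nb_conj (hD : TT0 D) {a b g : G} (hb : b ∈ D) (hba : b ≠ a) (hab : Commute a b)
    (hg : g * a * g⁻¹ = d) : g * b * g⁻¹ ∈ nb D d := by
  refine ⟨hD.conj g b hb, fun e => hba ?_, ?_⟩
  · rw [← hg] at e
    exact mul_left_cancel (mul_right_cancel e)
  · rw [← hg]; exact (commute_conj_iff g a b).2 hab

theorem pair_transitive [Finite G] (hD : TT0 D) (hcj : ConjD D) (htf : TwinFree D) (hd : d ∈ D)
    (hd1 : d ≠ 1) (hcK : ConjD (img D d)) {a b x y : G} (ha : a ∈ D) (hb : b ∈ D) (hx : x ∈ D)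
    (hy : y ∈ D) (ha1 : a ≠ 1) (hb1 : b ≠ 1) (hx1 : x ≠ 1) (hy1 : y ≠ 1) (hba : b ≠ a)
    (hyx : y ≠ x) (hab : Commute a b) (hxy : Commute x y) :
    ∃ g : G, g * a * g⁻¹ = x ∧ g * b * g⁻¹ = y := by
  obtain ⟨k, hk⟩ := hcj a ha d hd ha1 hd1
  obtain ⟨l, hl⟩ := hcj x hx d hd hx1 hd1
  have hB := nb_conj hD hb hba hab hk
  have hY := nb_conj hD hy hyx hxy hl
  set B : ↥(hsub D d) := ⟨k * b * k⁻¹, Subgroup.subset_closure hB⟩
  set Y : ↥(hsub D d) := ⟨l * y * l⁻¹, Subgroup.subset_closure hY⟩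
  have hB1 : k * b * k⁻¹ ≠ 1 := fun e => hb1 (conj_eq_one_iff.1 e)
  have hY1 : l * y * l⁻¹ ≠ 1 := fun e => hy1 (conj_eq_one_iff.1 e)
  obtain ⟨q, hq⟩ := hcK _ ⟨B, hB, rfl⟩ _ ⟨Y, hY, rfl⟩
    (fun e => not_central hD hcj htf hd hd1 hB hB1 fun z hz => central_of_mk_eq_one (x := B) e hz)
    (fun e => not_central hD hcj htf hd hd1 hY hY1 fun z hz => central_of_mk_eq_one (x := Y) e hz)
  obtain ⟨h, rfl⟩ := QuotientGroup.mk_surjective q
  rw [← QuotientGroup.mk_inv, ← QuotientGroup.mk_mul, ← QuotientGroup.mk_mul] at hq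
  have hhd : (h : G) * d * (h : G)⁻¹ = d := by
    rw [(commute_hsub h.2).eq, mul_inv_cancel_right]
  have hB' : (h : G) * (k * b * k⁻¹) * (h : G)⁻¹ ∈ nb D d :=
    nb_conj hD hB.1 hB.2.1 hB.2.2 hhd
  have heq : (h : G) * (k * b * k⁻¹) * (h : G)⁻¹ = l * y * l⁻¹ := by
    by_contra hne
    exact not_central hD hcj htf hd hd1 hY hY1 fun z hz =>
      central_of_mk_eq hD (x := Y) (y := h * B * h⁻¹) hY hB' (fun e => hne e.symm) hq.symm hz
  refine ⟨l⁻¹ * h * k, ?_, ?_⟩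
  · calc l⁻¹ * h * k * a * (l⁻¹ * h * k)⁻¹
        = l⁻¹ * ((h : G) * (k * a * k⁻¹) * (h : G)⁻¹) * l := by group
      _ = l⁻¹ * (l * x * l⁻¹) * l := by rw [hk, hhd, hl]
      _ = x := by group
  · calc l⁻¹ * h * k * b * (l⁻¹ * h * k)⁻¹
        = l⁻¹ * ((h : G) * (k * b * k⁻¹) * (h : G)⁻¹) * l := by group
      _ = l⁻¹ * (l * y * l⁻¹) * l := by rw [heq]
      _ = y := by group

theorem hasBridge [Finite G] (hD : TT0 D) (hF : Facts D) : HasBridge D := by
  intro a ha b hb ha1 hb1 hab hcab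
  by_contra hno
  push Not at hno
  obtain ⟨d, hd, hd1, -, hcK⟩ := hF.point
  refine (hF.indec {x | x ∈ D ∧ (x = a ∨ ¬ Commute a x)} {x | x ∈ D ∧ ¬ (x = a ∨ ¬ Commute a x)}
    (by ext x; simp only [Set.mem_union, Set.mem_ofPred_eq]; tauto) ?_).elim (fun h => ?_)
    (fun h => ?_)
  rotate_left
  · have := h ⟨ha, Or.inl rfl⟩
    rw [hF.center] at this
    exact ha1 this
  · have := h ⟨hb, fun e => e.elim (fun e => hab e.symm) (fun e => e hcab)⟩
    rw [hF.center] at this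
    exact hb1 this
  · rintro u ⟨hu, hua⟩ v ⟨hv, hva⟩
    simp only [not_or, not_not] at hva
    by_contra huv
    rcases hua with rfl | hua
    · exact huv hva.2
    obtain ⟨g, hga, hgb⟩ := pair_transitive hD hF.conjD hF.twinFree hd hd1 hcK ha hb ha hv ha1 hb1
      ha1 (ne_one_right huv) (Ne.symm hab) hva.1 hcab hva.2
    have hu' := hD.conj g⁻¹ u hu
    have e : g * (g⁻¹ * u * g⁻¹⁻¹) * g⁻¹ = u := by group
    have h1 := hno _ hu' fun h2 => hua (by
      have := (commute_conj_iff g _ _).2 h2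
      rwa [hga, e] at this)
    have := (commute_conj_iff g _ _).2 h1
    rw [hgb, e] at this
    exact huv this.symm

theorem swap_conj (hD : TT0 D) {a b e : G} (ha : a ∈ D) (hb : b ∈ D) (he : e ∈ D)
    (hab : Commute a b) (hae : ¬ Commute a e) (hbe : ¬ Commute b e) :
    (e * a * b * e) * a * (e * a * b * e)⁻¹ = b := by
  have h1 : a * b * a = b := by rw [hab.eq, mul_assoc, hD.sq a ha, mul_one]
  calc (e * a * b * e) * a * (e * a * b * e)⁻¹ = e * a * b * (e * a * e) * b * a * e := by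
        rw [mul_inv_rev, mul_inv_rev, mul_inv_rev, hD.inv ha, hD.inv hb, hD.inv he]; group
    _ = e * (a * b * a) * e * (a * b * a) * e := by
        rw [← braid0 hD ha he hae]; group
    _ = (e * b * e) * b * e := by rw [h1]
    _ = b := by
        rw [← braid0 hD hb he hbe, mul_assoc (b * e) b b, hD.sq b hb, mul_one, mul_assoc,
          hD.sq e he, mul_one]

/-- An element swapping two members of a commuting triple and fixing the third. -/
theorem exists_swap [Finite G] (hD : TT0 D) (hcj : ConjD D) (htf : TwinFree D) (hd : d ∈ D)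
    (hd1 : d ≠ 1) (hK : Facts (img D d)) {a b c : G} (ha : a ∈ D) (hb : b ∈ D) (hc : c ∈ D)
    (ha1 : a ≠ 1) (hb1 : b ≠ 1) (hc1 : c ≠ 1) (hab : a ≠ b) (hac : a ≠ c) (hbc : b ≠ c)
    (cab : Commute a b) (cac : Commute a c) (cbc : Commute b c) :
    ∃ g : G, g * a * g⁻¹ = b ∧ g * b * g⁻¹ = a ∧ g * c * g⁻¹ = c := by
  obtain ⟨k, hk⟩ := hcj c hc d hd hc1 hd1
  have hA := nb_conj hD ha hac cac.symm hk
  have hB := nb_conj hD hb hbc cbc.symm hk
  set A : ↥(hsub D d) := ⟨k * a * k⁻¹, Subgroup.subset_closure hA⟩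
  set B : ↥(hsub D d) := ⟨k * b * k⁻¹, Subgroup.subset_closure hB⟩
  have hA1 : k * a * k⁻¹ ≠ 1 := fun e => ha1 (conj_eq_one_iff.1 e)
  have hB1 : k * b * k⁻¹ ≠ 1 := fun e => hb1 (conj_eq_one_iff.1 e)
  have hAB : k * a * k⁻¹ ≠ k * b * k⁻¹ := fun e => hab (mul_left_cancel (mul_right_cancel e))
  have hcAB : Commute (k * a * k⁻¹) (k * b * k⁻¹) := (commute_conj_iff k a b).2 cab
  obtain ⟨_, ⟨E, hE, rfl⟩, hAE, hBE⟩ := hasBridge (img_tt0 hD) hK _ ⟨A, hA, rfl⟩ _ ⟨B, hB, rfl⟩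
    (fun e => not_central hD hcj htf hd hd1 hA hA1 fun z hz => central_of_mk_eq_one (x := A) e hz)
    (fun e => not_central hD hcj htf hd hd1 hB hB1 fun z hz => central_of_mk_eq_one (x := B) e hz)
    (fun e => not_central hD hcj htf hd hd1 hA hA1 fun z hz =>
      central_of_mk_eq hD (x := A) (y := B) hA hB hAB e hz)
    ((map_commute_iff hD (x := A) (y := B) hA hB).2 hcAB)
  rw [map_commute_iff hD hA hE] at hAE
  rw [map_commute_iff hD hB hE] at hBE
  set a' := k * a * k⁻¹ with hadef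
  set b' := k * b * k⁻¹ with hbdef
  set e := (E : G) with hedef
  set g := e * a' * b' * e with hgdef
  have hga : g * a' * g⁻¹ = b' := swap_conj hD hA.1 hB.1 hE.1 hcAB hAE hBE
  have hgb : g * b' * g⁻¹ = a' := by
    have := swap_conj hD hB.1 hA.1 hE.1 hcAB.symm hBE hAE
    rwa [mul_assoc e b' a', ← hcAB.eq, ← mul_assoc e a' b'] at this
  have hgd : g * d * g⁻¹ = d := by
    have : Commute g d :=
      ((hE.2.2.symm.mul_left hA.2.2.symm).mul_left hB.2.2.symm).mul_left hE.2.2.symm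
    rw [this.eq, mul_inv_cancel_right]
  refine ⟨k⁻¹ * g * k, ?_, ?_, ?_⟩
  · calc k⁻¹ * g * k * a * (k⁻¹ * g * k)⁻¹ = k⁻¹ * (g * (k * a * k⁻¹) * g⁻¹) * k := by group
      _ = k⁻¹ * (k * b * k⁻¹) * k := by rw [← hadef, hga]
      _ = b := by group
  · calc k⁻¹ * g * k * b * (k⁻¹ * g * k)⁻¹ = k⁻¹ * (g * (k * b * k⁻¹) * g⁻¹) * k := by group
      _ = k⁻¹ * (k * a * k⁻¹) * k := by rw [← hbdef, hgb]
      _ = a := by group
  · calc k⁻¹ * g * k * c * (k⁻¹ * g * k)⁻¹ = k⁻¹ * (g * (k * c * k⁻¹) * g⁻¹) * k := by group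
      _ = k⁻¹ * (k * c * k⁻¹) * k := by rw [hk, hgd]
      _ = c := by group

end CfsgLib.ThreeT.Prod
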