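import Cfsg.Agent.Spor3T.M22PairQuot
import Cfsg.Agent.LargeExtra.SimpleCriterion

/-!
Type M(22): the 2-radical of the centraliser of a product of two members is `2 × 2^{1+8}`.
-/

set_option autoImplicit false
set_option linter.unusedSectionVars false
set_option linter.style.haveILetI false

namespace CfsgLib.ThreeT.Prod

open CfsgLib

variable {G : Type*} [Group G] [Finite G] {D : Set G} {a b : G}
  (h : Geo22 D) (hprim : Cfsg.IsPrimitiveUnderConj D) (ht : Cfsg.IsOfTypeM22 G D)

include h hprim ht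

theorem pair_split (ha : a ∈ D) (hb : b ∈ nb D a) :
    ∃ (E : Type) (_ : Group E) (_ : Finite E), Cfsg.IsExtraspecial 2 E ∧ Nat.card E = 2 ^ 9 ∧
      Nonempty (↥(fibreKer h.tt a b) ≃* Multiplicative (ZMod 2) × E) := by
  classical
  obtain ⟨cC, cK, cE, hEK, hKC, hVE⟩ := pair_orders h hprim ht ha hb
  obtain ⟨F, _, _, _, hF, φ, ω, e, -, -, d, -⟩ := exists_pair_data h hprim ht ha hb
  set E := fibreKer h.tt a b
  have hab : Commute a b := hb.2.2
  have haa := h.tt.sq a ha
  have hbb := h.tt.sq b hb.1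
  have hcentral : ∀ x ∈ E, Commute x a ∧ Commute x b := fun x hx => ⟨hx.1, hx.2.1⟩
  have hzc : ∀ x ∈ E, Commute x (a * b) := fun x hx => (hcentral x hx).1.mul_right (hcentral x hx).2
  have hzz : a * b * (a * b) = 1 := by
    rw [show a * b * (a * b) = a * (b * a) * b by group, hab.symm.eq,
      show a * (a * b) * b = a * a * (b * b) by group, haa, hbb, one_mul]
  have hza : a * b ≠ a := fun q => h.ne_one b hb.1 (mul_left_cancel (q.trans (mul_one a).symm))
  have hz1 : a * b ≠ 1 := fun q => hb.2.1 (by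
    calc b = a * a * b := by rw [haa, one_mul]
      _ = a := by rw [mul_assoc, q, mul_one])
  have hsq : ∀ x ∈ E, x * x = 1 ∨ x * x = a * b := by
    intro x hx
    have hxa : x ∈ hsub D a := by
      rw [(centralizer_eq h ha).1]; exact Subgroup.mem_centralizer_singleton_iff.2 (hcentral x hx).1
    have hxb : x ∈ hsub D b := by
      rw [(centralizer_eq h hb.1).1]; exact Subgroup.mem_centralizer_singleton_iff.2 (hcentral x hx).2
    rcases mem_closure_pair haa hbb hab (fibre_sq h d hx) with r | r | r | r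
    · exact Or.inl r
    · exact absurd r (no_root h hprim ht ha hxa)
    · exact absurd r (no_root h hprim ht hb.1 hxb)
    · exact Or.inr r
  -- a complement to `a`
  let Pr : Subgroup G → Prop := fun S => S ≤ E ∧ a * b ∈ S ∧ a ∉ S
  have hP0 : Pr (Subgroup.zpowers (a * b)) := by
    refine ⟨Subgroup.zpowers_le.2 (hVE (mul_mem (Subgroup.subset_closure (by simp))
      (Subgroup.subset_closure (by simp)))), Subgroup.mem_zpowers _, fun hm => ?_⟩
    obtain ⟨n, hn⟩ := Subgroup.mem_zpowers_iff.1 hm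
    rcases Int.even_or_odd n with ⟨m, rfl⟩ | ⟨m, rfl⟩
    · rw [← two_mul, zpow_mul, show (a * b) ^ (2 : ℤ) = 1 by rw [zpow_two, hzz], one_zpow] at hn
      exact h.ne_one a ha hn.symm
    · rw [zpow_add, zpow_mul, show (a * b) ^ (2 : ℤ) = 1 by rw [zpow_two, hzz], one_zpow, one_mul, zpow_one] at hn
      exact hza hn
  obtain ⟨E1, hge, hmax⟩ := Finite.exists_le_maximal hP0
  obtain ⟨h1E, hz1E, ha1⟩ := hmax.prop
  have hsq1 : ∀ x ∈ E, x * x ∈ E1 := fun x hx => by
    rcases hsq x hx with r | r <;> rw [r]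
    exacts [one_mem _, hz1E]
  have hcomm : ∀ x ∈ E, ∀ y ∈ E, x * y * x⁻¹ * y⁻¹ = 1 ∨ x * y * x⁻¹ * y⁻¹ = a * b := by
    intro x hx y hy
    have hi : (a * b)⁻¹ = a * b := inv_eq_of_mul_eq_one_right hzz
    rw [show x * y * x⁻¹ * y⁻¹ = (x * x) * (x⁻¹ * y * (x⁻¹ * y)) * (y * y)⁻¹ by group]
    rcases hsq x hx with r | r <;> rcases hsq _ (mul_mem (inv_mem hx) hy) with s | s <;>
      rcases hsq y hy with t | t <;> simp [r, s, t, hi, hzz]
  have hnorm : ∀ x ∈ E, ∀ s ∈ E1, x * s * x⁻¹ ∈ E1 := by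
    intro x hx s hs
    rw [show x * s * x⁻¹ = x * s * x⁻¹ * s⁻¹ * s by group]
    refine mul_mem ?_ hs
    rcases hcomm x hx s (h1E hs) with r | r <;> rw [r]
    exacts [one_mem _, hz1E]
  have hsplit : ∀ g ∈ E, g ∈ E1 ∨ a * g ∈ E1 := by
    intro g hg
    by_contra hno
    push Not at hno
    have hgg := hsq1 g hg
    let S : Subgroup G :=
      { carrier := {x | x ∈ E1 ∨ g * x ∈ E1}
        one_mem' := Or.inl (one_mem _)
        mul_mem' := by
          rintro x y (hx | hx) (hy | hy)
          · exact Or.inl (mul_mem hx hy)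
          · right
            rw [show g * (x * y) = g * x * g⁻¹ * (g * y) by group]
            exact mul_mem (hnorm g hg x hx) hy
          · exact Or.inr (by rw [← mul_assoc]; exact mul_mem hx hy)
          · left
            rw [show x * y = g⁻¹ * (g * x) * g⁻¹⁻¹ * (g * g)⁻¹ * (g * y) by group]
            exact mul_mem (mul_mem (hnorm _ (inv_mem hg) _ hx) (inv_mem hgg)) hy
        inv_mem' := by
          rintro x (hx | hx)
          · exact Or.inl (inv_mem hx)
          · right
            rw [show g * x⁻¹ = g * (g * x)⁻¹ * g⁻¹ * (g * g) by group]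
            exact mul_mem (hnorm g hg _ (inv_mem hx)) hgg }
    have hSE : S ≤ E := by
      rintro x (hx | hx)
      · exact h1E hx
      · have := mul_mem (inv_mem hg) (h1E hx)
        rwa [inv_mul_cancel_left] at this
    have haS : a ∈ S := by
      by_contra hna
      have hle : E1 ≤ S := fun x hx => Or.inl hx
      exact hno.1 (hmax.2 ⟨hSE, hle hz1E, hna⟩ hle (Or.inr hgg : g ∈ S))
    rcases haS with hx | hx
    · exact ha1 hx
    · refine hno.2 ?_
      rw [← (hcentral g hg).1.eq]
      exact hx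
  have ha1' : a⁻¹ = a := inv_eq_of_mul_eq_one_right haa
  have hcZ : ∀ z ∈ E, (∀ x ∈ E1, Commute z x) → z = 1 ∨ z = a ∨ z = b ∨ z = a * b := by
    intro z hz hzx
    refine mem_closure_pair haa hbb hab (cent_fibre h hprim ht ha hb (hKC (hEK hz)) fun x hx => ?_)
    rcases hsplit x hx with r | r
    · exact hzx x r
    · have := (hcentral z hz).1.mul_right (hzx _ r)
      rwa [← mul_assoc, haa, one_mul] at this
  have hab' : b ∉ E1 := fun q => ha1 (by
    have := mul_mem hz1E q
    rwa [mul_assoc, hbb, mul_one] at this)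
  have hcard2 : Nat.card (Multiplicative (ZMod 2)) = 2 := by
    rw [Nat.card_congr Multiplicative.toAdd, Nat.card_zmod]
  have hao : orderOf a = 2 := orderOf_eq_prime (by rw [pow_two, haa]) (h.ne_one a ha)
  let eA : Multiplicative (ZMod 2) ≃* ↥(Subgroup.zpowers a) :=
    mulEquivOfPrimeCardEq (p := 2) hcard2 (by rw [Nat.card_zpowers, hao])
  let μ : ↥(Subgroup.zpowers a) × ↥E1 →* ↥E :=
    { toFun := fun q => ⟨(q.1 : G) * q.2, mul_mem
        ((Subgroup.zpowers_le.2 (hVE (Subgroup.subset_closure (by simp)))) q.1.2) (h1E q.2.2)⟩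
      map_one' := Subtype.ext (by simp)
      map_mul' := fun q r => Subtype.ext (by
        have hc : Commute (r.1 : G) (q.2 : G) := by
          obtain ⟨n, hn⟩ := Subgroup.mem_zpowers_iff.1 r.1.2
          rw [← hn]; exact (hcentral _ (h1E q.2.2)).1.symm.zpow_left n
        show (q.1 : G) * r.1 * ((q.2 : G) * r.2) = (q.1 : G) * q.2 * ((r.1 : G) * r.2)
        rw [show (q.1 : G) * r.1 * ((q.2 : G) * r.2) = q.1 * ((r.1 : G) * q.2) * r.2 by group, hc.eq]
        group) }
  have hμ : Function.Bijective μ := by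
    refine ⟨(injective_iff_map_eq_one μ).2 ?_, fun g => ?_⟩
    · rintro ⟨x, y⟩ q
      have q' : (x : G) * y = 1 := congrArg Subtype.val q
      obtain ⟨n, hn⟩ := Subgroup.mem_zpowers_iff.1 x.2
      have hx1 : (x : G) = 1 := by
        rcases Int.even_or_odd n with ⟨m, rfl⟩ | ⟨m, rfl⟩
        · rw [← hn, ← two_mul, zpow_mul, show a ^ (2 : ℤ) = 1 by rw [zpow_two, haa], one_zpow]
        · exfalso
          rw [← hn, zpow_add, zpow_mul, show a ^ (2 : ℤ) = 1 by rw [zpow_two, haa], one_zpow, one_mul,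
            zpow_one] at q'
          refine ha1 ?_
          rw [eq_inv_of_mul_eq_one_left q']
          exact inv_mem y.2
      have hy1 : (y : G) = 1 := by rwa [hx1, one_mul] at q'
      exact Prod.ext (Subtype.ext hx1) (Subtype.ext hy1)
    · rcases hsplit g g.2 with r | r
      · exact ⟨(1, ⟨g, r⟩), Subtype.ext (one_mul _)⟩
      · refine ⟨(⟨a, Subgroup.mem_zpowers a⟩, ⟨a * g, r⟩), Subtype.ext ?_⟩
        show a * (a * (g : G)) = g
        rw [← mul_assoc, haa, one_mul]
  have hc1 : Nat.card E1 = 2 ^ 9 := by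
    have := Nat.card_congr (Equiv.ofBijective μ hμ)
    rw [Nat.card_prod, Nat.card_zpowers, hao, cE] at this
    omega
  have hzmem : (⟨a * b, hz1E⟩ : ↥E1) ∈ Subgroup.center ↥E1 :=
    Subgroup.mem_center_iff.2 fun x => Subtype.ext (hzc _ (h1E x.2)).eq
  have hZ : (Subgroup.center ↥E1 : Set ↥E1) = {1, ⟨a * b, hz1E⟩} := by
    ext x
    constructor
    · intro hx
      rcases hcZ x (h1E x.2) (fun y hy => (congrArg Subtype.val (Subgroup.mem_center_iff.1 hx ⟨y, hy⟩)).symm)
        with r | r | r | r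
      · exact Or.inl (Subtype.ext r)
      · exact absurd (r ▸ x.2) ha1
      · exact absurd (r ▸ x.2) hab'
      · exact Or.inr (Subtype.ext r)
    · rintro (rfl | rfl)
      exacts [one_mem _, hzmem]
  have hZc : Nat.card (Subgroup.center ↥E1) = 2 := by
    show Nat.card ↥(Subgroup.center ↥E1 : Set ↥E1) = 2
    rw [Nat.card_coe_set_eq, hZ]
    exact Set.ncard_pair fun q => hz1 (congrArg Subtype.val q).symm
  have hin : ∀ {x : ↥E1}, ((x : G) = 1 ∨ (x : G) = a * b) → x ∈ Subgroup.center ↥E1 := by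
    intro x hx
    rcases hx with r | r
    · rw [show x = 1 from Subtype.ext r]; exact one_mem _
    · rw [show x = ⟨a * b, hz1E⟩ from Subtype.ext r]; exact hzmem
  have hX : Cfsg.IsExtraspecial 2 ↥E1 := by
    refine Monster.isExtraspecial_of (IsPGroup.of_card hc1) hZc
      (fun x y => hin (hcomm _ (h1E x.2) _ (h1E y.2))) (fun x => hin (hsq _ (h1E x.2))) ?_
    by_contra hall
    push Not at hall
    have htop : Subgroup.center ↥E1 = ⊤ := by
      rw [eq_top_iff]; exact fun x _ => Subgroup.mem_center_iff.2 fun y => hall y x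
    rw [htop, Subgroup.card_top, hc1] at hZc
    norm_num at hZc
  let f : ↥E1 ≃ {i : Fin (Nat.card ↥E1) // i = i} :=
    (Finite.equivFin ↥E1).trans (Equiv.subtypeUnivEquiv fun _ => rfl).symm
  letI : Group {i : Fin (Nat.card ↥E1) // i = i} := f.symm.group
  let ef : ↥E1 ≃* {i : Fin (Nat.card ↥E1) // i = i} := (Equiv.mulEquiv f.symm).symm
  refine ⟨{i : Fin (Nat.card ↥E1) // i = i}, inferInstance, inferInstance, LargeExtra.isExtraspecial_equiv ef hX,
    by rw [← Nat.card_congr f]; exact hc1, ⟨?_⟩⟩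
  exact (MulEquiv.ofBijective μ hμ).symm.trans (eA.symm.prodCongr ef)

end CfsgLib.ThreeT.Prod
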