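import Cfsg.Agent.Spor3T.M22AutPair
import Cfsg.Agent.Spor3T.M22PairExtra
import Cfsg.Agent.LocalB.FStar
import Cfsg.Agent.CyclicNormal.Symplectic
import Cfsg.Prelude.Def_MonsterType
import Mathlib.GroupTheory.FixedPointFree

/-!
Type M(22): the centraliser in the automorphism group of a product of two commuting members has a large
extraspecial 2-radical of order `2^11`.
-/

set_option autoImplicit false
set_option linter.unusedSectionVars false
set_option linter.style.haveILetI false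

namespace CfsgLib.ThreeT.Prod

open CfsgLib

section odd

variable {G : Type*} [Group G]

theorem eq_one_of_sq_odd {K : Subgroup G} (hK : Odd (Nat.card K)) {g : G} (hg : g ∈ K) (e : g * g = 1) :
    g = 1 := by
  have h1 : orderOf g ∣ 2 := orderOf_dvd_of_pow_eq_one (by rw [pow_two, e])
  have h2 : orderOf g ∣ Nat.card K := Subgroup.orderOf_dvd_natCard _ hg
  exact orderOf_eq_one_iff.1 (Nat.eq_one_of_dvd_coprimes (Nat.coprime_two_left.2 hK) h1 h2)

theorem inverts_of_free [Finite G] {K : Subgroup G} {t : G} (ht : t * t = 1)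
    (hn : ∀ g ∈ K, t * g * t⁻¹ ∈ K) (hf : ∀ g ∈ K, t * g * t⁻¹ = g → g = 1) {g : G} (hg : g ∈ K) :
    t * g * t⁻¹ = g⁻¹ := by
  let φ : ↥K →* ↥K := ((MulAut.conj t).toMonoidHom.comp K.subtype).codRestrict K fun y => hn y y.2
  have hφ : ∀ y : ↥K, (φ y : G) = t * y * t⁻¹ := fun y => rfl
  have hfree : MonoidHom.FixedPointFree φ := fun y e => Subtype.ext (hf y y.2 (congrArg Subtype.val e))
  have hinv : Function.Involutive φ := fun y => Subtype.ext (by
    rw [hφ, hφ, show t * (t * y * t⁻¹) * t⁻¹ = t * t * y * (t * t)⁻¹ by group, ht, one_mul, inv_one, mul_one])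
  exact congrArg Subtype.val (congrFun (hfree.coe_eq_inv_of_involutive hinv) ⟨g, hg⟩)

end odd

variable {G : Type*} [Group G] [Finite G] {D : Set G} {a b : G} (h : Geo22 D)

include h

theorem Quad.two_moved {x : Fin 4 → G} (hq : Quad D a b x) (ha : a ∈ D) (hb : b ∈ nb D a) {q : G} (hqD : q ∈ D)
    (hqa : Commute q a) (hqb : ¬ Commute q b) :
    ∃ i j, i ≠ j ∧ ¬ Commute q (x i) ∧ ¬ Commute q (x j) := by
  have haa := h.tt.sq a ha
  have step : ∀ y : Fin 4 → G, Quad D a b y → ¬ Commute q (y 0) →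
      ∃ j : Fin 4, (0 : Fin 4) ≠ j ∧ ¬ Commute q (y j) := by
    intro y hy h0
    by_contra hall
    push Not at hall
    set r := y 1 * y 2 * y 3
    have hr : Commute q r :=
      ((hall 1 (by decide)).mul_right (hall 2 (by decide))).mul_right (hall 3 (by decide))
    have e1 : y 0 * r = a * b := by rw [← hy.prod]; simp only [r]; group
    have hyb : y 0 = b := eq_of_conj_eq h.tt (hy.mem 0).1 hb.1 hqD h0 hqb (by
      have e2 : y 0 * r * q * (y 0 * r)⁻¹ = a * b * q * (a * b)⁻¹ := by rw [e1]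
      rw [show y 0 * r * q * (y 0 * r)⁻¹ = y 0 * (r * q * r⁻¹) * (y 0)⁻¹ by group, fix_of_commute hr.symm,
        hb.2.2.eq, show b * a * q * (b * a)⁻¹ = b * (a * q * a⁻¹) * b⁻¹ by group,
        fix_of_commute hqa.symm, h.tt.inv (hy.mem 0).1, h.tt.inv hb.1] at e2
      exact e2)
    exact (hy.mem 0).2.2.1 hyb
  obtain ⟨i, hi⟩ : ∃ i, ¬ Commute q (x i) := by
    by_contra hall
    push Not at hall
    have hz : Commute q (a * b) := by
      rw [← hq.prod]
      exact (((hall 0).mul_right (hall 1)).mul_right (hall 2)).mul_right (hall 3)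
    refine hqb ?_
    have := hqa.mul_right hz
    rwa [← mul_assoc, haa, one_mul] at this
  have h1 := Quad.rot h hq hb.2.2
  have h2 := Quad.rot h h1 hb.2.2
  have h3 := Quad.rot h h2 hb.2.2
  fin_cases i
  · obtain ⟨j, hj, hn⟩ := step x hq hi
    exact ⟨0, j, hj, hi, hn⟩
  · obtain ⟨j, hj, hn⟩ := step _ h1 hi
    exact ⟨1, j + 1, (by decide : ∀ j : Fin 4, (0 : Fin 4) ≠ j → (1 : Fin 4) ≠ j + 1) j hj, hi, hn⟩
  · obtain ⟨j, hj, hn⟩ := step _ h2 hi
    exact ⟨2, j + 1 + 1, (by decide : ∀ j : Fin 4, (0 : Fin 4) ≠ j → (2 : Fin 4) ≠ j + 1 + 1) j hj, hi, hn⟩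
  · obtain ⟨j, hj, hn⟩ := step _ h3 hi
    exact ⟨3, j + 1 + 1 + 1, (by decide : ∀ j : Fin 4, (0 : Fin 4) ≠ j → (3 : Fin 4) ≠ j + 1 + 1 + 1) j hj, hi, hn⟩

/-- An odd group inverted by the product meets the centraliser of a member trivially. -/
theorem odd_cent {x : Fin 4 → G} (hq : Quad D a b x) (ha : a ∈ D) (hb : b ∈ nb D a) {K : Subgroup G}
    (hK : Odd (Nat.card K)) (hbK : ∀ g ∈ K, b * g * b⁻¹ ∈ K)
    (hxK : ∀ i j, ∀ g ∈ K, x i * x j * g * (x i * x j)⁻¹ ∈ K)
    (hj : ∀ g ∈ K, a * b * g * (a * b)⁻¹ = g⁻¹) {g : G} (hg : g ∈ K) (ga : Commute g a) : g = 1 := by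
  have hba : b * g * b⁻¹ = g⁻¹ := by
    rw [← hj g hg, hb.2.2.eq, show b * a * g * (b * a)⁻¹ = b * (a * g * a⁻¹) * b⁻¹ by group,
      fix_of_commute ga.symm]
  have hbg : g * b * g⁻¹ * b = g * g := by
    calc g * b * g⁻¹ * b = g * (b * g * b⁻¹)⁻¹ := by
          rw [show (b * g * b⁻¹)⁻¹ = b * g⁻¹ * b⁻¹ by group, h.tt.inv hb.1]; group
      _ = _ := by rw [hba, inv_inv]
  set q := g * b * g⁻¹
  have hqD : q ∈ D := h.tt.conj g b hb.1
  have hqa : Commute q a := (ga.mul_left hb.2.2.symm).mul_left ga.inv_left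
  by_cases hqb : Commute q b
  · have e2 : (g * g) * (g * g) = 1 := by
      rw [← hbg, show q * b * (q * b) = q * (b * q) * b by group, ← hqb.eq,
        show q * (q * b) * b = q * q * (b * b) by group, h.tt.sq q hqD, h.tt.sq b hb.1, one_mul]
    exact eq_one_of_sq_odd hK hg (eq_one_of_sq_odd hK (mul_mem hg hg) e2)
  exfalso
  obtain ⟨i, j, hij, hi, hjn⟩ := Quad.two_moved h hq ha hb hqD hqa hqb
  set u := x i
  set v := x j
  have hu := (hq.mem i).1
  have hv := (hq.mem j).1
  have huu := h.tt.sq u hu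
  have hvv := h.tt.sq v hv
  have hu' := braid_sym h.tt hu hqD hi
  have hv' := braid_sym h.tt hv hqD hjn
  set q' := u * v * q * (u * v)⁻¹ with hq'
  have e0 : q' = u * (v * q * v) * u := by
    rw [hq', mul_inv_rev, h.tt.inv hu, h.tt.inv hv]; simp only [u, v]; group
  have e1 : q' = q * q' * q := by
    calc q' = u * (q * v * q) * u := by rw [e0, hv']
      _ = u * q * (u * u) * v * q * u := by rw [huu]; group
      _ = u * q * u * (u * v) * q * u := by group
      _ = u * q * u * (v * u) * q * u := by rw [(hq.comm i j).eq]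
      _ = (u * q * u) * v * (u * q * u) := by group
      _ = (q * u * q) * v * (q * u * q) := by rw [hu']
      _ = q * (u * (q * v * q) * u) * q := by group
      _ = _ := by rw [← hv', e0]
  have hc : Commute q q' := by
    show q * q' = q' * q
    conv_rhs => rw [e1]
    rw [mul_assoc _ q q, h.tt.sq q hqD, mul_one]
  set g' := u * v * g * (u * v)⁻¹
  have hg' : g' ∈ K := hxK i j g hg
  have huvb : Commute (u * v) b := (hq.mem i).2.2.2.2.mul_left (hq.mem j).2.2.2.2
  have eq' : q' = g' * b * g'⁻¹ := by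
    rw [hq', show u * v * q * (u * v)⁻¹ = g' * (u * v * b * (u * v)⁻¹) * g'⁻¹ by simp only [q, g']; group,
      fix_of_commute huvb]
  have hmem : q' * q ∈ K := by
    rw [eq', show g' * b * g'⁻¹ * q = g' * (b * (g'⁻¹ * g) * b) * g⁻¹ by simp only [q]; group]
    refine mul_mem (mul_mem hg' ?_) (inv_mem hg)
    have := hbK _ (mul_mem (inv_mem hg') hg)
    rwa [h.tt.inv hb.1] at this
  have e3 : q' * q * (q' * q) = 1 := by
    rw [show q' * q * (q' * q) = q' * (q * q') * q by group, hc.eq, show q' * (q' * q) * q = q' * q' * (q * q) by group,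
      h.tt.sq q hqD, mul_one, h.tt.sq q' (h.tt.conj _ q hqD)]
  have e4 : q' = q := by rw [eq_inv_of_mul_eq_one_left (eq_one_of_sq_odd hK hmem e3), h.tt.inv hqD]
  refine hij (hq.inj (eq_of_conj_eq h.tt hu hv hqD hi hjn ?_))
  rw [e0] at e4
  calc u * q * u = u * (u * (v * q * v) * u) * u := by rw [e4]
    _ = (u * u) * (v * q * v) * (u * u) := by group
    _ = _ := by rw [huu, one_mul, mul_one]

variable {σ : MulAut G} {x : Fin 4 → G} {k : G} (w : AutWitness D a b σ x k)
  (hprim : Cfsg.IsPrimitiveUnderConj D) (ht : Cfsg.IsOfTypeM22 G D) (ha : a ∈ D) (hb : b ∈ nb D a)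

include w ha hb

theorem qa_mem {α : MulAut G} (hz : α (a * b) = a * b) {u : G} (hu : u ∈ fibreKer h.tt a b) :
    α u ∈ fibreKer h.tt a b :=
  aut_fibreKer h w.pres (aut_pair h ha hb (w.pres α) hz) hu

/-- The subgroup acting trivially modulo the kernel. -/
def QSub : Subgroup (MulAut G) where
  carrier := {α | QA h.tt a b α}
  one_mem' := ⟨rfl, fun c _ => by simp⟩
  mul_mem' := fun {α β} hα hβ => ⟨by rw [MulAut.mul_apply, hβ.1, hα.1], fun c hc => by
    rw [show (α * β) c * c⁻¹ = α (β c * c⁻¹) * (α c * c⁻¹) by simp [mul_assoc]]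
    exact mul_mem (qa_mem h w ha hb hα.1 (hβ.2 c hc)) (hα.2 c hc)⟩
  inv_mem' := fun {α} hα => by
    have e : α⁻¹ (a * b) = a * b := by
      conv_lhs => rw [← hα.1]
      simp
    refine ⟨e, fun c hc => ?_⟩
    have := qa_mem h w ha hb e (inv_mem (hα.2 c hc))
    simpa using this

include hprim ht

theorem mem_qsub_inner {u : G} (hu : u ∈ fibreKer h.tt a b) : MulAut.conj u ∈ QSub h w ha hb := by
  obtain ⟨-, -, -, hEK, hKC, -⟩ := pair_orders h hprim ht ha hb
  refine ⟨fix_of_commute (hu.1.mul_right hu.2.1), fun c hc => ?_⟩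
  rw [MulAut.conj_apply, show u * c * u⁻¹ * c⁻¹ = u * (c * u⁻¹ * c⁻¹) by group]
  exact mul_mem hu (fibreKer_conj ((mem_cent_prod_iff h ha hb).1 hc) (inv_mem hu))

/-- Squares in the kernel. -/
theorem kernel_sq {u : G} (hu : u ∈ fibreKer h.tt a b) : u * u = 1 ∨ u * u = a * b := by
  obtain ⟨F, _, _, _, hF, φ, ω, e, -, -, d, -⟩ := exists_pair_data h hprim ht ha hb
  have hua : u ∈ hsub D a := by
    rw [(centralizer_eq h ha).1]; exact Subgroup.mem_centralizer_singleton_iff.2 hu.1
  have hub : u ∈ hsub D b := by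
    rw [(centralizer_eq h hb.1).1]; exact Subgroup.mem_centralizer_singleton_iff.2 hu.2.1
  rcases mem_closure_pair (h.tt.sq a ha) (h.tt.sq b hb.1) hb.2.2 (fibre_sq h d hu) with r | r | r | r
  · exact Or.inl r
  · exact absurd r (no_root h hprim ht ha hua)
  · exact absurd r (no_root h hprim ht hb.1 hub)
  · exact Or.inr r

theorem prod_sq : a * b * (a * b) = 1 := by
  rw [show a * b * (a * b) = a * (b * a) * b by group, ← hb.2.2.eq,
    show a * (a * b) * b = a * a * (b * b) by group, h.tt.sq a ha, h.tt.sq b hb.1, one_mul]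

theorem kernel_comm {u v : G} (hu : u ∈ fibreKer h.tt a b) (hv : v ∈ fibreKer h.tt a b) :
    u * v * u⁻¹ = v ∨ u * v * u⁻¹ = v * (a * b) := by
  have hzz := prod_sq h w hprim ht ha hb
  have hi : (a * b)⁻¹ = a * b := inv_eq_of_mul_eq_one_right hzz
  have hzv : Commute (a * b) v := (hv.1.mul_right hv.2.1).symm
  have e : u * v * u⁻¹ * v⁻¹ = 1 ∨ u * v * u⁻¹ * v⁻¹ = a * b := by
    rw [show u * v * u⁻¹ * v⁻¹ = (u * u) * (u⁻¹ * v * (u⁻¹ * v)) * (v * v)⁻¹ by group]
    rcases kernel_sq h w hprim ht ha hb hu with r | r <;>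
      rcases kernel_sq h w hprim ht ha hb (mul_mem (inv_mem hu) hv) with s | s <;>
      rcases kernel_sq h w hprim ht ha hb hv with t | t <;> simp [r, s, t, hi, hzz]
  rcases e with r | r
  · exact Or.inl (mul_inv_eq_one.1 r)
  · exact Or.inr (by rw [mul_inv_eq_iff_eq_mul.1 r, hzv.eq])

/-- The element outside the inner group. -/
theorem exists_tau : ∃ c ∈ Subgroup.centralizer ({a * b} : Set G), MulAut.conj c * σ ∈ QSub h w ha hb ∧
    (MulAut.conj c * σ) a = b ∧ (MulAut.conj c * σ) b = a := by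
  obtain ⟨c, hc, hq⟩ := exists_qa h w hprim ht ha hb
  refine ⟨c, hc, hq, ?_⟩
  rcases aut_pair h ha hb (w.pres _) hq.1 with ⟨e1, -⟩ | r
  · exact (qa_not_fixed h w hprim ht ha hb hq e1).elim
  · exact r

section tau

variable {τ : MulAut G} {c : G} (hc : c ∈ Subgroup.centralizer ({a * b} : Set G)) (hτ : τ = MulAut.conj c * σ)
  (hτQ : τ ∈ QSub h w ha hb) (hτa : τ a = b) (hτb : τ b = a)

include hτ hτQ hτa hτb

theorem qsub_cases {α : MulAut G} (hα : α ∈ QSub h w ha hb) :
    ∃ u ∈ fibreKer h.tt a b, α = MulAut.conj u ∨ α = MulAut.conj u * τ := by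
  obtain ⟨g, r | r⟩ := w.classes α
  · subst r
    exact ⟨g, qa_inner h w hprim ht ha hb hα, Or.inl rfl⟩
  · have e : α * τ⁻¹ = MulAut.conj (g * c⁻¹) := by rw [r, hτ, map_mul, map_inv]; group
    have hm := mul_mem hα (inv_mem hτQ)
    rw [e] at hm
    exact ⟨g * c⁻¹, qa_inner h w hprim ht ha hb hm, Or.inr (by rw [← e, inv_mul_cancel_right])⟩

/-- It centralises the kernel modulo the product. -/
theorem tau_kernel {u : G} (hu : u ∈ fibreKer h.tt a b) : τ u = u ∨ τ u = u * (a * b) := by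
  classical
  obtain ⟨F, _, _, _, hF, φ, ω, e, -, -, d, -⟩ := exists_pair_data h hprim ht ha hb
  obtain ⟨-, -, -, hEK, hKC, hVE⟩ := pair_orders h hprim ht ha hb
  have hzz := prod_sq h w hprim ht ha hb
  set E := fibreKer h.tt a b with hE
  have hzc : ∀ v ∈ E, Commute (a * b) v := fun v hv => (hv.1.mul_right hv.2.1).symm
  let W : Subgroup G :=
    { carrier := {v | v ∈ E ∧ (τ v = v ∨ τ v = v * (a * b))}
      one_mem' := ⟨one_mem _, Or.inl (map_one τ)⟩
      mul_mem' := by
        rintro v v' ⟨hv, rv⟩ ⟨hv', rv'⟩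
        refine ⟨mul_mem hv hv', ?_⟩
        rcases rv with r | r <;> rcases rv' with s | s <;> rw [map_mul, r, s]
        · exact Or.inl rfl
        · exact Or.inr (by group)
        · exact Or.inr (by rw [mul_assoc v (a * b) v', (hzc v' hv').eq]; group)
        · left
          rw [show v * (a * b) * (v' * (a * b)) = v * ((a * b) * v') * (a * b) by group, (hzc v' hv').eq,
            show v * (v' * (a * b)) * (a * b) = v * v' * (a * b * (a * b)) by group, hzz, mul_one]
      inv_mem' := by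
        rintro v ⟨hv, rv⟩
        refine ⟨inv_mem hv, ?_⟩
        rcases rv with r | r <;> rw [map_inv, r]
        · exact Or.inl rfl
        · exact Or.inr (by rw [mul_inv_rev, inv_eq_of_mul_eq_one_right hzz, (hzc _ (inv_mem hv)).eq]) }
  have hWconj : ∀ g ∈ Subgroup.centralizer ({a * b} : Set G), ∀ v ∈ W, g * v * g⁻¹ ∈ W := by
    rintro g hg v ⟨hv, rv⟩
    have hgv : g * v * g⁻¹ ∈ E := fibreKer_conj ((mem_cent_prod_iff h ha hb).1 hg) hv
    have hgz : g * (a * b) * g⁻¹ = a * b :=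
      mul_inv_eq_iff_eq_mul.2 (Subgroup.mem_centralizer_singleton_iff.1 hg)
    refine ⟨hgv, ?_⟩
    set e := τ g * g⁻¹ with he
    have heE : e ∈ E := hτQ.2 g hg
    have e1 : τ (g * v * g⁻¹) = e * (g * τ v * g⁻¹) * e⁻¹ := by
      rw [map_mul, map_mul, map_inv, he]; group
    rw [e1]
    have hez : e * (a * b) * e⁻¹ = a * b := fix_of_commute (hzc e heE).symm
    rcases rv with r | r <;> rcases kernel_comm h w hprim ht ha hb heE hgv with s | s <;> rw [r]
    · exact Or.inl s
    · exact Or.inr s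
    · refine Or.inr ?_
      rw [show e * (g * (v * (a * b)) * g⁻¹) * e⁻¹ = e * (g * v * g⁻¹) * e⁻¹ * (e * (g * (a * b) * g⁻¹) * e⁻¹) by group,
        hgz, hez, s]
    · refine Or.inl ?_
      rw [show e * (g * (v * (a * b)) * g⁻¹) * e⁻¹ = e * (g * v * g⁻¹) * e⁻¹ * (e * (g * (a * b) * g⁻¹) * e⁻¹) by group,
        hgz, hez, s, mul_assoc, hzz, mul_one]
  -- the four of the hexad
  obtain ⟨π, hπ⟩ := exists_acts h w hprim ht ha hb (Or.inr ⟨hτa, hτb⟩)
    (qa_sim h w hprim ht ha hb hτQ (w.quad.mem 0))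
  have hev := qa_even h w hprim ht ha hb hτQ hπ
  have hfix : (τ * τ) a = a := by rw [MulAut.mul_apply, hτa, hτb]
  obtain ⟨u₂, hu₂, r | r⟩ := qsub_cases h w hprim ht ha hb hτ hτQ hτa hτb (mul_mem hτQ hτQ)
  swap
  · rw [r, MulAut.mul_apply, hτa, MulAut.conj_apply, fix_of_commute hu₂.2.1] at hfix
    exact absurd hfix hb.2.1
  have hπ8 : (π * π) ^ 8 = 1 :=
    acts_kernel_eight h w hprim ht ha hb hu₂ (r ▸ hπ.mul hπ)
  have c : ∀ i j, x i * x j = x j * x i := fun i j => (w.quad.comm i j).eq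
  have s : ∀ i, x i * x i = 1 := fun i => h.tt.sq _ (w.quad.mem i).1
  have hp := w.quad.prod
  have p01 : x 2 * x 3 = x 0 * x 1 * (a * b) := by
    rw [← hp, show x 0 * x 1 * (x 0 * x 1 * x 2 * x 3) = x 0 * (x 1 * x 0) * x 1 * x 2 * x 3 by group,
      c 1 0, show x 0 * (x 0 * x 1) * x 1 * x 2 * x 3 = x 0 * x 0 * (x 1 * x 1) * x 2 * x 3 by group, s, s,
      one_mul, one_mul]
  have p02 : x 1 * x 3 = x 0 * x 2 * (a * b) := by
    rw [← hp, show x 0 * x 2 * (x 0 * x 1 * x 2 * x 3) = x 0 * (x 2 * x 0) * (x 1 * x 2) * x 3 by group,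
      c 2 0, c 1 2, show x 0 * (x 0 * x 2) * (x 2 * x 1) * x 3 = x 0 * x 0 * (x 2 * x 2) * x 1 * x 3 by group,
      s, s, one_mul, one_mul]
  have p03 : x 1 * x 2 = x 0 * x 3 * (a * b) := by
    rw [← hp, show x 0 * x 1 * x 2 * x 3 = x 0 * (x 1 * x 2 * x 3) by group,
      show x 1 * x 2 * x 3 = x 1 * (x 2 * x 3) by group, c 2 3, show x 1 * (x 3 * x 2) = x 1 * x 3 * x 2 by group,
      c 1 3, show x 0 * x 3 * (x 0 * (x 3 * x 1 * x 2)) = x 0 * (x 3 * x 0) * x 3 * x 1 * x 2 by group, c 3 0,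
      show x 0 * (x 0 * x 3) * x 3 * x 1 * x 2 = x 0 * x 0 * (x 3 * x 3) * x 1 * x 2 by group, s, s, one_mul,
      one_mul]
  have hS : ∀ i, Sim D a b (x i) (x 0) := fun i => Quad.sim h w.quad hb.2.2 i 0
  have hgenE : ∀ i, x 0 * x i ∈ E := fun i => by
    rw [hE, (fibre_gen h d).2, c 0 i]
    exact Subgroup.subset_closure (Or.inl ⟨x 0, w.quad.mem 0, x i, w.quad.mem i, hS i, rfl⟩)
  have hW0 : ∀ i, x 0 * x i ∈ W := by
    intro i
    refine ⟨hgenE i, ?_⟩
    rw [map_mul, hπ, hπ]
    have := perm_even_two π hev hπ8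
    simp only [List.mem_cons, List.not_mem_nil, or_false] at this
    rcases this with rfl | rfl | rfl | rfl <;> fin_cases i
    · exact Or.inl rfl
    · exact Or.inl rfl
    · exact Or.inl rfl
    · exact Or.inl rfl
    · left; show x 1 * x 1 = x 0 * x 0; rw [s, s]
    · left; show x 1 * x 0 = x 0 * x 1; exact c 1 0
    · right; show x 1 * x 3 = x 0 * x 2 * (a * b); exact p02
    · right; show x 1 * x 2 = x 0 * x 3 * (a * b); exact p03
    · left; show x 2 * x 2 = x 0 * x 0; rw [s, s]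
    · right; show x 2 * x 3 = x 0 * x 1 * (a * b); exact p01
    · left; show x 2 * x 0 = x 0 * x 2; exact c 2 0
    · right; show x 2 * x 1 = x 0 * x 3 * (a * b); rw [c 2 1]; exact p03
    · left; show x 3 * x 3 = x 0 * x 0; rw [s, s]
    · right; show x 3 * x 2 = x 0 * x 1 * (a * b); rw [c 3 2]; exact p01
    · right; show x 3 * x 1 = x 0 * x 2 * (a * b); rw [c 3 1]; exact p02
    · left; show x 3 * x 0 = x 0 * x 3; exact c 3 0
  have hgen : PairGens D a b ⊆ (W : Set G) := by
    rintro v (⟨y, hy, y', hy', sy, rfl⟩ | rfl | rfl)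
    · obtain ⟨g, ga, gb, gy⟩ := triple_conj h ha hb (common_nb h d (w.quad.mem 0)) (w.quad.mem 0).2.2.1.symm
        (w.quad.mem 0).2.2.2.2.symm ha hb (common_nb h d hy) hy.2.2.1.symm hy.2.2.2.2.symm
      have hgC : g ∈ Subgroup.centralizer ({a * b} : Set G) :=
        Subgroup.mem_centralizer_singleton_iff.2 ((commute_of_fix ga).mul_right (commute_of_fix gb)).eq
      have hgn : PairNorm a b g := Or.inl ⟨ga, gb⟩
      have hsim := sim_conj h.tt hgn sy
      rw [gy] at hsim
      obtain ⟨i, hi⟩ := Quad.exhaust h d w.quad (common_conj h.tt hgn hy') hsim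
      have := hWconj g⁻¹ (inv_mem hgC) (x i * x 0) (c 0 i ▸ hW0 i)
      rwa [← hi, ← gy, show g⁻¹ * (g * y' * g⁻¹ * (g * y * g⁻¹)) * g⁻¹⁻¹ = y' * y by group] at this
    · refine ⟨hVE (Subgroup.subset_closure (by simp)), Or.inr ?_⟩
      rw [hτa, ← mul_assoc, h.tt.sq _ ha, one_mul]
    · refine ⟨hVE (Subgroup.subset_closure (by simp)), Or.inr ?_⟩
      rw [hτb, hb.2.2.eq, ← mul_assoc, h.tt.sq _ hb.1, one_mul]
  have : u ∈ W := by
    rw [hE, (fibre_gen h d).2] at hu
    exact (Subgroup.closure_le W).2 hgen hu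
  exact this.2

theorem tau_sq : τ * τ = 1 ∨ τ * τ = MulAut.conj (a * b) := by
  obtain ⟨-, -, -, hEK, hKC, hVE⟩ := pair_orders h hprim ht ha hb
  have hfix : (τ * τ) a = a := by rw [MulAut.mul_apply, hτa, hτb]
  obtain ⟨u, hu, r | r⟩ := qsub_cases h w hprim ht ha hb hτ hτQ hτa hτb (mul_mem hτQ hτQ)
  swap
  · rw [r, MulAut.mul_apply, hτa, MulAut.conj_apply, fix_of_commute hu.2.1] at hfix
    exact absurd hfix hb.2.1
  have hzz := prod_sq h w hprim ht ha hb
  have hcu : ∀ y ∈ fibreKer h.tt a b, Commute u y := fun y hy => by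
    refine commute_of_fix ?_
    have e : u * y * u⁻¹ = τ (τ y) := by rw [← MulAut.mul_apply, r, MulAut.conj_apply]
    rw [e]
    have hz : τ (a * b) = a * b := hτQ.1
    rcases tau_kernel h w hprim ht ha hb hτ hτQ hτa hτb hy with q | q
    · rw [q, q]
    · rw [q, map_mul, q, hz, mul_assoc, hzz, mul_one]
  have hτu : τ u = u := by
    have e1 : τ * MulAut.conj u * τ⁻¹ = MulAut.conj (τ u) := MulEquiv.ext fun y => by simp
    rw [← r, show τ * (τ * τ) * τ⁻¹ = τ * τ by group, r] at e1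
    have : Function.Injective (MulAut.conj : G →* MulAut G) := by
      refine (injective_iff_map_eq_one _).2 fun g hg => ?_
      have : g ∈ Subgroup.center G := Subgroup.mem_center_iff.2 fun y => by
        have := DFunLike.congr_fun hg y
        simp only [MulAut.conj_apply, MulAut.one_apply] at this
        exact (mul_inv_eq_iff_eq_mul.1 this).symm
      rwa [ht.1, Subgroup.mem_bot] at this
    exact (this e1).symm
  rcases mem_closure_pair (h.tt.sq a ha) (h.tt.sq b hb.1) hb.2.2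
    (cent_fibre h hprim ht ha hb (hKC (hEK hu)) hcu) with q | q | q | q
  · exact Or.inl (by rw [r, q, map_one])
  · rw [q, hτa] at hτu; exact absurd hτu hb.2.1
  · rw [q, hτb] at hτu; exact absurd hτu hb.2.1.symm
  · exact Or.inr (by rw [r, q])

end tau

theorem conj_injective : Function.Injective (MulAut.conj : G →* MulAut G) := by
  refine (injective_iff_map_eq_one _).2 fun g hg => ?_
  have : g ∈ Subgroup.center G := Subgroup.mem_center_iff.2 fun y => by
    have := DFunLike.congr_fun hg y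
    simp only [MulAut.conj_apply, MulAut.one_apply] at this
    exact (mul_inv_eq_iff_eq_mul.1 this).symm
  rwa [ht.1, Subgroup.mem_bot] at this

theorem conj_conj_aut (α : MulAut G) (g : G) : α * MulAut.conj g * α⁻¹ = MulAut.conj (α g) :=
  MulEquiv.ext fun y => by simp

theorem mem_cj_iff {α : MulAut G} :
    α ∈ Subgroup.centralizer ({MulAut.conj (a * b)} : Set (MulAut G)) ↔ α (a * b) = a * b := by
  rw [Subgroup.mem_centralizer_singleton_iff, ← mul_inv_eq_iff_eq_mul,
    conj_conj_aut h w hprim ht ha hb, (conj_injective h w hprim ht ha hb).eq_iff]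

/-- The 2-radical of the centraliser in the automorphism group. -/
theorem aut_large :
    ∃ Q : Subgroup (MulAut G),
      Cfsg.IsLargeExtraspecial Q ∧ Nat.card Q = 2 ^ 11 ∧
      (Cfsg.generalizedFittingSubgroup ↥(Subgroup.centralizer ({MulAut.conj (a * b)} : Set (MulAut G)))).map
        (Subgroup.centralizer ({MulAut.conj (a * b)} : Set (MulAut G))).subtype = Q ∧
      Q ≤ Subgroup.centralizer ({MulAut.conj (a * b)} : Set (MulAut G)) ∧
      ∃ (_ : (Q.subgroupOf (Subgroup.centralizer ({MulAut.conj (a * b)} : Set (MulAut G)))).Normal) (F : Type)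
        (_ : Field F) (_ : Fintype F), Fintype.card F = 4 ∧
        Nonempty (↥(Subgroup.centralizer ({MulAut.conj (a * b)} : Set (MulAut G))) ⧸
          Q.subgroupOf (Subgroup.centralizer ({MulAut.conj (a * b)} : Set (MulAut G))) ≃*
            MulAut (Cfsg.PSU 4 F 2)) := by
  classical
  haveI : Fact (2 : ℕ).Prime := ⟨Nat.prime_two⟩
  obtain ⟨c, hc, hτQ, hτa, hτb⟩ := exists_tau h w hprim ht ha hb
  set τ := MulAut.conj c * σ with hτ
  obtain ⟨-, -, cE, hEK, hKC, hVE⟩ := pair_orders h hprim ht ha hb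
  have cases' := fun {α} => qsub_cases h w hprim ht ha hb hτ hτQ hτa hτb (α := α)
  have tker := fun {u} => tau_kernel h w hprim ht ha hb hτ hτQ hτa hτb (u := u)
  have inj := conj_injective h w hprim ht ha hb
  have cc := conj_conj_aut h w hprim ht ha hb
  have hzz := prod_sq h w hprim ht ha hb
  have minner := fun {u} => mem_qsub_inner h w hprim ht ha hb (u := u)
  set Q := QSub h w ha hb with hQdef
  set z := a * b with hz
  set C := Subgroup.centralizer ({z} : Set G) with hCdef
  set E := fibreKer h.tt a b with hEdef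
  set Cj := Subgroup.centralizer ({MulAut.conj z} : Set (MulAut G)) with hCjdef
  have hzE : z ∈ E := hVE (mul_mem (Subgroup.subset_closure (by simp)) (Subgroup.subset_closure (by simp)))
  have hz1 : z ≠ 1 := fun q => hb.2.1 (by
    rw [eq_inv_of_mul_eq_one_right q, h.tt.inv ha])
  have hzc : ∀ u ∈ E, Commute u z := fun u hu => hu.1.mul_right hu.2.1
  set j := MulAut.conj z with hjdef
  have hjQ : j ∈ Q := minner hzE
  have hjj : j * j = 1 := by rw [hjdef, ← map_mul, hzz, map_one]
  have hj1 : j ≠ 1 := fun q => hz1 (inj (q.trans (map_one _).symm))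
  have hjc : ∀ α ∈ Q, Commute α j := fun α hα => commute_of_fix (by rw [cc, hα.1])
  -- order
  have hcardQ : Nat.card Q = 2 ^ 11 := by
    set EA := E.map (MulAut.conj : G →* MulAut G)
    have hle : EA ≤ Q := by rintro _ ⟨u, hu, rfl⟩; exact minner hu
    have hcEA : Nat.card EA = 1024 := by
      rw [← cE]; exact (Nat.card_congr (E.equivMapOfInjective _ inj).toEquiv).symm
    have hno : ∀ u ∈ E, MulAut.conj u ≠ τ := fun u hu q => by
      have := DFunLike.congr_fun q a
      rw [MulAut.conj_apply, fix_of_commute hu.1, hτa] at this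
      exact hb.2.1 this.symm
    have hidx : (EA.subgroupOf Q).index = 2 := by
      rw [Subgroup.index_eq_two_iff]
      refine ⟨⟨τ, hτQ⟩, fun α => ?_⟩
      obtain ⟨u, hu, r | r⟩ := cases' α.2
      · refine Or.inr ⟨⟨u, hu, r.symm⟩, fun hmem => ?_⟩
        obtain ⟨v, hv, e⟩ := hmem
        exact hno _ (mul_mem (inv_mem hu) hv) (by
          rw [map_mul, map_inv, e]; show _ * ((α : MulAut G) * τ) = τ; rw [← mul_assoc, r, inv_mul_cancel, one_mul])
      · refine Or.inl ⟨?_, fun hmem => ?_⟩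
        · show (α : MulAut G) * τ ∈ EA
          rw [r, mul_assoc]
          rcases tau_sq h w hprim ht ha hb hτ hτQ hτa hτb with e | e <;> rw [e]
          · rw [mul_one]; exact ⟨u, hu, rfl⟩
          · exact ⟨u * z, mul_mem hu hzE, map_mul _ _ _⟩
        · obtain ⟨v, hv, e⟩ := hmem
          exact hno _ (mul_mem (inv_mem hu) hv) (by
            rw [map_mul, map_inv, e]; show _ * (α : MulAut G) = τ; rw [r, inv_mul_cancel_left])
    have e := Subgroup.index_mul_card (EA.subgroupOf Q)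
    rw [hidx, Nat.card_congr (Subgroup.subgroupOfEquivOfLe hle).toEquiv, hcEA] at e
    omega
  have hQp : IsPGroup 2 ↥Q := IsPGroup.of_card hcardQ
  -- squares
  have hsq : ∀ α ∈ Q, α * α = 1 ∨ α * α = j := by
    intro α hα
    obtain ⟨u, hu, rfl | rfl⟩ := cases' hα
    · rw [← map_mul]
      rcases kernel_sq h w hprim ht ha hb hu with r | r <;> rw [r]
      exacts [Or.inl (map_one _), Or.inr rfl]
    · have e : MulAut.conj u * τ * (MulAut.conj u * τ) = MulAut.conj (u * τ u) * (τ * τ) := by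
        rw [map_mul, ← cc]; group
      have h12 : u * τ u = 1 ∨ u * τ u = z := by
        rcases tker hu with r | r <;> rw [r]
        · exact kernel_sq h w hprim ht ha hb hu
        · rcases kernel_sq h w hprim ht ha hb hu with q | q <;> rw [← mul_assoc, q]
          exacts [Or.inr (one_mul _), Or.inl hzz]
      rw [e]
      rcases h12 with r | r <;> rw [r] <;>
        rcases tau_sq h w hprim ht ha hb hτ hτQ hτa hτb with q | q <;> rw [q]
      · left; rw [map_one, one_mul]
      · right; rw [map_one, one_mul]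
      · right; exact mul_one _
      · left; exact hjj
  -- the centraliser
  have hcent : ∀ α : MulAut G, (∀ β ∈ Q, Commute α β) → α = 1 ∨ α = j := by
    intro α hα
    have hfix : ∀ u ∈ E, α u = u := fun u hu => inj (by rw [← cc, (hα _ (minner hu)).eq, mul_inv_cancel_right])
    have haz : α z = z := hfix z hzE
    have hmem : α ∈ Q := by
      refine ⟨haz, fun y hy => ?_⟩
      have hαy : α y ∈ C := mem_cent_map haz hy
      have hc' : ∀ u ∈ E, Commute (y⁻¹ * α y) u := fun u hu => by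
        have h1 : y * u * y⁻¹ ∈ E := fibreKer_conj ((mem_cent_prod_iff h ha hb).1 hy) hu
        have h2 := hfix _ h1
        rw [map_mul, map_mul, map_inv, hfix u hu] at h2
        refine commute_of_fix ?_
        rw [show y⁻¹ * α y * u * (y⁻¹ * α y)⁻¹ = y⁻¹ * (α y * u * (α y)⁻¹) * y by group, h2]
        group
      have h3 := hVE (cent_fibre h hprim ht ha hb (mul_mem (inv_mem hy) hαy) hc')
      have := fibreKer_conj (hD := h.tt) ((mem_cent_prod_iff h ha hb).1 hy) h3
      rwa [show y * (y⁻¹ * α y) * y⁻¹ = α y * y⁻¹ by group] at this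
    obtain ⟨u, hu, rfl | rfl⟩ := cases' hmem
    · have hτu : τ u = u := inj (by rw [← cc, ← (hα τ hτQ).eq, mul_inv_cancel_right])
      rcases mem_closure_pair (h.tt.sq a ha) (h.tt.sq b hb.1) hb.2.2 (cent_fibre h hprim ht ha hb (hKC (hEK hu))
        fun y hy => commute_of_fix (hfix y hy)) with q | q | q | q
      · exact Or.inl (by rw [q, map_one])
      · rw [q, hτa] at hτu; exact absurd hτu hb.2.1
      · rw [q, hτb] at hτu; exact absurd hτu hb.2.1.symm
      · exact Or.inr (by rw [q])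
    · exfalso
      have := hfix a (hVE (Subgroup.subset_closure (by simp)))
      rw [MulAut.mul_apply, hτa, MulAut.conj_apply, fix_of_commute hu.2.1] at this
      exact hb.2.1 this
  have hjz : ∀ {α}, α = 1 ∨ α = j → α ∈ Subgroup.zpowers j := by
    rintro α (rfl | rfl)
    exacts [one_mem _, Subgroup.mem_zpowers j]
  set jQ : ↥Q := ⟨j, hjQ⟩
  have hjQz : ∀ {α : ↥Q}, ((α : MulAut G) = 1 ∨ (α : MulAut G) = j) → α ∈ Subgroup.zpowers jQ := by
    rintro α (r | r)
    · rw [show α = 1 from Subtype.ext r]; exact one_mem _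
    · rw [show α = jQ from Subtype.ext r]; exact Subgroup.mem_zpowers _
  have hjQc : jQ ∈ Subgroup.center ↥Q := Subgroup.mem_center_iff.2 fun α => Subtype.ext (hjc α α.2).eq
  have hctr : ∀ α ∈ Subgroup.center ↥Q, α ∈ Subgroup.zpowers jQ := fun α hα =>
    hjQz (hcent _ fun β hβ => (congrArg Subtype.val (Subgroup.mem_center_iff.1 hα ⟨β, hβ⟩)).symm)
  have hex : Cfsg.IsExtraspecial 2 ↥Q := by
    refine Cfsg.Agent.CyclicNormal.isExtraspecial_of hQp (z := jQ)
      (orderOf_eq_prime (by rw [pow_two]; exact Subtype.ext hjj) fun r => hj1 (congrArg Subtype.val r))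
      hctr hjQc (fun α β => hjQz ?_) (fun α => hjQz ?_) ?_
    · show (α : MulAut G) * β * (α : MulAut G)⁻¹ * (β : MulAut G)⁻¹ = 1 ∨
        (α : MulAut G) * β * (α : MulAut G)⁻¹ * (β : MulAut G)⁻¹ = j
      rw [show (α : MulAut G) * β * (α : MulAut G)⁻¹ * (β : MulAut G)⁻¹ =
        ((α : MulAut G) * α) * ((α : MulAut G)⁻¹ * β * ((α : MulAut G)⁻¹ * β)) * ((β : MulAut G) * β)⁻¹ by group]
      rcases hsq _ α.2 with r | r <;> rcases hsq _ (mul_mem (inv_mem α.2) β.2) with s | s <;>
        rcases hsq _ β.2 with t | t <;>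
        simp only [r, s, t, hjj, inv_eq_of_mul_eq_one_right hjj, inv_one, one_mul, mul_one, true_or, or_true]
    · show ((α ^ 2 : ↥Q) : MulAut G) = 1 ∨ _
      rw [SubmonoidClass.coe_pow, pow_two]
      exact hsq _ α.2
    · refine ⟨⟨τ, hτQ⟩, ⟨MulAut.conj a, minner (hVE (Subgroup.subset_closure (by simp)))⟩, fun q => ?_⟩
      have e1 : τ * MulAut.conj a = MulAut.conj a * τ := congrArg Subtype.val q
      rw [← mul_inv_eq_iff_eq_mul, cc] at e1
      exact hb.2.1 ((hτa.symm.trans (inj e1)))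
  have hmapc : (Subgroup.center ↥Q).map Q.subtype = Subgroup.zpowers j := by
    refine le_antisymm ?_ (Subgroup.zpowers_le.2 ⟨jQ, hjQc, rfl⟩)
    rintro _ ⟨α, hα, rfl⟩
    obtain ⟨n, rfl⟩ := Subgroup.mem_zpowers_iff.1 (hctr α hα)
    exact Subgroup.mem_zpowers_iff.2 ⟨n, by simp [jQ]⟩
  have hQC : Q ≤ Cj := fun α hα => (mem_cj_iff h w hprim ht ha hb).2 hα.1
  have hnorm : ∀ α ∈ Cj, ∀ β ∈ Q, α * β * α⁻¹ ∈ Q := by
    intro α hα β hβ
    have haz := (mem_cj_iff h w hprim ht ha hb).1 hα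
    have haz' := (mem_cj_iff h w hprim ht ha hb).1 (inv_mem hα)
    refine ⟨by simp only [MulAut.mul_apply, haz', hβ.1, haz], fun y hy => ?_⟩
    have := qa_mem h w ha hb haz (hβ.2 _ (mem_cent_map haz' hy))
    simpa using this
  have hlarge : Cfsg.IsLargeExtraspecial Q := by
    refine ⟨hex, le_antisymm (fun α hα => hmapc ▸ hjz (hcent α fun β hβ =>
      (Subgroup.mem_centralizer_iff.1 hα β hβ).symm)) ?_, ?_, ?_⟩
    · rw [hmapc, Subgroup.zpowers_le, Subgroup.mem_centralizer_iff]
      exact fun β hβ => (hjc β hβ).eq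
    · rw [hmapc, Subgroup.zpowers_eq_closure, Subgroup.centralizer_closure]
      intro α hα
      rw [Subgroup.mem_normalizer_iff]
      refine fun β => ⟨hnorm α hα β, fun hβ => ?_⟩
      have := hnorm _ (inv_mem hα) _ hβ
      simpa [mul_assoc] using this
    · intro K hK hQK
      have hKn : ∀ α ∈ Q, ∀ κ ∈ K, α * κ * α⁻¹ ∈ K := fun α hα κ hκ =>
        (Subgroup.mem_normalizer_iff.1 (hQK hα) κ).1 hκ
      have hclass : ∀ κ ∈ K, ∃ g, κ = MulAut.conj g := by
        have hR : ∀ α : MulAut G, α ∈ (MulAut.conj : G →* MulAut G).range ∨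
            α * σ⁻¹ ∈ (MulAut.conj : G →* MulAut G).range := fun α => by
          obtain ⟨g, r | r⟩ := w.classes α
          exacts [Or.inl ⟨g, r.symm⟩, Or.inr ⟨g, by rw [r, mul_inv_cancel_right]⟩]
        haveI hN : (MulAut.conj : G →* MulAut G).range.Normal :=
          ⟨fun β ⟨g, e⟩ α => ⟨α g, by rw [← e, cc]⟩⟩
        have h2 : ∀ α : MulAut G, α * α ∈ (MulAut.conj : G →* MulAut G).range := fun α => by
          rcases hR α with r | r
          · exact mul_mem r r
          · rcases hR (σ * σ) with q | q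
            · have e : α * α = (α * σ⁻¹) * (σ * (α * σ⁻¹) * σ⁻¹) * (σ * σ) := by group
              rw [e]
              exact mul_mem (mul_mem r (hN.conj_mem _ r σ)) q
            · rw [mul_inv_cancel_right] at q
              have hα' : α ∈ (MulAut.conj : G →* MulAut G).range := by
                have := mul_mem r q
                rwa [inv_mul_cancel_right] at this
              exact mul_mem hα' hα'
        intro κ hκ
        obtain ⟨m, hm⟩ := hK
        have e1 : κ ^ (2 * m + 1) = 1 := by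
          have := congrArg Subtype.val (pow_card_eq_one' (x := (⟨κ, hκ⟩ : ↥K)))
          rwa [hm] at this
        have e2 : κ = (κ * κ) ^ (m + 1) := by
          rw [← pow_two, ← pow_mul, show 2 * (m + 1) = 2 * m + 1 + 1 by omega, pow_succ, e1, one_mul]
        obtain ⟨g, e⟩ := pow_mem (h2 κ) (m + 1)
        exact ⟨g, by rw [e2, ← e]⟩
      set K₀ := K.comap (MulAut.conj : G →* MulAut G)
      have hK₀ : Odd (Nat.card K₀) := by
        have e : K₀.map (MulAut.conj : G →* MulAut G) = K := Subgroup.map_comap_eq_self fun κ hκ => by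
          obtain ⟨g, rfl⟩ := hclass κ hκ; exact ⟨g, rfl⟩
        rwa [← e, ← Nat.card_congr (K₀.equivMapOfInjective _ inj).toEquiv] at hK
      have hn0 : ∀ u ∈ E, ∀ g ∈ K₀, u * g * u⁻¹ ∈ K₀ := fun u hu g hg => by
        show MulAut.conj (u * g * u⁻¹) ∈ K
        rw [map_mul, map_mul, map_inv]
        exact hKn _ (minner hu) _ hg
      have hKQ : ∀ α ∈ K, α ∈ Q → α = 1 := fun α h1 h2 => by
        obtain ⟨n, hn⟩ := IsPGroup.iff_orderOf.1 hQp ⟨α, h2⟩
        rw [Subgroup.orderOf_mk] at hn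
        exact orderOf_eq_one_iff.1 (Nat.eq_one_of_dvd_coprimes
          (Nat.Coprime.pow_left n (Nat.coprime_two_left.2 hK)) (hn ▸ dvd_rfl)
          (Subgroup.orderOf_dvd_natCard _ h1))
      have hfree : ∀ g ∈ K₀, z * g * z⁻¹ = g → g = 1 := fun g hg hfix => by
        have hgC : MulAut.conj g ∈ Cj :=
          (mem_cj_iff h w hprim ht ha hb).2 (fix_of_commute (commute_of_fix hfix).symm)
        have hcom : ∀ β ∈ Q, Commute (MulAut.conj g) β := fun β hβ => by
          have h1 : MulAut.conj g * β * (MulAut.conj g)⁻¹ * β⁻¹ = 1 := hKQ _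
            (by rw [mul_assoc, mul_assoc, ← mul_assoc β]; exact mul_mem hg (hKn β hβ _ (inv_mem hg)))
            (mul_mem (hnorm _ hgC β hβ) (inv_mem hβ))
          exact mul_inv_eq_iff_eq_mul.1 (mul_inv_eq_one.1 h1)
        have hQm : MulAut.conj g ∈ Q := by
          rcases hcent _ hcom with r | r <;> rw [r]
          exacts [one_mem _, hjQ]
        exact inj ((hKQ _ hg hQm).trans (map_one _).symm)
      have haE : a ∈ E := hVE (Subgroup.subset_closure (by simp))
      have hbE : b ∈ E := hVE (Subgroup.subset_closure (by simp))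
      have hjK : ∀ g ∈ K₀, z * g * z⁻¹ = g⁻¹ := fun g hg =>
        inverts_of_free hzz (hn0 z hzE) hfree hg
      obtain ⟨F, _, _, _, hF, φ, ω, e, -, -, d, -⟩ := exists_pair_data h hprim ht ha hb
      have hxE : ∀ i l, x i * x l ∈ E := fun i l => by
        rw [hEdef, (fibre_gen h d).2]
        exact Subgroup.subset_closure (Or.inl ⟨x l, w.quad.mem l, x i, w.quad.mem i,
          Quad.sim h w.quad hb.2.2 i l, rfl⟩)
      have hfa : ∀ g ∈ K₀, Commute g a → g = 1 := fun g hg =>
        odd_cent h w.quad ha hb hK₀ (hn0 b hbE) (fun i l => hn0 _ (hxE i l)) hjK hg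
      have hq' : Quad D b a x :=
        ⟨fun i => ⟨(w.quad.mem i).1, (w.quad.mem i).2.2.1, (w.quad.mem i).2.1, (w.quad.mem i).2.2.2.2,
          (w.quad.mem i).2.2.2.1⟩, w.quad.inj, w.quad.comm, w.quad.prod.trans hb.2.2.eq⟩
      have hb' : a ∈ nb D b := ⟨ha, hb.2.1.symm, hb.2.2.symm⟩
      have hfb : ∀ g ∈ K₀, Commute g b → g = 1 := fun g hg =>
        odd_cent h hq' hb.1 hb' hK₀ (hn0 a haE) (fun i l => hn0 _ (hxE i l))
          (fun g hg => by rw [← hb.2.2.eq]; exact hjK g hg) hg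
      have hK0 : ∀ g ∈ K₀, g = 1 := by
        intro g hg
        have ia := fun {g} => inverts_of_free (K := K₀) (h.tt.sq a ha) (hn0 a haE)
          (fun g hg e => hfa g hg (commute_of_fix e).symm) (g := g)
        have ib := fun {g} => inverts_of_free (K := K₀) (h.tt.sq b hb.1) (hn0 b hbE)
          (fun g hg e => hfb g hg (commute_of_fix e).symm) (g := g)
        refine eq_one_of_sq_odd hK₀ hg ?_
        have e1 : z * g * z⁻¹ = g := by
          rw [hz, show a * b * g * (a * b)⁻¹ = a * (b * g * b⁻¹) * a⁻¹ by group, ib hg, ia (inv_mem hg), inv_inv]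
        rw [hjK g hg] at e1
        nth_rewrite 1 [← e1]
        exact inv_mul_cancel g
      refine (Subgroup.eq_bot_iff_forall _).2 fun κ hκ => ?_
      obtain ⟨g, rfl⟩ := hclass κ hκ
      rw [hK0 g hκ, map_one]
  -- the quotient
  obtain ⟨hn, F, _, _, hF4, ⟨e⟩⟩ := pair_quot h hprim ht ha hb
  haveI := hn
  haveI hQn : (Q.subgroupOf Cj).Normal := ⟨fun β hβ α => hnorm α α.2 β hβ⟩
  let ι : ↥C →* ↥Cj := ((MulAut.conj : G →* MulAut G).comp C.subtype).codRestrict Cj fun y =>
    (mem_cj_iff h w hprim ht ha hb).2 (fix_of_commute (Subgroup.mem_centralizer_singleton_iff.1 y.2))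
  let f := (QuotientGroup.mk' (Q.subgroupOf Cj)).comp ι
  have hdec : ∀ α : ↥Cj, ∃ y : ↥C, ∃ β : ↥Cj, (β : MulAut G) ∈ Q ∧ α = ι y * β := by
    intro α
    obtain ⟨g, r | r⟩ := w.classes α
    · have hg : g ∈ C := Subgroup.mem_centralizer_singleton_iff.2 (commute_of_fix (by
        have := (mem_cj_iff h w hprim ht ha hb).1 α.2
        rwa [r, MulAut.conj_apply] at this)).eq
      exact ⟨⟨g, hg⟩, 1, one_mem _, Subtype.ext (by simpa [ι] using r)⟩
    · have hτC : τ ∈ Cj := hQC hτQ
      have e' : (α : MulAut G) * τ⁻¹ = MulAut.conj (g * c⁻¹) := by rw [r, hτ, map_mul, map_inv]; group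
      have hg : g * c⁻¹ ∈ C := Subgroup.mem_centralizer_singleton_iff.2 (commute_of_fix (by
        have := (mem_cj_iff h w hprim ht ha hb).1 (mul_mem α.2 (inv_mem hτC))
        rwa [e', MulAut.conj_apply] at this)).eq
      refine ⟨⟨g * c⁻¹, hg⟩, ⟨τ, hτC⟩, hτQ, Subtype.ext ?_⟩
      show (α : MulAut G) = MulAut.conj (g * c⁻¹) * τ
      rw [← e', inv_mul_cancel_right]
  have hsurj : Function.Surjective f := fun q => by
    obtain ⟨α, rfl⟩ := QuotientGroup.mk'_surjective _ q
    obtain ⟨y, β, hβ, rfl⟩ := hdec α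
    refine ⟨y, ?_⟩
    rw [map_mul, show QuotientGroup.mk' (Q.subgroupOf Cj) β = 1 from (QuotientGroup.eq_one_iff _).2 hβ, mul_one]
    rfl
  have hker : f.ker = E.subgroupOf C := by
    ext y
    rw [MonoidHom.mem_ker, Subgroup.mem_subgroupOf]
    exact (QuotientGroup.eq_one_iff _).trans
      ⟨fun hy => qa_inner h w hprim ht ha hb hy, fun hy => minner hy⟩
  have e' : ↥Cj ⧸ Q.subgroupOf Cj ≃* MulAut (Cfsg.PSU 4 F 2) :=
    (QuotientGroup.quotientKerEquivOfSurjective f hsurj).symm.trans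
      ((QuotientGroup.quotientMulEquivOfEq hker).trans e)
  -- the radical
  have hcore : Cfsg.pCore 2 ↥Cj = Q.subgroupOf Cj := by
    refine le_antisymm ?_ (CfsgLib.Solvable.le_pCore 2 hQn
      (hQp.comap_of_injective Cj.subtype Subtype.val_injective))
    set P := Cfsg.pCore 2 ↥Cj
    have hιinj : Function.Injective ι := fun y y' r => Subtype.ext (inj (congrArg Subtype.val r))
    have hP : P.comap ι ≤ E.subgroupOf C := by
      rw [← pCore_pair h hprim ht ha hb]
      exact CfsgLib.Solvable.le_pCore 2 (Subgroup.Normal.comap inferInstance ι)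
        ((CfsgLib.Solvable.isPGroup_pCore 2).comap_of_injective ι hιinj)
    have hQP : Q.subgroupOf Cj ≤ P := CfsgLib.Solvable.le_pCore 2 hQn
      (hQp.comap_of_injective Cj.subtype Subtype.val_injective)
    intro α hα
    obtain ⟨y, β, hβ, rfl⟩ := hdec α
    have hy : ι y ∈ P := by
      have := mul_mem hα (inv_mem (hQP (Subgroup.mem_subgroupOf.2 hβ)))
      rwa [mul_inv_cancel_right] at this
    exact mul_mem (Subgroup.mem_subgroupOf.2 (minner (Subgroup.mem_subgroupOf.1 (hP hy))))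
      (Subgroup.mem_subgroupOf.2 hβ)
  have hF : Cfsg.generalizedFittingSubgroup ↥Cj = Q.subgroupOf Cj := by
    rw [← hcore]
    refine CfsgLib.LocalB.fstar_eq_pCore fun α hα => ?_
    rw [hcore] at hα ⊢
    refine Subgroup.mem_subgroupOf.2 ?_
    rcases hcent α fun β hβ => (congrArg Subtype.val (Subgroup.mem_centralizer_iff.1 hα ⟨β, hQC hβ⟩
      (Subgroup.mem_subgroupOf.2 hβ))).symm with r | r <;> rw [r]
    exacts [one_mem _, hjQ]
  exact ⟨Q, hlarge, hcardQ, by rw [hF, Subgroup.map_subgroupOf_eq_of_le hQC], hQC, hQn, F, inferInstance,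
    inferInstance, hF4, ⟨e'⟩⟩

end CfsgLib.ThreeT.Prod
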