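import Cfsg.Agent.Spor3T.M24Invol

/-!
Type M(24): the transpositions form the only generating class of 3-transpositions.
-/

set_option autoImplicit false
set_option linter.unusedSectionVars false
set_option linter.style.haveILetI false

namespace CfsgLib.ThreeT.Prod

variable {G : Type*} [Group G] [Finite G] {D : Set G} {d : G} (P : Point24 D d)

include P

/-- If a class of 3-transpositions consists of products of `i` members then `i = 1`. -/
theorem class_unique24 {D' : Set G} (hD' : Cfsg.IsThreeTranspositionClass D') : D' = D := by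
  classical
  obtain ⟨e₀, P'⟩ := P.below
  have hT := P.base.tt
  obtain ⟨hset, ⟨x, hx, hcl⟩, -⟩ := hD'
  have hxD : ∀ y, y ∈ D' ↔ IsConj x y := fun y => by rw [hcl]; rfl
  obtain ⟨i, h1, h4, hfac⟩ := invol_short24 P (hset.1 x hx)
  have hall : ∀ y, Facs D i y → y ∈ D' := fun y hy => (hxD y).2 (facs_conj24 P h1 h4 hfac hy)
  have hconj : ∀ y, y ∈ D' → Facs D i y := fun y hy => by
    obtain ⟨g, rfl⟩ := isConj_iff.1 ((hxD y).1 hy)
    exact Facs.map hT hfac g
  by_cases hm1 : i = 1
  · subst hm1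
    ext y
    refine ⟨fun hy => ?_, fun hy => hall y ⟨[y], by simp, rfl, by simpa using hy, by simp, by simp⟩⟩
    obtain ⟨l, -, hl, hm, -, rfl⟩ := hconj y hy
    obtain ⟨a, rfl⟩ := List.length_eq_one_iff.1 hl
    simpa using hm a (by simp)
  exfalso
  -- in the image: a far pair and three commuting common neighbours
  set π := QuotientGroup.mk' (Subgroup.center ↥(hsub D d))
  have hG := geo23 P'
  obtain ⟨A, hA⟩ : (img D d).Nonempty := ⟨_, P'.mem⟩
  obtain ⟨B, hB⟩ := Level.nb_nonempty hG arith23 hA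
  obtain ⟨X, hX, hAX⟩ : {y | y ∈ nb (img D d) B ∧ ¬ Commute A y}.Nonempty :=
    Set.nonempty_of_ncard_ne_zero (by rw [Level.ncard_far_nb hG.toPre arith23 hA hB]; norm_num)
  have hBt : B ∈ tri (img D d) A X := ⟨hB, hX.2.2⟩
  obtain ⟨E, hE⟩ : {y | y ∈ tri (img D d) A X ∧ y ≠ B ∧ Commute y B}.Nonempty :=
    Set.nonempty_of_ncard_ne_zero (by rw [Level.tri_inner hG.toPre arith23 hA hX.1 hAX hBt]; norm_num)
  obtain ⟨F, hF⟩ : {y | y ∈ tri (img D d) A X ∧ y ≠ B ∧ y ≠ E ∧ Commute y B ∧ Commute y E}.Nonempty :=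
    Set.nonempty_of_ncard_ne_zero (by
      rw [Level.tri_inner_two hG.toPre arith23 hA hX.1 hAX hBt hE.1 hE.2.1 hE.2.2]; norm_num)
  obtain ⟨a', ha', ea⟩ := hA
  obtain ⟨x', hx', ex⟩ := hX.1
  obtain ⟨e', he', ee⟩ := hB.1
  obtain ⟨f', hf', ef⟩ := hE.1.1.1
  obtain ⟨g', hg', eg⟩ := hF.1.1.1
  have tr : ∀ {u v : ↥(hsub D d)}, (u : G) ∈ nb D d → (v : G) ∈ nb D d → Commute (π u) (π v) →
      Commute (u : G) v := fun hu hv h => (map_commute_iff hT hu hv).1 h
  have ne : ∀ {u v : ↥(hsub D d)}, π u ≠ π v → (u : G) ≠ v := fun h e => h (congrArg π (Subtype.ext e))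
  set a : G := (a' : G)
  set x₀ : G := (x' : G)
  set e : G := (e' : G)
  set f : G := (f' : G)
  set g : G := (g' : G)
  have cae : Commute a e := tr ha' he' (by rw [show π a' = A from ea, show π e' = B from ee]; exact hB.2.2)
  have cxe : Commute x₀ e := tr hx' he' (by rw [show π x' = X from ex, show π e' = B from ee]; exact hX.2.2.symm)
  have caf : Commute a f := tr ha' hf' (by rw [show π a' = A from ea, show π f' = E from ef]; exact hE.1.1.2.2)
  have cxf : Commute x₀ f := tr hx' hf' (by rw [show π x' = X from ex, show π f' = E from ef]; exact hE.1.2.symm)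
  have cag : Commute a g := tr ha' hg' (by rw [show π a' = A from ea, show π g' = F from eg]; exact hF.1.1.2.2)
  have cxg : Commute x₀ g := tr hx' hg' (by rw [show π x' = X from ex, show π g' = F from eg]; exact hF.1.2.symm)
  have cef : Commute e f := tr he' hf' (by rw [show π e' = B from ee, show π f' = E from ef]; exact hE.2.2.symm)
  have ceg : Commute e g := tr he' hg' (by rw [show π e' = B from ee, show π g' = F from eg]; exact hF.2.2.2.1.symm)
  have cfg : Commute f g := tr hf' hg' (by rw [show π f' = E from ef, show π g' = F from eg]; exact hF.2.2.2.2.symm)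
  have hax : ¬ Commute a x₀ := fun h => hAX (by rw [← ea, ← ex]; exact (map_commute_iff hT ha' hx').2 h)
  have nef : e ≠ f := ne (by rw [show π e' = B from ee, show π f' = E from ef]; exact hE.2.1.symm)
  have neg : e ≠ g := ne (by rw [show π e' = B from ee, show π g' = F from eg]; exact hF.2.1.symm)
  have nfg : f ≠ g := ne (by rw [show π f' = E from ef, show π g' = F from eg]; exact hF.2.2.1.symm)
  have naf : a ≠ f := fun q => hax (q ▸ cxf.symm)
  have nag : a ≠ g := fun q => hax (q ▸ cxg.symm)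
  have nxe : x₀ ≠ e := fun q => hax (q ▸ cae)
  have nxf : x₀ ≠ f := fun q => hax (q ▸ caf)
  have nxg : x₀ ≠ g := fun q => hax (q ▸ cag)
  have nad : a ≠ d := ha'.2.1
  have ndf : d ≠ f := fun q => hf'.2.1 q.symm
  have ndg : d ≠ g := fun q => hg'.2.1 q.symm
  have cad : Commute a d := ha'.2.2.symm
  have cxd : Commute x₀ d := hx'.2.2.symm
  have cfd : Commute f d := hf'.2.2.symm
  have cgd : Commute g d := hg'.2.2.symm
  obtain ⟨p, q, hp, hq, hpq⟩ : ∃ p q, p ∈ D' ∧ q ∈ D' ∧ p * q = (a * x₀) * (d * e) := by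
    interval_cases i
    · omega
    · refine ⟨a * d, x₀ * e, hall _ ⟨[a, d], by simpa using ha'.2.1, rfl, by simpa using ⟨ha'.1, P.mem⟩,
        by simpa using ⟨cad, cad.symm⟩, by simp⟩, hall _ ⟨[x₀, e], by simpa using nxe, rfl,
        by simpa using ⟨hx'.1, he'.1⟩, by simpa using ⟨cxe, cxe.symm⟩, by simp⟩, ?_⟩
      rw [show a * d * (x₀ * e) = a * (d * x₀) * e by group, cxd.symm.eq]; group
    · refine ⟨a * d * f, x₀ * e * f, hall _ ⟨[a, d, f], ?_, rfl, by simpa using ⟨ha'.1, P.mem, hf'.1⟩, ?_,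
        by simp [mul_assoc]⟩, hall _ ⟨[x₀, e, f], ?_, rfl, by simpa using ⟨hx'.1, he'.1, hf'.1⟩, ?_,
        by simp [mul_assoc]⟩, ?_⟩
      · simp [nad, naf, ndf]
      · simp only [List.mem_cons, List.not_mem_nil, or_false, forall_eq_or_imp, forall_eq]
        exact ⟨⟨Commute.refl _, cad, caf⟩, ⟨cad.symm, Commute.refl _, cfd.symm⟩, caf.symm, cfd, Commute.refl _⟩
      · simp [nxe, nxf, nef]
      · simp only [List.mem_cons, List.not_mem_nil, or_false, forall_eq_or_imp, forall_eq]
        exact ⟨⟨Commute.refl _, cxe, cxf⟩, ⟨cxe.symm, Commute.refl _, cef⟩, cxf.symm, cef.symm, Commute.refl _⟩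
      · have hk : Commute f (x₀ * e) := cxf.symm.mul_right cef.symm
        calc a * d * f * (x₀ * e * f) = a * d * (f * (x₀ * e)) * f := by group
          _ = a * d * (x₀ * e) * (f * f) := by rw [hk.eq]; group
          _ = a * (d * x₀) * e := by rw [hT.sq f hf'.1, mul_one]; group
          _ = a * x₀ * (d * e) := by rw [cxd.symm.eq]; group
    · refine ⟨a * d * (f * g), x₀ * e * (f * g), hall _ ⟨[a, d, f, g], ?_, rfl,
        by simpa using ⟨ha'.1, P.mem, hf'.1, hg'.1⟩, ?_, by simp [mul_assoc]⟩, hall _ ⟨[x₀, e, f, g], ?_, rfl,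
        by simpa using ⟨hx'.1, he'.1, hf'.1, hg'.1⟩, ?_, by simp [mul_assoc]⟩, ?_⟩
      · simp [nad, naf, nag, ndf, ndg, nfg]
      · simp only [List.mem_cons, List.not_mem_nil, or_false, forall_eq_or_imp, forall_eq]
        exact ⟨⟨Commute.refl _, cad, caf, cag⟩, ⟨cad.symm, Commute.refl _, cfd.symm, cgd.symm⟩,
          ⟨caf.symm, cfd, Commute.refl _, cfg⟩, cag.symm, cgd, cfg.symm, Commute.refl _⟩
      · simp [nxe, nxf, nxg, nef, neg, nfg]
      · simp only [List.mem_cons, List.not_mem_nil, or_false, forall_eq_or_imp, forall_eq]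
        exact ⟨⟨Commute.refl _, cxe, cxf, cxg⟩, ⟨cxe.symm, Commute.refl _, cef, ceg⟩,
          ⟨cxf.symm, cef.symm, Commute.refl _, cfg⟩, cxg.symm, ceg.symm, cfg.symm, Commute.refl _⟩
      · have hk : Commute (f * g) (x₀ * e) :=
          (cxf.symm.mul_right cef.symm).mul_left (cxg.symm.mul_right ceg.symm)
        have h2 : f * g * (f * g) = 1 := by
          rw [← pow_two, cfg.mul_pow, pow_two, pow_two, hT.sq f hf'.1, hT.sq g hg'.1, one_mul]
        calc a * d * (f * g) * (x₀ * e * (f * g)) = a * d * ((f * g) * (x₀ * e)) * (f * g) := by group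
          _ = a * d * (x₀ * e) * (f * g * (f * g)) := by rw [hk.eq]; group
          _ = a * (d * x₀) * e := by rw [h2, mul_one]; group
          _ = a * x₀ * (d * e) := by rw [cxd.symm.eq]; group
  have hde : Commute d e := he'.2.2
  have hcomm : Commute (a * x₀) (d * e) := (cad.mul_right cae).mul_left (cxd.mul_right cxe)
  have hde2 : (d * e) ^ 2 = 1 := by
    rw [hde.mul_pow, pow_two, pow_two, hT.sq d P.mem, hT.sq e he'.1, one_mul]
  have hax3 := cube_of_not_commute P.base.class3.1 ha'.1 hx'.1 hax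
  rcases hset.2 p hp q hq with q' | q' <;> rw [hpq, hcomm.mul_pow] at q'
  · rw [hde2, mul_one] at q'
    rw [pow_succ, q', one_mul] at hax3
    exact hax ((show x₀ = a from (inv_eq_of_mul_eq_one_right hax3).symm.trans (hT.inv ha'.1)) ▸ Commute.refl a)
  · rw [hax3, one_mul, pow_succ, hde2, one_mul] at q'
    exact he'.2.1 (show e = d from (inv_eq_of_mul_eq_one_right q').symm.trans (hT.inv P.mem))

end CfsgLib.ThreeT.Prod
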