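import Cfsg.Agent.Spectrum.PSUHalfTorus
import Cfsg.Agent.GLElem.Singer

/-!
In `PSU₆(2)` the primes 7 and 11 are isolated in the prime graph: an element whose order they divide has
that order.
-/

set_option autoImplicit false
set_option linter.unusedSectionVars false
set_option linter.style.haveILetI false

namespace CfsgLib.SixPrimes

open Module Matrix CfsgLib.Forms CfsgLib.SpecAbsorb CfsgLib.SpectrumPSL

universe u

variable {F : Type u} [Field F] [Finite F] (hF : Nat.card F = 2 ^ 2)

theorem orderOf_four : orderOf (4 : ZMod 11) = 5 :=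
  haveI : Fact (5 : ℕ).Prime := ⟨by norm_num⟩
  orderOf_eq_prime (by decide) (by decide)

include hF

theorem charP_two : CharP F 2 := by
  obtain ⟨p, k, hp, hp', hq⟩ := exists_charP_pow hF
  have : p = 2 := (Nat.prime_dvd_prime_iff_eq hp' Nat.prime_two).1 (hq.symm ▸ dvd_pow_self p (by
    rintro rfl; norm_num at hq))
  exact this ▸ hp

/-- A scalar up to nilpotents has a scalar 2-power. -/
theorem scalar_of_nil {V : Type u} [AddCommGroup V] [Module F V] [Nontrivial V] [FiniteDimensional F V]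
    {g : Module.End F V} {a L : ℕ} {c : F} (hL : L ≤ 2 ^ L)
    (h : (g ^ a - algebraMap F (Module.End F V) c) ^ L = 0) :
    g ^ (a * 2 ^ L) = algebraMap F (Module.End F V) (c ^ 2 ^ L) := by
  haveI := charP_two hF
  haveI : Fact (2 : ℕ).Prime := ⟨Nat.prime_two⟩
  haveI : CharP (Module.End F V) 2 :=
    charP_of_injective_algebraMap (FaithfulSMul.algebraMap_injective F _) 2
  have h1 := pow_eq_zero_of_le hL h
  rw [sub_pow_char_pow_of_commute 2 _ (Algebra.commute_algebraMap_right c _), sub_eq_zero, ← pow_mul,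
    ← map_pow (algebraMap F (Module.End F V))] at h1
  exact h1

/-- No isometry of a small space has order divisible by 11. -/
theorem not_eleven_small {V : Type u} [AddCommGroup V] [Module F V] [FiniteDimensional F V]
    (hV : finrank F V < 5) {Φ : RForm F V} (hΦ : Φ.Nondeg) {g : Module.End F V}
    (hg : ∀ u v, Φ.h (g u) (g v) = Φ.h u v) : ¬ 11 ∣ orderOf g := by
  intro h11
  haveI : Finite (Module.End F V) := by
    haveI : Finite V := Module.finite_of_finite F
    exact Finite.of_injective (fun f => (f : V → V)) DFunLike.coe_injective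
  have hinj : Function.Injective g := by
    rw [← LinearMap.ker_eq_bot, LinearMap.ker_eq_bot']
    exact fun v hv => hΦ v fun u => by rw [← hg u v, hv, Φ.zero_right]
  obtain ⟨u, hu⟩ : IsUnit g := (Module.End.isUnit_iff g).2
    ⟨hinj, LinearMap.injective_iff_surjective.1 hinj⟩
  have hpos : 0 < orderOf g := by rw [← hu, orderOf_units]; exact orderOf_pos u
  obtain ⟨k, hk⟩ := h11
  have h1 : (g ^ k) ^ 11 = 1 := by rw [← pow_mul, mul_comm, ← hk, pow_orderOf_eq_one]
  have h2 := CfsgLib.GLElem.eq_one_of_small (q := 4) (n := 5) (r := 11) (by rw [hF]; rfl) (by norm_num)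
    (by norm_num) orderOf_four hV h1
  have hk0 : 0 < k := Nat.pos_of_ne_zero (by rintro rfl; rw [mul_zero] at hk; omega)
  have h3 := Nat.le_of_dvd hk0 (orderOf_dvd_of_pow_eq_one h2)
  omega

/-- The restrictions to an invariant split. -/
theorem split {A : Cfsg.SU 6 F 2} {e : Module.End F (Fin 6 → F)}
    (he : e * e = e) (hc : Commute (Matrix.toLinAlgEquiv' (A.1 : Matrix (Fin 6) (Fin 6) F)) e)
    (hee : IsAdj (CfsgLib.Unitary.uForm hF 6) e e) (h5 : finrank F (LinearMap.range e) = 5)
    (h11 : 11 ∣ orderOf (Matrix.toLinAlgEquiv' (A.1 : Matrix (Fin 6) (Fin 6) F))) :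
    ∃ c : F, Matrix.toLinAlgEquiv' (A.1 : Matrix (Fin 6) (Fin 6) F) ^ 11 =
      algebraMap F (Module.End F (Fin 6 → F)) c := by
  classical
  haveI := Fintype.ofFinite F
  have hcard : Fintype.card F = 4 := by rw [← Nat.card_eq_fintype_card, hF]; rfl
  set g : Module.End F (Fin 6 → F) := Matrix.toLinAlgEquiv' (A.1 : Matrix (Fin 6) (Fin 6) F)
  set Φ := CfsgLib.Unitary.uForm hF 6
  have hΦ : Φ.Nondeg := CfsgLib.Unitary.uForm_nondeg hF 6
  have hg : ∀ u v, Φ.h (g u) (g v) = Φ.h u v := fun u v => A.2 u v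
  have hdet : LinearMap.det g = 1 := (LinearMap.det_toLin' (A.1 : Matrix (Fin 6) (Fin 6) F)).trans A.1.2
  set W := LinearMap.range e
  set U := LinearMap.range (1 - e)
  have he' : (1 - e) * (1 - e) = 1 - e := by rw [mul_sub, sub_mul, sub_mul, he, one_mul, mul_one]; abel
  have hee' : IsAdj Φ (1 - e) (1 - e) := fun u v => by
    simp only [LinearMap.sub_apply, Module.End.one_apply, Φ.sub_left, Φ.sub_right, hee u v]
  have hfix : ∀ w ∈ W, e w = w := by
    rintro _ ⟨v, rfl⟩; exact LinearMap.congr_fun he v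
  have hker : U = LinearMap.ker e := by
    ext v
    rw [LinearMap.mem_ker]
    constructor
    · rintro ⟨w, rfl⟩
      have := LinearMap.congr_fun he w
      rw [Module.End.mul_apply] at this
      rw [LinearMap.sub_apply, map_sub, Module.End.one_apply, this, sub_self]
    · exact fun hv => ⟨v, by rw [LinearMap.sub_apply, Module.End.one_apply, hv, sub_zero]⟩
  have hU1 : finrank F U = 1 := by
    have := LinearMap.finrank_range_add_finrank_ker e
    rw [Module.finrank_fin_fun] at this
    rw [show finrank F (LinearMap.range e) = 5 from h5] at this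
    rw [hker]
    omega
  have hcompl : IsCompl W U := by
    rw [hker]
    refine ⟨Submodule.disjoint_def.2 fun v hv hv' => ?_, codisjoint_iff_le_sup.2 fun v _ =>
      Submodule.mem_sup.2 ⟨e v, LinearMap.mem_range_self e v, v - e v, ?_, add_sub_cancel _ _⟩⟩
    · rw [← hfix v hv]; exact hv'
    · have := LinearMap.congr_fun he v
      rw [Module.End.mul_apply] at this
      rw [LinearMap.mem_ker, map_sub, this, sub_self]
  have hW : ∀ v ∈ W, g v ∈ W := by
    rintro v ⟨w, rfl⟩; exact ⟨g w, (LinearMap.congr_fun hc.eq w).symm⟩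
  have hU : ∀ v ∈ U, g v ∈ U := by
    rintro v ⟨w, rfl⟩; exact ⟨g w, (LinearMap.congr_fun ((Commute.one_right g).sub_right hc).eq w).symm⟩
  set g1 := g.restrict hW
  set g2 := g.restrict hU
  have hg1 : ∀ u v, (PSUHalfTorus.restrForm Φ W).h (g1 u) (g1 v) = (PSUHalfTorus.restrForm Φ W).h u v :=
    fun u v => hg u v
  have hΦ1 : (PSUHalfTorus.restrForm Φ W).Nondeg := PSUHalfTorus.restrForm_range_nondeg hΦ he hee
  have hg1d : 11 ∣ orderOf g1 := by
    by_contra hn
    refine PSUHalfTorus.not_dvd_of_split hc (by norm_num : (11 : ℕ).Prime) (fun f hf => ?_) (fun f hf => ?_) h11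
    · rw [show f = g1 from LinearMap.ext fun v => Subtype.ext (hf v)]; exact hn
    · exact not_eleven_small hF (by rw [hU1]; norm_num) (PSUHalfTorus.restrForm_range_nondeg hΦ he' hee')
        (g := f) fun u v => by
          show Φ.h (f u : Fin 6 → F) (f v : Fin 6 → F) = Φ.h (u : Fin 6 → F) (v : Fin 6 → F)
          rw [hf, hf, hg]
  haveI : Nontrivial W := Module.nontrivial_of_finrank_pos (R := F) (by rw [h5]; norm_num)
  rcases cases hΦ1 hg1 with ⟨e1, f1, f0, f2, fc, fe⟩ |
      ⟨K, _, _, _, d, L, τ, x, hL, hKc, hdL, hττ, hτF, hτx, hdx, hnil⟩ |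
      ⟨K, _, _, _, d, L, x, δ, hL, hKc, hdL, -⟩
  · exact absurd hg1d (PSUHalfTorus.not_dvd_of_adj (by norm_num) hΦ1 hg1 f1 f0 f2 fc fe
      fun V' _ _ _ hV' Ψ _ hΨ g' hg' => not_eleven_small hF (hV'.trans_eq h5) hΨ hg')
  swap
  · rw [h5] at hdL; omega
  rw [h5] at hdL
  obtain ⟨-, hx⟩ := PSUHalfTorus.field_pow hF hKc τ x hττ hτF hτx
  have hd : d = 5 := by
    rcases (Nat.dvd_prime (by norm_num : (5 : ℕ).Prime)).1 ⟨L, hdL.symm⟩ with rfl | rfl
    · exfalso
      have := scalar_of_nil hF (Nat.lt_two_pow_self).le (hnil _ 1 (by rw [hx, map_one]))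
      rw [one_pow, map_one] at this
      have h3 := hg1d.trans (orderOf_dvd_of_pow_eq_one this)
      rcases (Nat.Prime.dvd_mul (by norm_num : (11 : ℕ).Prime)).1 h3 with q | q
      · norm_num at q
      · exact absurd ((Nat.prime_dvd_prime_iff_eq (by norm_num) Nat.prime_two).1
          ((by norm_num : (11 : ℕ).Prime).dvd_of_dvd_pow q)) (by norm_num)
    · rfl
  subst hd
  obtain rfl : L = 1 := by omega
  obtain ⟨c, hcx⟩ := mem_base_of_pow_card (F := F) (x := x ^ 11) (by
    rw [hcard, ← pow_mul, show 11 * 4 = (2 ^ 5 + 1) + 11 from rfl, pow_add, hx, one_mul])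
  have hc3 : c ^ 3 = 1 := (algebraMap F K).injective (by
    rw [map_pow, hcx, map_one, ← pow_mul]; exact hx)
  have hW11 : g1 ^ 11 = algebraMap F (Module.End F W) c := by
    have := hnil 11 c hcx.symm
    rw [pow_one] at this
    exact sub_eq_zero.mp this
  have hd1 : LinearMap.det g1 = c := (algebraMap F K).injective (by
    rw [hdx, hF, mul_one, show geomExp (2 ^ 2) 5 = 11 * 31 from rfl, pow_mul, ← hcx, ← map_pow,
      show c ^ 31 = (c ^ 3) ^ 10 * c by rw [← pow_mul, ← pow_succ], hc3, one_pow, one_mul])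
  obtain ⟨b, hb⟩ : ∃ b : F, g2 = algebraMap F (Module.End F U) b := by
    obtain ⟨v₀, hv₀, hall⟩ := finrank_eq_one_iff'.1 hU1
    obtain ⟨b, hb⟩ := hall (g2 v₀)
    refine ⟨b, LinearMap.ext fun v => ?_⟩
    obtain ⟨t, rfl⟩ := hall v
    rw [map_smul, ← hb, Module.algebraMap_end_apply, smul_comm]
  have hdet2 : LinearMap.det g2 = b := by
    rw [hb, Algebra.algebraMap_eq_smul_one, LinearMap.det_smul, hU1, pow_one]
    try simp
  have hprod : LinearMap.det g = LinearMap.det g1 * LinearMap.det g2 := by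
    rw [← LinearMap.det_prodMap, ← LinearMap.det_conj (LinearMap.prodMap g1 g2) (Submodule.prodEquivOfIsCompl W U hcompl)]
    congr 1
    refine LinearMap.ext fun v => ?_
    obtain ⟨⟨w, z⟩, rfl⟩ := (Submodule.prodEquivOfIsCompl W U hcompl).surjective v
    simp [g1, g2]
  rw [hdet, hd1, hdet2] at hprod
  have hb11 : b ^ 11 = c := by
    calc b ^ 11 = b ^ 11 * (c * b) := by rw [← hprod, mul_one]
      _ = (c * b) ^ 12 * c / c ^ 12 := by
        have hc0 : c ≠ 0 := fun q => by rw [q] at hc3; simp at hc3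
        field_simp
      _ = c := by rw [← hprod, one_pow, one_mul, show c ^ 12 = (c ^ 3) ^ 4 by rw [← pow_mul], hc3, one_pow, div_one]
  have hpow : ∀ (S : Submodule F (Fin 6 → F)) (hS : ∀ v ∈ S, g v ∈ S) (j : ℕ) (v : S),
      (((g.restrict hS) ^ j) v : Fin 6 → F) = (g ^ j) v := by
    intro S hS j
    induction j with
    | zero => intro v; rfl
    | succ j ih => intro v; rw [pow_succ, pow_succ, Module.End.mul_apply, Module.End.mul_apply, ih]; rfl
  refine ⟨c, LinearMap.ext fun v => ?_⟩
  obtain ⟨⟨w, z⟩, rfl⟩ := (Submodule.prodEquivOfIsCompl W U hcompl).surjective v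
  rw [Submodule.coe_prodEquivOfIsCompl', map_add, map_add, ← hpow W hW 11 w, ← hpow U hU 11 z,
    show g.restrict hW = g1 from rfl, show g.restrict hU = g2 from rfl, hW11, hb, ← map_pow, hb11]
  simp

/-- An element of order divisible by 11 has order 11. -/
theorem eleven (x : Cfsg.PSU 6 F 2) (h11 : 11 ∣ orderOf x) : orderOf x = 11 := by
  classical
  obtain ⟨A, rfl⟩ := QuotientGroup.mk_surjective x
  set g : Module.End F (Fin 6 → F) := Matrix.toLinAlgEquiv' (A.1 : Matrix (Fin 6) (Fin 6) F)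
  set Φ := CfsgLib.Unitary.uForm hF 6
  have hΦ : Φ.Nondeg := CfsgLib.Unitary.uForm_nondeg hF 6
  have hg : ∀ u v, Φ.h (g u) (g v) = Φ.h u v := fun u v => A.2 u v
  have hgA : 11 ∣ orderOf g := by
    let φ : Cfsg.SU 6 F 2 →* Module.End F (Fin 6 → F) :=
      ((Matrix.toLinAlgEquiv' : Matrix (Fin 6) (Fin 6) F ≃ₐ[F] Module.End F (Fin 6 → F)) :
        Matrix (Fin 6) (Fin 6) F →* Module.End F (Fin 6 → F)).comp
        ((Cfsg.slToMat 6 F).comp (Cfsg.SU 6 F 2).subtype)
    have hφ : Function.Injective φ := fun a b h => Subtype.ext (Subtype.ext (Matrix.toLinAlgEquiv'.injective h))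
    rw [show g = φ A from rfl, orderOf_injective φ hφ A]
    exact h11.trans (orderOf_map_dvd (QuotientGroup.mk' _) A)
  suffices hs : ∃ c : F, g ^ 11 = algebraMap F (Module.End F (Fin 6 → F)) c by
    obtain ⟨c, hc⟩ := hs
    have h1 : (QuotientGroup.mk A : Cfsg.PSU 6 F 2) ^ 11 = 1 := by
      rw [← QuotientGroup.mk_pow, QuotientGroup.eq_one_iff, CfsgLib.Unitary.mem_center_SU_iff hF (by norm_num)]
      refine ⟨c, (Matrix.toLinAlgEquiv' : Matrix (Fin 6) (Fin 6) F ≃ₐ[F] Module.End F (Fin 6 → F)).injective ?_⟩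
      rw [SubmonoidClass.coe_pow, Matrix.SpecialLinearGroup.coe_pow, map_pow, map_smul, map_one,
        ← Algebra.algebraMap_eq_smul_one]
      exact hc
    exact Nat.dvd_antisymm (orderOf_dvd_of_pow_eq_one h1) h11
  rcases cases hΦ hg with ⟨e, he, he0, he1, hc, hee⟩ |
      ⟨K, _, _, _, d, L, τ, x, hL, hKc, hdL, hττ, hτF, hτx, -, hnil⟩ |
      ⟨K, _, _, _, d, L, x, δ, hL, hKc, hdL, hx0, -, -, hnil⟩
  · have hlt : ∀ a : Module.End F (Fin 6 → F), a * a = a → a ≠ 1 → finrank F (LinearMap.range a) < 6 := by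
      intro a ha ha1
      have := Submodule.finrank_lt (s := LinearMap.range a) fun h => ha1 (LinearMap.ext fun v => ?_)
      · rwa [Module.finrank_fin_fun] at this
      · obtain ⟨w, rfl⟩ := LinearMap.range_eq_top.1 h v
        exact LinearMap.congr_fun ha w
    have he' : (1 - e) * (1 - e) = 1 - e := by rw [mul_sub, sub_mul, sub_mul, he, one_mul, mul_one]; abel
    have hee' : IsAdj Φ (1 - e) (1 - e) := fun u v => by
      simp only [LinearMap.sub_apply, Module.End.one_apply, Φ.sub_left, Φ.sub_right, hee u v]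
    have h1 := hlt e he he1
    have h2 := hlt (1 - e) he' fun q => he0 (by simpa using q)
    by_cases h5 : finrank F (LinearMap.range e) = 5
    · exact split hF he hc hee h5 hgA
    by_cases h5' : finrank F (LinearMap.range (1 - e)) = 5
    · exact split hF he' ((Commute.one_right g).sub_right hc) hee' h5' hgA
    exfalso
    refine PSUHalfTorus.not_dvd_of_split hc (by norm_num : (11 : ℕ).Prime) (fun f hf => ?_) (fun f hf => ?_) hgA
    · exact not_eleven_small hF (by omega) (PSUHalfTorus.restrForm_range_nondeg hΦ he hee) (g := f) fun u v => by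
        show Φ.h (f u : Fin 6 → F) (f v : Fin 6 → F) = Φ.h (u : Fin 6 → F) (v : Fin 6 → F)
        rw [hf, hf, hg]
    · exact not_eleven_small hF (by omega) (PSUHalfTorus.restrForm_range_nondeg hΦ he' hee') (g := f) fun u v => by
        show Φ.h (f u : Fin 6 → F) (f v : Fin 6 → F) = Φ.h (u : Fin 6 → F) (v : Fin 6 → F)
        rw [hf, hf, hg]
  · exfalso
    rw [Module.finrank_fin_fun] at hdL
    obtain ⟨hd, hx⟩ := PSUHalfTorus.field_pow hF hKc τ x hττ hτF hτx
    have := scalar_of_nil hF (Nat.lt_two_pow_self).le (hnil _ 1 (by rw [hx, map_one]))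
    rw [one_pow, map_one] at this
    have h3 := hgA.trans (orderOf_dvd_of_pow_eq_one this)
    have hd6 : d ≤ 6 := Nat.le_of_dvd (by norm_num) ⟨L, hdL.symm⟩
    have hdd : d ∣ 6 := ⟨L, hdL.symm⟩
    rcases (Nat.Prime.dvd_mul (by norm_num : (11 : ℕ).Prime)).1 h3 with q | q
    · interval_cases d <;> first | (norm_num at q; done) | (norm_num at hdd; done)
    · exact absurd ((Nat.prime_dvd_prime_iff_eq (by norm_num) Nat.prime_two).1
        ((by norm_num : (11 : ℕ).Prime).dvd_of_dvd_pow q)) (by norm_num)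
  · exfalso
    rw [Module.finrank_fin_fun] at hdL
    haveI := Fintype.ofFinite K
    have hx : x ^ ((2 ^ 2) ^ d - 1) = 1 := by
      rw [← hF, ← hKc, Nat.card_eq_fintype_card]
      exact FiniteField.pow_card_sub_one_eq_one x hx0
    have := scalar_of_nil hF (Nat.lt_two_pow_self).le (hnil _ 1 (by rw [hx, map_one]) (by rw [map_one, mul_one]))
    rw [one_pow, map_one] at this
    have h3 := hgA.trans (orderOf_dvd_of_pow_eq_one this)
    have hd3 : d ≤ 3 := Nat.le_of_dvd (by norm_num) ⟨L, by omega⟩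
    rcases (Nat.Prime.dvd_mul (by norm_num : (11 : ℕ).Prime)).1 h3 with q | q
    · interval_cases d <;> first | (norm_num at q; done) | (norm_num at hdL; done) | omega
    · exact absurd ((Nat.prime_dvd_prime_iff_eq (by norm_num) Nat.prime_two).1
        ((by norm_num : (11 : ℕ).Prime).dvd_of_dvd_pow q)) (by norm_num)

/-- An element of order divisible by 7 has order 7. -/
theorem seven (x : Cfsg.PSU 6 F 2) (h7 : 7 ∣ orderOf x) : orderOf x = 7 := by
  obtain ⟨A, rfl⟩ := QuotientGroup.mk_surjective x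
  refine Nat.dvd_antisymm ?_ h7
  have h := PSUHalfTorus.orderOf_dvd_psuTor (q := 2) (r := 7) (m := 3) hF (by norm_num) (by norm_num)
    (fun p hp hp2 e => by
      have := (Nat.prime_dvd_prime_iff_eq hp Nat.prime_two).1 hp2
      omega)
    (by decide) (fun d hd => by
      have hmod : (2 ^ 2 : ℕ) ^ 3 ≡ 1 [MOD 7] := by decide
      rw [← Nat.modEq_iff_dvd' (Nat.one_le_pow _ _ (by norm_num))] at hd
      have h2 : (2 ^ 2 : ℕ) ^ d ≡ (2 ^ 2) ^ (d % 3) [MOD 7] := by
        conv_lhs => rw [← Nat.div_add_mod d 3, pow_add, pow_mul]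
        have := (hmod.pow (d / 3)).mul_right ((2 ^ 2) ^ (d % 3))
        rwa [one_pow, one_mul] at this
      have h3 : (2 ^ 2) ^ (d % 3) % 7 = 1 := (hd.trans h2).symm
      have : d % 3 < 3 := Nat.mod_lt _ (by norm_num)
      refine Nat.dvd_of_mod_eq_zero ?_
      interval_cases hd' : d % 3 <;> simp_all)
    (by norm_num) A h7
  rwa [show psuTor 2 (2 * 3) = 7 by decide] at h

end CfsgLib.SixPrimes
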