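import Cfsg.Agent.Spor3T.M22Triangle
import Cfsg.Agent.Spor3T.M22Order
import Cfsg.Agent.Spor3T.PSUSixPrimes

/-!
Type M(22): the normalisers of the subgroups of order 7 and 11.
-/

set_option autoImplicit false
set_option linter.unusedSectionVars false
set_option linter.style.haveILetI false

open scoped Pointwise

namespace CfsgLib.ThreeT.Prod

variable {G : Type*} [Group G] [Finite G] {D : Set G}

theorem exists_gen {p : ℕ} [hp : Fact p.Prime] {X : Subgroup G} (hX : Nat.card X = p) :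
    ∃ y ∈ X, orderOf y = p ∧ X = Subgroup.zpowers y := by
  obtain ⟨y, hy⟩ := exists_prime_orderOf_dvd_card' p (hX ▸ dvd_rfl : p ∣ Nat.card X)
  rw [← Subgroup.orderOf_coe] at hy
  exact ⟨y, y.2, hy, (Subgroup.eq_of_le_of_card_ge (Subgroup.zpowers_le.2 y.2)
    (by rw [Nat.card_zpowers, hy, hX])).symm⟩

theorem centralizer_gen {y : G} :
    Subgroup.centralizer ((Subgroup.zpowers y : Subgroup G) : Set G) = Subgroup.centralizer {y} := by
  refine le_antisymm (Subgroup.centralizer_le (by simp)) fun g hg => ?_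
  rw [Subgroup.mem_centralizer_iff]
  intro z hz
  obtain ⟨k, rfl⟩ := Subgroup.mem_zpowers_iff.1 hz
  exact ((Subgroup.mem_centralizer_singleton_iff.1 hg : g * y = y * g) |> fun e =>
    ((show Commute y g from e.symm).zpow_left k).eq)

/-- The number of conjugates of a subgroup of prime order whose square does not divide the order. -/
theorem sylow_count {p : ℕ} [hp : Fact p.Prime] {H X : Subgroup G} (hXH : X ≤ H) (hX : Nat.card X = p)
    (hp2 : ¬ p * p ∣ Nat.card H) :
    ∃ n, n % p = 1 ∧ Nat.card H = n * Nat.card ↥(Subgroup.normalizer (X : Set G) ⊓ H) := by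
  set X' := X.subgroupOf H
  have hX' : Nat.card X' = p := by rw [Nat.card_congr (Subgroup.subgroupOfEquivOfLe hXH).toEquiv, hX]
  have hpd : p ∣ Nat.card H := hX ▸ Subgroup.card_dvd_of_le hXH
  have hf : (Nat.card H).factorization p = 1 := by
    refine le_antisymm (not_lt.1 fun q => hp2 ?_) ((hp.out.dvd_iff_one_le_factorization Nat.card_pos.ne').1 hpd)
    rw [← pow_two]
    exact (hp.out.pow_dvd_iff_le_factorization Nat.card_pos.ne').2 q
  let P : Sylow p H := Sylow.ofCard X' (by rw [hX', hf, pow_one])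
  refine ⟨Nat.card (Sylow p H), ?_, ?_⟩
  · have := card_sylow_modEq_one p H
    rw [Nat.ModEq, Nat.one_mod_eq_one.2 hp.out.ne_one] at this
    exact this
  · rw [P.card_eq_index_normalizer, show (P : Set ↥H) = (X' : Set ↥H) from rfl,
      show Subgroup.normalizer (X' : Set H) = (Subgroup.normalizer (X : Set G)).subgroupOf H from
        (Subgroup.subgroupOf_normalizer_eq hXH).symm,
      ← Subgroup.inf_subgroupOf_right (Subgroup.normalizer (X : Set G)) H,
      ← Subgroup.index_mul_card ((Subgroup.normalizer (X : Set G) ⊓ H).subgroupOf H),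
      Nat.card_congr (Subgroup.subgroupOfEquivOfLe inf_le_right).toEquiv]

/-- Such subgroups are conjugate. -/
theorem sylow_conj {p : ℕ} [hp : Fact p.Prime] {H X Y : Subgroup G} (hXH : X ≤ H) (hYH : Y ≤ H)
    (hX : Nat.card X = p) (hY : Nat.card Y = p) (hp2 : ¬ p * p ∣ Nat.card H) :
    ∃ g ∈ H, X.map (MulAut.conj g).toMonoidHom = Y := by
  have hpd : p ∣ Nat.card H := hX ▸ Subgroup.card_dvd_of_le hXH
  have hf : (Nat.card H).factorization p = 1 := by
    refine le_antisymm (not_lt.1 fun q => hp2 ?_) ((hp.out.dvd_iff_one_le_factorization Nat.card_pos.ne').1 hpd)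
    rw [← pow_two]
    exact (hp.out.pow_dvd_iff_le_factorization Nat.card_pos.ne').2 q
  let P : Sylow p H := Sylow.ofCard (X.subgroupOf H)
    (by rw [Nat.card_congr (Subgroup.subgroupOfEquivOfLe hXH).toEquiv, hX, hf, pow_one])
  let Q : Sylow p H := Sylow.ofCard (Y.subgroupOf H)
    (by rw [Nat.card_congr (Subgroup.subgroupOfEquivOfLe hYH).toEquiv, hY, hf, pow_one])
  obtain ⟨g, hg⟩ := MulAction.exists_smul_eq H P Q
  refine ⟨g, g.2, Subgroup.eq_of_le_of_card_ge ?_ ?_⟩
  · rintro _ ⟨x, hx, rfl⟩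
    have : g * ⟨x, hXH hx⟩ * g⁻¹ ∈ ((g • P : Sylow p H) : Subgroup H) :=
      ⟨⟨x, hXH hx⟩, (show (⟨x, hXH hx⟩ : H) ∈ X.subgroupOf H from hx), rfl⟩
    rw [hg] at this
    exact this
  · rw [Subgroup.card_map_of_injective (MulAut.conj (g : G)).injective, hX, hY]

/-- The normaliser is at most the centraliser times `p - 1`. -/
theorem card_norm_div {p : ℕ} [hp : Fact p.Prime] {H X : Subgroup G} (hX : Nat.card X = p) :
    ∃ k, k ∣ p - 1 ∧ Nat.card ↥(Subgroup.normalizer (X : Set G) ⊓ H) =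
      k * Nat.card ↥(Subgroup.centralizer (X : Set G) ⊓ H) := by
  set N := Subgroup.normalizer (X : Set G) ⊓ H
  let f : N →* MulAut X := (Subgroup.normalizerMonoidHom X).comp (Subgroup.inclusion inf_le_left)
  have hker : f.ker = (Subgroup.centralizer (X : Set G) ⊓ H).subgroupOf N := by
    ext z
    rw [MonoidHom.mem_ker, Subgroup.mem_subgroupOf, Subgroup.mem_inf]
    show Subgroup.normalizerMonoidHom X (Subgroup.inclusion inf_le_left z) = 1 ↔ _
    rw [← MonoidHom.mem_ker, Subgroup.normalizerMonoidHom_ker]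
    exact ⟨fun q => ⟨q, z.2.2⟩, fun q => q.1⟩
  have hle : Subgroup.centralizer (X : Set G) ⊓ H ≤ N :=
    inf_le_inf_right _ (Subgroup.centralizer_le_normalizer _)
  haveI : IsCyclic X := isCyclic_of_prime_card hX
  refine ⟨Nat.card f.range, ?_, ?_⟩
  · have := Subgroup.card_subgroup_dvd_card f.range
    rwa [IsCyclic.card_mulAut, hX, Nat.totient_prime hp.out] at this
  · rw [← Subgroup.index_ker, ← Subgroup.index_mul_card f.ker, hker,
      Nat.card_congr (Subgroup.subgroupOfEquivOfLe hle).toEquiv]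

variable (h : Geo22 D) (hprim : Cfsg.IsPrimitiveUnderConj D) (ht : Cfsg.IsOfTypeM22 G D)

include h hprim ht

/-- A big prime is self-centralising in the centraliser of a member, modulo the member. -/
theorem card_cent_big {p : ℕ} [hp : Fact p.Prime] (hp7 : p = 7 ∨ p = 11) {d y : G} (hd : d ∈ D)
    (hy : y ∈ hsub D d) (hyp : orderOf y = p) :
    Nat.card ↥(Subgroup.centralizer ({y} : Set G) ⊓ hsub D d) = 2 * p := by
  classical
  obtain ⟨-, d₀, hd₀, c, -, -, ⟨F, _, _, hF, ⟨e₀⟩⟩, -⟩ := id ht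
  obtain ⟨g, hg⟩ := h.conjD d hd d₀ hd₀ (h.ne_one d hd) (h.ne_one d₀ hd₀)
  have hcd := (centralizer_eq h hd).1
  have hcd₀ := (centralizer_eq h hd₀).1
  -- move to the given member
  set y' := g * y * g⁻¹
  have hy' : y' ∈ hsub D d₀ := by
    rw [hcd₀, Subgroup.mem_centralizer_singleton_iff]
    rw [← hg]
    exact ((commute_conj_iff g y d).2 (commute_hsub hy)).eq
  have hmap : (Subgroup.centralizer ({y} : Set G) ⊓ hsub D d).map (MulAut.conj g).toMonoidHom =
      Subgroup.centralizer ({y'} : Set G) ⊓ hsub D d₀ := by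
    ext z
    obtain ⟨z, rfl⟩ := (MulAut.conj g).surjective z
    rw [show MulAut.conj g z = (MulAut.conj g).toMonoidHom z from rfl,
      Subgroup.mem_map_iff_mem (MulAut.conj g).injective, hcd, hcd₀, Subgroup.mem_inf, Subgroup.mem_inf,
      Subgroup.mem_centralizer_singleton_iff, Subgroup.mem_centralizer_singleton_iff,
      Subgroup.mem_centralizer_singleton_iff, Subgroup.mem_centralizer_singleton_iff]
    show _ ↔ Commute (g * z * g⁻¹) y' ∧ Commute (g * z * g⁻¹) d₀
    rw [← hg]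
    exact (and_congr (commute_conj_iff g z y).symm (commute_conj_iff g z d).symm)
  rw [← Subgroup.card_map_of_injective (K := Subgroup.centralizer ({y} : Set G) ⊓ hsub D d)
    (f := (MulAut.conj g).toMonoidHom) (MulAut.conj g).injective, hmap]
  have hy'p : orderOf y' = p := by
    rw [show y' = MulAut.conj g y from rfl, MulEquiv.orderOf_eq, hyp]
  clear_value y'
  -- in the quotient
  have hF' : Nat.card F = 2 ^ 2 := by rw [Nat.card_eq_fintype_card, hF]; rfl
  have hiso : ∀ x : Cfsg.PSU 6 F 2, p ∣ orderOf x → orderOf x = p := by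
    rcases hp7 with rfl | rfl
    exacts [CfsgLib.SixPrimes.seven hF', CfsgLib.SixPrimes.eleven hF']
  set H := hsub D d₀
  set Z := Subgroup.center ↥H
  set φ : ↥H →* Cfsg.PSU 6 F 2 := e₀.toMonoidHom.comp (QuotientGroup.mk' Z) with hφ
  have hkerφ : φ.ker = Z := by
    ext x
    rw [MonoidHom.mem_ker, hφ, MonoidHom.comp_apply, MulEquiv.coe_toMonoidHom, MulEquiv.map_eq_one_iff,
      QuotientGroup.mk'_apply, QuotientGroup.eq_one_iff]
  set yH : ↥H := ⟨y', hy'⟩
  set C := Subgroup.centralizer ({yH} : Set ↥H)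
  have hC : (Subgroup.centralizer ({y'} : Set G) ⊓ H).subgroupOf H = C := by
    ext x
    simp only [C, Subgroup.mem_subgroupOf, Subgroup.mem_inf, SetLike.coe_mem, and_true,
      Subgroup.mem_centralizer_singleton_iff, Subtype.ext_iff, Subgroup.coe_mul, yH]
  have hZC : Z ≤ C := fun x hx => Subgroup.mem_centralizer_singleton_iff.2
    ((Subgroup.mem_center_iff.1 hx yH).symm)
  set ψ : ↥C →* Cfsg.PSU 6 F 2 := φ.comp C.subtype
  have hkerψ : ψ.ker = Z.subgroupOf C := by
    rw [← hkerφ]; rfl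
  have hyZ : yH ∉ Z := fun q => by
    have h1 : orderOf y' ∣ 2 := by
      rw [← card_center_hsub h hd₀, show orderOf y' = orderOf (⟨yH, q⟩ : Z) by
        rw [← Subgroup.orderOf_coe (⟨yH, q⟩ : Z), ← Subgroup.orderOf_coe yH]]
      exact orderOf_dvd_natCard _
    rw [hy'p] at h1
    rcases hp7 with rfl | rfl <;> norm_num at h1
  have hφy : orderOf (φ yH) = p := by
    refine orderOf_eq_prime ?_ fun q => hyZ (by rw [← hkerφ]; exact q)
    rw [← map_pow, show yH ^ p = 1 from Subtype.ext (by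
      rw [SubmonoidClass.coe_pow]; show y' ^ p = 1; rw [← hy'p]; exact pow_orderOf_eq_one y'), map_one]
  have hpg : IsPGroup p ψ.range := by
    rintro ⟨_, x, rfl⟩
    refine ⟨1, Subtype.ext ?_⟩
    rw [pow_one, SubmonoidClass.coe_pow, OneMemClass.coe_one]
    set z := ψ x with hz
    have hcomm : Commute z (φ yH) := by
      have : Commute (x : ↥H) yH := Subgroup.mem_centralizer_singleton_iff.1 x.2
      exact this.map φ
    show z ^ p = 1
    by_contra hne
    by_cases hdv : p ∣ orderOf z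
    · exact hne (by rw [← hiso z hdv]; exact pow_orderOf_eq_one z)
    have hcop : Nat.Coprime (orderOf z) (orderOf (φ yH)) := by
      rw [hφy]; exact ((hp.out.coprime_iff_not_dvd).2 hdv).symm
    have h1 := hcomm.orderOf_mul_eq_mul_orderOf_of_coprime hcop
    have h2 := hiso (z * φ yH) (by rw [h1, hφy]; exact dvd_mul_left _ _)
    rw [h1, hφy] at h2
    have h3 : orderOf z = 1 := (Nat.mul_eq_right hp.out.ne_zero).1 h2
    exact hne (by rw [orderOf_eq_one_iff.1 h3, one_pow])
  obtain ⟨k, hk⟩ := IsPGroup.iff_card.1 hpg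
  have hrange : Nat.card ψ.range = p := by
    have hdv : p ^ k ∣ 9196830720 := by
      rw [← hk, ← card_psu_six hF]; exact Subgroup.card_subgroup_dvd_card _
    have hk2 : k < 2 := by
      by_contra q
      have := (pow_dvd_pow p (not_lt.1 q)).trans hdv
      rcases hp7 with rfl | rfl <;> norm_num at this
    have hk0 : k ≠ 0 := by
      rintro rfl
      rw [pow_zero, Subgroup.card_eq_one] at hk
      have h1 : φ yH ∈ ψ.range := ⟨⟨yH, Subgroup.mem_centralizer_singleton_iff.2 rfl⟩, rfl⟩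
      rw [hk, Subgroup.mem_bot] at h1
      rw [h1, orderOf_one] at hφy
      exact hp.out.ne_one hφy.symm
    rw [hk, show k = 1 by omega, pow_one]
  rw [← Nat.card_congr (Subgroup.subgroupOfEquivOfLe (inf_le_right : Subgroup.centralizer ({y'} : Set G) ⊓ H ≤ H)).toEquiv,
    hC, ← Subgroup.index_mul_card ψ.ker, Subgroup.index_ker, hrange, hkerψ,
    Nat.card_congr (Subgroup.subgroupOfEquivOfLe hZC).toEquiv, card_center_hsub h hd₀, mul_comm]

theorem card_cent_nb {d b : G} (hd : d ∈ D) (hb : b ∈ nb D d) :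
    Nat.card ↥(Subgroup.centralizer ({b} : Set G) ⊓ hsub D d) = 26542080 := by
  have e := card_orbit_stab (hsub D d) (Subgroup.centralizer ({b} : Set G)) (fun g => g * b * g⁻¹) (nb D d)
    (fun g _ g' _ => conj_fib) ?_
  · rw [(order22 h hprim ht).1 d hd, (h.loc d hd).card_nb] at e
    omega
  ext z
  constructor
  · rintro ⟨g, hg, rfl⟩
    exact nb_conj h.tt hb.1 hb.2.1 hb.2.2 (by rw [(commute_hsub hg).eq, mul_inv_cancel_right])
  · intro hz
    obtain ⟨g, hg, e⟩ := h.near d hd b hb z hz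
    exact ⟨g, hg, e⟩

theorem card_cent_far {d e : G} (hd : d ∈ D) (he : e ∈ D) (hde : ¬ Commute d e) :
    Nat.card ↥(Subgroup.centralizer ({e} : Set G) ⊓ hsub D d) = 6531840 := by
  have q := card_orbit_stab (hsub D d) (Subgroup.centralizer ({e} : Set G)) (fun g => g * e * g⁻¹)
    {x | x ∈ D ∧ ¬ Commute d x} (fun g _ g' _ => conj_fib) ?_
  · rw [(order22 h hprim ht).1 d hd, (tri_card h).2 d hd] at q
    omega
  ext z
  constructor
  · rintro ⟨g, hg, rfl⟩
    refine ⟨h.tt.conj g e he, fun q => hde ((commute_conj_iff g d e).1 ?_)⟩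
    rwa [(commute_hsub hg).eq, mul_inv_cancel_right]
  · intro hz
    obtain ⟨k, hk, e'⟩ := far_trans h hd he hz.1 hde hz.2
    exact ⟨k, hk, e'⟩

/-- A big prime fixes no neighbour. -/
theorem no_nb_fixed {p : ℕ} [hp : Fact p.Prime] (hp7 : p = 7 ∨ p = 11) {d b y : G} (hd : d ∈ D)
    (hy : y ∈ hsub D d) (hyp : orderOf y = p) (hb : b ∈ D) (hdb : Commute d b) (hyb : Commute y b) : b = d := by
  by_contra hne
  have hm : y ∈ Subgroup.centralizer ({b} : Set G) ⊓ hsub D d :=
    ⟨Subgroup.mem_centralizer_singleton_iff.2 hyb, hy⟩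
  have := Subgroup.orderOf_dvd_natCard _ hm
  rw [hyp, card_cent_nb h hprim ht hd ⟨hb, hne, hdb⟩] at this
  rcases hp7 with rfl | rfl <;> norm_num at this

theorem not_sq_dvd {p : ℕ} (hp7 : p = 7 ∨ p = 11) : ¬ p * p ∣ Nat.card G := by
  rw [(order22 h hprim ht).2]
  rcases hp7 with rfl | rfl <;> norm_num

/-- Subgroups of such an order are conjugate, and each commutes with a member. -/
theorem big_conj {p : ℕ} [hp : Fact p.Prime] (hp7 : p = 7 ∨ p = 11) :
    (∀ X Y : Subgroup G, Nat.card X = p → Nat.card Y = p → ∃ g : G, X.map (MulAut.conj g).toMonoidHom = Y) ∧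
      ∀ X : Subgroup G, Nat.card X = p → ∃ d ∈ D, X ≤ hsub D d := by
  have hp2 : ¬ p * p ∣ Nat.card (⊤ : Subgroup G) := by rw [Subgroup.card_top]; exact not_sq_dvd h hprim ht hp7
  have hconj : ∀ X Y : Subgroup G, Nat.card X = p → Nat.card Y = p →
      ∃ g : G, X.map (MulAut.conj g).toMonoidHom = Y := fun X Y hX hY => by
    obtain ⟨g, -, hg⟩ := sylow_conj (le_top : X ≤ ⊤) le_top hX hY hp2
    exact ⟨g, hg⟩
  refine ⟨hconj, fun X hX => ?_⟩
  obtain ⟨d, hd, -⟩ := hprim.2.1
  obtain ⟨y, hy⟩ := exists_prime_orderOf_dvd_card' (G := ↥(hsub D d)) p (by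
    rw [(order22 h hprim ht).1 d hd]; rcases hp7 with rfl | rfl <;> norm_num)
  rw [← Subgroup.orderOf_coe] at hy
  obtain ⟨g, hg⟩ := hconj (Subgroup.zpowers (y : G)) X (by rw [Nat.card_zpowers, hy]) hX
  refine ⟨g * d * g⁻¹, h.tt.conj g d hd, ?_⟩
  rw [← hg]
  rintro _ ⟨x, hx, rfl⟩
  rw [(centralizer_eq h (h.tt.conj g d hd)).1, Subgroup.mem_centralizer_singleton_iff]
  exact ((commute_conj_iff g x d).2 (commute_hsub (Subgroup.zpowers_le.2 y.2 hx))).eq

/-- The shape of the normaliser for 11. -/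
theorem eleven_normalizer {X : Subgroup G} (hX : Nat.card X = 11) :
    ∃ (F : Subgroup G) (d : G), d ∈ D ∧ Nat.card ↥F = 55 ∧ X ≤ F ∧
      F ⊓ Subgroup.centralizer (X : Set G) = X ∧ F ⊓ Subgroup.zpowers d = ⊥ ∧
      (∀ x ∈ F, ∀ y ∈ Subgroup.zpowers d, x * y = y * x) ∧
      F ⊔ Subgroup.zpowers d = Subgroup.normalizer (X : Set G) := by
  classical
  haveI : Fact (11 : ℕ).Prime := ⟨by norm_num⟩
  obtain ⟨d, hd, hXd⟩ := (big_conj h hprim ht (p := 11) (Or.inr rfl)).2 X hX
  obtain ⟨y, hyX, hy11, hXy⟩ := exists_gen hX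
  have hcX : Subgroup.centralizer (X : Set G) = Subgroup.centralizer {y} := by rw [hXy]; exact centralizer_gen
  have huniq : ∀ b ∈ D, Commute y b → b = d := by
    intro b hb hyb
    by_contra hne
    by_cases hdb : Commute d b
    · exact hne (no_nb_fixed h hprim ht (Or.inr rfl) hd (hXd hyX) hy11 hb hdb hyb)
    have hm : y ∈ Subgroup.centralizer ({b} : Set G) ⊓ hsub D d :=
      ⟨Subgroup.mem_centralizer_singleton_iff.2 hyb, hXd hyX⟩
    have := Subgroup.orderOf_dvd_natCard _ hm
    rw [hy11, card_cent_far h hprim ht hd hb hdb] at this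
    norm_num at this
  set N := Subgroup.normalizer (X : Set G) with hN
  have hNH : N ≤ hsub D d := by
    intro g hg
    rw [(centralizer_eq h hd).1, Subgroup.mem_centralizer_singleton_iff]
    have hyg : g⁻¹ * y * g ∈ X := (Subgroup.mem_normalizer_iff''.1 hg y).1 hyX
    have hc : Commute (g⁻¹ * y * g) d := commute_hsub (hXd hyg)
    have hc2 : Commute y (g * d * g⁻¹) := by
      have := (commute_conj_iff g (g⁻¹ * y * g) d).2 hc
      rwa [show g * (g⁻¹ * y * g) * g⁻¹ = y by group] at this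
    exact mul_inv_eq_iff_eq_mul.1 (huniq _ (h.tt.conj g d hd) hc2)
  have hH2 : ¬ 11 * 11 ∣ Nat.card ↥(hsub D d) := by rw [(order22 h hprim ht).1 d hd]; norm_num
  obtain ⟨n, hn1, hn⟩ := sylow_count hXd hX hH2
  obtain ⟨k, hk, hkc⟩ := card_norm_div (H := hsub D d) hX
  rw [hcX, card_cent_big h hprim ht (Or.inr rfl) hd (hXd hyX) hy11] at hkc
  rw [← hN, inf_eq_left.2 hNH] at hn hkc
  rw [(order22 h hprim ht).1 d hd, hkc] at hn
  have hcardN : Nat.card N = 110 := by
    rw [hkc]
    have hk' : k ≤ 10 := Nat.le_of_dvd (by norm_num) hk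
    interval_cases k <;> omega
  obtain ⟨f', hf'⟩ := exists_prime_orderOf_dvd_card' (G := N) 5 (hp := ⟨by norm_num⟩) (by rw [hcardN]; norm_num)
  rw [← Subgroup.orderOf_coe] at hf'
  set f : G := (f' : G)
  have hXN : X ≤ N := Subgroup.le_normalizer
  set F := Subgroup.zpowers f ⊔ X
  have hFN : F ≤ N := sup_le (Subgroup.zpowers_le.2 f'.2) hXN
  have hset : ((Subgroup.zpowers f : Subgroup G) : Set G) * (X : Set G) = (F : Set G) :=
    (Subgroup.coe_mul_of_left_le_normalizer_right _ _ (Subgroup.zpowers_le.2 f'.2)).symm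
  have hcardF : Nat.card F = 55 := by
    have h5 : 5 ∣ Nat.card F := by
      rw [← hf', ← Nat.card_zpowers]; exact Subgroup.card_dvd_of_le le_sup_left
    have h11 : 11 ∣ Nat.card F := by rw [← hX]; exact Subgroup.card_dvd_of_le le_sup_right
    have hle : Nat.card F ≤ 55 := by
      have := Nat.card_le_card_of_surjective
        (fun q : ↥(Subgroup.zpowers f) × ↥X => (⟨(q.1 : G) * q.2, Subgroup.mul_mem_sup q.1.2 q.2.2⟩ : ↥F))
        (fun ⟨z, hz⟩ => by
          rw [← SetLike.mem_coe, ← hset] at hz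
          obtain ⟨a, ha, b, hb, rfl⟩ := hz
          exact ⟨(⟨a, ha⟩, ⟨b, hb⟩), rfl⟩)
      rw [Nat.card_prod, Nat.card_zpowers, hf', hX] at this
      simpa using this
    have := Nat.le_of_dvd Nat.card_pos ((Nat.Coprime.mul_dvd_of_dvd_of_dvd (by norm_num) h5 h11 :
      5 * 11 ∣ Nat.card F))
    omega
  have hNd : ∀ x ∈ N, Commute x d := fun x hx => commute_hsub (hNH hx)
  have hd2 : orderOf d = 2 := orderOf_eq_prime (by rw [pow_two]; exact h.tt.sq d hd) (h.ne_one d hd)
  have hdN : d ∈ N := by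
    refine Subgroup.centralizer_le_normalizer _ ?_
    rw [hcX, Subgroup.mem_centralizer_singleton_iff]
    exact (commute_hsub (hXd hyX)).eq.symm
  refine ⟨F, d, hd, hcardF, le_sup_right, (Subgroup.eq_of_le_of_card_ge ?_ ?_).symm, ?_, ?_, ?_⟩
  · exact le_inf le_sup_right (by
      rw [hcX]; intro z hz
      rw [hXy] at hz
      obtain ⟨j, rfl⟩ := Subgroup.mem_zpowers_iff.1 hz
      exact Subgroup.mem_centralizer_singleton_iff.2 ((Commute.refl y).zpow_left j).eq)
  · have h1 : Nat.card ↥(F ⊓ Subgroup.centralizer (X : Set G)) ∣ 55 :=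
      hcardF ▸ Subgroup.card_dvd_of_le inf_le_left
    have h2 : Nat.card ↥(F ⊓ Subgroup.centralizer (X : Set G)) ∣ 22 := by
      have := card_cent_big h hprim ht (p := 11) (Or.inr rfl) hd (hXd hyX) hy11
      rw [← show Nat.card ↥(Subgroup.centralizer ({y} : Set G) ⊓ hsub D d) = 22 from this]
      exact Subgroup.card_dvd_of_le (le_inf (inf_le_right.trans hcX.le) (inf_le_left.trans (hFN.trans hNH)))
    have := Nat.le_of_dvd (by norm_num) (Nat.dvd_gcd h1 h2 : _ ∣ Nat.gcd 55 22)
    rw [hX]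
    exact this.trans (by norm_num)
  · exact Subgroup.inf_eq_bot_of_coprime (by rw [hcardF, Nat.card_zpowers, hd2]; norm_num)
  · intro x hx z hz
    obtain ⟨j, rfl⟩ := Subgroup.mem_zpowers_iff.1 hz
    exact ((hNd x (hFN hx)).zpow_right j).eq
  · refine Subgroup.eq_of_le_of_card_ge (sup_le hFN (Subgroup.zpowers_le.2 hdN)) ?_
    have h55 : 55 ∣ Nat.card ↥(F ⊔ Subgroup.zpowers d) := hcardF ▸ Subgroup.card_dvd_of_le le_sup_left
    have h2 : 2 ∣ Nat.card ↥(F ⊔ Subgroup.zpowers d) := by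
      rw [← hd2, ← Nat.card_zpowers]; exact Subgroup.card_dvd_of_le le_sup_right
    rw [hcardN]
    exact Nat.le_of_dvd Nat.card_pos (Nat.Coprime.mul_dvd_of_dvd_of_dvd (by norm_num) h55 h2 :
      55 * 2 ∣ _)

/-- The shape of the normaliser for 7. -/
theorem seven_normalizer {X : Subgroup G} (hX : Nat.card X = 7) :
    ∃ F : Subgroup G, Nat.card ↥F = 42 ∧ X ≤ F ∧ F ⊓ Subgroup.centralizer (X : Set G) = X ∧
      F ⊓ Subgroup.closure (D ∩ (Subgroup.centralizer (X : Set G) : Set G)) = ⊥ ∧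
      (∀ x ∈ F, ∀ y ∈ Subgroup.closure (D ∩ (Subgroup.centralizer (X : Set G) : Set G)), x * y = y * x) ∧
      F ⊔ Subgroup.closure (D ∩ (Subgroup.centralizer (X : Set G) : Set G)) = Subgroup.normalizer (X : Set G) ∧
      Nonempty (↥(Subgroup.closure (D ∩ (Subgroup.centralizer (X : Set G) : Set G))) ≃* Equiv.Perm (Fin 3)) := by
  classical
  haveI : Fact (7 : ℕ).Prime := ⟨by norm_num⟩
  obtain ⟨a, ha, hXa⟩ := (big_conj h hprim ht (p := 7) (Or.inl rfl)).2 X hX
  obtain ⟨y, hyX, hy7, hXy⟩ := exists_gen hX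
  have hcX : Subgroup.centralizer (X : Set G) = Subgroup.centralizer {y} := by rw [hXy]; exact centralizer_gen
  have hC14 := card_cent_big h hprim ht (p := 7) (Or.inl rfl) ha (hXa hyX) hy7
  have hH2 : ¬ 7 * 7 ∣ Nat.card ↥(hsub D a) := by rw [(order22 h hprim ht).1 a ha]; norm_num
  set H := hsub D a
  -- a fixed far member
  obtain ⟨e, he, hae, hye⟩ : ∃ e ∈ D, ¬ Commute a e ∧ Commute y e := by
    obtain ⟨e₀, he₀, hae₀⟩ : {x | x ∈ D ∧ ¬ Commute a x}.Nonempty :=
      Set.nonempty_of_ncard_ne_zero (by rw [(tri_card h).2 a ha]; norm_num)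
    obtain ⟨z, hz⟩ := exists_prime_orderOf_dvd_card' (G := ↥(Subgroup.centralizer ({e₀} : Set G) ⊓ H)) 7
      (by rw [card_cent_far h hprim ht ha he₀ hae₀]; norm_num)
    rw [← Subgroup.orderOf_coe] at hz
    obtain ⟨g, hgH, hg⟩ := sylow_conj (H := H) (Subgroup.zpowers_le.2 z.2.2) hXa
      (by rw [Nat.card_zpowers, hz]) hX hH2
    refine ⟨g * e₀ * g⁻¹, h.tt.conj g e₀ he₀, fun q => hae₀ ((commute_conj_iff g a e₀).1 ?_), ?_⟩
    · rwa [(commute_hsub hgH).eq, mul_inv_cancel_right]
    · rw [← hg] at hyX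
      obtain ⟨w, hw, rfl⟩ := hyX
      obtain ⟨j, rfl⟩ := Subgroup.mem_zpowers_iff.1 hw
      exact (commute_conj_iff g _ e₀).2
        (Commute.zpow_left (show Commute (z : G) e₀ from Subgroup.mem_centralizer_singleton_iff.1 z.2.1) j)
  have hne : e ≠ a := fun q => hae (q ▸ Commute.refl a)
  set N := Subgroup.normalizer (X : Set G) with hN
  set K := Subgroup.centralizer ({e} : Set G) ⊓ H with hKdef
  have hXK : X ≤ K := by
    rw [hXy, Subgroup.zpowers_le]
    exact ⟨Subgroup.mem_centralizer_singleton_iff.2 hye, hXa hyX⟩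
  have hcardK : Nat.card K = 6531840 := card_cent_far h hprim ht ha he hae
  have hK2 : ¬ 7 * 7 ∣ Nat.card K := by rw [hcardK]; norm_num
  have haH : a ∈ H := self_mem_hsub h ha
  have hXC : X ≤ Subgroup.centralizer (X : Set G) := by
    rw [hcX, hXy, Subgroup.zpowers_le]; exact Subgroup.mem_centralizer_singleton_iff.2 rfl
  -- the centraliser in `K`
  have hCK : Nat.card ↥(Subgroup.centralizer (X : Set G) ⊓ K) = 7 := by
    have h1 : Nat.card ↥(Subgroup.centralizer (X : Set G) ⊓ K) ∣ 14 := by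
      rw [← show Nat.card ↥(Subgroup.centralizer ({y} : Set G) ⊓ H) = 14 from hC14, hcX]
      exact Subgroup.card_dvd_of_le (inf_le_inf_left _ inf_le_right)
    have h2 : 7 ∣ Nat.card ↥(Subgroup.centralizer (X : Set G) ⊓ K) :=
      hX ▸ Subgroup.card_dvd_of_le (le_inf hXC hXK)
    have h3 : Nat.card ↥(Subgroup.centralizer (X : Set G) ⊓ K) ≠ 14 := by
      intro q
      have heq : Subgroup.centralizer (X : Set G) ⊓ K = Subgroup.centralizer ({y} : Set G) ⊓ H :=
        Subgroup.eq_of_le_of_card_ge (by rw [hcX]; exact inf_le_inf_left _ inf_le_right)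
          (by rw [q, hC14])
      have hmem : a ∈ Subgroup.centralizer (X : Set G) ⊓ K := by
        rw [heq]
        exact ⟨Subgroup.mem_centralizer_singleton_iff.2 (commute_hsub (hXa hyX)).eq.symm, haH⟩
      exact hae (Subgroup.mem_centralizer_singleton_iff.1 hmem.2.1)
    have h4 := Nat.le_of_dvd (by norm_num) h1
    obtain ⟨j, hj⟩ := h2
    have hj0 : 0 < Nat.card ↥(Subgroup.centralizer (X : Set G) ⊓ K) := Nat.card_pos
    omega
  have hNK : Nat.card ↥(N ⊓ K) = 42 := by
    obtain ⟨n, hn1, hn⟩ := sylow_count hXK hX hK2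
    obtain ⟨k, hk, hkc⟩ := card_norm_div (H := K) hX
    rw [hCK] at hkc
    rw [hkc] at hn ⊢
    rw [hcardK] at hn
    have hk' : k ≤ 6 := Nat.le_of_dvd (by norm_num) hk
    interval_cases k <;> omega
  have hNH : Nat.card ↥(N ⊓ H) = 84 := by
    obtain ⟨n, hn1, hn⟩ := sylow_count hXa hX hH2
    obtain ⟨k, hk, hkc⟩ := card_norm_div (H := H) hX
    rw [hcX, hC14] at hkc
    rw [hkc] at hn ⊢
    rw [(order22 h hprim ht).1 a ha] at hn
    have hk' : k ≤ 6 := Nat.le_of_dvd (by norm_num) hk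
    interval_cases k <;> omega
  -- exactly two fixed far members
  set Φ : Set G := {x | x ∈ D ∧ ¬ Commute a x ∧ Commute y x}
  have hnorm_y : ∀ g ∈ N, ∀ x : G, Commute y x → Commute y (g * x * g⁻¹) := by
    intro g hg x hx
    have hyg : g⁻¹ * y * g ∈ X := (Subgroup.mem_normalizer_iff''.1 hg y).1 hyX
    rw [hXy] at hyg
    obtain ⟨j, hj⟩ := Subgroup.mem_zpowers_iff.1 hyg
    have := (commute_conj_iff g (g⁻¹ * y * g) x).2 (hj ▸ hx.zpow_left j)
    rwa [show g * (g⁻¹ * y * g) * g⁻¹ = y by group] at this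
  have hΦ : Φ.ncard = 2 := by
    have q := card_orbit_stab (N ⊓ H) (Subgroup.centralizer ({e} : Set G)) (fun g => g * e * g⁻¹) Φ
      (fun g _ g' _ => conj_fib) ?_
    · rw [hNH, ← inf_assoc, inf_comm (Subgroup.centralizer ({e} : Set G)) N, inf_assoc, hNK] at q
      omega
    ext x
    constructor
    · rintro ⟨g, ⟨hgN, hgH⟩, rfl⟩
      refine ⟨h.tt.conj g e he, fun q => hae ((commute_conj_iff g a e).1 ?_), hnorm_y g hgN e hye⟩
      rwa [(commute_hsub hgH).eq, mul_inv_cancel_right]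
    · rintro ⟨hx, hax, hyx⟩
      obtain ⟨k, hk, hke⟩ := far_trans h ha he hx hae hax
      have hcK : Nat.card ↥(Subgroup.centralizer ({x} : Set G) ⊓ H) = 6531840 := card_cent_far h hprim ht ha hx hax
      have h2x : ¬ 7 * 7 ∣ Nat.card ↥(Subgroup.centralizer ({x} : Set G) ⊓ H) := by rw [hcK]; norm_num
      have hX1 : X.map (MulAut.conj k).toMonoidHom ≤ Subgroup.centralizer ({x} : Set G) ⊓ H := by
        rintro _ ⟨w, hw, rfl⟩
        refine ⟨Subgroup.mem_centralizer_singleton_iff.2 ?_, Subgroup.mul_mem _ (Subgroup.mul_mem _ hk (hXa hw)) (Subgroup.inv_mem _ hk)⟩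
        rw [← hke]
        exact ((commute_conj_iff k w e).2
          (Subgroup.mem_centralizer_singleton_iff.1 (hXK hw).1)).eq
      have hX2 : X ≤ Subgroup.centralizer ({x} : Set G) ⊓ H := by
        rw [hXy, Subgroup.zpowers_le]
        exact ⟨Subgroup.mem_centralizer_singleton_iff.2 hyx, hXa hyX⟩
      obtain ⟨m, ⟨hmx, hmH⟩, hm⟩ := sylow_conj hX1 hX2
        (by rw [Subgroup.card_map_of_injective (MulAut.conj k).injective, hX]) hX h2x
      refine ⟨m * k, ⟨?_, mul_mem hmH hk⟩, ?_⟩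
      · have hmap : X.map (MulAut.conj (m * k)).toMonoidHom = X := by
          conv_rhs => rw [← hm, Subgroup.map_map]
          congr 1
          ext w
          simp [mul_assoc]
        exact Subgroup.mem_normalizer_iff.2 fun w => by
          constructor
          · intro hw
            rw [← hmap]; exact ⟨w, hw, rfl⟩
          · intro hw
            rw [← hmap] at hw
            obtain ⟨u, hu, hu'⟩ := hw
            rwa [(MulAut.conj (m * k)).injective hu'] at hu
      · show m * k * e * (m * k)⁻¹ = x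
        rw [show m * k * e * (m * k)⁻¹ = m * (k * e * k⁻¹) * m⁻¹ by group, hke,
          Subgroup.mem_centralizer_singleton_iff.1 hmx, mul_inv_cancel_right]
  have haea : a * e * a ∈ Φ := by
    refine ⟨h.tt.conj' he ha, fun q => hae ?_, ((commute_hsub (hXa hyX)).mul_right hye).mul_right
      (commute_hsub (hXa hyX))⟩
    have := (commute_conj_iff a a (a * e * a)).2 q
    rw [inv_eq_of_mul_eq_one_right (h.tt.sq a ha), show a * (a * e * a) * a = (a * a) * e * (a * a) by group,
      h.tt.sq a ha, one_mul, mul_one, one_mul] at this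
    exact this
  have hae' : a * e * a ≠ e := fun q => hae (by
    show a * e = e * a
    calc a * e = a * e * (a * a) := by rw [h.tt.sq a ha, mul_one]
      _ = e * a := by rw [← mul_assoc, q])
  have hΦeq : Φ = {e, a * e * a} := by
    symm
    refine Set.eq_of_subset_of_ncard_le (Set.insert_subset ⟨he, hae, hye⟩ (Set.singleton_subset_iff.2 haea)) ?_
    rw [hΦ, Set.ncard_pair hae'.symm]
  set Dy : Set G := {a, e, a * e * a}
  have hDy : D ∩ (Subgroup.centralizer (X : Set G) : Set G) = Dy := by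
    ext x
    constructor
    · rintro ⟨hx, hxc⟩
      rw [hcX, SetLike.mem_coe, Subgroup.mem_centralizer_singleton_iff] at hxc
      by_cases hax : Commute a x
      · exact Or.inl (no_nb_fixed h hprim ht (Or.inl rfl) ha (hXa hyX) hy7 hx hax hxc.symm)
      · exact Or.inr (hΦeq ▸ (⟨hx, hax, hxc.symm⟩ : x ∈ Φ))
    · intro hx
      rw [hcX]
      suffices x ∈ D ∧ Commute x y from ⟨this.1, Subgroup.mem_centralizer_singleton_iff.2 this.2⟩
      rcases hx with rfl | rfl | rfl
      · exact ⟨ha, (commute_hsub (hXa hyX)).symm⟩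
      · exact ⟨he, hye.symm⟩
      · exact ⟨haea.1, haea.2.2.symm⟩
  set S := Subgroup.closure ({a, e} : Set G)
  have hSeq : Subgroup.closure (D ∩ (Subgroup.centralizer (X : Set G) : Set G)) = S := by
    rw [hDy]
    refine le_antisymm ((Subgroup.closure_le _).2 ?_) (Subgroup.closure_mono (by
      rintro x (rfl | rfl) <;> simp [Dy]))
    rintro x (rfl | rfl | rfl)
    exacts [Subgroup.subset_closure (by simp), Subgroup.subset_closure (by simp),
      mul_mem (mul_mem (Subgroup.subset_closure (by simp)) (Subgroup.subset_closure (by simp)))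
        (Subgroup.subset_closure (by simp))]
  rw [hSeq]
  obtain ⟨-, hSK, -⟩ := normalizer_eq h hprim ht ha he hae
  rw [(pair_centralizer h hprim ht ha he hae).1] at hSK
  have hbot : ∀ x ∈ S, Commute x a → Commute x e → x = 1 := fun x hx h1 h2 => by
    have : x ∈ S ⊓ Subgroup.centralizer ({a, e} : Set G) := ⟨hx, mem_pair_centralizer.2 ⟨h1, h2⟩⟩
    rwa [hSK, Subgroup.mem_bot] at this
  have hperm := pair_equiv_perm h ha he hae hbot
  have hcardS : Nat.card S = 6 := by
    rw [Nat.card_congr hperm.some.toEquiv, Nat.card_perm, Nat.card_fin]; rfl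
  set F := N ⊓ K
  have hFae : ∀ x ∈ F, Commute x a ∧ Commute x e := fun x hx =>
    ⟨commute_hsub hx.2.2, Subgroup.mem_centralizer_singleton_iff.1 hx.2.1⟩
  have hFS : F ⊓ S = ⊥ := (Subgroup.eq_bot_iff_forall _).2 fun x hx => hbot x hx.2 (hFae x hx.1).1 (hFae x hx.1).2
  have hcomm : ∀ x ∈ F, ∀ z ∈ S, x * z = z * x := fun x hx z hz => by
    refine (commute_of_closure (x := x) (fun w hw => ?_) z hz).symm.eq
    rcases hw with rfl | rfl
    exacts [(hFae x hx).1.symm, (hFae x hx).2.symm]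
  have hSN : S ≤ N := by
    rw [← hSeq, Subgroup.closure_le]
    exact Set.inter_subset_right.trans (Subgroup.centralizer_le_normalizer _)
  refine ⟨F, hNK, le_inf Subgroup.le_normalizer hXK, ?_, hFS, hcomm, ?_, hperm⟩
  · refine (Subgroup.eq_of_le_of_card_ge (le_inf (le_inf Subgroup.le_normalizer hXK) hXC) ?_).symm
    rw [hX, ← hCK]
    exact Subgroup.card_le_of_le (le_inf inf_le_right (inf_le_left.trans inf_le_right))
  refine Subgroup.eq_of_le_of_card_ge (sup_le inf_le_left hSN) ?_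
  have hupper : Nat.card N ≤ 252 := by
    have q := card_orbit_stab N (Subgroup.centralizer ({a} : Set G)) (fun g => g * a * g⁻¹)
      ((fun g => g * a * g⁻¹) '' (N : Set G)) (fun g _ g' _ => conj_fib) rfl
    have hsub3 : ((fun g => g * a * g⁻¹) '' (N : Set G)) ⊆ Dy := by
      rintro _ ⟨g, hg, rfl⟩
      rw [← hDy]
      refine ⟨h.tt.conj g a ha, ?_⟩
      rw [hcX]
      exact Subgroup.mem_centralizer_singleton_iff.2 (hnorm_y g hg a (commute_hsub (hXa hyX))).eq.symm
    have h3 : Dy.ncard ≤ 3 := by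
      refine (Set.ncard_insert_le _ _).trans ?_
      have := Set.ncard_insert_le e ({a * e * a} : Set G)
      rw [Set.ncard_singleton] at this
      omega
    have h4 := (Set.ncard_le_ncard hsub3).trans h3
    rw [← (centralizer_eq h ha).1, inf_comm, hNH] at q
    rw [q]
    omega
  refine hupper.trans ?_
  let μ : ↥F × ↥S → ↥(F ⊔ S) := fun q => ⟨(q.1 : G) * q.2, Subgroup.mul_mem_sup q.1.2 q.2.2⟩
  have hμ : Function.Injective μ := by
    rintro ⟨⟨u, hu⟩, ⟨v, hv⟩⟩ ⟨⟨u', hu'⟩, ⟨v', hv'⟩⟩ q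
    have q' : u * v = u' * v' := congrArg Subtype.val q
    have h1 : u'⁻¹ * u = v' * v⁻¹ := by
      rw [eq_mul_inv_iff_mul_eq, mul_assoc, q', inv_mul_cancel_left]
    have h2 : u'⁻¹ * u ∈ F ⊓ S := Subgroup.mem_inf.2 ⟨mul_mem (inv_mem hu') hu, h1 ▸ mul_mem hv' (inv_mem hv)⟩
    rw [hFS, Subgroup.mem_bot, inv_mul_eq_one] at h2
    subst h2
    simp [mul_left_cancel q']
  have := Nat.card_le_card_of_injective μ hμ
  rwa [Nat.card_prod, hNK, hcardS] at this

end CfsgLib.ThreeT.Prod
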