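import Cfsg.Agent.Spor3T.Parity
import Cfsg.Agent.Spor3T.LevelGroup

/-!
The hypotheses of the parity step hold for the class of a level, and lift from the neighbourhood of a member,
taken modulo its centre, to the members commuting with it.
-/

set_option autoImplicit false
set_option linter.unusedSectionVars false
set_option linter.style.haveILetI false

namespace CfsgLib.ThreeT.Parity

open CfsgLib.ThreeT.Prod

variable {G : Type*} [Group G] [Finite G] {D : Set G} {n k l m r w c : ℕ}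

/-- A whole level. -/
theorem step_top (h : Level.Geo D n k l m r w) (hA : Level.Arith n k l m r w c)
    (hself : ∀ a ∈ D, a ∈ hsub D a) {d : G} (hd : d ∈ D) : Step D D d := by
  have hgen : ∀ g : G, g ∈ Subgroup.closure D := fun g => h.class3.2.2 ▸ Subgroup.mem_top g
  have hcent : ∀ {a g : G}, a ∈ D → Commute g a → g ∈ hsub D a := fun {a g} ha hc => by
    rw [(Level.centralizer_eq h hA hself ha).1]
    exact Subgroup.mem_centralizer_singleton_iff.2 hc.eq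
  refine ⟨h.tt.sq, fun s hs t ht => ?_, fun s hs t ht => braid0 h.tt hs ht, fun s hs t ht => ?_, subset_rfl, hd,
    fun u hu => ?_, fun s hs hns => absurd hs hns, ?_, ?_, ?_, ?_⟩
  · exact h.tt.conj' ht hs
  · exact h.tt.conj' ht hs
  · obtain ⟨g, hg⟩ := h.conjD d hd u hu (h.ne_one d hd) (h.ne_one u hu)
    exact ⟨g, hgen g, hg⟩
  · intro y hy hyd hdy u hu hud huy hdu hyu v hv hvd hvy hdv hyv
    obtain ⟨g, g1, g2, g3⟩ := Level.triple_conj h hA hd (b := y) (c' := v) ⟨hy, hyd, hdy⟩ ⟨hv, hvd, hdv⟩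
      hvy.symm hyv hd (t := y) (u := u) ⟨hy, hyd, hdy⟩ ⟨hu, hud, hdu⟩ huy.symm hyu
    refine ⟨g, Subgroup.closure_mono (fun z hz => ?_) (Level.cent_in_hsub h.toPre hA hd (b := y) ⟨hy, hyd, hdy⟩
      (hcent hd (mul_inv_eq_iff_eq_mul.1 g1)) (mul_inv_eq_iff_eq_mul.1 g2)), g3⟩
    exact ⟨⟨hz.1, hz.2.1⟩, hz.2.2⟩
  · intro y hy hyd hdy a ha had hya
    obtain ⟨b, hb, hby⟩ := Level.exists_common h hA hd (u := y) ⟨hy, hyd, hdy⟩ ha had hya
    exact ⟨b, hb.1.1, hb.1.2.1, fun e => hya (e ▸ hb.2), hb.1.2.2, hby.symm, hb.2.symm⟩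
  · intro g _ hg
    exact Subgroup.closure_mono (fun z (hz : z ∈ nb D d) => (⟨hz.1, hz.2.2⟩ : z ∈ At D d)) (hcent hd hg)
  · intro u hu hud hdu g hg hgd
    refine Subgroup.closure_mono (fun z hz => ?_)
      (Level.cent_in_hsub h.toPre hA hu (b := d) ⟨hd, hud.symm, hdu.symm⟩ ?_ hgd)
    · exact ⟨⟨hz.1, hz.2.2⟩, hz.2.1⟩
    · exact Level.closure_commute_le h hA hself hu hg

/-- The members over `S'`, with the centre. -/
def Up (D : Set G) (a : G) (S' : Set (↥(hsub D a) ⧸ Subgroup.center ↥(hsub D a))) : Set G :=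
  insert a {y | ∃ hy : y ∈ nb D a, QuotientGroup.mk' (Subgroup.center ↥(hsub D a)) ⟨y, Subgroup.subset_closure hy⟩ ∈ S'}

/-- The neighbours over `W'`. -/
def UpW (D : Set G) (a : G) (W' : Set (↥(hsub D a) ⧸ Subgroup.center ↥(hsub D a))) : Set G :=
  {y | ∃ hy : y ∈ nb D a, QuotientGroup.mk' (Subgroup.center ↥(hsub D a)) ⟨y, Subgroup.subset_closure hy⟩ ∈ W'}

/-- A step in the neighbourhood of `a` modulo the centre gives one among the members commuting with `a`. -/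
theorem step_lift (h : Level.Pre D n k l m r) (hA : Level.Arith n k l m r w c) (hself : ∀ a ∈ D, a ∈ hsub D a)
    {a : G} (ha : a ∈ D) {S' W' : Set (↥(hsub D a) ⧸ Subgroup.center ↥(hsub D a))} (hS' : S' ⊆ img D a)
    {b : G} (hb : b ∈ nb D a)
    (hst : Step S' W' (QuotientGroup.mk' (Subgroup.center ↥(hsub D a)) ⟨b, Subgroup.subset_closure hb⟩)) :
    Step (Up D a S') (UpW D a W') b := by
  have hT := h.tt
  set π := QuotientGroup.mk' (Subgroup.center ↥(hsub D a)) with hπ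
  set B : ↥(hsub D a) := ⟨b, Subgroup.subset_closure hb⟩
  have haH : a ∈ (hsub D a) := hself a ha
  have hone : ∀ {x : ↥(hsub D a)}, π x = 1 → (x : G) = 1 ∨ (x : G) = a := fun {x} e =>
    Level.cent_nb h hA ha (commute_hsub x.2).symm
      fun _ hy => commute_of_mem_center ((QuotientGroup.eq_one_iff x).1 e) hy
  have hinj : ∀ {x y : ↥(hsub D a)}, (x : G) ∈ nb D a → (y : G) ∈ nb D a → π x = π y → (x : G) = y :=
    fun {x y} hx hy e => by
      by_contra hne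
      exact not_central hT h.conjD h.twinFree ha (h.ne_one a ha) hx (h.ne_one _ hx.1) fun z hz =>
        central_of_mk_eq hT hx hy hne e hz
  have hcm : ∀ {x y : ↥(hsub D a)}, (x : G) ∈ nb D a → (y : G) ∈ nb D a → (Commute (π x) (π y) ↔ Commute (x : G) y) :=
    fun hx hy => map_commute_iff hT hx hy
  have hπa : π ⟨a, haH⟩ = 1 := (QuotientGroup.eq_one_iff _).2 (mem_center_hsub fun z hz => hz.2.2.symm)
  have hUp : ∀ {s : G}, s ∈ Up D a S' → s ∈ D ∧ Commute a s := by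
    rintro s (e | ⟨hs, -⟩)
    exacts [e.symm ▸ ⟨ha, Commute.refl _⟩, ⟨hs.1, hs.2.2⟩]
  have hUpH : ∀ {s : G}, s ∈ Up D a S' → s ∈ (hsub D a) := by
    rintro s (e | ⟨hs, -⟩)
    exacts [e.symm ▸ haH, Subgroup.subset_closure hs]
  have hmap : ∀ {T : Set G} {T' : Set (↥(hsub D a) ⧸ Subgroup.center ↥(hsub D a))}, T ⊆ (hsub D a) →
      (∀ s (hs : s ∈ (hsub D a)), s ∈ T → π ⟨s, hs⟩ ∈ Subgroup.closure T') →
        ∀ g (hg : g ∈ (hsub D a)), g ∈ Subgroup.closure T → π ⟨g, hg⟩ ∈ Subgroup.closure T' := by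
    intro T T' hTH hTT g hg hgT
    have hle : Subgroup.closure T ≤ ((Subgroup.closure T').comap π).map (hsub D a).subtype :=
      (Subgroup.closure_le _).2 fun s hs => ⟨⟨s, hTH hs⟩, hTT s (hTH hs) hs, rfl⟩
    obtain ⟨x, hx, e⟩ := hle hgT
    rwa [show (⟨g, hg⟩ : ↥(hsub D a)) = x from Subtype.ext e.symm]
  have hπS : ∀ s (hs : s ∈ (hsub D a)), s ∈ Up D a S' → π ⟨s, hs⟩ ∈ Subgroup.closure S' := by
    rintro s hs (e | ⟨_, hs'⟩)
    · rw [show (⟨s, hs⟩ : ↥(hsub D a)) = ⟨a, haH⟩ from Subtype.ext e, hπa]; exact one_mem _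
    · exact Subgroup.subset_closure hs'
  have hUpS : ∀ {q}, q ∈ S' → ∃ y : ↥(hsub D a), (y : G) ∈ nb D a ∧ π y = q ∧ (y : G) ∈ Up D a S' := by
    intro q hq
    obtain ⟨y, hy, rfl⟩ := hS' hq
    exact ⟨y, hy, rfl, Or.inr ⟨hy, hq⟩⟩
  -- lifting what is generated
  have hliftcl : ∀ {T : Set G} {T' : Set (↥(hsub D a) ⧸ Subgroup.center ↥(hsub D a))}, a ∈ T →
      (∀ q ∈ T', ∃ y : ↥(hsub D a), π y = q ∧ (y : G) ∈ T) →
        ∀ g (hg : g ∈ (hsub D a)), π ⟨g, hg⟩ ∈ Subgroup.closure T' → g ∈ Subgroup.closure T := by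
    intro T T' haT hTT g hg hgT
    have hle : Subgroup.closure T' ≤ ((Subgroup.closure T).comap (hsub D a).subtype).map π :=
      (Subgroup.closure_le _).2 fun q hq => by
        obtain ⟨y, rfl, hy⟩ := hTT q hq
        exact ⟨y, Subgroup.subset_closure hy, rfl⟩
    obtain ⟨x, hx, e⟩ := hle hgT
    rcases hone (x := x⁻¹ * ⟨g, hg⟩) (by rw [map_mul, map_inv, e, inv_mul_cancel]) with q | q <;>
      rw [Subgroup.coe_mul, Subgroup.coe_inv, inv_mul_eq_iff_eq_mul] at q <;> change g = _ at q <;> rw [q]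
    · rw [mul_one]; exact hx
    · exact mul_mem hx (Subgroup.subset_closure haT)
  have hUpW : ∀ {x : G}, x ∈ UpW D a W' → ∃ hx : x ∈ nb D a, π ⟨x, Subgroup.subset_closure hx⟩ ∈ W' := fun hx => hx
  have hconj : ∀ s ∈ Up D a S', ∀ y, (hy : y ∈ nb D a) → ∀ T' : Set (↥(hsub D a) ⧸ Subgroup.center ↥(hsub D a)),
      π ⟨y, Subgroup.subset_closure hy⟩ ∈ T' → (∀ s' ∈ S', ∀ x ∈ T', s' * x * s' ∈ T') →
        ∃ hy' : s * y * s ∈ nb D a, π ⟨s * y * s, Subgroup.subset_closure hy'⟩ ∈ T' := by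
    intro s hs y hy T' hyT hclosed
    rcases hs with es | ⟨hs, hs'⟩
    · have e : s * y * s = y := by rw [es, hy.2.2.eq, mul_assoc, hT.sq a ha, mul_one]
      exact ⟨e.symm ▸ hy, by simpa only [e] using hyT⟩
    · have hsi : s⁻¹ = s := hT.inv hs.1
      have hn : s * y * s ∈ nb D a := by
        have := nb_conj (g := s) (d := a) hT hy.1 hy.2.1 hy.2.2 (by rw [hs.2.2.symm.eq, mul_inv_cancel_right])
        rwa [hsi] at this
      refine ⟨hn, ?_⟩
      have h9 := hclosed _ hs' _ hyT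
      rw [← map_mul, ← map_mul] at h9
      exact h9
  have upnb : ∀ {y : G}, y ∈ UpW D a W' → y ≠ a := fun ⟨hy, _⟩ => hy.2.1
  refine ⟨fun s hs => hT.sq s (hUp hs).1, ?_, fun s hs t ht => braid0 hT (hUp hs).1 (hUp ht).1, ?_, ?_,
    ⟨hb, hst.mem⟩, ?_, ?_, ?_, ?_, ?_, ?_⟩
  · rintro s hs t (e | ⟨ht, ht'⟩)
    · left
      rw [e, (hUp hs).2.symm.eq, mul_assoc, hT.sq s (hUp hs).1, mul_one]
    · exact Or.inr (hconj s hs t ht S' ht' hst.conj)
  · rintro s hs x ⟨hx, hx'⟩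
    exact hconj s hs x hx W' hx' hst.conjW
  · rintro x ⟨hx, hx'⟩
    exact Or.inr ⟨hx, hst.sub hx'⟩
  · rintro u ⟨hu, hu'⟩
    obtain ⟨g', hg', e⟩ := hst.reach _ hu'
    obtain ⟨G', rfl⟩ := QuotientGroup.mk'_surjective (Subgroup.center ↥(hsub D a)) g'
    refine ⟨G', hliftcl (T := Up D a S') (Or.inl rfl) (fun q hq => ?_) _ G'.2 hg', ?_⟩
    · obtain ⟨y, -, hy, hyU⟩ := hUpS hq
      exact ⟨y, hy, hyU⟩
    · have hm : ((G' * B * G'⁻¹ : ↥(hsub D a)) : G) ∈ nb D a :=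
        nb_conj hT hb.1 hb.2.1 hb.2.2 (by rw [(commute_hsub G'.2).eq, mul_inv_cancel_right])
      exact hinj (x := G' * B * G'⁻¹) (y := ⟨u, Subgroup.subset_closure hu⟩) hm hu
        (by rw [map_mul, map_mul, map_inv]; exact e)
  · rintro s (e | ⟨hs, hs'⟩) hsW x ⟨hx, hx'⟩
    · rw [e]; exact hx.2.2
    · exact (hcm (x := ⟨s, Subgroup.subset_closure hs⟩) (y := ⟨x, Subgroup.subset_closure hx⟩) hs hx).1
        (hst.outside _ hs' (fun q => hsW ⟨hs, q⟩) _ hx')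
  · rintro y ⟨hy, hy'⟩ hyb hby u ⟨hu, hu'⟩ hub huy hbu hyu v ⟨hv, hv'⟩ hvb hvy hbv hyv
    have ne : ∀ {p q : G} (hp : p ∈ nb D a) (hq : q ∈ nb D a), p ≠ q →
        π ⟨p, Subgroup.subset_closure hp⟩ ≠ π ⟨q, Subgroup.subset_closure hq⟩ := fun hp hq hpq e =>
      hpq (hinj (x := ⟨_, Subgroup.subset_closure hp⟩) (y := ⟨_, Subgroup.subset_closure hq⟩) hp hq e)
    have co : ∀ {p q : G} (hp : p ∈ nb D a) (hq : q ∈ nb D a), Commute p q →
        Commute (π ⟨p, Subgroup.subset_closure hp⟩) (π ⟨q, Subgroup.subset_closure hq⟩) := fun hp hq hpq =>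
      (hcm (x := ⟨_, Subgroup.subset_closure hp⟩) (y := ⟨_, Subgroup.subset_closure hq⟩) hp hq).2 hpq
    obtain ⟨g', hg', e⟩ := hst.trans _ hy' (ne hy hb hyb) (co hb hy hby) _ hu' (ne hu hb hub) (ne hu hy huy)
      (co hb hu hbu) (co hy hu hyu) _ hv' (ne hv hb hvb) (ne hv hy hvy) (co hb hv hbv) (co hy hv hyv)
    obtain ⟨G', rfl⟩ := QuotientGroup.mk'_surjective (Subgroup.center ↥(hsub D a)) g'
    refine ⟨G', hliftcl (T := At (At (Up D a S') b) y) ?_ (fun q hq => ?_) _ G'.2 hg', ?_⟩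
    · exact ⟨⟨Or.inl rfl, hb.2.2.symm⟩, hy.2.2.symm⟩
    · obtain ⟨z, hz, hze, hzU⟩ := hUpS hq.1.1
      subst hze
      exact ⟨z, rfl, ⟨hzU, (hcm (x := B) hb hz).1 hq.1.2⟩,
        (hcm (x := ⟨y, Subgroup.subset_closure hy⟩) hy hz).1 hq.2⟩
    · have hm : ((G' * (⟨u, Subgroup.subset_closure hu⟩ : ↥(hsub D a)) * G'⁻¹ : ↥(hsub D a)) : G) ∈ nb D a :=
        nb_conj hT hu.1 hu.2.1 hu.2.2 (by rw [(commute_hsub G'.2).eq, mul_inv_cancel_right])
      exact hinj (x := G' * ⟨u, Subgroup.subset_closure hu⟩ * G'⁻¹) (y := ⟨v, Subgroup.subset_closure hv⟩) hm hv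
        (by rw [map_mul, map_mul, map_inv]; exact e)
  · rintro y ⟨hy, hy'⟩ hyb hby x ⟨hx, hx'⟩ hbx hyx
    obtain ⟨u', hu', n1, n2, c1, c2, c3⟩ := hst.common _ hy'
      (fun e => hyb (hinj (x := ⟨y, Subgroup.subset_closure hy⟩) (y := B) hy hb e))
      ((hcm (x := B) (y := ⟨y, Subgroup.subset_closure hy⟩) hb hy).2 hby) _ hx'
      (fun e => hbx ((hcm (x := B) (y := ⟨x, Subgroup.subset_closure hx⟩) hb hx).1 e))
      (fun e => hyx ((hcm (x := ⟨y, Subgroup.subset_closure hy⟩) (y := ⟨x, Subgroup.subset_closure hx⟩) hy hx).1 e))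
    obtain ⟨z, hz, rfl⟩ := hS' (hst.sub hu')
    refine ⟨z, ⟨hz, hu'⟩, fun e => n1 (congrArg π (Subtype.ext e : z = B)),
      fun e => n2 (congrArg π (Subtype.ext e : z = ⟨y, Subgroup.subset_closure hy⟩)), (hcm (x := B) hb hz).1 c1,
      (hcm (x := ⟨y, Subgroup.subset_closure hy⟩) hy hz).1 c2, (hcm (x := ⟨x, Subgroup.subset_closure hx⟩) hx hz).1 c3⟩
  · intro g hg hgb
    have hgH : g ∈ (hsub D a) := (Subgroup.closure_le (hsub D a)).2 (fun s hs => hUpH hs) hg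
    refine hliftcl (T := At (Up D a S') b) ⟨Or.inl rfl, hb.2.2.symm⟩ (fun q hq => ?_) g hgH
      (hst.C1 _ (hmap (fun s hs => hUpH hs) hπS g hgH hg)
        ((show Commute (⟨g, hgH⟩ : ↥(hsub D a)) B from Subtype.ext hgb.eq).map π))
    obtain ⟨z, hz, hze, hzU⟩ := hUpS hq.1
    subst hze
    exact ⟨z, rfl, hzU, (hcm (x := B) hb hz).1 hq.2⟩
  · rintro u ⟨hu, hu'⟩ hub hbu g hg hgb
    have hgH : g ∈ (hsub D a) := (Subgroup.closure_le (hsub D a)).2 (fun s hs => hUpH hs.1) hg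
    set U : ↥(hsub D a) := ⟨u, Subgroup.subset_closure hu⟩
    have h1 : π ⟨g, hgH⟩ ∈ Subgroup.closure (At S' (π U)) := hmap (fun s hs => hUpH hs.1) (fun s hs hsT => by
      rcases hsT.1 with e | ⟨hsn, hs'⟩
      · rw [show (⟨s, hs⟩ : ↥(hsub D a)) = ⟨a, haH⟩ from Subtype.ext e, hπa]; exact one_mem _
      · exact Subgroup.subset_closure ⟨hs', (hcm (x := U) (y := ⟨s, hs⟩) hu hsn).2 hsT.2⟩) g hgH hg
    refine hliftcl (T := At (At (Up D a S') b) u) ⟨⟨Or.inl rfl, hb.2.2.symm⟩, hu.2.2.symm⟩ (fun q hq => ?_) g hgH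
      (hst.C2 _ hu' (fun e => hub (hinj (x := U) (y := B) hu hb e)) ((hcm (x := B) (y := U) hb hu).2 hbu) _ h1
        ((show Commute (⟨g, hgH⟩ : ↥(hsub D a)) B from Subtype.ext hgb.eq).map π))
    obtain ⟨z, hz, hze, hzU⟩ := hUpS hq.1.1
    subst hze
    exact ⟨z, rfl, ⟨hzU, (hcm (x := B) hb hz).1 hq.1.2⟩, (hcm (x := U) hu hz).1 hq.2⟩

/-- Members commuting with `a` are the lift of the whole image. -/
theorem up_img {a : G} (ha : a ∈ D) : Up D a (img D a) = At D a := by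
  ext y
  constructor
  · rintro (rfl | ⟨hy, -⟩)
    exacts [⟨ha, Commute.refl _⟩, ⟨hy.1, hy.2.2⟩]
  · intro hy
    by_cases e : y = a
    · exact Or.inl e
    · exact Or.inr ⟨⟨hy.1, e, hy.2⟩, ⟨⟨y, Subgroup.subset_closure ⟨hy.1, e, hy.2⟩⟩, ⟨hy.1, e, hy.2⟩, rfl⟩⟩

/-- Members commuting with `a` and `b` are the lift of the members commuting with the image of `b`. -/
theorem up_at (hT : TT0 D) {a b : G} (ha : a ∈ D) (hb : b ∈ nb D a) :
    Up D a (At (img D a) (QuotientGroup.mk' (Subgroup.center ↥(hsub D a)) ⟨b, Subgroup.subset_closure hb⟩)) =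
      At (At D a) b := by
  ext y
  constructor
  · rintro (rfl | ⟨hy, hy'⟩)
    · exact ⟨⟨ha, Commute.refl _⟩, hb.2.2.symm⟩
    · exact ⟨⟨hy.1, hy.2.2⟩, (map_commute_iff hT (x := ⟨b, Subgroup.subset_closure hb⟩)
        (y := ⟨y, Subgroup.subset_closure hy⟩) hb hy).1 hy'.2⟩
  · intro hy
    by_cases e : y = a
    · exact Or.inl e
    · have hyn : y ∈ nb D a := ⟨hy.1.1, e, hy.1.2⟩
      exact Or.inr ⟨hyn, ⟨⟨y, Subgroup.subset_closure hyn⟩, hyn, rfl⟩,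
        (map_commute_iff hT (x := ⟨b, Subgroup.subset_closure hb⟩) (y := ⟨y, Subgroup.subset_closure hyn⟩) hb hyn).2 hy.2⟩

end CfsgLib.ThreeT.Parity
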