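import Cfsg.Agent.Spor3T.M24Invol
import Cfsg.Agent.Spor3T.ParitySteps
import Cfsg.Agent.S2091

/-!
Type M(24): no product of an odd number of transpositions is trivial. The bottom of the descent is the group
of the members commuting with three commuting transpositions, a central extension of `PSU₆(2)`; its perfect
part has a centre of order at most four, and a relation between eight commuting transpositions fixes the class
of the other generators.
-/

set_option autoImplicit false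
set_option linter.unusedSectionVars false
set_option linter.style.haveILetI false

namespace CfsgLib.ThreeT.Prod

open CfsgLib.ThreeT.Parity
open scoped commutatorElement

/-- A group of type M(22) has an almost simple far pair. -/
theorem refl22 {G : Type*} [Group G] [Finite G] {D : Set G} (h : Cfsg.IsOfTypeM22 G D) : Level.Refl D := by
  obtain ⟨-, d, hd, c, hc, hdc, -, c₃, hc₃, Q, hQn, -, ⟨e⟩⟩ := h
  refine ⟨d, hd, c, hc, hdc, ?_⟩
  have hset : ({y : G | y ∈ D ∧ y ≠ d ∧ Commute d y} ∩ {y : G | y ∈ D ∧ y ≠ c ∧ Commute c y}) = tri D d c := by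
    ext y
    exact ⟨fun hy => ⟨hy.1, hy.2.2.2.symm⟩, fun hy => ⟨hy.1, hy.1.1, fun he => hdc (he ▸ hy.1.2.2), hy.2.symm⟩⟩
  have hAS := (almostSimple_refl hQn (by norm_num) hc₃).of_equiv e
  obtain ⟨u, v, huv⟩ := refl_not_abelian hQn (by norm_num) hc₃
  have hnc : ∃ u v, u * v ≠ v * u := ⟨e.symm u, e.symm v, fun q => huv (by
    simpa using congrArg e q)⟩
  revert hAS hnc
  clear e u v huv
  rw [hset]
  exact fun a b => ⟨a, b⟩

theorem arith22 : Level.Arith 693 180 51 45 12 126 30 := by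
  exact ⟨by norm_num, by norm_num, by norm_num, by norm_num, by norm_num, by norm_num, by norm_num, by norm_num,
    by norm_num⟩

/-- Type M(22) as a level. -/
theorem geo22L {G : Type*} [Group G] [Finite G] {D : Set G} (h : Geo22 D) (ht : Cfsg.IsOfTypeM22 G D) :
    Level.Geo D 693 180 51 45 12 126 := by
  have hR := refl22 ht
  obtain ⟨d, hd, c, hc, hdc, -⟩ := hR
  exact ⟨⟨⟨h.class3, h.tt, h.ne_one, h.center, h.conjD, h.twinFree, h.conn, h.near, h.nosol,
    (refl22 ht).not_solvable⟩, fun a ha => ⟨(h.loc a ha).card_nb, (h.loc a ha).card_pair, (h.loc a ha).card_comm,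
      (h.loc a ha).card_line, (h.loc a ha).card_three, (h.loc a ha).line_three, (h.loc a ha).cent⟩⟩,
    d, hd, c, hc, hdc, (tri_card h).1 d hd c hc hdc⟩

variable {G : Type*} [Group G] [Finite G] {D : Set G} {d : G} (P : Point24 D d)

include P

/-- The step from a commuting pair at the point to the point. -/
theorem step_one24 {b : G} (hb : b ∈ nb D d) : Step (At D d) (UpW D d (img D d)) b := by
  obtain ⟨e, P'⟩ := P.below
  have h1 := step_lift (pre24 P) arith24 (self24 P) P.mem (subset_refl (img D d)) hb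
    (step_top (geo23 P') arith23 (self23 P')
      (d := QuotientGroup.mk' (Subgroup.center ↥(hsub D d)) ⟨b, Subgroup.subset_closure hb⟩)
      ⟨⟨b, Subgroup.subset_closure hb⟩, hb, rfl⟩)
  rwa [up_img P.mem] at h1

/-- The members commuting with three commuting members generate a group with a subgroup of index two
missing the three. -/
theorem half24 {b u : G} (hb : b ∈ nb D d) (hu : u ∈ nb D d) (hbu : b ≠ u) (cbu : Commute b u) :
    d ∉ ⁅Subgroup.closure (At (At (At D d) b) u), Subgroup.closure (At (At (At D d) b) u)⁆ ∧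
      ∀ x ∈ Subgroup.closure (At (At (At D d) b) u),
        x ∈ ⁅Subgroup.closure (At (At (At D d) b) u), Subgroup.closure (At (At (At D d) b) u)⁆ ∨
          x * d ∈ ⁅Subgroup.closure (At (At (At D d) b) u), Subgroup.closure (At (At (At D d) b) u)⁆ := by
  classical
  obtain ⟨e₀, P'⟩ := P.below
  have hT := P.base.tt
  set K := Subgroup.closure (At (At (At D d) b) u) with hKdef
  set π := QuotientGroup.mk' (Subgroup.center ↥(hsub D d)) with hπ
  set B : ↥(hsub D d) := ⟨b, Subgroup.subset_closure hb⟩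
  set U : ↥(hsub D d) := ⟨u, Subgroup.subset_closure hu⟩
  have hBE : π B ∈ img D d := ⟨B, hb, rfl⟩
  have hUE : π U ∈ nb (img D d) (π B) :=
    ⟨⟨U, hu, rfl⟩, fun q => hbu (mk_inj24 P hu hb q).symm, (map_commute_iff hT (x := B) (y := U) hb hu).2 cbu⟩
  have hdK : d ∈ K := Subgroup.subset_closure ⟨⟨⟨P.mem, Commute.refl d⟩, hb.2.2.symm⟩, hu.2.2.symm⟩
  have hbK : b ∈ K := Subgroup.subset_closure ⟨⟨⟨hb.1, hb.2.2⟩, Commute.refl b⟩, cbu.symm⟩
  have huK : u ∈ K := Subgroup.subset_closure ⟨⟨⟨hu.1, hu.2.2⟩, cbu⟩, Commute.refl u⟩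
  have hKH : K ≤ hsub D d := (Subgroup.closure_le _).2 fun z hz => by
    by_cases q : z = d
    · exact q ▸ self24 P d P.mem
    · exact Subgroup.subset_closure ⟨hz.1.1.1, q, hz.1.1.2⟩
  have hcent : ∀ {z : G}, (∀ s ∈ At (At (At D d) b) u, Commute s z) → ∀ k ∈ K, Commute k z :=
    fun hz => commute_of_closure hz
  have hdc : ∀ k ∈ K, Commute k d := hcent fun s hs => hs.1.1.2.symm
  have hbc : ∀ k ∈ K, Commute k b := hcent fun s hs => hs.1.2.symm
  have huc : ∀ k ∈ K, Commute k u := hcent fun s hs => hs.2.symm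
  set C := Subgroup.centralizer ({π B, π U} : Set (↥(hsub D d) ⧸ Subgroup.center ↥(hsub D d))) with hCdef
  obtain ⟨hZ, hq, F, iF, iT, hF, ⟨eP⟩⟩ := pair_cover23 P' P.group P.prim P.type hBE hUE
  let f : ↥K →* ↥(hsub D d) := Subgroup.inclusion hKH
  have hfC : ∀ k : ↥K, π (f k) ∈ C := fun k => mem_cent_pair.2
    ⟨(show Commute (f k) B from Subtype.ext (hbc k k.2).eq).map π,
      (show Commute (f k) U from Subtype.ext (huc k k.2).eq).map π⟩
  let ψ : ↥K →* ↥C := (π.comp f).codRestrict C hfC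
  have hψ : Function.Surjective ψ := by
    rintro ⟨y, hy⟩
    obtain ⟨hy1, hy2⟩ := mem_cent_pair.1 hy
    have h1 : y ∈ hsub (img D d) (π B) := by
      rw [(Level.centralizer_eq (geo23 P') arith23 (self23 P') hBE).1]
      exact Subgroup.mem_centralizer_singleton_iff.2 hy1.eq
    have h2 := Level.cent_in_hsub (geo23 P').toPre arith23 hBE hUE h1 hy2
    have hle : Subgroup.closure {z | z ∈ img D d ∧ Commute (π B) z ∧ Commute (π U) z} ≤
        (K.subgroupOf (hsub D d)).map π := by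
      refine (Subgroup.closure_le _).2 ?_
      rintro _ ⟨⟨z, hz, rfl⟩, c1, c2⟩
      exact ⟨z, Subgroup.mem_subgroupOf.2 (Subgroup.subset_closure ⟨⟨⟨hz.1, hz.2.2⟩,
        (map_commute_iff hT (x := B) hb hz).1 c1⟩, (map_commute_iff hT (x := U) hu hz).1 c2⟩), rfl⟩
    obtain ⟨x, hx, rfl⟩ := hle h2
    exact ⟨⟨x, Subgroup.mem_subgroupOf.1 hx⟩, Subtype.ext rfl⟩
  have hψker : ∀ k : ↥K, ψ k = 1 → (k : G) = 1 ∨ (k : G) = d := fun k e =>
    mk_one24 P (x := f k) (congrArg Subtype.val e)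
  have hψd : ψ ⟨d, hdK⟩ = 1 := Subtype.ext ((QuotientGroup.eq_one_iff _).2 (mem_center_hsub fun z hz => hz.2.2.symm))
  -- the commutator subgroup and the point
  have hsplit : ∀ k : ↥K, k ∈ commutator ↥K ∨ k * ⟨d, hdK⟩ ∈ commutator ↥K := by
    intro k
    have hm : ψ k ∈ (commutator ↥K).map ψ := by
      rw [show (commutator ↥K).map ψ = ⊤ by
        rw [← hq.1.commutator_eq_top]
        simp only [commutator_def]
        rw [Subgroup.map_commutator, Subgroup.map_top_of_surjective _ hψ]]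
      exact Subgroup.mem_top _
    obtain ⟨y, hy, e'⟩ := hm
    rcases hψker (k⁻¹ * y) (by rw [map_mul, map_inv, e', inv_mul_cancel]) with q | q
    · exact Or.inl (inv_mul_eq_one.1 (Subtype.ext q : k⁻¹ * y = 1) ▸ hy)
    · right; rw [← (Subtype.ext q : k⁻¹ * y = ⟨d, hdK⟩), mul_inv_cancel_left]; exact hy
  have hmapK : (commutator ↥K).map K.subtype = ⁅K, K⁆ := by
    rw [commutator_def, Subgroup.map_commutator, ← MonoidHom.range_eq_map, Subgroup.range_subtype]
  refine ⟨fun hmem => ?_, fun x hx => ?_⟩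
  swap
  · rw [← hmapK]
    rcases hsplit ⟨x, hx⟩ with q | q
    · exact Or.inl ⟨_, q, rfl⟩
    · exact Or.inr ⟨_, q, rfl⟩
  -- otherwise a perfect extension of `PSU₆(2)` has too large a kernel
  have hperf : commutator ↥K = ⊤ := by
    rw [← hmapK] at hmem
    obtain ⟨y, hy, hye⟩ := hmem
    rw [eq_top_iff]
    intro k _
    rcases hsplit k with q | q
    · exact q
    · have := mul_mem q (inv_mem (show (⟨d, hdK⟩ : ↥K) ∈ commutator ↥K from (Subtype.ext hye : y = ⟨d, hdK⟩) ▸ hy))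
      rwa [mul_inv_cancel_right] at this
  let σ : ↥K →* Cfsg.PSU 6 F 2 := eP.toMonoidHom.comp ((QuotientGroup.mk' (Subgroup.center ↥C)).comp ψ)
  have hσ : Function.Surjective σ :=
    eP.surjective.comp ((QuotientGroup.mk'_surjective _).comp hψ)
  have hσker : ∀ k : ↥K, σ k = 1 ↔ ψ k ∈ Subgroup.center ↥C := fun k => by
    show eP _ = 1 ↔ _
    rw [map_eq_one_iff eP eP.injective]
    exact QuotientGroup.eq_one_iff _
  set Z : Subgroup G := Subgroup.closure {d, b, u} with hZdef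
  have hZK : Z ≤ K := (Subgroup.closure_le _).2 (by rintro x (rfl | rfl | rfl) <;> assumption)
  have hZc : ∀ z ∈ Z, ∀ k ∈ K, Commute k z := by
    intro z hz k hk
    refine (commute_of_closure (x := k) ?_ z hz).symm
    rintro y (rfl | rfl | rfl)
    exacts [(hdc k hk).symm, (hbc k hk).symm, (huc k hk).symm]
  have hZsq : ∀ z ∈ Z, z * z = 1 := by
    intro z hz
    induction hz using Subgroup.closure_induction with
    | mem x hx => rcases hx with rfl | rfl | rfl; exacts [hT.sq _ P.mem, hT.sq _ hb.1, hT.sq _ hu.1]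
    | one => simp
    | mul x y hx hy ex ey =>
      rw [← pow_two, ((hZc y hy x (hZK hx))).mul_pow, pow_two, pow_two, ex, ey, one_mul]
    | inv x _ ex => rw [← mul_inv_rev, ex, inv_one]
  have hkerZ : ∀ k : ↥K, σ k = 1 → (k : G) ∈ Z := by
    intro k hk
    have h1 : (ψ k : ↥(hsub D d) ⧸ Subgroup.center ↥(hsub D d)) ∈
        (Subgroup.center ↥C).map C.subtype := ⟨ψ k, (hσker k).1 hk, rfl⟩
    rw [hZ] at h1
    have hle : Subgroup.closure ({π B, π U} : Set _) ≤ (Z.subgroupOf (hsub D d)).map π := by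
      refine (Subgroup.closure_le _).2 ?_
      rintro x (rfl | rfl)
      · exact ⟨B, Subgroup.mem_subgroupOf.2 (Subgroup.subset_closure (Or.inr (Or.inl rfl))), rfl⟩
      · exact ⟨U, Subgroup.mem_subgroupOf.2 (Subgroup.subset_closure (Or.inr (Or.inr rfl))), rfl⟩
    obtain ⟨z, hz, hze⟩ := hle h1
    have hzK : (z : G) ∈ K := hZK (Subgroup.mem_subgroupOf.1 hz)
    rcases hψker (⟨z, hzK⟩⁻¹ * k) (by
      rw [map_mul, map_inv, show ψ ⟨z, hzK⟩ = ψ k from Subtype.ext hze, inv_mul_cancel]) with q | q <;>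
      rw [Subgroup.coe_mul, Subgroup.coe_inv, inv_mul_eq_iff_eq_mul] at q <;> rw [q]
    · rw [mul_one]; exact Subgroup.mem_subgroupOf.1 hz
    · exact mul_mem (Subgroup.mem_subgroupOf.1 hz) (Subgroup.subset_closure (Or.inl rfl))
  have hker_center : σ.ker ≤ Subgroup.center ↥K := fun k hk => Subgroup.mem_center_iff.2 fun x =>
    Subtype.ext (hZc k (hkerZ k (MonoidHom.mem_ker.1 hk)) x x.2).eq
  -- a small copy of the extension
  let ε : Shrink.{0} ↥K ≃* ↥K := Shrink.mulEquiv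
  let σ' : Shrink.{0} ↥K →* Cfsg.PSU 6 F 2 := σ.comp ε.toMonoidHom
  have hstem : Cfsg.IsStemExtension σ' := by
    refine ⟨hσ.comp ε.surjective, fun k hk => Subgroup.mem_center_iff.2 fun x => ε.injective ?_, ?_⟩
    · rw [map_mul, map_mul]
      exact Subgroup.mem_center_iff.1 (hker_center (show ε k ∈ σ.ker from hk)) (ε x)
    · intro k _
      have h1 : (commutator (Shrink.{0} ↥K)).map ε.toMonoidHom = ⊤ := by
        rw [← hperf]
        simp only [commutator_def]
        rw [Subgroup.map_commutator, Subgroup.map_top_of_surjective _ ε.surjective]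
      obtain ⟨y, hy, q⟩ := h1.ge (Subgroup.mem_top (ε k))
      exact ε.injective q ▸ hy
  haveI : Finite (Shrink.{0} ↥K) := Finite.of_equiv ↥K ε.symm.toEquiv
  obtain ⟨φ, hφ⟩ := (Cfsg.Agent.S2091.result (F := F) hF).2 (Shrink.{0} ↥K) σ' hstem
  have h12 : Nat.card ↥σ'.ker ∣ 12 := by
    have := Subgroup.card_dvd_of_surjective φ hφ
    rwa [Nat.card_congr Multiplicative.toAdd, Nat.card_prod, Nat.card_prod, Nat.card_zmod, Nat.card_zmod] at this
  have hp2 : IsPGroup 2 ↥σ'.ker := by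
    intro k
    refine ⟨1, Subtype.ext (ε.injective (Subtype.ext ?_))⟩
    rw [pow_one, pow_two, Subgroup.coe_mul, map_mul, Subgroup.coe_mul, OneMemClass.coe_one, map_one,
      OneMemClass.coe_one]
    exact hZsq _ (hkerZ (ε k) k.2)
  haveI : Fact (Nat.Prime 2) := ⟨Nat.prime_two⟩
  obtain ⟨j, hj⟩ := IsPGroup.iff_card.1 hp2
  have hj4 : Nat.card ↥σ'.ker ≤ 4 := by
    rw [hj] at h12 ⊢
    have hj3 : j ≤ 3 := by
      by_contra hh
      push Not at hh
      have := Nat.le_of_dvd (by norm_num) ((pow_dvd_pow 2 hh).trans h12)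
      norm_num at this
    interval_cases j <;> revert h12 <;> norm_num
  -- but it contains five members
  have hmemker : ∀ k : ↥K, ψ k ∈ Subgroup.center ↥C → ε.symm k ∈ σ'.ker := fun k hk =>
    MonoidHom.mem_ker.2 (show σ (ε (ε.symm k)) = 1 by rw [ε.apply_symm_apply]; exact (hσker k).2 hk)
  have hBC : ψ ⟨b, hbK⟩ ∈ Subgroup.center ↥C := Subgroup.mem_center_iff.2 fun x =>
    Subtype.ext ((mem_cent_pair.1 x.2).1).eq
  have hUC : ψ ⟨u, huK⟩ ∈ Subgroup.center ↥C := Subgroup.mem_center_iff.2 fun x =>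
    Subtype.ext ((mem_cent_pair.1 x.2).2).eq
  have hDC : ψ ⟨d, hdK⟩ ∈ Subgroup.center ↥C := hψd ▸ one_mem _
  let five : Fin 5 → ↥σ'.ker := ![1, ⟨_, hmemker _ hDC⟩, ⟨_, hmemker _ hBC⟩, ⟨_, hmemker _ hUC⟩,
    ⟨_, hmemker (⟨d, hdK⟩ * ⟨b, hbK⟩) (by rw [map_mul]; exact mul_mem hDC hBC)⟩]
  have hval : ∀ i, ((ε (five i : Shrink.{0} ↥K)) : G) = ![1, d, b, u, d * b] i := by
    intro i; fin_cases i <;> simp [five]
  have hinj : Function.Injective five := by
    intro i j hij
    have q : ![1, d, b, u, d * b] i = ![1, d, b, u, d * b] j := by rw [← hval, ← hval, hij]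
    have n1 := P.base.ne_one d P.mem
    have n2 := P.base.ne_one b hb.1
    have n3 := P.base.ne_one u hu.1
    have n4 : d * b ≠ 1 := fun e => hb.2.1 (by
      rw [← inv_eq_of_mul_eq_one_right e, hT.inv P.mem])
    have n5 : d * b ≠ d := fun e => n2 (mul_left_cancel (e.trans (mul_one d).symm))
    have n6 : d * b ≠ b := fun e => n1 (mul_right_cancel (e.trans (one_mul b).symm))
    have n7 : d * b ≠ u := fun e => by
      have h2 : Facs D 2 u := ⟨[d, b], by simpa using hb.2.1.symm, rfl, by simpa using ⟨P.mem, hb.1⟩,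
        by simpa using ⟨hb.2.2, hb.2.2.symm⟩, by simpa using e⟩
      have h1 : Facs D 1 u := ⟨[u], by simp, rfl, by simpa using hu.1, by simp, by simp⟩
      exact absurd (facs_unique24 P (by norm_num) (by norm_num) le_rfl (by norm_num) h2 h1) (by norm_num)
    fin_cases i <;> fin_cases j <;> first
      | rfl
      | (exfalso; simp [n1, n2, n3, n4, n5, n6, n7, n1.symm, n2.symm, n3.symm, n4.symm, n5.symm, n6.symm, n7.symm,
          hb.2.1, hb.2.1.symm, hu.2.1, hu.2.1.symm, hbu, hbu.symm] at q)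
  have h5 := Nat.card_le_card_of_injective five hinj
  rw [Nat.card_eq_fintype_card, Fintype.card_fin] at h5
  omega

omit P in
/-- A product of members of the two classes of a group with a subgroup of index two. -/
theorem prod_mem_iff {K K' : Subgroup G} {a : G} (haK : a ∈ K) (ha2 : a * a = 1) (hle : K' ≤ K)
    (hac : ∀ x ∈ K, Commute x a) (han : a ∉ K') (hsplit : ∀ x ∈ K, x ∈ K' ∨ x * a ∈ K')
    {l : List G} (hl : ∀ x ∈ l, x ∈ K ∧ x ∉ K') : l.prod ∈ K ∧ (l.prod ∈ K' ↔ Even l.length) := by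
  induction l with
  | nil => simp
  | cons x l ih =>
    obtain ⟨hx, hxn⟩ := hl x List.mem_cons_self
    obtain ⟨hlK, hiff⟩ := ih fun y hy => hl y (List.mem_cons_of_mem _ hy)
    have hxa := (hsplit x hx).resolve_left hxn
    refine ⟨by rw [List.prod_cons]; exact mul_mem hx hlK, ?_⟩
    rw [List.prod_cons, List.length_cons, Nat.even_add_one, ← hiff]
    refine ⟨fun h hl' => hxn ?_, fun h => ?_⟩
    · have := mul_mem h (inv_mem hl')
      rwa [mul_inv_cancel_right] at this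
    · have hla := (hsplit _ hlK).resolve_left h
      have e : x * l.prod = (x * a) * (l.prod * a) := by
        rw [show x * a * (l.prod * a) = x * (a * l.prod) * a by group, ← (hac _ hlK).eq,
          show x * (l.prod * a) * a = x * l.prod * (a * a) by group, ha2, mul_one]
      rw [e]; exact mul_mem hxa hla

/-- All the three and every other generator lie outside the subgroup of index two, provided an octad exists. -/
theorem even_triple24 {b u : G} (hb : b ∈ nb D d) (hu : u ∈ nb D d) (hbu : b ≠ u) (cbu : Commute b u)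
    {l : List G} (hl : ∀ x ∈ l, x ∈ nb D d ∧ x ≠ b ∧ x ≠ u ∧ Commute b x ∧ Commute u x) (hl0 : l ≠ [])
    (hrel : d * b * u * l.prod = 1) : Even2 (At (At (At D d) b) u) := by
  classical
  have hT := P.base.tt
  obtain ⟨hdn, hsplit⟩ := half24 P hb hu hbu cbu
  set S := At (At (At D d) b) u with hSdef
  set K := Subgroup.closure S
  set K' := ⁅K, K⁆
  have hsub : ∀ x ∈ S, x ∈ K := fun x hx => Subgroup.subset_closure hx
  have hdS : d ∈ S := ⟨⟨⟨P.mem, Commute.refl d⟩, hb.2.2.symm⟩, hu.2.2.symm⟩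
  have hbS : b ∈ S := ⟨⟨⟨hb.1, hb.2.2⟩, Commute.refl b⟩, cbu.symm⟩
  have huS : u ∈ S := ⟨⟨⟨hu.1, hu.2.2⟩, cbu⟩, Commute.refl u⟩
  have hle : K' ≤ K := Subgroup.commutator_le_self K
  have hdc : ∀ x ∈ K, Commute x d := commute_of_closure fun s hs => hs.1.1.2.symm
  have hd2 := hT.sq d P.mem
  have hnorm : ∀ g ∈ K, ∀ x ∈ K', g * x * g⁻¹ ∈ K' := fun g hg x hx => by
    have h1 : ⁅g, x⁆ ∈ K' := Subgroup.commutator_mem_commutator hg (hle hx)
    have := mul_mem h1 hx
    rwa [commutatorElement_def, inv_mul_cancel_right] at this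
  -- symmetric roles
  have hperm : ∀ {p q r : G}, p ∈ S → ∀ g : G, g * d * g⁻¹ = p → g * b * g⁻¹ = q → g * u * g⁻¹ = r →
      (∀ z, (z = p ∨ z = q ∨ z = r) ↔ (z = d ∨ z = b ∨ z = u)) → p ∉ K' := by
    intro p q r _ g g1 g2 g3 hset hp
    have hS' : ∀ x, x ∈ S ↔ x ∈ D ∧ ∀ z, (z = d ∨ z = b ∨ z = u) → Commute z x := by
      intro x
      constructor
      · intro hx
        refine ⟨hx.1.1.1, ?_⟩
        rintro z (rfl | rfl | rfl)
        exacts [hx.1.1.2, hx.1.2, hx.2]
      · intro hx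
        exact ⟨⟨⟨hx.1, hx.2 d (Or.inl rfl)⟩, hx.2 b (Or.inr (Or.inl rfl))⟩, hx.2 u (Or.inr (Or.inr rfl))⟩
    have hmapS : MulAut.conj g '' S = S := by
      ext y
      obtain ⟨y, rfl⟩ := (MulAut.conj g).surjective y
      rw [(MulAut.conj g).injective.mem_set_image]
      show y ∈ S ↔ g * y * g⁻¹ ∈ S
      rw [hS', hS']
      refine and_congr ⟨fun h => hT.conj g y h, fun h => by simpa [mul_assoc] using hT.conj g⁻¹ _ h⟩ ?_
      constructor
      · intro h z hz
        rcases (hset z).2 hz with rfl | rfl | rfl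
        · rw [← g1]; exact (commute_conj_iff g d y).2 (h d (Or.inl rfl))
        · rw [← g2]; exact (commute_conj_iff g b y).2 (h b (Or.inr (Or.inl rfl)))
        · rw [← g3]; exact (commute_conj_iff g u y).2 (h u (Or.inr (Or.inr rfl)))
      · intro h z hz
        refine (commute_conj_iff g z y).1 ?_
        rcases hz with rfl | rfl | rfl
        · rw [g1]; exact h p ((hset p).1 (Or.inl rfl))
        · rw [g2]; exact h q ((hset q).1 (Or.inr (Or.inl rfl)))
        · rw [g3]; exact h r ((hset r).1 (Or.inr (Or.inr rfl)))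
    have hmapK : K.map (MulAut.conj g).toMonoidHom = K := by
      rw [MonoidHom.map_closure]
      congr 1
    have hmapK' : K'.map (MulAut.conj g).toMonoidHom = K' := by
      simp only [K']
      rw [Subgroup.map_commutator, hmapK]
    rw [← hmapK'] at hp
    obtain ⟨x, hx, hxe⟩ := hp
    exact hdn ((MulAut.conj g).injective (hxe.trans g1.symm) ▸ hx)
  have hub : u ∈ nb D b := ⟨hu.1, hbu.symm, cbu⟩
  have hdb : d ∈ nb D b := ⟨P.mem, fun e => hb.2.1 e.symm, hb.2.2.symm⟩
  have hdu : d ∈ nb D u := ⟨P.mem, fun e => hu.2.1 e.symm, hu.2.2.symm⟩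
  have hbu' : b ∈ nb D u := ⟨hb.1, hbu, cbu.symm⟩
  have hbn : b ∉ K' := by
    obtain ⟨g, g1, g2, g3⟩ := Level.triple_conj (geo24 P) arith24 hb.1 hdb hub (fun e => hu.2.1 e.symm) hu.2.2
      P.mem hb hu hbu cbu
    exact hperm hbS g g1 g2 g3 fun z => by tauto
  have hun : u ∉ K' := by
    obtain ⟨g, g1, g2, g3⟩ := Level.triple_conj (geo24 P) arith24 hu.1 hdu hbu' (fun e => hb.2.1 e.symm) hb.2.2
      P.mem hb hu hbu cbu
    exact hperm huS g g1 g2 g3 fun z => by tauto
  -- the other generators form one class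
  have hother : ∀ w ∈ S, w ≠ d → w ≠ b → w ≠ u → ∀ w' ∈ S, w' ≠ d → w' ≠ b → w' ≠ u → w ∈ K' → w' ∈ K' := by
    intro w hw nwd nwb nwu w' hw' nwd' nwb' nwu' hwK
    have hup : ∀ {z : G}, z ∈ S → z ≠ d → z ∈ UpW D d (img D d) := fun {z} hz hzd =>
      ⟨⟨hz.1.1.1, hzd, hz.1.1.2⟩, ⟨_, ⟨hz.1.1.1, hzd, hz.1.1.2⟩, rfl⟩⟩
    obtain ⟨g, hg, e⟩ := (step_one24 P hb).trans u (hup huS hu.2.1) hbu.symm cbu w (hup hw nwd) nwb nwu hw.1.2 hw.2
      w' (hup hw' nwd') nwb' nwu' hw'.1.2 hw'.2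
    rw [← e]
    exact hnorm g hg w hwK
  have hsep : ∀ x ∈ l, x ∈ S ∧ x ∉ K' := by
    intro x hx
    obtain ⟨hxn, nxb, nxu, cbx, cux⟩ := hl x hx
    have hxS : x ∈ S := ⟨⟨⟨hxn.1, hxn.2.2⟩, cbx⟩, cux⟩
    refine ⟨hxS, fun hxK => ?_⟩
    have hall : l.prod ∈ K' := Subgroup.list_prod_mem _ fun y hy => by
      obtain ⟨hyn, nyb, nyu, cby, cuy⟩ := hl y hy
      exact hother x hxS hxn.2.1 nxb nxu y ⟨⟨⟨hyn.1, hyn.2.2⟩, cby⟩, cuy⟩ hyn.2.1 nyb nyu hxK
    have h1 : ([d, b, u] : List G).prod ∈ K' := by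
      have h2 := inv_mem hall
      rwa [← mul_eq_one_iff_eq_inv.1 hrel, mul_assoc, show d * (b * u) = [d, b, u].prod by simp] at h2
    have h3 := ((prod_mem_iff (hsub d hdS) hd2 hle hdc hdn hsplit (l := [d, b, u]) (by
      simp only [List.mem_cons, List.not_mem_nil, or_false, forall_eq_or_imp, forall_eq]
      exact ⟨⟨hsub d hdS, hdn⟩, ⟨hsub b hbS, hbn⟩, hsub u huS, hun⟩)).2).1 h1
    exact (show ¬ Even ([d, b, u] : List G).length by
      rw [show ([d, b, u] : List G).length = 3 from rfl]; decide) h3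
  have hallS : ∀ s ∈ S, s ∈ K ∧ s ∉ K' := by
    intro s hs
    refine ⟨hsub s hs, ?_⟩
    by_cases e1 : s = d
    · exact e1 ▸ hdn
    by_cases e2 : s = b
    · exact e2 ▸ hbn
    by_cases e3 : s = u
    · exact e3 ▸ hun
    obtain ⟨x, hx⟩ := List.exists_mem_of_ne_nil l hl0
    obtain ⟨hxS, hxn⟩ := hsep x hx
    obtain ⟨hxn', nxb, nxu, -, -⟩ := hl x hx
    exact fun hsK => hxn (hother s hs e1 e2 e3 x hxS hxn'.2.1 nxb nxu hsK)
  intro p hp
  obtain ⟨m, hm, hm1, rfl⟩ := hp
  have h4 := (prod_mem_iff (hsub d hdS) hd2 hle hdc hdn hsplit fun x hx => hallS x (hm x hx)).2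
  rw [hm1] at h4
  exact ZMod.natCast_eq_zero_iff_even.2 (h4.1 (one_mem _))

/-- Eight commuting members with product one, two of them the point and another. -/
theorem exists_octad24 : ∃ b u : G, b ∈ nb D d ∧ u ∈ nb D d ∧ b ≠ u ∧ Commute b u ∧ ∃ l : List G, l ≠ [] ∧
    (∀ x ∈ l, x ∈ nb D d ∧ x ≠ b ∧ x ≠ u ∧ Commute b x ∧ Commute u x) ∧
      d * b * u * l.prod = 1 := by
  classical
  obtain ⟨e, P'⟩ := P.below
  have hT := P.base.tt
  have hI := img_tt0 (d := d) hT
  obtain ⟨A, hA⟩ := Level.nb_nonempty (geo23 P') arith23 P'.mem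
  obtain ⟨l, hn, hlen, hlA, hlc, hlp⟩ := sixList_nb P' hA
  obtain ⟨L, hmap, hnb, hnd, hc⟩ := lift_list24 P (A :: l)
    (List.forall_mem_cons.2 ⟨hA.1, fun z hz => (hlA z hz).1⟩)
    (List.nodup_cons.2 ⟨fun q => (hlA A q).2.1 rfl, hn⟩) (by
      intro z hz w hw
      rcases List.mem_cons.1 hz with ez | hz <;> rcases List.mem_cons.1 hw with ew | hw
      · rw [ez, ew]
      · rw [ez]; exact (hlA w hw).2.2
      · rw [ew]; exact (hlA z hz).2.2.symm
      · exact hlc z hz w hw)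
  have hL7 : L.length = 7 := by
    rw [← List.length_map (f := QuotientGroup.mk' (Subgroup.center ↥(hsub D d))), hmap, List.length_cons, hlen]
  have hone : QuotientGroup.mk' (Subgroup.center ↥(hsub D d)) L.prod = 1 := by
    rw [map_list_prod, hmap, List.prod_cons, hlp]; exact hI.sq A hA.1
  set m := L.map ((↑) : ↥(hsub D d) → G)
  have hmm : ∀ x ∈ m, x ∈ nb D d := List.forall_mem_map.2 hnb
  have hmc : ∀ x ∈ m, ∀ y ∈ m, Commute x y := by
    intro x hx y hy
    obtain ⟨x', hx', rfl⟩ := List.mem_map.1 hx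
    obtain ⟨y', hy', rfl⟩ := List.mem_map.1 hy
    exact hc x' hx' y' hy'
  obtain ⟨a₀, a₁, a₂, r, hr, hm⟩ : ∃ a₀ a₁ a₂ r, r.length = 4 ∧ m = a₀ :: a₁ :: a₂ :: r := by
    have : m.length = 7 := by rw [List.length_map]; exact hL7
    rcases m with _ | ⟨a₀, _ | ⟨a₁, _ | ⟨a₂, r⟩⟩⟩ <;> simp at this
    exact ⟨a₀, a₁, a₂, r, by omega, rfl⟩
  have hval : ((L.prod : ↥(hsub D d)) : G) = a₀ * (a₁ * (a₂ * r.prod)) := by
    rw [Subgroup.val_list_prod, show List.map _ L = m from rfl, hm]; simp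
  rw [hm] at hnd hmm hmc
  simp only [List.nodup_cons, List.mem_cons, not_or] at hnd
  obtain ⟨⟨n01, n02, n0r⟩, ⟨n12, n1r⟩, n2r, -⟩ := hnd
  have m0 := hmm a₀ (by simp)
  have m1 := hmm a₁ (by simp)
  rcases mk_one24 P hone with q | q <;> rw [hval] at q
  · -- seven with product one: move one of them to the point
    obtain ⟨g, hg⟩ := P.base.conjD a₀ m0.1 d P.mem (P.base.ne_one a₀ m0.1) (P.base.ne_one d P.mem)
    have mv : ∀ y ∈ a₁ :: a₂ :: r, g * y * g⁻¹ ∈ nb D d := fun y hy => by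
      refine nb_conj hT (hmm y (List.mem_cons_of_mem _ hy)).1 ?_ (hmc a₀ (by simp) y (List.mem_cons_of_mem _ hy)) hg
      rintro rfl
      rcases List.mem_cons.1 hy with e | hy
      · exact n01 e
      rcases List.mem_cons.1 hy with e | hy
      exacts [n02 e, n0r hy]
    have inj : ∀ {y z : G}, y ≠ z → g * y * g⁻¹ ≠ g * z * g⁻¹ := fun h e => h (mul_left_cancel (mul_right_cancel e))
    have mvc : ∀ y ∈ a₁ :: a₂ :: r, ∀ z ∈ a₁ :: a₂ :: r, Commute (g * y * g⁻¹) (g * z * g⁻¹) := fun y hy z hz =>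
      (commute_conj_iff g y z).2 (hmc y (List.mem_cons_of_mem _ hy) z (List.mem_cons_of_mem _ hz))
    have hrel : d * (g * a₁ * g⁻¹) * (g * a₂ * g⁻¹) * (r.map (MulAut.conj g)).prod = 1 := by
      rw [← map_list_prod, show MulAut.conj g r.prod = g * r.prod * g⁻¹ from rfl, ← hg]
      calc g * a₀ * g⁻¹ * (g * a₁ * g⁻¹) * (g * a₂ * g⁻¹) * (g * r.prod * g⁻¹)
          = g * (a₀ * (a₁ * (a₂ * r.prod))) * g⁻¹ := by group
        _ = 1 := by rw [q]; group
    exfalso
    set b' := g * a₁ * g⁻¹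
    set u' := g * a₂ * g⁻¹
    have hb' : b' ∈ nb D d := mv a₁ (by simp)
    have hu' : u' ∈ nb D d := mv a₂ (by simp)
    have cb' : Commute b' u' := mvc a₁ (by simp) a₂ (by simp)
    set r' := r.map (MulAut.conj g)
    have hr' : ∀ x ∈ r', x ∈ nb D d ∧ x ≠ b' ∧ x ≠ u' ∧ Commute b' x ∧ Commute u' x := by
      intro x hx
      obtain ⟨y, hy, rfl⟩ := List.mem_map.1 hx
      exact ⟨mv y (by simp [hy]), inj fun e => n1r (e ▸ hy), inj fun e => n2r (e ▸ hy),
        mvc a₁ (by simp) y (by simp [hy]), mvc a₂ (by simp) y (by simp [hy])⟩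
    have hr4 : r'.length = 4 := by rw [List.length_map, hr]
    have hev := even_triple24 P hb' hu' (inj n12) cb' hr' (fun e => by simp [e] at hr4) hrel
    have hw : Wd (At (At (At D d) b') u') 1 1 := by
      refine ⟨d :: b' :: u' :: r', ?_, ?_, ?_⟩
      · simp only [List.mem_cons, forall_eq_or_imp]
        exact ⟨⟨⟨⟨P.mem, Commute.refl d⟩, hb'.2.2.symm⟩, hu'.2.2.symm⟩,
          ⟨⟨⟨hb'.1, hb'.2.2⟩, Commute.refl b'⟩, cb'.symm⟩, ⟨⟨⟨hu'.1, hu'.2.2⟩, cb'⟩, Commute.refl u'⟩,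
          fun x hx => ⟨⟨⟨(hr' x hx).1.1, (hr' x hx).1.2.2⟩, (hr' x hx).2.2.2.1⟩, (hr' x hx).2.2.2.2⟩⟩
      · rw [List.prod_cons, List.prod_cons, List.prod_cons, ← hrel]; group
      · simp only [List.length_cons, hr4]; decide
    exact absurd (hev 1 hw) (by decide)
  · refine ⟨a₀, a₁, m0, m1, n01, hmc a₀ (by simp) a₁ (by simp), a₂ :: r, by simp, ?_, ?_⟩
    · intro x hx
      have hx' : x ∈ a₀ :: a₁ :: a₂ :: r := List.mem_cons_of_mem _ (List.mem_cons_of_mem _ hx)
      refine ⟨hmm x hx', ?_, ?_, hmc a₀ (by simp) x hx', hmc a₁ (by simp) x hx'⟩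
      · rintro rfl
        rcases List.mem_cons.1 hx with e | hx
        exacts [n02 e, n0r hx]
      · rintro rfl
        rcases List.mem_cons.1 hx with e | hx
        exacts [n12 e, n1r hx]
    · rw [List.prod_cons]
      calc d * a₀ * a₁ * (a₂ * r.prod) = d * (a₀ * (a₁ * (a₂ * r.prod))) := by group
        _ = 1 := by rw [q, hT.sq d P.mem]

/-- No product of an odd number of transpositions is trivial. -/
theorem even24 : Even2 D := by
  obtain ⟨e, P'⟩ := P.below
  have hT := P.base.tt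
  obtain ⟨b₁, u₁, hb₁, hu₁, hbu₁, cbu₁, l, hl0, hl, hrel⟩ := exists_octad24 P
  have hbase := even_triple24 P hb₁ hu₁ hbu₁ cbu₁ hl hl0 hrel
  set π := QuotientGroup.mk' (Subgroup.center ↥(hsub D d))
  obtain ⟨⟨b, hbH⟩, hb, hbe⟩ : ∃ b : ↥(hsub D d), (b : G) ∈ nb D d ∧ π b = e := P'.mem
  obtain ⟨_, ⟨⟨⟨u, huH⟩, hu, rfl⟩, hune, huc⟩⟩ :=
    Level.nb_nonempty (geo23 P') arith23 P'.mem
  have hbu : b ≠ u := fun q => hune (by rw [← hbe]; exact congrArg π (Subtype.ext q.symm))
  have cbu : Commute b u := (map_commute_iff hT (x := ⟨b, hbH⟩) (y := ⟨u, huH⟩) hb hu).1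
    (show Commute (π ⟨b, hbH⟩) (π ⟨u, huH⟩) by rw [hbe]; exact huc)
  -- transport the base
  have h3 : Even2 (At (At (At D d) b) u) := by
    obtain ⟨g, g1, g2, g3⟩ := Level.triple_conj (geo24 P) arith24 P.mem hb₁ hu₁ hbu₁ cbu₁ P.mem hb hu hbu cbu
    refine Even2.conj (c := g) (T := At (At (At D d) b₁) u₁)
      (fun s hs => ⟨⟨⟨hT.conj g s hs.1.1.1, ?_⟩, ?_⟩, ?_⟩) hbase
    · have := (commute_conj_iff g d s).2 hs.1.1.2; rwa [g1] at this
    · have := (commute_conj_iff g b s).2 hs.1.2; rwa [g2] at this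
    · have := (commute_conj_iff g u s).2 hs.2; rwa [g3] at this
  -- up through the pair
  have hF := geo22L P'.geo P'.type
  have heE : e ∈ img D d := P'.mem
  set U : ↥(hsub (img D d) e) := ⟨π ⟨u, huH⟩, Subgroup.subset_closure ⟨⟨_, hu, rfl⟩, hune, huc⟩⟩
  have hFstep := step_top hF arith22 (fun a ha => self_mem_hsub P'.geo ha)
    (d := QuotientGroup.mk' (Subgroup.center ↥(hsub (img D d) e)) U) ⟨U, ⟨⟨_, hu, rfl⟩, hune, huc⟩, rfl⟩
  have hEstep := step_lift (geo23 P').toPre arith23 (self23 P') heE (subset_refl _) (b := π ⟨u, huH⟩)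
    ⟨⟨_, hu, rfl⟩, hune, huc⟩ hFstep
  rw [up_img heE] at hEstep
  have hGstep := step_lift (pre24 P) arith24 (self24 P) P.mem (S' := At (img D d) e) (fun q hq => hq.1) hu hEstep
  have hup : Up D d (At (img D d) e) = At (At D d) b := by
    rw [← hbe]; exact up_at hT P.mem hb
  rw [hup] at hGstep
  have h2 : Even2 (At (At D d) b) := Parity.even hGstep h3
  have h1 : Even2 (At D d) := Parity.even (step_one24 P hb) h2
  exact Parity.even (step_top (geo24 P) arith24 (self24 P) P.mem) h1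

end CfsgLib.ThreeT.Prod
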