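import Cfsg.Agent.S2119
import Cfsg.Agent.SpecBlow.CoxeterA
import Cfsg.Agent.SimplePower.SymIndex

/-!
Transpositions of five and of seven points: the small facts used for the normalisers of subgroups of
order five in type M(23).
-/

set_option autoImplicit false
set_option linter.style.haveILetI false

namespace CfsgLib.ThreeT.Seven

open Equiv Equiv.Perm

/-- The transposition attached to a two-element subset of five points, listed. -/
def sw : Fin 10 → Perm (Fin 5) :=
  ![swap 0 1, swap 0 2, swap 0 3, swap 0 4, swap 1 2, swap 1 3, swap 1 4, swap 2 3, swap 2 4, swap 3 4]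

theorem sw_isSwap (i : Fin 10) : (sw i).IsSwap := by
  fin_cases i <;> exact ⟨_, _, by decide, rfl⟩

theorem sw_injective : Function.Injective sw := by
  intro i j
  revert i j
  decide +kernel

theorem sw_surj {σ : Perm (Fin 5)} (h : σ.IsSwap) : ∃ i, sw i = σ := by
  obtain ⟨a, b, hab, rfl⟩ := h
  revert a b
  decide +kernel

/-- Two non-commuting transpositions commute with a common third one. -/
theorem common (i j : Fin 10) (h : sw i * sw j ≠ sw j * sw i) :
    ∃ k, k ≠ i ∧ k ≠ j ∧ sw k * sw i = sw i * sw k ∧ sw k * sw j = sw j * sw k := by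
  revert i j
  decide +kernel

/-- Three transpositions commute with a given one. -/
theorem count_commute (i : Fin 10) :
    (Finset.univ.filter fun j => j ≠ i ∧ sw i * sw j = sw j * sw i).card = 3 := by
  revert i
  decide +kernel

/-- The closed sets of transpositions of the relevant sizes are the six transpositions fixing a point. -/
theorem closed_six : ∀ A : Finset (Fin 10), 2 ≤ A.card → A.card % 5 = 1 →
    (∀ a ∈ A, ∀ b ∈ A, ∃ c ∈ A, sw c = sw a * sw b * sw a) →
    A.card = 6 ∧ ∃ p : Fin 5, ∀ a, a ∈ A ↔ sw a p = p := by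
  decide +kernel

theorem swap_pair_ne (i j : Fin 10) (h : i ≠ j) : sw i ≠ sw j := fun e => h (sw_injective e)

theorem count_swap_seven : Nat.card {s : Perm (Fin 7) // s.IsSwap} = 21 := by
  rw [CfsgLib.SymIndex.card_swap_set, Fintype.card_fin]; decide

/-- A transposition of seven points is conjugate to the first one. -/
theorem isSwap_conj_zero {σ : Perm (Fin 7)} (h : σ.IsSwap) :
    ∃ τ, σ = τ * CoxeterA.adj 6 0 * τ⁻¹ := by
  have h0 : (CoxeterA.adj 6 0).IsSwap := ⟨0, 1, by decide, by rw [CoxeterA.adj, dif_pos (by decide)]; rfl⟩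
  obtain ⟨τ, hτ⟩ := isConj_iff.1 (CfsgLib.SymIndex.isSwap_conj h0 h)
  exact ⟨τ, hτ.symm⟩

theorem adj_four_isSwap (i : ℕ) (hi : i < 4) : (CoxeterA.adj 4 i).IsSwap := by
  interval_cases i <;> rw [CoxeterA.adj, dif_pos (by decide)] <;> exact ⟨_, _, by decide, rfl⟩

/-- A homomorphism from the symmetric group on seven points separating two transpositions is injective. -/
theorem hom_injective {G : Type*} [Group G] (f : Perm (Fin 7) →* G)
    (h : f (CoxeterA.adj 6 0) ≠ f (CoxeterA.adj 6 1)) : Function.Injective f := by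
  rw [← MonoidHom.ker_eq_bot_iff]
  by_contra hne
  haveI : Nontrivial ↥f.ker := (Subgroup.nontrivial_iff_ne_bot _).2 hne
  have hle := Equiv.Perm.alternatingGroup_le_of_normal (α := Fin 7) (N := f.ker) (by simp) inferInstance
  have hc : CoxeterA.adj 6 0 * CoxeterA.adj 6 1 ∈ f.ker := by
    refine hle (mem_alternatingGroup.2 ?_)
    decide +kernel
  rw [MonoidHom.mem_ker, map_mul, mul_eq_one_iff_eq_inv, ← map_inv] at hc
  refine h (hc.trans ?_)
  congr 1

/-- Every automorphism of the symmetric group on seven points is inner. -/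
theorem conj_surjective : Function.Surjective (MulAut.conj : Perm (Fin 7) →* MulAut (Perm (Fin 7))) := by
  intro φ
  have hbij := Cfsg.Agent.S2119.result 7 (by norm_num) (by norm_num)
  have hA : ∀ g ∈ alternatingGroup (Fin 7), φ g ∈ alternatingGroup (Fin 7) := by
    intro g hg
    rw [mem_alternatingGroup] at hg ⊢
    rw [← hg]
    clear hg
    induction g using Equiv.Perm.swap_induction_on with
    | one => rw [map_one]
    | swap_mul f x y hxy ih =>
      rw [map_mul, map_mul, map_mul, ih, sign_swap hxy,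
        (CfsgLib.SymIndex.isSwap_map φ (by simp) (by simp) rfl ⟨x, y, hxy, rfl⟩).sign_eq]
  let ψ : MulAut ↥(alternatingGroup (Fin 7)) :=
    MulEquiv.ofBijective ((φ.toMonoidHom.comp (alternatingGroup (Fin 7)).subtype).codRestrict _
      fun x => hA x x.2) (Finite.injective_iff_bijective.1 fun x y e =>
        Subtype.ext (φ.injective (congrArg Subtype.val e)))
  obtain ⟨σ, hσ⟩ := hbij.2 ψ
  have hσ' : ∀ a : ↥(alternatingGroup (Fin 7)), φ (a : Perm (Fin 7)) = σ * (a : Perm (Fin 7)) * σ⁻¹ := fun a => by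
    have := congrArg Subtype.val (DFunLike.congr_fun hσ a)
    rw [MulAut.conjNormal_apply] at this
    exact this.symm
  refine ⟨σ, MulEquiv.ext fun g => ?_⟩
  show σ * g * σ⁻¹ = φ g
  have hk : σ⁻¹ * (φ g)⁻¹ * σ * g = 1 := hbij.1 (MulEquiv.ext fun a => Subtype.ext (by
    rw [map_one]
    show _ = (a : Perm (Fin 7))
    rw [MulAut.conjNormal_apply]
    have e1 := hσ' ⟨g * (a : Perm (Fin 7)) * g⁻¹, (alternatingGroup.normal).conj_mem _ a.2 g⟩
    rw [map_mul, map_mul, map_inv, hσ' a] at e1
    calc σ⁻¹ * (φ g)⁻¹ * σ * g * (a : Perm (Fin 7)) * (σ⁻¹ * (φ g)⁻¹ * σ * g)⁻¹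
        = σ⁻¹ * (φ g)⁻¹ * (σ * (g * (a : Perm (Fin 7)) * g⁻¹) * σ⁻¹) * φ g * σ := by group
      _ = (a : Perm (Fin 7)) := by rw [← e1]; group))
  have : σ * g = φ g * σ := by
    calc σ * g = φ g * σ * (σ⁻¹ * (φ g)⁻¹ * σ * g) := by group
      _ = φ g * σ := by rw [hk, mul_one]
  rw [this, mul_inv_cancel_right]

/-- An element of order five of the symmetric group on seven points commutes with a transposition, and
its centraliser has order ten. -/
theorem five_centralizer {h : Perm (Fin 7)} (hh : orderOf h = 5) :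
    Nat.card ↥(Subgroup.centralizer ({h} : Set (Perm (Fin 7)))) = 10 ∧
      ∃ s : Perm (Fin 7), s.IsSwap ∧ Commute s h := by
  haveI : Fact (Nat.Prime 5) := ⟨by norm_num⟩
  obtain ⟨k, hk⟩ := cycleType_prime_order (σ := h) (by rw [hh]; norm_num)
  rw [hh] at hk
  have hk0 : k = 0 := by
    have hsum := h.sum_cycleType
    rw [hk, Multiset.sum_replicate, smul_eq_mul] at hsum
    have := h.support.card_le_univ
    rw [Fintype.card_fin] at this
    omega
  subst hk0
  constructor
  · rw [nat_card_centralizer, hk]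
    decide
  · obtain ⟨τ, hτ⟩ := isConj_iff.1 (show IsConj (c[(0 : Fin 7), 1, 2, 3, 4] : Perm (Fin 7)) h by
      rw [isConj_iff_cycleType_eq, hk]
      decide +kernel)
    refine ⟨τ * swap 5 6 * τ⁻¹, ⟨τ 5, τ 6, ?_, (swap_apply_apply τ 5 6).symm⟩, ?_⟩
    · exact τ.injective.ne (by decide)
    · rw [← hτ]
      refine (?_ : Commute (swap (5 : Fin 7) 6) _).map (MulAut.conj τ).toMonoidHom
      show _ = _
      decide +kernel

/-- The normaliser of a subgroup of order five of the symmetric group on seven points has order forty. -/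
theorem five_normalizer {h : Perm (Fin 7)} (hh : orderOf h = 5) :
    Nat.card ↥(Subgroup.normalizer ((Subgroup.zpowers h : Subgroup (Perm (Fin 7))) : Set (Perm (Fin 7)))) = 40 := by
  set X := Subgroup.zpowers h with hXdef
  have hX : Nat.card ↥X = 5 := by rw [hXdef, Nat.card_zpowers, hh]
  haveI : Fact (Nat.Prime 5) := ⟨by norm_num⟩
  haveI : IsCyclic ↥X := isCyclic_of_prime_card hX
  set f := Subgroup.normalizerMonoidHom X
  have hker : f.ker = (Subgroup.centralizer (X : Set (Perm (Fin 7)))).subgroupOf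
      (Subgroup.normalizer (X : Set (Perm (Fin 7)))) := Subgroup.normalizerMonoidHom_ker X
  have hsurj : Function.Surjective f := by
    intro φ
    have hg : orderOf ((φ ⟨h, Subgroup.mem_zpowers h⟩ : ↥X) : Perm (Fin 7)) = 5 := by
      rw [Subgroup.orderOf_coe, MulEquiv.orderOf_eq, ← Subgroup.orderOf_coe, hh]
    obtain ⟨τ, hτ⟩ := isConj_iff.1 (show IsConj h (φ ⟨h, Subgroup.mem_zpowers h⟩ : Perm (Fin 7)) by
      rw [isConj_iff_cycleType_eq]
      obtain ⟨k, hk⟩ := cycleType_prime_order (σ := h) (by rw [hh]; norm_num)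
      obtain ⟨l, hl⟩ := cycleType_prime_order (σ := ((φ ⟨h, Subgroup.mem_zpowers h⟩ : ↥X) : Perm (Fin 7)))
        (by rw [hg]; norm_num)
      rw [hh] at hk; rw [hg] at hl
      have b1 := h.support.card_le_univ
      have b2 := ((φ ⟨h, Subgroup.mem_zpowers h⟩ : ↥X) : Perm (Fin 7)).support.card_le_univ
      rw [← sum_cycleType, hk, Multiset.sum_replicate, smul_eq_mul, Fintype.card_fin] at b1
      rw [← sum_cycleType, hl, Multiset.sum_replicate, smul_eq_mul, Fintype.card_fin] at b2
      rw [hk, hl, show k = 0 by omega, show l = 0 by omega])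
    have hmap : X.map (MulAut.conj τ).toMonoidHom = X := by
      refine Subgroup.eq_of_le_of_card_ge ?_ (by rw [Subgroup.card_map_of_injective (MulAut.conj τ).injective])
      rw [hXdef, MonoidHom.map_zpowers, Subgroup.zpowers_le]
      show τ * h * τ⁻¹ ∈ _
      rw [hτ]; exact SetLike.coe_mem _
    have hmem : τ ∈ Subgroup.normalizer (X : Set (Perm (Fin 7))) := by
      rw [Subgroup.mem_normalizer_iff]
      intro z
      constructor
      · intro hz; rw [← hmap]; exact ⟨z, hz, rfl⟩
      · intro hz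
        rw [← hmap] at hz
        obtain ⟨w, hw, e⟩ := hz
        exact (MulAut.conj τ).injective e ▸ hw
    refine ⟨⟨τ, hmem⟩, MulEquiv.ext fun z => ?_⟩
    obtain ⟨n, hn⟩ := Subgroup.mem_zpowers_iff.1 z.2
    have e : z = (⟨h, Subgroup.mem_zpowers h⟩ : ↥X) ^ n := Subtype.ext (by rw [Subgroup.coe_zpow]; exact hn.symm)
    rw [e, map_zpow, map_zpow]
    congr 1
    exact Subtype.ext hτ
  have h1 := Subgroup.card_eq_card_quotient_mul_card_subgroup f.ker
  rw [Nat.card_congr (QuotientGroup.quotientKerEquivOfSurjective f hsurj).toEquiv, IsCyclic.card_mulAut, hX, hker,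
    Nat.card_congr (Subgroup.subgroupOfEquivOfLe (Subgroup.centralizer_le_normalizer _)).toEquiv] at h1
  rw [h1, show Subgroup.centralizer (X : Set (Perm (Fin 7))) = Subgroup.centralizer {h} by
    rw [hXdef, Subgroup.zpowers_eq_closure, Subgroup.centralizer_closure], (five_centralizer hh).1]
  decide

end CfsgLib.ThreeT.Seven
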