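import Cfsg.Agent.Spor3T.M24Big
import Cfsg.Agent.Spor3T.M23Thirteen
import Cfsg.Agent.Spor3T.M24Five
import Cfsg.Agent.Spor3T.M23Seventeen
import Cfsg.Agent.Spor3T.NoPath

/-!
Type M(24): the six transpositions centralised by a subgroup of order 13 and its normaliser.
-/

set_option autoImplicit false
set_option linter.unusedSectionVars false
set_option linter.style.haveILetI false

namespace CfsgLib.ThreeT.Prod

/-- In type M(23): the normaliser, the centraliser and the members centralised by a subgroup of order 13. -/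
theorem thirteen_data23 {Q : Type*} [Group Q] [Finite Q] {E : Set Q} {e : Q} (P : Point23 E e)
    (h : Cfsg.IsOfTypeM23 Q E) {X : Subgroup Q} (hX : Nat.card X = 13) :
    Nat.card ↥(Subgroup.normalizer (X : Set Q)) = 468 ∧ Nat.card ↥(Subgroup.centralizer (X : Set Q)) ∣ 78 ∧
      (E ∩ (Subgroup.centralizer (X : Set Q) : Set Q)).ncard = 3 ∧
      ∀ u ∈ E ∩ (Subgroup.centralizer (X : Set Q) : Set Q), ∀ v ∈ E ∩ (Subgroup.centralizer (X : Set Q) : Set Q),
        u ≠ v → ¬ Commute u v := by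
  classical
  haveI : Fact (13 : ℕ).Prime := ⟨by norm_num⟩
  haveI : IsCyclic X := isCyclic_of_prime_card hX
  obtain ⟨F, hF, hXF, hFC, hFT, hcomm, hN, ⟨ε⟩⟩ := thirteen_normalizer23 P h hX
  set C := Subgroup.centralizer (X : Set Q)
  set Φ := E ∩ (C : Set Q)
  set T := Subgroup.closure Φ
  have hT6 : Nat.card T = 6 := by rw [Nat.card_congr ε.toEquiv, Nat.card_perm, Nat.card_fin]; rfl
  have hTC : T ≤ C := (Subgroup.closure_le _).2 Set.inter_subset_right
  have hXC : X ≤ C := fun z hz w hw =>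
    congrArg Subtype.val ((IsCyclic.isMulCommutative (α := ↥X)).is_comm.comm ⟨w, hw⟩ ⟨z, hz⟩)
  have hN' : Nat.card ↥(Subgroup.normalizer (X : Set Q)) = 468 := by
    rw [← hN, (card_sup_comm (C := ⊤) hFT hcomm).1, hF, hT6]
  have hCle : C ⊓ (F ⊔ T) = C := inf_eq_left.2 (hN ▸ Subgroup.centralizer_le_normalizer _)
  have hC : Nat.card C = 78 := by
    rw [← hCle, (card_sup_comm (C := C) hFT hcomm).2 hTC, inf_comm, hFC, hX, hT6]
  obtain ⟨a, ha, hXa⟩ := exists_point_cent23 P (p := 13) (by norm_num) (by norm_num) hX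
  have haΦ : a ∈ Φ := ⟨ha, fun x hx => ((mem_hsub23 P ha).1 (hXa hx)).eq⟩
  obtain ⟨b, hb, hba⟩ : ∃ b ∈ Φ, b ≠ a := by
    by_contra hno
    push Not at hno
    have hle : T ≤ Subgroup.zpowers a :=
      (Subgroup.closure_le _).2 fun z hz => by rw [hno z hz]; exact Subgroup.mem_zpowers a
    have := Subgroup.card_dvd_of_le hle
    rw [hT6, Nat.card_zpowers, orderOf_eq_prime (p := 2) (by rw [pow_two]; exact P.base.tt.sq a ha)
      (P.base.ne_one a ha)] at this
    norm_num at this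
  set S := {σ : Equiv.Perm (Fin 3) | σ * σ = 1 ∧ σ ≠ 1}
  have hmem : ∀ z (hz : z ∈ Φ), ε ⟨z, Subgroup.subset_closure hz⟩ ∈ S := fun z hz => by
    refine ⟨?_, fun q => P.base.ne_one z hz.1 ?_⟩
    · rw [← map_mul, show (⟨z, Subgroup.subset_closure hz⟩ : ↥T) * ⟨z, Subgroup.subset_closure hz⟩ = 1 from
        Subtype.ext (P.base.tt.sq z hz.1), map_one]
    · exact congrArg Subtype.val (ε.injective (q.trans ε.map_one.symm))
  have hS3 : S.ncard = 3 := by
    rw [← Nat.card_coe_set_eq, Nat.card_eq_fintype_card]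
    decide +kernel
  have hSfar : ∀ σ ∈ S, ∀ τ ∈ S, σ ≠ τ → σ * τ ≠ τ * σ := by
    intro σ hσ τ hτ hne
    revert hσ hτ hne
    revert σ τ
    decide +kernel
  have hfar : ∀ u ∈ Φ, ∀ v ∈ Φ, u ≠ v → ¬ Commute u v := fun u hu v hv hne q => by
    refine hSfar _ (hmem u hu) _ (hmem v hv) (fun e' => hne (congrArg Subtype.val (ε.injective e'))) ?_
    rw [← map_mul, ← map_mul]
    exact congrArg ε (Subtype.ext q.eq)
  refine ⟨hN', hC.dvd, le_antisymm ?_ ?_, hfar⟩
  · rw [← hS3]
    refine Set.ncard_le_ncard_of_injOn (fun z => if h : z ∈ Φ then ε ⟨z, Subgroup.subset_closure h⟩ else 1)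
      (fun z hz => by simp only [dif_pos hz]; exact hmem z hz) (fun u hu v hv q => ?_) (Set.toFinite _)
    simp only [dif_pos hu, dif_pos hv] at q
    exact congrArg Subtype.val (ε.injective q)
  · have hab : ¬ Commute a b := hfar a haΦ b hb hba.symm
    have hcΦ : a * b * a ∈ Φ := ⟨P.base.tt.conj' hb.1 ha, C.mul_mem (C.mul_mem haΦ.2 hb.2) haΦ.2⟩
    have n1 : a ≠ a * b * a := fun q => hba (by
      calc b = (a * a) * b * (a * a) := by rw [P.base.tt.sq a ha, one_mul, mul_one]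
        _ = a * (a * b * a) * a := by group
        _ = a := by rw [← q, P.base.tt.sq a ha, one_mul])
    have n2 : b ≠ a * b * a := fun q => hab (by
      show a * b = b * a
      nth_rewrite 2 [q]
      rw [mul_assoc (a * b), P.base.tt.sq a ha, mul_one])
    rw [← Set.ncard_eq_three.2 ⟨a, b, a * b * a, hba.symm, n1, n2, rfl⟩]
    exact Set.ncard_le_ncard (Set.insert_subset haΦ (Set.insert_subset hb (Set.singleton_subset_iff.2 hcΦ)))
      (Set.toFinite _)

variable {G : Type*} [Group G] [Finite G] {D : Set G} {d : G} (P : Point24 D d)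

include P

/-- The members commuting with one fixed by a subgroup of order 13. -/
theorem thirteen_nb24 {p : G} (hp : p ∈ D) {X : Subgroup G} (hX : Nat.card X = 13) (hXp : X ≤ hsub D p) :
    Nat.card ↥(Subgroup.normalizer (X : Set G) ⊓ hsub D p) = 936 ∧
      Nat.card ↥(Subgroup.centralizer (X : Set G) ⊓ hsub D p) ∣ 156 ∧
      (nb D p ∩ (Subgroup.centralizer (X : Set G) : Set G)).ncard = 3 ∧
      ∀ u ∈ nb D p ∩ (Subgroup.centralizer (X : Set G) : Set G),
        ∀ v ∈ nb D p ∩ (Subgroup.centralizer (X : Set G) : Set G), u ≠ v → ¬ Commute u v := by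
  haveI : Fact (13 : ℕ).Prime := ⟨by norm_num⟩
  obtain ⟨e, P'⟩ := P.below
  exact local_at_point24 P (N := 468) (C := 78) (F := 3) (cc := Not) (by norm_num)
    (fun {X'} hX' => thirteen_data23 P' P.type hX') hp hX hXp

/-- Two noncommuting members centralised in a neighbourhood determine the three. -/
theorem thirteen_three24 {p q r : G} (hp : p ∈ D) {X : Subgroup G} (hX : Nat.card X = 13) (hXp : X ≤ hsub D p)
    (hq : q ∈ nb D p ∩ (Subgroup.centralizer (X : Set G) : Set G))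
    (hr : r ∈ nb D p ∩ (Subgroup.centralizer (X : Set G) : Set G)) (hqr : ¬ Commute q r) :
    nb D p ∩ (Subgroup.centralizer (X : Set G) : Set G) = {q, r, q * r * q} := by
  obtain ⟨-, -, h3, -⟩ := thirteen_nb24 P hp hX hXp
  have hT := P.base.tt
  have hs : q * r * q ∈ nb D p ∩ (Subgroup.centralizer (X : Set G) : Set G) := by
    refine ⟨⟨hT.conj' hr.1.1 hq.1.1, fun e => hr.1.2.1 ?_, (hq.1.2.2.mul_right hr.1.2.2).mul_right hq.1.2.2⟩,
      mul_mem (mul_mem hq.2 hr.2) hq.2⟩
    calc r = q * (q * r * q) * q := by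
          rw [show q * (q * r * q) * q = (q * q) * r * (q * q) by group, hT.sq q hq.1.1, one_mul, mul_one]
      _ = q * p * q := by rw [e]
      _ = p := by rw [← hq.1.2.2.eq, mul_assoc, hT.sq q hq.1.1, mul_one]
  refine (Set.eq_of_subset_of_ncard_le (Set.insert_subset hq (Set.insert_subset hr (Set.singleton_subset_iff.2 hs)))
    ?_ (Set.toFinite _)).symm
  rw [h3, Set.ncard_eq_three.2 ⟨q, r, q * r * q, ?_, ?_, ?_, rfl⟩]
  · exact fun e => hqr (e ▸ Commute.refl q)
  · intro e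
    refine hqr ?_
    have h1 : q * q = q * r := by
      conv_lhs => arg 1; rw [e]
      rw [mul_assoc (q * r), hT.sq q hq.1.1, mul_one]
    rw [← mul_left_cancel h1]
  · intro e
    refine hqr ?_
    show q * r = r * q
    nth_rewrite 2 [e]
    rw [mul_assoc (q * r), hT.sq q hq.1.1, mul_one]

/-- No element of order five commutes with a subgroup of order 13. -/
theorem thirteen_no_five24 {X : Subgroup G} (hX : Nat.card X = 13) {w : G} (hw : orderOf w = 5) :
    w ∉ Subgroup.centralizer (X : Set G) := fun hwC => by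
  obtain ⟨φ, -, hinj, -, -, hφw, hXH, hC, -⟩ := five_shape24 P hw
  have hle : X ≤ Subgroup.centralizer ({w} : Set G) := fun x hx =>
    Subgroup.mem_centralizer_singleton_iff.2 (hwC x hx)
  have hcard : Nat.card ↥(Subgroup.centralizer ({w} : Set G)) = 5 * 362880 := by
    rw [hC, card_sup_of_commute ?_ hXH, Nat.card_zpowers, hw,
      ← Nat.card_congr (MonoidHom.ofInjective hinj).toEquiv, Nat.card_perm, Nat.card_fin]
    · rfl
    · rintro u hu _ ⟨σ, rfl⟩
      obtain ⟨i, rfl⟩ := Subgroup.mem_zpowers_iff.1 hu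
      exact ((hφw σ).symm).zpow_left i
  have := Subgroup.card_dvd_of_le hle
  rw [hX, hcard] at this
  norm_num at this

/-- The six members: everything about a subgroup of order 13. -/
theorem thirteen_six24 {X : Subgroup G} (hX : Nat.card X = 13) {a b c e : G}
    (ha : a ∈ D ∩ (Subgroup.centralizer (X : Set G) : Set G))
    (hb : b ∈ nb D a ∩ (Subgroup.centralizer (X : Set G) : Set G))
    (hc : c ∈ nb D a ∩ (Subgroup.centralizer (X : Set G) : Set G))
    (he : e ∈ nb D b ∩ (Subgroup.centralizer (X : Set G) : Set G)) (hbc : ¬ Commute b c) (hae : ¬ Commute a e) :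
    Commute c e ∧
      D ∩ (Subgroup.centralizer (X : Set G) : Set G) = {a, e, a * e * a} ∪ {b, c, b * c * b} ∧
      Nat.card ↥(Subgroup.normalizer (X : Set G)) = 5616 ∧
      Subgroup.centralizer (X : Set G) ⊓ Subgroup.centralizer ({a, b, c, e} : Set G) = X ∧
      Nat.card ↥(Subgroup.normalizer (X : Set G) ⊓ Subgroup.centralizer ({a, b, c, e} : Set G)) = 78 := by
  classical
  haveI : Fact (13 : ℕ).Prime := ⟨by norm_num⟩
  haveI : IsCyclic X := isCyclic_of_prime_card hX
  haveI := Fintype.ofFinite G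
  have hT := P.base.tt
  set C := Subgroup.centralizer (X : Set G) with hCdef
  set N := Subgroup.normalizer (X : Set G) with hNdef
  set Φ := D ∩ (C : Set G) with hΦdef
  have hXp : ∀ {p}, p ∈ Φ → X ≤ hsub D p := fun hp x hx => (mem_hsub24 P hp.1).2 (hp.2 x hx)
  have hnb : ∀ {p q}, q ∈ nb D p ∩ (C : Set G) → q ∈ Φ := fun hq => ⟨hq.1.1, hq.2⟩
  have hflip : ∀ {p q}, p ∈ Φ → q ∈ nb D p ∩ (C : Set G) → p ∈ nb D q ∩ (C : Set G) := fun hp hq =>
    ⟨⟨hp.1, fun e => hq.1.2.1 e.symm, hq.1.2.2.symm⟩, hp.2⟩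
  have hfar : ∀ {p q r}, p ∈ Φ → q ∈ nb D p ∩ (C : Set G) → r ∈ nb D p ∩ (C : Set G) → q ≠ r → ¬ Commute q r :=
    fun hp hq hr hne => (thirteen_nb24 P hp.1 hX (hXp hp)).2.2.2 _ hq _ hr hne
  have hthree := fun {p q r} (hp : p ∈ Φ) (hq : q ∈ nb D p ∩ (C : Set G)) (hr : r ∈ nb D p ∩ (C : Set G))
    (hqr : ¬ Commute q r) => thirteen_three24 P hp.1 hX (hXp hp) hq hr hqr
  have hce : Commute c e := by
    by_contra q
    refine thirteen_no_five24 P hX (CfsgLib.ThreeT.NoPath.five_of_path hT hb.1.1 hc.1.1 he.1.1 ha.1 hbc q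
      (fun h => hae h.symm) he.1.2.2 hb.1.2.2.symm hc.1.2.2.symm) ?_
    exact mul_mem (mul_mem (mul_mem hb.2 hc.2) he.2) ha.2
  have nce : c ≠ e := fun q => hae (q ▸ hc.1.2.2)
  have hab' : a ∈ nb D b ∩ (C : Set G) := hflip ha hb
  have hac' : a ∈ nb D c ∩ (C : Set G) := hflip ha hc
  have hec' : e ∈ nb D c ∩ (C : Set G) := ⟨⟨he.1.1, nce.symm, hce⟩, he.2⟩
  have hbΦ := hnb hb
  have hcΦ := hnb hc
  have heΦ := hnb he
  have hbe' : b ∈ nb D e ∩ (C : Set G) := hflip hbΦ he
  have hce' : c ∈ nb D e ∩ (C : Set G) := hflip hcΦ hec'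
  set A : Set G := {a, e, a * e * a}
  set B : Set G := {b, c, b * c * b}
  have hNa : nb D a ∩ (C : Set G) = B := hthree ha hb hc hbc
  have hNe : nb D e ∩ (C : Set G) = B := hthree heΦ hbe' hce' hbc
  have hNb : nb D b ∩ (C : Set G) = A := hthree hbΦ hab' he hae
  have hNc : nb D c ∩ (C : Set G) = A := hthree hcΦ hac' hec' hae
  have hAB : ∀ u ∈ A, ∀ v ∈ B, Commute u v ∧ u ≠ v := by
    have key : ∀ u ∈ A, Commute u b ∧ Commute u c := fun u hu =>
      ⟨(hNb.symm.subset hu).1.2.2.symm, (hNc.symm.subset hu).1.2.2.symm⟩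
    intro u hu v hv
    obtain ⟨k1, k2⟩ := key u hu
    have hub : u ≠ b := (hNb.symm.subset hu).1.2.1
    have huc : u ≠ c := (hNc.symm.subset hu).1.2.1
    rcases hv with rfl | rfl | rfl
    · exact ⟨k1, hub⟩
    · exact ⟨k2, huc⟩
    · refine ⟨(k1.mul_right k2).mul_right k1, fun q => huc ?_⟩
      calc u = b * u * b := by rw [← k1.eq, mul_assoc, hT.sq b hb.1.1, mul_one]
        _ = b * (b * c * b) * b := by rw [← q]
        _ = (b * b) * c * (b * b) := by group
        _ = c := by rw [hT.sq b hb.1.1, one_mul, mul_one]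
  have hAΦ : ∀ u ∈ A, u ∈ Φ := fun u hu => hnb (hNb.symm.subset hu)
  have hBΦ : ∀ u ∈ B, u ∈ Φ := fun u hu => hnb (hNa.symm.subset hu)
  have hA3 : A.ncard = 3 := hNb ▸ (thirteen_nb24 P hb.1.1 hX (hXp hbΦ)).2.2.1
  have hB3 : B.ncard = 3 := hNa ▸ (thirteen_nb24 P ha.1 hX (hXp ha)).2.2.1
  have hdisj : Disjoint A B := Set.disjoint_left.2 fun u hu hu' => (hAB u hu u hu').2 rfl
  have hNA : ∀ u ∈ A, nb D u ∩ (C : Set G) = B := fun u hu => by
    refine (Set.eq_of_subset_of_ncard_le (fun v hv => ?_) ?_ (Set.toFinite _)).symm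
    · exact ⟨⟨(hBΦ v hv).1, fun q => (hAB u hu v hv).2 q.symm, (hAB u hu v hv).1⟩, (hBΦ v hv).2⟩
    · rw [hB3, (thirteen_nb24 P (hAΦ u hu).1 hX (hXp (hAΦ u hu))).2.2.1]
  have hNB : ∀ u ∈ B, nb D u ∩ (C : Set G) = A := fun u hu => by
    refine (Set.eq_of_subset_of_ncard_le (fun v hv => ?_) ?_ (Set.toFinite _)).symm
    · exact ⟨⟨(hAΦ v hv).1, (hAB v hv u hu).2, (hAB v hv u hu).1.symm⟩, (hAΦ v hv).2⟩
    · rw [hA3, (thirteen_nb24 P (hBΦ u hu).1 hX (hXp (hBΦ u hu))).2.2.1]
  set Ω : Set G := A ∪ B with hΩdef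
  have hΩΦ : Ω ⊆ Φ := fun u hu => hu.elim (hAΦ u) (hBΦ u)
  have hΩnb : ∀ u ∈ Ω, ∀ v ∈ nb D u ∩ (C : Set G), v ∈ Ω := by
    rintro u (hu | hu) v hv
    · rw [hNA u hu] at hv; exact Or.inr hv
    · rw [hNB u hu] at hv; exact Or.inl hv
  have hΩcomm : ∀ u ∈ Ω, ∀ v ∈ Φ, Commute u v → v ∈ Ω := fun u hu v hv q => by
    by_cases e' : v = u
    · rw [e']; exact hu
    · exact hΩnb u hu v ⟨⟨hv.1, e', q⟩, hv.2⟩
  have hΩconj : ∀ r ∈ Ω, ∀ u ∈ Ω, r * u * r ∈ Ω := by
    intro r hr u hu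
    have hrD := (hΩΦ hr).1
    by_cases hru : Commute r u
    · rwa [hru.eq, mul_assoc, hT.sq r hrD, mul_one]
    · have hm : ∀ {w}, w ∈ Ω → Commute w r → Commute w u → r * u * r ∈ Ω := fun {w} hw h1 h2 =>
        hΩcomm w hw _ ⟨hT.conj' (hΩΦ hu).1 hrD, mul_mem (mul_mem (hΩΦ hr).2 (hΩΦ hu).2) (hΩΦ hr).2⟩
          ((h1.mul_right h2).mul_right h1)
      rcases hr with hr | hr <;> rcases hu with hu | hu
      · exact hm (Or.inr (Or.inl rfl)) (hAB r hr b (Or.inl rfl)).1.symm (hAB u hu b (Or.inl rfl)).1.symm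
      · exact absurd (hAB r hr u hu).1 hru
      · exact absurd (hAB u hu r hr).1.symm hru
      · exact hm (Or.inl (Or.inl rfl)) (hAB a (Or.inl rfl) r hr).1 (hAB a (Or.inl rfl) u hu).1
  have hCi : ∀ {p q : G}, p ∈ Φ → q ∈ nb D p ∩ (C : Set G) → p * q ∈ C := fun hp hq => mul_mem hp.2 hq.2
  -- products of commuting pairs keep the six
  have hkeep : ∀ p ∈ Φ, ∀ q ∈ nb D p ∩ (C : Set G), ∀ u ∈ Ω, p * q * u * (p * q)⁻¹ ∈ Ω := by
    intro p hp q hq u hu
    rw [mul_inv_rev, hT.inv hp.1, hT.inv hq.1.1, show p * q * u * (q * p) = p * (q * u * q) * p by group]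
    by_cases hpΩ : p ∈ Ω
    · exact hΩconj p hpΩ _ (hΩconj q (hΩnb p hpΩ q hq) u hu)
    have hqΩ : q ∉ Ω := fun h => hpΩ (hΩcomm q h p hp hq.1.2.2.symm)
    have n1 : ¬ Commute p u := fun h => hpΩ (hΩcomm u hu p hp h.symm)
    have n2 : ¬ Commute q u := fun h => hqΩ (hΩcomm u hu q (hnb hq) h.symm)
    have hc' := CfsgLib.ThreeT.NoPath.conj_pair_commute hT hp.1 hq.1.1 (hΩΦ hu).1 hq.1.2.2 n1 n2
    have h5 := (commute_conj_iff p _ _).2 hc'
    rw [hT.inv hp.1, show p * (p * u * p) * p = (p * p) * u * (p * p) by group, hT.sq p hp.1, one_mul,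
      mul_one] at h5
    exact hΩcomm u hu _ ⟨hT.conj' (hT.conj' (hΩΦ hu).1 hq.1.1) hp.1,
      mul_mem (mul_mem hp.2 (mul_mem (mul_mem hq.2 (hΩΦ hu).2) hq.2)) hp.2⟩ h5
  -- orders in the centraliser
  obtain ⟨hNa936, hCa, -, -⟩ := thirteen_nb24 P ha.1 hX (hXp ha)
  rw [← hNdef] at hNa936
  rw [← hCdef] at hCa
  set H := hsub D a
  have haC : a ∈ C := ha.2
  have haH : a ∈ H := (mem_hsub24 P ha.1).2 (Commute.refl a)
  have hbH : b ∈ H := (mem_hsub24 P ha.1).2 hb.1.2.2.symm
  have hcH : c ∈ H := (mem_hsub24 P ha.1).2 hc.1.2.2.symm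
  have hXC : X ≤ C := fun z hz w hw =>
    congrArg Subtype.val ((IsCyclic.isMulCommutative (α := ↥X)).is_comm.comm ⟨w, hw⟩ ⟨z, hz⟩)
  have nbc : b ≠ c := fun q => hbc (q ▸ Commute.refl b)
  have nb3 : b ≠ b * c * b ∧ c ≠ b * c * b := by
    constructor
    · intro q
      refine hbc ?_
      have h1 : b * b = b * c := by
        conv_lhs => arg 1; rw [q]
        rw [mul_assoc (b * c), hT.sq b hb.1.1, mul_one]
      rw [← mul_left_cancel h1]
    · intro q
      refine hbc ?_
      show b * c = c * b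
      nth_rewrite 2 [q]
      rw [mul_assoc (b * c), hT.sq b hb.1.1, mul_one]
  have nae3 : e ≠ a * e * a := by
    intro q
    refine hae ?_
    show a * e = e * a
    nth_rewrite 2 [q]
    rw [mul_assoc (a * e), hT.sq a ha.1, mul_one]
  have hmovecb : (b * c * b) * c * (b * c * b) = b := by
    calc (b * c * b) * c * (b * c * b) = b * (c * b * c) * b * c * b := by group
      _ = b * (b * c * b) * b * c * b := by rw [braid0 hT hc.1.1 hb.1.1 fun q => hbc q.symm]
      _ = (b * b) * c * (b * b) * c * b := by group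
      _ = b := by rw [hT.sq b hb.1.1, one_mul, mul_one, hT.sq c hc.1.1, one_mul]
  -- stabilisers of the members
  have hdesc : ∀ K : Subgroup G, K ≤ N ⊓ H → a ∈ K → b ∈ K → c ∈ K →
      Nat.card K = 3 * Nat.card ↥(Subgroup.centralizer ({b} : Set G) ⊓ K) ∧
      Nat.card ↥(Subgroup.centralizer ({b} : Set G) ⊓ K) =
        2 * Nat.card ↥(Subgroup.centralizer ({c} : Set G) ⊓ (Subgroup.centralizer ({b} : Set G) ⊓ K)) ∧
      Nat.card ↥(Subgroup.centralizer ({c} : Set G) ⊓ (Subgroup.centralizer ({b} : Set G) ⊓ K)) =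
        2 * Nat.card ↥(K ⊓ Subgroup.centralizer ({a, b, c, e} : Set G)) := by
    intro K hK haK hbK hcK
    have hmove : ∀ g ∈ K, ∀ z ∈ nb D a ∩ (C : Set G), g * z * g⁻¹ ∈ nb D a ∩ (C : Set G) := fun g hg z hz =>
      ⟨nb_conj hT hz.1.1 hz.1.2.1 hz.1.2.2
        (by rw [(commute_hsub (hK hg).2).eq, mul_inv_cancel_right]), norm_cent_mem (hK hg).1 hz.2⟩
    have hbcb : b * c * b ∈ K := mul_mem (mul_mem hbK hcK) hbK
    have hbi : b⁻¹ = b := hT.inv hb.1.1
    have q1 := card_orbit_stab K (Subgroup.centralizer ({b} : Set G)) (fun g => g * b * g⁻¹) B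
      (fun g _ g' _ => conj_fib) ?_
    have q2 := card_orbit_stab (Subgroup.centralizer ({b} : Set G) ⊓ K) (Subgroup.centralizer ({c} : Set G))
      (fun g => g * c * g⁻¹) {c, b * c * b} (fun g _ g' _ => conj_fib) ?_
    have q3 := card_orbit_stab (Subgroup.centralizer ({c} : Set G) ⊓ (Subgroup.centralizer ({b} : Set G) ⊓ K))
      (Subgroup.centralizer ({e} : Set G)) (fun g => g * e * g⁻¹) {e, a * e * a} (fun g _ g' _ => conj_fib) ?_
    · rw [hB3] at q1
      rw [Set.ncard_pair nb3.2] at q2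
      rw [Set.ncard_pair nae3] at q3
      refine ⟨q1, q2, ?_⟩
      rw [q3]
      refine congrArg (fun K' : Subgroup G => 2 * Nat.card ↥K') ?_
      ext g
      simp only [Subgroup.mem_inf, Subgroup.mem_centralizer_iff,
        Set.mem_insert_iff, Set.mem_singleton_iff, forall_eq_or_imp, forall_eq]
      constructor
      · rintro ⟨h1, h2, h3, h4⟩
        exact ⟨h4, (commute_hsub (hK h4).2).eq.symm, h3, h2, h1⟩
      · rintro ⟨h4, -, h3, h2, h1⟩
        exact ⟨h1, h2, h3, h4⟩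
    · -- orbit of the fourth
      ext z
      constructor
      · rintro ⟨g, ⟨hgc, hgb, hgK⟩, rfl⟩
        have h1 : g * e * g⁻¹ ∈ nb D b ∩ (C : Set G) :=
          ⟨nb_conj hT he.1.1 he.1.2.1 he.1.2.2
            (by rw [Subgroup.mem_centralizer_singleton_iff.1 hgb, mul_inv_cancel_right]), norm_cent_mem (hK hgK).1 he.2⟩
        rw [hNb] at h1
        rcases h1 with h1 | h1 | h1
        · exact absurd ((commute_conj_iff g a e).1
            (by rw [show g * e * g⁻¹ = a from h1, (commute_hsub (hK hgK).2).eq, mul_inv_cancel_right])) hae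
        · exact Or.inl h1
        · exact Or.inr h1
      · intro hz
        rcases hz with hz | hz <;> rw [hz]
        · exact ⟨1, one_mem _, by simp⟩
        · refine ⟨a, ⟨Subgroup.mem_centralizer_singleton_iff.2 hc.1.2.2.eq,
            Subgroup.mem_centralizer_singleton_iff.2 hb.1.2.2.eq, haK⟩, ?_⟩
          show a * e * a⁻¹ = _
          rw [hT.inv ha.1]
    · -- orbit of the third
      ext z
      constructor
      · rintro ⟨g, ⟨hgb, hgK⟩, rfl⟩
        have h1 := hmove g hgK c hc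
        rw [hNa] at h1
        rcases h1 with h1 | h1 | h1
        · exact absurd (mul_left_cancel (mul_right_cancel (show g * c * g⁻¹ = g * b * g⁻¹ by
            rw [show g * c * g⁻¹ = b from h1, Subgroup.mem_centralizer_singleton_iff.1 hgb, mul_inv_cancel_right])))
            nbc.symm
        · exact Or.inl h1
        · exact Or.inr h1
      · intro hz
        rcases hz with hz | hz <;> rw [hz]
        · exact ⟨1, one_mem _, by simp⟩
        · refine ⟨b, ⟨Subgroup.mem_centralizer_singleton_iff.2 rfl, hbK⟩, ?_⟩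
          show b * c * b⁻¹ = _
          rw [hbi]
    · -- orbit of the second
      ext z
      constructor
      · rintro ⟨g, hg, rfl⟩
        have := hmove g hg b hb
        rwa [hNa] at this
      · intro hz
        rcases hz with hz | hz | hz <;> rw [hz]
        · exact ⟨1, one_mem _, by simp⟩
        · refine ⟨b * c * b, hbcb, ?_⟩
          show b * c * b * b * (b * c * b)⁻¹ = c
          rw [show (b * c * b)⁻¹ = b⁻¹ * c⁻¹ * b⁻¹ by group, hbi, hT.inv hc.1.1,
            mul_assoc (b * c) b b, hT.sq b hb.1.1, mul_one,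
            show b * c * (b * c * b) = b * (c * b * c) * b by group, braid0 hT hc.1.1 hb.1.1 fun q => hbc q.symm,
            show b * (b * c * b) * b = (b * b) * c * (b * b) by group, hT.sq b hb.1.1, one_mul, mul_one]
        · refine ⟨c, hcK, ?_⟩
          show c * b * c⁻¹ = _
          rw [hT.inv hc.1.1, braid0 hT hc.1.1 hb.1.1 fun q => hbc q.symm]
  have hCN : C ⊓ H ≤ N ⊓ H := inf_le_inf_right _ (Subgroup.centralizer_le_normalizer _)
  obtain ⟨n1, n2, n3⟩ := hdesc (N ⊓ H) le_rfl (hCN ⟨haC, haH⟩) (hCN ⟨hb.2, hbH⟩) (hCN ⟨hc.2, hcH⟩)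
  obtain ⟨m1, m2, m3⟩ := hdesc (C ⊓ H) hCN ⟨haC, haH⟩ ⟨hb.2, hbH⟩ ⟨hc.2, hcH⟩
  have hsubH : Subgroup.centralizer ({a, b, c, e} : Set G) ≤ H := fun g hg =>
    (mem_hsub24 P ha.1).2 (Subgroup.mem_centralizer_iff.1 hg a (by simp)).symm
  set W := Subgroup.centralizer ({a, b, c, e} : Set G)
  have hNW : Nat.card ↥(N ⊓ W) = 78 := by
    rw [show N ⊓ H ⊓ W = N ⊓ W by rw [inf_assoc, inf_eq_right.2 hsubH]] at n3
    omega
  have hXW : X ≤ C ⊓ W := le_inf hXC fun x hx => Subgroup.mem_centralizer_iff.2 fun y hy => by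
    rcases hy with rfl | rfl | rfl | rfl
    exacts [(ha.2 x hx).symm, (hb.2 x hx).symm, (hc.2 x hx).symm, (he.2 x hx).symm]
  have hCW : C ⊓ W = X := by
    refine (Subgroup.eq_of_le_of_card_ge hXW ?_).symm
    rw [hX]
    rw [show C ⊓ H ⊓ W = C ⊓ W by rw [inf_assoc, inf_eq_right.2 hsubH]] at m3
    have := Nat.le_of_dvd (by norm_num) hCa
    omega
  refine ⟨hce, ?_, ?_, hCW, hNW⟩
  all_goals
    have hΩ6 : Ω.ncard = 6 := by rw [hΩdef, Set.ncard_union_eq hdisj, hA3, hB3]
    -- counting the ordered commuting pairs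
    set Φf := Φ.toFinset
    set PP := (Φf ×ˢ Φf).filter fun pq => pq.2 ∈ nb D pq.1
    have hPP : PP.card = 3 * Φ.ncard := by
      rw [Set.ncard_eq_toFinset_card', show PP.card = ∑ p ∈ Φf, (PP.filter fun pq => pq.1 = p).card from
        Finset.card_eq_sum_card_fiberwise fun pq hpq =>
          (Finset.mem_product.1 (Finset.mem_filter.1 hpq).1).1]
      rw [Finset.sum_const_nat (m := 3) fun p hp => ?_, mul_comm]
      have hp' : p ∈ Φ := Set.mem_toFinset.1 hp
      rw [← (thirteen_nb24 P hp'.1 hX (hXp hp')).2.2.1, Set.ncard_eq_toFinset_card']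
      refine Finset.card_bij (fun pq _ => pq.2) (fun pq h => ?_) (fun pq h pq' h' q => ?_) fun q hq => ?_
      · simp only [PP, Φf, Finset.mem_filter, Finset.mem_product, Set.mem_toFinset] at h
        rw [Set.mem_toFinset]
        exact ⟨h.2 ▸ h.1.2, h.1.1.2.2⟩
      · exact Prod.ext ((Finset.mem_filter.1 h).2.trans (Finset.mem_filter.1 h').2.symm) q
      · rw [Set.mem_toFinset] at hq
        exact ⟨(p, q), by
          simp only [PP, Φf, Finset.mem_filter, Finset.mem_product, Set.mem_toFinset]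
          exact ⟨⟨⟨hp', hnb hq⟩, hq.1⟩, trivial⟩, rfl⟩
    set tgt : Finset ((G × G) × G × G) := (A.toFinset ×ˢ B.toFinset ∪ B.toFinset ×ˢ A.toFinset).biUnion fun xy =>
      (((nb D xy.1 ∩ (C : Set G)).toFinset.erase xy.2) ×ˢ ((nb D xy.2 ∩ (C : Set G)).toFinset.erase xy.1)).image
        fun zw => (xy, zw)
    have htgt : tgt.card ≤ 18 * 4 := by
      refine (Finset.card_biUnion_le_card_mul _ _ 4 fun xy hxy => Finset.card_image_le.trans ?_).trans
        (Nat.mul_le_mul_right 4 ?_)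
      · obtain ⟨hx, hy, hxy'⟩ : xy.1 ∈ Ω ∧ xy.2 ∈ Ω ∧ Commute xy.1 xy.2 ∧ xy.1 ≠ xy.2 := by
          simp only [Finset.mem_union, Finset.mem_product, Set.mem_toFinset] at hxy
          rcases hxy with ⟨h1, h2⟩ | ⟨h1, h2⟩
          · exact ⟨Or.inl h1, Or.inr h2, hAB _ h1 _ h2⟩
          · exact ⟨Or.inr h1, Or.inl h2, (hAB _ h2 _ h1).1.symm, (hAB _ h2 _ h1).2.symm⟩
        have hxm : xy.2 ∈ nb D xy.1 ∩ (C : Set G) :=
          ⟨⟨(hΩΦ hy).1, hxy'.2.symm, hxy'.1⟩, (hΩΦ hy).2⟩
        have hym := hflip (hΩΦ hx) hxm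
        rw [Finset.card_product, Finset.card_erase_of_mem (Set.mem_toFinset.2 hxm),
          Finset.card_erase_of_mem (Set.mem_toFinset.2 hym), ← Set.ncard_eq_toFinset_card',
          ← Set.ncard_eq_toFinset_card', (thirteen_nb24 P (hΩΦ hx).1 hX (hXp (hΩΦ hx))).2.2.1,
          (thirteen_nb24 P (hΩΦ hy).1 hX (hXp (hΩΦ hy))).2.2.1]
      · refine (Finset.card_union_le _ _).trans ?_
        rw [Finset.card_product, Finset.card_product, ← Set.ncard_eq_toFinset_card', ← Set.ncard_eq_toFinset_card',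
          hA3, hB3]
    set F : G × G → (G × G) × G × G := fun pq =>
      ((pq.1 * pq.2 * a * (pq.1 * pq.2)⁻¹, pq.1 * pq.2 * b * (pq.1 * pq.2)⁻¹),
        pq.1 * pq.2 * c * (pq.1 * pq.2)⁻¹, pq.1 * pq.2 * e * (pq.1 * pq.2)⁻¹) with hFdef
    have hPPmem : ∀ pq ∈ PP, pq.1 ∈ Φ ∧ pq.2 ∈ nb D pq.1 ∩ (C : Set G) := fun pq h => by
      simp only [PP, Φf, Finset.mem_filter, Finset.mem_product, Set.mem_toFinset] at h
      exact ⟨h.1.1, h.2, h.1.2.2⟩
    have hFmem : ∀ pq ∈ PP, F pq ∈ tgt := by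
      intro pq hpq
      obtain ⟨hp, hq⟩ := hPPmem pq hpq
      set t := pq.1 * pq.2
      have hca : Commute (t * a * t⁻¹) (t * b * t⁻¹) := (commute_conj_iff t a b).2 hb.1.2.2
      have hinj : ∀ {u v : G}, u ≠ v → t * u * t⁻¹ ≠ t * v * t⁻¹ := fun h q => h
        (mul_left_cancel (mul_right_cancel q))
      have m1 := hkeep _ hp _ hq a (Or.inl (Or.inl rfl))
      have m2 := hkeep _ hp _ hq b (Or.inr (Or.inl rfl))
      have m3 := hkeep _ hp _ hq c (Or.inr (Or.inr (Or.inl rfl)))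
      have m4 := hkeep _ hp _ hq e (Or.inl (Or.inr (Or.inl rfl)))
      refine Finset.mem_biUnion.2 ⟨(F pq).1, ?_, Finset.mem_image.2 ⟨(F pq).2, ?_, rfl⟩⟩
      · simp only [hFdef, Finset.mem_union, Finset.mem_product, Set.mem_toFinset]
        have hab_ne : t * a * t⁻¹ ≠ t * b * t⁻¹ := hinj fun q => hb.1.2.1 q.symm
        rcases m1 with m1 | m1
        · refine Or.inl ⟨m1, ?_⟩
          rw [← hNA _ m1]
          exact ⟨⟨(hΩΦ m2).1, hab_ne.symm, hca⟩, (hΩΦ m2).2⟩
        · refine Or.inr ⟨m1, ?_⟩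
          rw [← hNB _ m1]
          exact ⟨⟨(hΩΦ m2).1, hab_ne.symm, hca⟩, (hΩΦ m2).2⟩
      · simp only [hFdef, Finset.mem_product, Finset.mem_erase, Set.mem_toFinset]
        exact ⟨⟨hinj nbc.symm, ⟨(hΩΦ m3).1, hinj hc.1.2.1, (commute_conj_iff t a c).2 hc.1.2.2⟩, (hΩΦ m3).2⟩,
          hinj fun q => hae (q ▸ Commute.refl e), ⟨(hΩΦ m4).1, hinj he.1.2.1, (commute_conj_iff t b e).2 he.1.2.2⟩,
          (hΩΦ m4).2⟩
    have hfib : ∀ t ∈ PP.image F, (PP.filter fun pq => F pq = t).card ≤ 2 := by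
      intro t ht
      obtain ⟨pq₀, h0, rfl⟩ := Finset.mem_image.1 ht
      obtain ⟨hp, hq⟩ := hPPmem pq₀ h0
      refine (Finset.card_le_card (t := {pq₀, (pq₀.2, pq₀.1)}) fun pq hpq => ?_).trans Finset.card_le_two
      rw [Finset.mem_filter] at hpq
      obtain ⟨hp', hq'⟩ := hPPmem pq hpq.1
      set s := pq₀.1 * pq₀.2
      set s' := pq.1 * pq.2
      have hs2 : ∀ {p q}, p ∈ Φ → q ∈ nb D p ∩ (C : Set G) → (p * q) * (p * q) = 1 := fun {p q} hp hq => by
        rw [show p * q * (p * q) = p * (q * p) * q by group, ← hq.1.2.2.eq,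
          show p * (p * q) * q = (p * p) * (q * q) by group, hT.sq p hp.1, hT.sq q hq.1.1, one_mul]
      have hsW : ∀ u : G, s' * u * s'⁻¹ = s * u * s⁻¹ → Commute (s⁻¹ * s') u := fun u q => by
        have h1 : s⁻¹ * (s' * u * s'⁻¹) * s = u := by rw [q]; group
        show s⁻¹ * s' * u = u * (s⁻¹ * s')
        conv_rhs => rw [← h1]
        group
      have e4 := hpq.2
      simp only [hFdef, Prod.mk.injEq] at e4
      have hm : s⁻¹ * s' ∈ X := by
        rw [← hCW]
        refine ⟨C.mul_mem (C.inv_mem (hCi hp hq)) (hCi hp' hq'), Subgroup.mem_centralizer_iff.2 fun y hy => ?_⟩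
        rcases hy with rfl | rfl | rfl | rfl
        exacts [(hsW _ e4.1.1).eq.symm, (hsW _ e4.1.2).eq.symm, (hsW _ e4.2.1).eq.symm, (hsW _ e4.2.2).eq.symm]
      have hsi : s⁻¹ = s := inv_eq_of_mul_eq_one_right (hs2 hp hq)
      rw [hsi] at hm
      have hcomm' : Commute s (s * s') := ((Subgroup.mem_centralizer_iff.1 (hCi hp hq)) (s * s') hm).symm
      have hss' : s * s' = s' * s := by
        have h1 := hcomm'.eq
        rw [← mul_assoc s s s', hs2 hp hq, one_mul] at h1
        calc s * s' = s * (s * s' * s) := by rw [← h1]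
          _ = (s * s) * s' * s := by group
          _ = s' * s := by rw [hs2 hp hq, one_mul]
      have h2' : (s * s') * (s * s') = 1 := by
        rw [show s * s' * (s * s') = s * (s' * s) * s' by group, ← hss',
          show s * (s * s') * s' = (s * s) * (s' * s') by group, hs2 hp hq, hs2 hp' hq', one_mul]
      have h13 : (s * s') ^ 13 = 1 := by
        have h := pow_card_eq_one' (x := (⟨s * s', hm⟩ : ↥X))
        rw [hX] at h
        exact congrArg Subtype.val h
      rw [show 13 = 2 * 6 + 1 by rfl, pow_succ, pow_mul, pow_two, h2', one_pow, one_mul] at h13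
      have hs' : s' = s := by
        calc s' = (s * s) * s' := by rw [hs2 hp hq, one_mul]
          _ = s := by rw [mul_assoc, h13, mul_one]
      have hself : Commute s pq.1 := by
        rw [← hs']
        exact (Commute.refl pq.1).mul_left hq'.1.2.2.symm
      obtain ⟨c1, c2⟩ := (commute_mul_iff0 hT hp.1 hq.1.1 hp'.1 hq.1.2.2 hq.1.2.1.symm).1 hself
      have hor : pq.1 = pq₀.1 ∨ pq.1 = pq₀.2 := by
        by_contra hno
        push Not at hno
        exact hfar hp hq ⟨⟨hp'.1, hno.1, c1⟩, hp'.2⟩ (fun q => hno.2 q.symm) c2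
      rcases hor with q | q
      · refine Finset.mem_insert.2 (Or.inl (Prod.ext q ?_))
        have h1 : pq.1 * pq.2 = pq₀.1 * pq₀.2 := hs'
        rw [q] at h1
        exact mul_left_cancel h1
      · refine Finset.mem_insert.2 (Or.inr (Finset.mem_singleton.2 (Prod.ext q ?_)))
        have h1 : pq.1 * pq.2 = pq₀.1 * pq₀.2 := hs'
        rw [q, hq.1.2.2.eq] at h1
        exact mul_left_cancel h1
    have h48 : Φ.ncard ≤ 48 := by
      have h1 := Finset.card_le_mul_card_image PP 2 hfib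
      have h2 : (PP.image F).card ≤ tgt.card := Finset.card_le_card fun t ht => by
        obtain ⟨pq, h, rfl⟩ := Finset.mem_image.1 ht
        exact hFmem pq h
      omega
    have h6 : 6 ≤ Φ.ncard := hΩ6 ▸ Set.ncard_le_ncard hΩΦ (Set.toFinite _)
    have hN := fixed_trans24 P (p := 13) (by norm_num) hX ha.1 (hXp ha)
    rw [← hNdef, hNa936, ← hCdef, ← hΦdef] at hN
    have hp2 : ¬ 13 * 13 ∣ Nat.card ↥(⊤ : Subgroup G) := by rw [Subgroup.card_top, card_G24 P]; norm_num
    obtain ⟨n, hn1, hn⟩ := sylow_count (H := (⊤ : Subgroup G)) le_top hX hp2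
    rw [inf_top_eq, Subgroup.card_top, card_G24 P, ← hNdef, hN] at hn
    -- the number of members is a multiple of three
    have h3f : 2808 ∣ Nat.card ↥N := by
      set S := N ⊓ Subgroup.normalizer A
      have hmapsA : ∀ g ∈ N, (∀ u ∈ A, g * u * g⁻¹ ∈ A) → g ∈ S := fun g hg hA' => by
        refine ⟨hg, Subgroup.mem_normalizer_iff_conj_image_eq.2 ?_⟩
        refine Set.eq_of_subset_of_ncard_le ?_ (le_of_eq ?_) (Set.toFinite _)
        · rintro _ ⟨u, hu, rfl⟩
          exact hA' u hu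
        · exact (Set.ncard_image_of_injective _ (MulEquiv.injective _)).symm
      have hNH : N ⊓ H ≤ S := fun g hg => hmapsA g hg.1 fun u hu => by
        have h1 : g * b * g⁻¹ ∈ B := hNa ▸ ⟨nb_conj hT hb.1.1 hb.1.2.1 hb.1.2.2
          (by rw [(commute_hsub hg.2).eq, mul_inv_cancel_right]), norm_cent_mem hg.1 hb.2⟩
        rw [← hNB _ h1]
        refine ⟨nb_conj hT (hAΦ u hu).1 (hAB u hu b (Or.inl rfl)).2 (hAB u hu b (Or.inl rfl)).1.symm rfl,
          norm_cent_mem hg.1 (hAΦ u hu).2⟩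
      have hΦN : ∀ u ∈ Φ, u ∈ N := fun u hu => Subgroup.centralizer_le_normalizer _ hu.2
      have hAS : ∀ g ∈ A, g ∈ S := fun g hg => hmapsA g (hΦN g (hAΦ g hg)) fun u hu => by
        rw [← hNB b (Or.inl rfl)]
        refine ⟨nb_conj hT (hAΦ u hu).1 (hAB u hu b (Or.inl rfl)).2 (hAB u hu b (Or.inl rfl)).1.symm ?_,
          norm_cent_mem (hΦN g (hAΦ g hg)) (hAΦ u hu).2⟩
        rw [(hAB g hg b (Or.inl rfl)).1.eq, mul_inv_cancel_right]
      have key := card_orbit_stab S H (fun g => g * a * g⁻¹) A (fun g _ g' _ => ?_) ?_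
      · rw [hA3, show H ⊓ S = N ⊓ H from le_antisymm (le_inf (inf_le_right.trans inf_le_left) inf_le_left)
          (le_inf inf_le_right hNH), hNa936] at key
        rw [show (2808 : ℕ) = Nat.card ↥S by omega]
        exact Subgroup.card_dvd_of_le inf_le_left
      · rw [conj_fib, Subgroup.mem_centralizer_singleton_iff, mem_hsub24 P ha.1]
        exact Iff.rfl
      · ext z
        constructor
        · rintro ⟨g, hg, rfl⟩
          exact ((Subgroup.mem_normalizer_iff_conj_image_eq.1 hg.2).subset ⟨a, Or.inl rfl, rfl⟩)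
        · intro hz
          rcases hz with hz | hz | hz <;> rw [hz]
          · exact ⟨1, one_mem _, by simp⟩
          · refine ⟨a * e * a, mul_mem (mul_mem (hAS a (Or.inl rfl)) (hAS e (Or.inr (Or.inl rfl))))
              (hAS a (Or.inl rfl)), ?_⟩
            show a * e * a * a * (a * e * a)⁻¹ = e
            rw [show (a * e * a)⁻¹ = a⁻¹ * e⁻¹ * a⁻¹ by group, hT.inv ha.1, hT.inv he.1.1,
              mul_assoc (a * e) a a, hT.sq a ha.1, mul_one,
              show a * e * (a * e * a) = a * (e * a * e) * a by group, braid0 hT he.1.1 ha.1 fun q => hae q.symm,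
              show a * (a * e * a) * a = (a * a) * e * (a * a) by group, hT.sq a ha.1, one_mul, mul_one]
          · refine ⟨e, hAS e (Or.inr (Or.inl rfl)), ?_⟩
            show e * a * e⁻¹ = _
            rw [hT.inv he.1.1, braid0 hT he.1.1 ha.1 fun q => hae q.symm]
    -- nor is it a multiple of five
    have h5f : ¬ 5 ∣ Nat.card ↥N := fun h5 => by
      haveI : Fact (5 : ℕ).Prime := ⟨by norm_num⟩
      obtain ⟨g, hg⟩ := exists_prime_orderOf_dvd_card' 5 h5
      have hgo : orderOf (g : G) = 5 := by rw [Subgroup.orderOf_coe, hg]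
      refine thirteen_no_five24 P hX hgo ?_
      have hk : g ∈ X.normalizerMonoidHom.ker := by
        have h1 : orderOf (X.normalizerMonoidHom g) ∣ 5 := hg ▸ orderOf_map_dvd X.normalizerMonoidHom g
        have h2 : orderOf (X.normalizerMonoidHom g) ∣ 12 := by
          have := orderOf_dvd_natCard (X.normalizerMonoidHom g)
          rwa [IsCyclic.card_mulAut, hX, show Nat.totient 13 = 12 from
            (Nat.totient_prime (by norm_num)).trans (by norm_num)] at this
        rw [MonoidHom.mem_ker, ← orderOf_eq_one_iff]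
        exact Nat.dvd_one.1 (Nat.dvd_gcd h1 h2)
      rw [Subgroup.normalizerMonoidHom_ker] at hk
      exact hk
    rw [hN] at h3f h5f
    have hf : Φ.ncard = 6 := by
      generalize Φ.ncard = f at hn h48 h6 h3f h5f
      interval_cases f <;> omega
  · exact (Set.eq_of_subset_of_ncard_le hΩΦ (by rw [hf, hΩ6]) (Set.toFinite _)).symm
  · rw [hN, hf]

end CfsgLib.ThreeT.Prod
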