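import Cfsg.Agent.Spor3T.M24Lines
import Cfsg.Agent.Spor3T.M24Thirteen
import Cfsg.Agent.Coset.G23.Embed
import Cfsg.Agent.S1059

/-!
Type M(24): the centraliser of two commuting pairs with an element of order 13 is `G₂` over three elements.
-/

set_option autoImplicit false
set_option linter.unusedSectionVars false
set_option linter.style.haveILetI false
set_option maxRecDepth 100000

namespace CfsgLib.ThreeT.Prod

open scoped Matrix
open LineCheck LineData LineFacts CfsgLib.Coset

local notation "V" => Fin 7 → ZMod 3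

local instance : Fact (Nat.Prime 3) := ⟨Nat.prime_three⟩

/-- The change of coordinates as a linear map. -/
noncomputable def gLin : V →ₗ[ZMod 3] V :=
  Matrix.mulVecLin (Matrix.of fun i j : Fin 7 => dec (gCols.getD j.val 0) i)

theorem gLin_dot (x y : V) : gLin x ⬝ᵥ gLin y = x ⬝ᵥ y := by
  have key : (Matrix.of fun i j : Fin 7 => dec (gCols.getD j.val 0) i)ᵀ *
      (Matrix.of fun i j : Fin 7 => dec (gCols.getD j.val 0) i) = (1 : Matrix (Fin 7) (Fin 7) (ZMod 3)) := by
    decide +kernel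
  simp only [gLin, Matrix.mulVecLin_apply]
  rw [Matrix.dotProduct_mulVec, ← Matrix.mulVec_transpose, Matrix.mulVec_mulVec, key, Matrix.one_mulVec]

theorem dec_gN (x : Nat) : dec (gN x) = gLin (dec x) := by
  rw [gN, dec_pack]
  funext i
  simp only [gLin, Matrix.mulVecLin_apply, Matrix.mulVec, dotProduct, Matrix.of_apply, Fin.sum_univ_seven, dec,
    Nat.cast_add, Nat.cast_mul]
  simp only [mul_comm]
  rfl

theorem neg_neg_code : ∀ n < 2187, negN (negN n) = n := by
  have h : ((List.range 2187).all fun n => Nat.beq (negN (negN n)) n) = true := by decide +kernel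
  exact fun n hn => Nat.eq_of_beq_eq_true (List.all_eq_true.1 h n (List.mem_range.2 hn))

variable {G : Type*} [Group G] [Finite G] {D : Set G} {d : G} (P : Point24 D d)

include P

/-- A fixed member with its coordinates and the two basic lines. -/
theorem exists_lines24 : ∃ a e c ψ, Setup D a e d c ψ ∧ orderOf (x13 d ψ) = 13 ∧ c ∈ nb D a ∧
    LN (Line d c ψ) (u0, v0, w0) ∧ LN (Line d c ψ) (u0, v1, wG) := by
  classical
  obtain ⟨ε, P'⟩ := P.below
  have hT := P.base.tt
  have hd2 := hT.sq d P.mem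
  obtain ⟨t, ht, j, hj, htj, -⟩ := (geo23 P').far_one
  obtain ⟨A, hA, rfl⟩ := ht
  obtain ⟨J, hJ, rfl⟩ := hj
  have hAJ : ¬ Commute (A : G) J := fun q => htj ((map_commute_iff hT hA hJ).2 q)
  obtain ⟨ψ, hψ⟩ := exists_coords24 P hA hJ hAJ
  set a := (A : G)
  set e := (J : G)
  have hxn := dec_norm xw_norm
  obtain ⟨cxa, cxe, cxd⟩ := hψ.prod_comm hT hxn
  set x := x13 d ψ with hxdef
  have hx13 : x ^ 13 = 1 := by
    obtain ⟨s, hs, hs'⟩ := scal_spec xw_thirteen
    have hmem : ∀ v ∈ ((List.replicate 13 xw).flatten).map dec, v ⬝ᵥ v = 1 := by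
      intro v hv
      rw [List.map_flatten, List.map_replicate, List.mem_flatten] at hv
      obtain ⟨l, hl, hv⟩ := hv
      rw [List.eq_of_mem_replicate hl] at hv
      exact hxn v hv
    have h := hψ.rel _ hmem ⟨s, hs, hs'⟩
    rwa [List.map_flatten, List.map_replicate, List.map_flatten, List.map_replicate, List.prod_flatten,
      List.map_replicate, List.prod_replicate] at h
  have hx1 : x ≠ 1 := by
    intro q
    obtain ⟨k, hk, hne⟩ := List.any_eq_true.1 xw_moves
    have hk7 : k < 7 := List.mem_range.1 hk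
    have hu : dec (3 ^ k) ⬝ᵥ dec (3 ^ k) = 1 := by interval_cases k <;> decide +kernel
    have h := hψ.conj_mem hT hd2 hxn hu
    rw [show ((xw.map dec).map (evm d ψ)).prod = x from rfl, q, one_mul, inv_one, mul_one] at h
    have he := hψ.inj _ _ hu (by rw [fold_dot hxn, hu]) h
    rw [show (xw.map dec).foldr rmul (dec (3 ^ k)) = dec (foldN xw (3 ^ k)) from (dec_foldN _ _).symm] at he
    have : eqpm (foldN xw (3 ^ k)) (3 ^ k) = true := eqpm_iff.2 (he.elim (fun q => Or.inl q.symm) fun q => Or.inr (by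
      rw [q, neg_neg]))
    rw [this] at hne
    exact Bool.noConfusion hne
  have hox : orderOf x = 13 := orderOf_eq_prime (hp := ⟨by norm_num⟩) hx13 hx1
  set X := Subgroup.zpowers x
  have hX : Nat.card X = 13 := by rw [Nat.card_zpowers, hox]
  have hXC : ∀ y, Commute x y → y ∈ Subgroup.centralizer (X : Set G) := fun y hy z hz => by
    obtain ⟨i, rfl⟩ := Subgroup.mem_zpowers_iff.1 hz
    exact (hy.zpow_left i).eq
  have hXa : X ≤ hsub D a := Subgroup.zpowers_le.2 ((mem_hsub24 P hψ.ha.1).2 cxa)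
  obtain ⟨-, -, h3, hfar⟩ := thirteen_nb24 P hψ.ha.1 hX hXa
  have hdm : d ∈ nb D a ∩ (Subgroup.centralizer (X : Set G) : Set G) :=
    ⟨⟨P.mem, fun q => hψ.ha.2.1 q.symm, hψ.ha.2.2.symm⟩, hXC d cxd⟩
  obtain ⟨c, hc, hcd⟩ := Set.exists_ne_of_one_lt_ncard (s := nb D a ∩ (Subgroup.centralizer (X : Set G) : Set G))
    (by rw [h3]; norm_num) d
  have hdc : ¬ Commute d c := hfar d hdm c hc hcd.symm
  obtain ⟨hce, -⟩ := thirteen_six24 P hX (a := a) (b := d) (c := c) (e := e) ⟨hψ.ha.1, hXC a cxa⟩ hdm hc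
    ⟨hψ.he, hXC e cxe⟩ hdc hψ.far
  have hcx : Commute c x := (hc.2 x (Subgroup.mem_zpowers x)).symm
  have S : Setup D a e d c ψ := ⟨hψ, P.mem, ⟨hc.1, hce⟩, hdc, hcx⟩
  have hL := S.lines P
  have hseed := seeds_ok
  simp only [Bool.and_eq_true, Nat.beq_eq] at hseed
  obtain ⟨⟨⟨⟨s1, s2⟩, s3⟩, s4⟩, s5⟩ := hseed
  obtain ⟨g, hg, hbase⟩ := hL.pair pair1_ok ⟨(dotN_eq (by norm_num)).1 s1, (dotN_eq (by norm_num)).1 s2,
    (dotN_eq (by norm_num)).1 s3⟩ (by simp)
  rw [List.mem_singleton] at hg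
  rw [hg] at hbase
  obtain ⟨g, hg, hsecond⟩ := hL.pair pair2_ok ⟨(dotN_eq (by norm_num)).1 s1, (dotN_eq (by norm_num)).1 s4,
    (dotN_eq (by norm_num)).1 s5⟩ (by simpa using hbase)
  simp only [List.mem_cons, List.not_mem_nil, or_false] at hg
  rcases hg with rfl | rfl
  · exact ⟨a, e, c, ψ, S, hox, hc.1, hbase, hsecond⟩
  -- change the coordinates
  have hs : ∀ t ∈ [(u0, v0, w0), (u0, v1, wB)], LN (Line d c ψ) t := by simp [hbase, hsecond]
  have k1 := hL.reach g_base hs
  have k2 := hL.reach g_second hs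
  have hψ' := hψ.comp hT gLin gLin_dot
  have hmapx : x13 d (fun v => ψ (gLin v)) = x := by
    have e1 : ((xw.map dec).map (evm d fun v => ψ (gLin v))).prod = (((xw.map gN).map dec).map (evm d ψ)).prod := by
      simp only [List.map_map]
      refine congrArg List.prod (List.map_congr_left fun v _ => ?_)
      show d * ψ (gLin (dec v)) = d * ψ (dec (gN v))
      rw [dec_gN]
    refine e1.trans (hψ.eq_of_fold hT hd2 ?_ hxn (same_spec hxn g_same))
    intro v hv
    simp only [List.map_map, List.mem_map, Function.comp] at hv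
    obtain ⟨n, hn, rfl⟩ := hv
    rw [dec_gN, gLin_dot]
    exact hxn _ (List.mem_map_of_mem hn)
  have S' : Setup D a e d c (fun v => ψ (gLin v)) := ⟨hψ', P.mem, ⟨hc.1, hce⟩, hdc, by rw [hmapx]; exact hcx⟩
  have move : ∀ p q r : Nat, LN (Line d c ψ) (gN p, gN q, gN r) → LN (Line d c fun v => ψ (gLin v)) (p, q, r) := by
    rintro p q r ⟨hn, hco⟩
    simp only [dec_gN, gLin_dot] at hn hco
    exact ⟨hn, hco⟩
  exact ⟨a, e, c, _, S', by rw [hmapx]; exact hox, hc.1, move _ _ _ k1, move _ _ _ k2⟩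

set_option maxHeartbeats 2000000 in
/-- The centraliser is `G₂` over three elements. -/
theorem exists_g2_24 : ∃ a b c e : G, a ∈ D ∧ b ∈ nb D a ∧ c ∈ nb D a ∧ e ∈ nb D b ∧ ¬ Commute b c ∧ ¬ Commute a e ∧
    Commute c e ∧
    Nonempty (↥(Subgroup.centralizer ({a, b, c, e} : Set G)) ≃* ↥(Cfsg.Lie.chevG2.group (ZMod 3))) := by
  classical
  haveI := Fintype.ofFinite G
  obtain ⟨a, e, c, ψ, S, hox, hca, hL1, hL2⟩ := exists_lines24 P
  have hT := P.base.tt
  have hd2 := hT.sq d P.mem
  have hψ := S.co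
  have hL := S.lines P
  have hA := S.no_common P
  refine ⟨a, d, c, e, hψ.ha.1, ⟨P.mem, fun q => hψ.ha.2.1 q.symm, hψ.ha.2.2.symm⟩, hca, hψ.he, S.far, hψ.far,
    S.hc.2, ?_⟩
  set K := Subgroup.centralizer ({a, d, c, e} : Set G)
  have memK : ∀ g, g ∈ K ↔ Commute g a ∧ Commute g d ∧ Commute g c ∧ Commute g e := fun g => by
    simp only [K, Subgroup.mem_centralizer_iff, Set.mem_insert_iff, Set.mem_singleton_iff, forall_eq_or_imp,
      forall_eq]
    exact ⟨fun ⟨h1, h2, h3, h4⟩ => ⟨h1.symm, h2.symm, h3.symm, h4.symm⟩,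
      fun ⟨h1, h2, h3, h4⟩ => ⟨h1.eq.symm, h2.eq.symm, h3.eq.symm, h4.eq.symm⟩⟩
  have hseed : ∀ t ∈ [(u0, v0, w0), (u0, v1, wG)], LN (Line d c ψ) t := by simp [hL1, hL2]
  -- the homomorphism
  have hlet := letters_norm
  rw [Bool.and_eq_true] at hlet
  have hlen : rvL.length = 8 := Nat.eq_of_beq_eq_true hlet.2
  have hrv := dec_norm hlet.1
  set L : List G := (rvL.map dec).map (evm d ψ) with hLdef
  have hLlen : L.length = 8 := by simp only [L, List.length_map, hlen]
  have hev : ∀ w, inRange w = true → ev L w = (((letters w).map dec).map (evm d ψ)).prod := by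
    intro w hw
    simp only [ev, letters, List.map_map]
    refine congrArg List.prod (List.map_congr_left fun l hl => ?_)
    have hl8 : l < 8 := Nat.blt_eq ▸ List.all_eq_true.1 hw l hl
    have hl8' : l < rvL.length := by rw [hlen]; exact hl8
    simp only [fl, Function.comp_apply]
    rw [List.getD_eq_getElem _ _ (by rw [hLlen]; exact hl8), List.getD_eq_getElem _ _ hl8']
    simp [L]
  have hlnorm : ∀ w, inRange w = true → ∀ v ∈ (letters w).map dec, v ⬝ᵥ v = 1 := by
    intro w hw v hv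
    simp only [letters, List.map_map, List.mem_map, Function.comp_apply] at hv
    obtain ⟨l, hl, rfl⟩ := hv
    have hl8' : l < rvL.length := by rw [hlen]; exact Nat.blt_eq ▸ List.all_eq_true.1 hw l hl
    rw [List.getD_eq_getElem _ _ hl8']
    exact hrv _ (List.mem_map_of_mem (List.getElem_mem hl8'))
  have hrels : ∀ w ∈ O73.rels, ev L w = 1 := by
    intro w hw
    have h := List.all_eq_true.1 rels_scal w hw
    simp only [Bool.and_eq_true] at h
    rw [hev w h.1]
    exact hψ.rel _ (hlnorm w h.1) (scal_spec h.2)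
  let ι : O73.P →* G := numHom hLlen hrels
  let f : G23.G3 →* G := ι.comp G23.emb
  -- the root elements
  let g1 : Fin 12 → G23.G3 := fun r => ⟨CfsgLib.Chev.good_G2.full.x r.val 1, CfsgLib.Chev.good_G2.x_mem_group _ _⟩
  have hembr : ∀ r, G23.emb (g1 r) = G23.rootP r.val := fun r => G23.φE_injective (by
    rw [G23.φE_root (r := r) (g := g1 r) (by
      show ((CfsgLib.Chev.good_G2.full.x r.val 1 : GL Cfsg.Lie.chevG2.Idx (ZMod 3)) :
        Matrix Cfsg.Lie.chevG2.Idx Cfsg.Lie.chevG2.Idx (ZMod 3)) = _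
      rw [CfsgLib.Chev.Tab.Full.coe_x', Cfsg.Lie.ChevalleyDatum.x,
        dif_pos (show r.val < Cfsg.Lie.chevG2.nroots from r.isLt)]
      rfl)]
    exact (G23.exists_pre (g1 r)).choose_spec)
  have hroot : ∀ r : Fin 12, inRange (G23.rootW.getD r.val []) = true ∧
      f (g1 r) = (((letters (G23.rootW.getD r.val [])).map dec).map (evm d ψ)).prod := by
    intro r
    have h := List.all_eq_true.1 root_words r.val (List.mem_range.2 r.isLt)
    simp only [Bool.and_eq_true] at h
    refine ⟨h.1.1, ?_⟩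
    show ι (G23.emb (g1 r)) = _
    rw [hembr, G23.rootP]
    exact (numHom_ev hLlen hrels _).trans (hev _ h.1.1)
  have hgenK : ∀ g < 4, (∀ v ∈ ((gens wG).getD g []).map dec, v ⬝ᵥ v = 1) ∧
      ((((gens wG).getD g []).map dec).map (evm d ψ)).prod ∈ K := by
    have hxn := dec_norm xw_norm
    have hline : ∀ t : T3, LN (Line d c ψ) t → (∀ v ∈ [dec t.1, dec t.2.1, dec t.2.2], v ⬝ᵥ v = 1) ∧
        (([dec t.1, dec t.2.1, dec t.2.2]).map (evm d ψ)).prod ∈ K := by
      rintro ⟨p, q, r⟩ ⟨⟨hp, hq, hr, -⟩, hcl⟩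
      have hn : ∀ v ∈ [dec p, dec q, dec r], v ⬝ᵥ v = 1 := by simp [hp, hq, hr]
      obtain ⟨h1, h2, h3⟩ := hψ.prod_comm hT hn
      exact ⟨hn, (memK _).2 ⟨h1, h3, hcl.symm, h2⟩⟩
    intro g hg
    obtain ⟨h1, h2, h3⟩ := hψ.prod_comm hT hxn
    have hX : x13 d ψ ∈ K := (memK _).2 ⟨h1, h3, S.fixed.symm, h2⟩
    interval_cases g
    · exact ⟨hxn, hX⟩
    · refine ⟨fun v hv => hxn v (List.mem_reverse.1 (by rw [← List.map_reverse]; exact hv)), ?_⟩
      show ((xw.reverse.map dec).map (evm d ψ)).prod ∈ K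
      rw [List.map_reverse, hψ.rev_prod hT hd2 hxn]
      exact inv_mem hX
    · exact hline (u0, v0, w0) hL1
    · exact hline (u0, v1, wG) hL2
  have hrootK : ∀ r, f (g1 r) ∈ K := by
    intro r
    have h := List.all_eq_true.1 root_words r.val (List.mem_range.2 r.isLt)
    simp only [Bool.and_eq_true, List.all_eq_true, Nat.blt_eq] at h
    obtain ⟨⟨-, hg⟩, hs⟩ := h
    obtain ⟨hr1, hr2⟩ := hroot r
    have hmem : ∀ l : List Nat, (∀ g ∈ l, g < 4) →
        (∀ v ∈ ((l.map fun g => (gens wG).getD g []).flatten).map dec, v ⬝ᵥ v = 1) ∧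
        ((((l.map fun g => (gens wG).getD g []).flatten).map dec).map (evm d ψ)).prod ∈ K := by
      intro l hl
      induction l with
      | nil => exact ⟨by simp, by simp [one_mem]⟩
      | cons g l ih =>
        obtain ⟨i1, i2⟩ := ih fun k hk => hl k (List.mem_cons_of_mem _ hk)
        obtain ⟨j1, j2⟩ := hgenK g (hl g List.mem_cons_self)
        simp only [List.map_cons, List.flatten_cons, List.map_append, List.prod_append]
        exact ⟨fun v hv => (List.mem_append.1 hv).elim (j1 v) (i1 v), mul_mem j2 i2⟩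
    obtain ⟨m1, m2⟩ := hmem _ hg
    rw [hr2, hψ.eq_of_fold hT hd2 (hlnorm _ hr1) m1 (same_spec m1 hs)]
    exact m2
  clear_value f
  have hfK : ∀ g, f g ∈ K := by
    have hle : G23.G3 ≤ (K.comap f).map G23.G3.subtype := by
      refine (Subgroup.closure_le _).2 fun x hxs => ?_
      obtain ⟨r, t, hx⟩ := hxs
      obtain ⟨n, rfl⟩ : ∃ n : ℕ, (n : ZMod 3) = t := ⟨t.val, ZMod.natCast_zmod_val t⟩
      have hpow : ∀ m : ℕ, CfsgLib.Chev.good_G2.full.x (F := ZMod 3) r.val 1 ^ m =
          CfsgLib.Chev.good_G2.full.x r.val (m : ZMod 3) := by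
        intro m
        induction m with
        | zero => simp [CfsgLib.Chev.good_G2.full.x_zero]
        | succ m ih => rw [pow_succ, ih, CfsgLib.Chev.good_G2.full.x_add, Nat.cast_succ]
      have he : (g1 r) ^ n = ⟨x, Subgroup.subset_closure ⟨r, _, hx⟩⟩ := by
        refine Subtype.ext (Units.ext ?_)
        show ((((g1 r) ^ n : G23.G3) : GL Cfsg.Lie.chevG2.Idx (ZMod 3)) :
          Matrix Cfsg.Lie.chevG2.Idx Cfsg.Lie.chevG2.Idx (ZMod 3)) = _
        rw [SubgroupClass.coe_pow, hpow, hx, CfsgLib.Chev.Tab.Full.coe_x', Cfsg.Lie.ChevalleyDatum.x,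
          dif_pos (show r.val < Cfsg.Lie.chevG2.nroots from r.isLt)]
      exact ⟨(g1 r) ^ n, (K.comap f).pow_mem (Subgroup.mem_comap.2 (hrootK r)) n, congrArg Subtype.val he⟩
    intro g
    obtain ⟨h, hh, e⟩ := hle g.2
    have hg : h = g := Subtype.ext e
    exact hg ▸ Subgroup.mem_comap.1 hh
  have hfinj : Function.Injective f := by
    haveI := (CfsgLib.Chev.good_G2.isSimple CfsgLib.Chev.conn_G2 CfsgLib.Chev.perf_G2
      (fun _ => ⟨(2 : ZMod 3), by decide, by decide⟩)).1
    rcases (f.normal_ker).eq_bot_or_eq_top with h | h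
    · exact (MonoidHom.ker_eq_bot_iff f).mp h
    · exfalso
      obtain ⟨k, hk, hne⟩ := List.any_eq_true.1 root_moves
      have hk7 : k < 7 := List.mem_range.1 hk
      have hu : dec (3 ^ k) ⬝ᵥ dec (3 ^ k) = 1 := by interval_cases k <;> decide +kernel
      obtain ⟨hr1, hr2⟩ := hroot 11
      have hl := hlnorm _ hr1
      have h1 : f (g1 11) = 1 := MonoidHom.mem_ker.mp (h ▸ Subgroup.mem_top (g1 11))
      rw [hr2] at h1
      have hc := hψ.conj_mem hT hd2 hl hu
      rw [h1, one_mul, inv_one, mul_one] at hc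
      have he := hψ.inj _ _ hu (by rw [fold_dot hl, hu]) hc
      rw [show ((letters (G23.rootW.getD (11 : Fin 12).val [])).map dec).foldr rmul (dec (3 ^ k)) =
        dec (foldN (letters (G23.rootW.getD (11 : Fin 12).val [])) (3 ^ k)) from (dec_foldN _ _).symm] at he
      have : eqpm (foldN (letters (G23.rootW.getD (11 : Fin 12).val [])) (3 ^ k)) (3 ^ k) = true :=
        eqpm_iff.2 (he.elim (fun q => Or.inl q.symm) fun q => Or.inr (by rw [q, neg_neg]))
      rw [show G23.rootW.getD 11 [] = G23.rootW.getD (11 : Fin 12).val [] from rfl, this] at hne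
      exact Bool.noConfusion hne
  have hcardG : Nat.card G23.G3 = 4245696 := by
    rw [Cfsg.Agent.S1059.result (F := ZMod 3) (ZMod.card 3)]; norm_num
  -- the upper bound
  set f0 := dec (3 ^ 0) with hf0
  have hbasis : ∀ i : Fin 7, dec (3 ^ i.val) = Pi.single i 1 := by decide +kernel
  have hunit : ∀ i < 7, dec (3 ^ i) ⬝ᵥ dec (3 ^ i) = 1 := fun i hi => by interval_cases i <;> decide +kernel
  have himg : ∀ g ∈ K, ∀ v : V, v ⬝ᵥ v = 1 → ∃ v' : V, v' ⬝ᵥ v' = 1 ∧ g * ψ v * g⁻¹ = ψ v' := by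
    intro g hg v hv
    obtain ⟨h1, h2, -, h4⟩ := (memK g).1 hg
    obtain ⟨m1, m2⟩ := hψ.mem v hv
    have hd' : g * d * g⁻¹ = d := by rw [h2.eq, mul_inv_cancel_right]
    have ha' : g * a * g⁻¹ = a := by rw [h1.eq, mul_inv_cancel_right]
    have he' : g * e * g⁻¹ = e := by rw [h4.eq, mul_inv_cancel_right]
    have h := (Pair.tri_image hT g).subset ⟨ψ v, m1, rfl⟩
    rw [ha', he'] at h
    obtain ⟨v', hv', e'⟩ := hψ.surj _ h (nb_conj hT m2.1 m2.2.1 m2.2.2 hd')
    exact ⟨v', hv', e'.symm⟩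
  have hperp : ∀ g ∈ K, ∀ u v u' v' : V, u ⬝ᵥ u = 1 → v ⬝ᵥ v = 1 → u' ⬝ᵥ u' = 1 → v' ⬝ᵥ v' = 1 → u ⬝ᵥ v = 0 →
      g * ψ u * g⁻¹ = ψ u' → g * ψ v * g⁻¹ = ψ v' → u' ⬝ᵥ v' = 0 := by
    intro g _ u v u' v' hu hv hu' hv' huv eu ev
    obtain ⟨n1, n2⟩ := ne_of_orth hu huv
    have hne : ψ u' ≠ ψ v' := by
      rw [← eu, ← ev]
      exact fun q => (hψ.inj u v hu hv (mul_left_cancel (mul_right_cancel q))).elim n1 n2
    refine (hψ.comm u' v' hu' hv' (fun q => hne (by rw [q])) fun q => hne (by rw [q, hψ.neg_eq hT hd2 hv'])).1 ?_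
    rw [← eu, ← ev]
    exact (commute_conj_iff g _ _).2 ((hψ.comm u v hu hv n1 n2).2 huv)
  have hcode : ∀ fix : List Nat, ∀ v : V, v ⬝ᵥ v = 1 → (∀ k ∈ fix, dec (3 ^ k) ⬝ᵥ v = 0) →
      ψ v ∈ (fun n => ψ (dec n)) '' {n | n ∈ reps fix} := by
    intro fix v hv hfix
    obtain ⟨n, hn, rfl⟩ := exists_code v
    have hin : ∀ m, m < 2187 → m ≤ negN m → dec m ⬝ᵥ dec m = 1 → (∀ k ∈ fix, dec (3 ^ k) ⬝ᵥ dec m = 0) →
        m ∈ reps fix := by
      intro m hm hle h1 h0
      simp only [reps, List.mem_filter, List.mem_range, Bool.and_eq_true, List.all_eq_true, Nat.ble_eq, Nat.beq_eq]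
      exact ⟨hm, ⟨hle, (dotN_eq (by norm_num)).2 h1⟩, fun k hk => (dotN_eq (by norm_num)).2 (h0 k hk)⟩
    rcases le_total n (negN n) with hle | hle
    · exact ⟨n, hin n hn hle hv hfix, rfl⟩
    · have hlt : negN n < 2187 := by unfold negN; exact pack_lt _
      refine ⟨negN n, hin _ hlt (by rw [neg_neg_code n hn]; exact hle) ?_ fun k hk => ?_, ?_⟩
      · rw [dec_negN, neg_dotProduct_neg, hv]
      · rw [dec_negN, dotProduct_neg, hfix k hk, neg_zero]
      · show ψ (dec (negN n)) = ψ (dec n)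
        rw [dec_negN, hψ.neg_eq hT hd2 hv]
  have hncard : ∀ fix : List Nat, ((fun n => ψ (dec n)) '' {n | n ∈ reps fix}).ncard ≤ (reps fix).length := by
    intro fix
    rw [show {n | n ∈ reps fix} = ((reps fix).toFinset : Set Nat) by ext n; simp, ← Finset.coe_image,
      Set.ncard_coe_finset]
    exact Finset.card_image_le.trans (List.toFinset_card_le _)
  have hrigid : ∀ g ∈ K, ∀ u v w : V, Line d c ψ u v w → g * ψ u * g⁻¹ = ψ u → g * ψ v * g⁻¹ = ψ v →
      g * ψ w * g⁻¹ = ψ w := by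
    intro g hg u v w hl eu ev
    obtain ⟨⟨hu, hv, hw, h1, h2, h3⟩, hcl⟩ := id hl
    obtain ⟨w', hw', ew⟩ := himg g hg w hw
    obtain ⟨-, hgd, hgc, -⟩ := (memK g).1 hg
    have hl' : Line d c ψ u v w' := by
      refine ⟨⟨hu, hv, hw', h1, hperp g hg u w u w' hu hw hu hw' h2 eu ew,
        hperp g hg v w v w' hv hw hv hw' h3 ev ew⟩, ?_⟩
      have h := (commute_conj_iff g c _).2 hcl
      rw [hgc.eq, mul_inv_cancel_right] at h
      simp only [List.map_cons, List.map_nil, List.prod_cons, List.prod_nil, mul_one, evm] at h ⊢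
      have hev' : ∀ {x x' : G}, g * x * g⁻¹ = x' → g * (d * x) * g⁻¹ = d * x' := fun {x x'} hx => by
        rw [← mul_assoc g d, hgd.eq, mul_assoc d g x, mul_assoc d, hx]
      have key : g * (d * ψ u * (d * ψ v * (d * ψ w))) * g⁻¹ = d * ψ u * (d * ψ v * (d * ψ w')) :=
        (show g * (d * ψ u * (d * ψ v * (d * ψ w))) * g⁻¹ = g * (d * ψ u) * g⁻¹ *
          (g * (d * ψ v) * g⁻¹ * (g * (d * ψ w) * g⁻¹)) by group).trans (by rw [hev' eu, hev' ev, hev' ew])
      rwa [key] at h
    rcases hL.uniq u v w w' hl hl' with q | q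
    · rw [ew, q]
    · rw [ew, q, hψ.neg_eq hT hd2 hw]
  obtain ⟨hlines, hfano⟩ : (∀ x ∈ fLines, LN (Line d c ψ) (3 ^ x.1.1, 3 ^ x.1.2.1, 3 ^ x.1.2.2)) ∧
      ∀ t ∈ [((0, 1, 2) : T3), (0, 3, 4), (1, 3, 5), (2, 3, 6)],
        LN (Line d c ψ) (3 ^ t.1, 3 ^ t.2.1, 3 ^ t.2.2) := by
    have h1 : ∀ x ∈ fLines, LN (Line d c ψ) (3 ^ x.1.1, 3 ^ x.1.2.1, 3 ^ x.1.2.2) := fun x hx =>
      hL.reach (List.all_eq_true.1 lines_ok x hx) hseed
    refine ⟨h1, fun t ht => ?_⟩
    have h := fLines_ok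
    simp only [Bool.and_eq_true, List.all_eq_true] at h
    obtain ⟨x, hx, hh⟩ := List.any_eq_true.1 (h.2 t ht)
    exact hL.of_hit (h1 x hx) hh
  have hline012 := hfano (0, 1, 2) (by simp)
  set K1 := Subgroup.centralizer ({ψ (dec (3 ^ 0))} : Set G) ⊓ K
  set K2 := Subgroup.centralizer ({ψ (dec (3 ^ 1))} : Set G) ⊓ K1
  set K3 := Subgroup.centralizer ({ψ (dec (3 ^ 3))} : Set G) ⊓ K2
  have hfix : ∀ {g y : G}, g ∈ Subgroup.centralizer ({y} : Set G) → g * y * g⁻¹ = y := fun h => by
    rw [Subgroup.mem_centralizer_singleton_iff.1 h, mul_inv_cancel_right]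
  have hle := reps_le
  simp only [Bool.and_eq_true, Nat.ble_eq] at hle
  have b1 : Nat.card K ≤ 351 * Nat.card K1 := by
    rw [card_orbit_stab K (Subgroup.centralizer ({ψ (dec (3 ^ 0))} : Set G)) (fun g => g * ψ (dec (3 ^ 0)) * g⁻¹) _
      (fun g _ g' _ => conj_fib) rfl]
    refine Nat.mul_le_mul_right _ ((Set.ncard_le_ncard ?_ (Set.toFinite _)).trans ((hncard []).trans hle.1.1))
    rintro _ ⟨g, hg, rfl⟩
    obtain ⟨v', hv', e'⟩ := himg g hg _ (hunit 0 (by norm_num))
    show g * _ * g⁻¹ ∈ _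
    rw [e']
    exact hcode [] v' hv' (by simp)
  have b2 : Nat.card K1 ≤ 126 * Nat.card K2 := by
    rw [card_orbit_stab K1 (Subgroup.centralizer ({ψ (dec (3 ^ 1))} : Set G)) (fun g => g * ψ (dec (3 ^ 1)) * g⁻¹) _
      (fun g _ g' _ => conj_fib) rfl]
    refine Nat.mul_le_mul_right _ ((Set.ncard_le_ncard ?_ (Set.toFinite _)).trans ((hncard [0]).trans hle.1.2))
    rintro _ ⟨g, hg, rfl⟩
    obtain ⟨v', hv', e'⟩ := himg g hg.2 _ (hunit 1 (by norm_num))
    show g * _ * g⁻¹ ∈ _
    rw [e']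
    refine hcode [0] v' hv' fun k hk => ?_
    rw [List.mem_singleton.1 hk]
    exact hperp g hg.2 _ _ _ _ (hunit 0 (by norm_num)) (hunit 1 (by norm_num)) (hunit 0 (by norm_num)) hv'
      (by decide +kernel) (hfix hg.1) e'
  have b3 : Nat.card K2 ≤ 12 * Nat.card K3 := by
    rw [card_orbit_stab K2 (Subgroup.centralizer ({ψ (dec (3 ^ 3))} : Set G)) (fun g => g * ψ (dec (3 ^ 3)) * g⁻¹) _
      (fun g _ g' _ => conj_fib) rfl]
    refine Nat.mul_le_mul_right _ ((Set.ncard_le_ncard ?_ (Set.toFinite _)).trans ((hncard [0, 1, 2]).trans hle.2))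
    rintro _ ⟨g, hg, rfl⟩
    have hgK : g ∈ K := hg.2.2
    obtain ⟨v', hv', e'⟩ := himg g hgK _ (hunit 3 (by norm_num))
    show g * _ * g⁻¹ ∈ _
    rw [e']
    refine hcode [0, 1, 2] v' hv' fun k hk => ?_
    simp only [List.mem_cons, List.not_mem_nil, or_false] at hk
    have e2 := hrigid g hgK _ _ _ hline012 (hfix hg.2.1) (hfix hg.1)
    rcases hk with rfl | rfl | rfl
    · exact hperp g hgK _ _ _ _ (hunit 0 (by norm_num)) (hunit 3 (by norm_num)) (hunit 0 (by norm_num)) hv'
        (by decide +kernel) (hfix hg.2.1) e'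
    · exact hperp g hgK _ _ _ _ (hunit 1 (by norm_num)) (hunit 3 (by norm_num)) (hunit 1 (by norm_num)) hv'
        (by decide +kernel) (hfix hg.1) e'
    · exact hperp g hgK _ _ _ _ (hunit 2 (by norm_num)) (hunit 3 (by norm_num)) (hunit 2 (by norm_num)) hv'
        (by decide +kernel) e2 e'
  have b4 : Nat.card K3 ≤ 8 := by
    have hsub : (K3 : Set G) ⊆ ↑((codeWords.map fun w => ((w.map dec).map (evm d ψ)).prod).toFinset) := by
      rintro g ⟨g3, g1', g0, hgK⟩
      obtain ⟨hga, hgd, hgc, hge⟩ := (memK g).1 hgK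
      have e0 := hfix g0
      have e1 := hfix g1'
      have e3 := hfix g3
      have e2 := hrigid g hgK _ _ _ hline012 e0 e1
      have e4 := hrigid g hgK _ _ _ (hfano (0, 3, 4) (by simp)) e0 e3
      have e5 := hrigid g hgK _ _ _ (hfano (1, 3, 5) (by simp)) e1 e3
      have e6 := hrigid g hgK _ _ _ (hfano (2, 3, 6) (by simp)) e2 e3
      have hall : ∀ i < 7, g * ψ (dec (3 ^ i)) * g⁻¹ = ψ (dec (3 ^ i)) := fun i hi => by
        interval_cases i <;> assumption
      obtain ⟨l, hl, hgl⟩ := hψ.gen g hga hge hgd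
      set p := (l.map (evm d ψ)).prod
      have hpfix : ∀ i : Fin 7, l.foldr rmul (Pi.single i 1) = Pi.single i 1 ∨
          l.foldr rmul (Pi.single i 1) = -Pi.single i 1 := by
        intro i
        have hu : (Pi.single i 1 : V) ⬝ᵥ Pi.single i 1 = 1 := by simp
        have h := hall i.val i.isLt
        rw [hbasis] at h
        have hz : g * ψ (Pi.single i 1) * g⁻¹ = p * ψ (Pi.single i 1) * p⁻¹ := by
          rcases hgl with rfl | rfl
          · rfl
          · have hpu : Commute d (p * ψ (Pi.single i 1) * p⁻¹) := by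
              rw [hψ.conj_mem hT hd2 hl hu]
              exact hψ.bD hT _ (by rw [fold_dot hl, hu])
            calc d * p * ψ (Pi.single i 1) * (d * p)⁻¹ = d * (p * ψ (Pi.single i 1) * p⁻¹) * d⁻¹ := by group
              _ = _ := by rw [hpu.eq, mul_inv_cancel_right]
        rw [hz, hψ.conj_mem hT hd2 hl hu] at h
        exact hψ.inj _ _ (by rw [fold_dot hl, hu]) hu h
      -- the sublist of the seven with the same effect
      have hbits : ∀ σ : Fin 7 → Bool, ∃ s : Fin 128, ∀ i : Fin 7, Nat.beq (s.val / 2 ^ i.val % 2) 1 = σ i := by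
        decide +kernel
      obtain ⟨s, hs⟩ := hbits fun i => decide (l.foldr rmul (Pi.single i 1) = -Pi.single i 1)
      set S' : List Nat := ((List.range 7).filter fun i => Nat.beq (s.val / 2 ^ i % 2) 1).map fun i => 3 ^ i
      have hS'n : ∀ v ∈ S'.map dec, v ⬝ᵥ v = 1 := by
        intro v hv
        simp only [S', List.map_map, List.mem_map, List.mem_filter, List.mem_range] at hv
        obtain ⟨i, ⟨hi, -⟩, rfl⟩ := hv
        exact hunit i hi
      have hsub : ∀ s : Fin 128, ∀ j : Fin 7,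
          eqN (foldN (((List.range 7).filter fun i => Nat.beq (s.val / 2 ^ i % 2) 1).map fun i => 3 ^ i) (3 ^ j.val))
            (cond (Nat.beq (s.val / 2 ^ j.val % 2) 1) (negN (3 ^ j.val)) (3 ^ j.val)) = true := by
        decide +kernel
      have hfold : ∀ i : Fin 7, l.foldr rmul (Pi.single i 1) = (S'.map dec).foldr rmul (Pi.single i 1) := by
        intro i
        have h := eqN_iff.1 (hsub s i)
        rw [dec_foldN, hs i, hbasis] at h
        refine Eq.trans ?_ h.symm
        by_cases hc' : l.foldr rmul (Pi.single i 1) = -Pi.single i 1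
        · rw [decide_eq_true hc', cond_true, dec_negN, hbasis, hc']
        · rw [decide_eq_false hc', cond_false, hbasis]
          exact (hpfix i).resolve_right hc'
      have hext : ∀ x, l.foldr rmul x = (S'.map dec).foldr rmul x := by
        let L1 : V →ₗ[ZMod 3] V := { toFun := l.foldr rmul, map_add' := fold_add l, map_smul' := fold_smul l }
        let L2 : V →ₗ[ZMod 3] V :=
          { toFun := (S'.map dec).foldr rmul, map_add' := fold_add _, map_smul' := fold_smul _ }
        have e : L1 = L2 := (Pi.basisFun (ZMod 3) (Fin 7)).ext fun k => by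
          rw [Pi.basisFun_apply]; exact hfold k
        exact fun x => congrFun (congrArg DFunLike.coe e) x
      have hpS : p = ((S'.map dec).map (evm d ψ)).prod :=
        hψ.eq_of_fold hT hd2 hl hS'n ⟨1, Or.inl rfl, fun x => by rw [one_smul, hext]⟩
      have hcw := List.all_eq_true.1 code_ok s.val (List.mem_range.2 s.isLt)
      simp only [List.any_eq_true] at hcw
      obtain ⟨w, hw, x, hx, hsame⟩ := hcw
      have hwK : (∀ v ∈ w.map dec, v ⬝ᵥ v = 1) ∧ Commute c ((w.map dec).map (evm d ψ)).prod := by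
        simp only [codeWords, List.mem_cons, List.mem_map, List.mem_range] at hw
        rcases hw with rfl | ⟨i, hi, rfl⟩
        · exact ⟨by simp, Commute.one_right _⟩
        · have hi' : i < fLines.length := by
            have h := fLines_ok
            simp only [Bool.and_eq_true, Nat.beq_eq] at h
            omega
          obtain ⟨⟨hp, hq, hr, -⟩, hcl⟩ := hlines _ (List.getElem_mem hi')
          simp only [lineVecs, List.getD_eq_getElem _ _ hi']
          exact ⟨by simp [hp, hq, hr], hcl⟩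
      have hxn : ∀ v ∈ x.map dec, v ⬝ᵥ v = 1 := by
        simp only [List.mem_cons, List.mem_map, List.mem_range] at hx
        rcases hx with rfl | ⟨i, hi, rfl⟩
        · simp
        · simpa using hunit i hi
      have hwx : ∀ v ∈ (w ++ x).map dec, v ⬝ᵥ v = 1 := fun v hv => by
        rw [List.map_append] at hv
        exact (List.mem_append.1 hv).elim (hwK.1 v) (hxn v)
      rw [hψ.eq_of_fold hT hd2 hS'n hwx (same_spec hwx hsame), List.map_append, List.map_append,
        List.prod_append] at hpS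
      set Pw := ((w.map dec).map (evm d ψ)).prod with hPw
      set Px := ((x.map dec).map (evm d ψ)).prod with hPx
      have hcw' := hwK.2
      have hwd : Commute Pw d := (hψ.prod_comm hT hwK.1).2.2
      have hcases : Commute c Px ∨ Commute c (d * Px) := by
        rcases hgl with q | q
        · left
          have := hcw'.inv_right.mul_right hgc.symm
          rwa [q, hpS, inv_mul_cancel_left] at this
        · right
          have := hcw'.inv_right.mul_right hgc.symm
          rwa [q, hpS, ← mul_assoc d, ← hwd.eq, mul_assoc Pw, inv_mul_cancel_left] at this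
      have hx0 : x = [] := by
        by_contra hne
        simp only [List.mem_cons, List.mem_map, List.mem_range] at hx
        obtain ⟨i, hi, rfl⟩ := hx.resolve_left hne
        have hu := hunit i hi
        obtain ⟨m1, m2⟩ := hψ.mem _ hu
        simp only [hPx, List.map_cons, List.map_nil, List.prod_singleton] at hcases
        rcases hcases with q | q
        · exact S.far ((commute_mul_iff0 hT P.mem m2.1 S.hc.1.1 m2.2.2 fun q' => m2.2.1 q'.symm).1 q.symm).1
        · rw [cancel2 hT P.mem] at q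
          exact hA _ hu q
      subst hx0
      have hPx1 : Px = 1 := by simp [hPx]
      rcases hgl with q | q
      · rw [Finset.mem_coe, List.mem_toFinset, List.mem_map]
        exact ⟨w, hw, by rw [q, hpS, hPx1, mul_one]⟩
      · exfalso
        rcases hcases with q' | q'
        · have := hcw'.inv_right.mul_right hgc.symm
          rw [q, hpS, hPx1, mul_one, ← hwd.eq, inv_mul_cancel_left] at this
          exact S.far this.symm
        · rw [hPx1, mul_one] at q'
          exact S.far q'.symm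
    have := Set.ncard_le_ncard hsub (Set.toFinite _)
    rw [Set.ncard_coe_finset, ← Nat.card_coe_set_eq] at this
    refine this.trans ((List.toFinset_card_le _).trans ?_)
    simp [codeWords]
  have hrange : f.range = K := by
    refine Subgroup.eq_of_le_of_card_ge (by rintro _ ⟨g, rfl⟩; exact hfK g) ?_
    rw [Nat.card_congr (MonoidHom.ofInjective hfinj).toEquiv.symm, hcardG]
    calc Nat.card K ≤ 351 * Nat.card K1 := b1
      _ ≤ 351 * (126 * (12 * Nat.card K3)) := Nat.mul_le_mul_left _ (b2.trans (Nat.mul_le_mul_left _ b3))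
      _ ≤ 351 * (126 * (12 * 8)) := Nat.mul_le_mul_left _ (Nat.mul_le_mul_left _ (Nat.mul_le_mul_left _ b4))
      _ = 4245696 := by norm_num
  exact ⟨((MonoidHom.ofInjective hfinj).trans (MulEquiv.subgroupCongr hrange)).symm⟩

end CfsgLib.ThreeT.Prod
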