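import Cfsg.Agent.Spor3T.Primitive
import Cfsg.Agent.Spor3T.TripleProducts

/-!
Members not commuting with `a`: their commuting graph is connected, and `⟨a⟩` with the neighbours of `a` is
transitive on them.
-/

set_option autoImplicit false
set_option linter.unusedSectionVars false
set_option linter.style.haveILetI false

namespace CfsgLib.ThreeT

variable {G : Type*} [Group G] [Finite G] {D : Set G} (hD : Cfsg.IsThreeTranspositionClass D)
  (hsol : ∀ N : Subgroup G, N.Normal → Group.IsSolvable N → N = ⊥)
  (hC : ∀ p q : D, Relation.ReflTransGen (fun p q : D => Commute (p : G) q) p q)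

include hD hsol hC

/-- A property of members not commuting with `a` that spreads along commuting pairs holds for all of them. -/
theorem far_induction {a : G} (ha : a ∈ D) {P : G → Prop} {c : G} (hc : c ∈ D) (hac : ¬ Commute a c)
    (hP : P c)
    (hstep : ∀ u ∈ D, ∀ v ∈ D, ¬ Commute a u → ¬ Commute a v → Commute u v → P u → P v)
    {c' : G} (hc' : c' ∈ D) (hac' : ¬ Commute a c') : P c' := by
  classical
  haveI : Finite D := Subtype.finite
  have hprime := modules_trivial_of_connected hD hsol hC
  let cg : G → D → D := fun g d => ⟨_, conj_mem hD d.2 g⟩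
  let R : D → D → Prop := fun p q => ¬ Commute (p : G) q
  have hconn := neighbourhood_connected R (fun p q h h' => h h'.symm) (fun p h => h (Commute.refl _))
    (fun M hM hnt => hprime M (fun w hw x hx y hy => not_iff_not.mp (hM w hw x hx y hy)) hnt)
    (fun x y hx => by
      obtain ⟨k, hk⟩ := exists_conj hD x.2 y.2
      obtain rfl : cg k x = y := Subtype.ext hk
      intro p q hp hq
      have hR : ∀ u v : D, R (cg k u) (cg k v) ↔ R u v := fun u v => not_congr (commute_conj_iff k _ _)
      have hsurj : ∀ u, cg k (cg k⁻¹ u) = u := fun u => Subtype.ext (by simp [cg, mul_assoc])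
      rw [← hsurj p] at hp ⊢
      rw [← hsurj q] at hq ⊢
      exact Relation.ReflTransGen.lift (cg k)
        (fun s t hst => ⟨(hR x s).2 hst.1, (hR x t).2 hst.2.1, fun e => hst.2.2 ((hR s t).1 e)⟩) _ _
        (hx _ _ ((hR _ _).1 hp) ((hR _ _).1 hq)))
    ⟨a, ha⟩ ⟨c, hc⟩ ⟨c', hc'⟩ hac hac'
  have key : ∀ q, Reach (fun p q => ¬ R p q) {v | R ⟨a, ha⟩ v} ⟨c, hc⟩ q → P q := by
    intro q hq
    induction hq with
    | refl => exact hP
    | @tail u v _ huv ih => exact hstep u u.2 v v.2 huv.1 huv.2.1 (not_not.1 huv.2.2) ih
  exact key _ hconn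

/-- The members commuting with `a` generate a group transitive on the others. -/
theorem far_transitive {a c c' : G} (ha : a ∈ D) (hc : c ∈ D) (hc' : c' ∈ D) (hac : ¬ Commute a c)
    (hac' : ¬ Commute a c') :
    ∃ g ∈ Subgroup.closure {y : G | y ∈ D ∧ Commute a y}, g * c * g⁻¹ = c' := by
  refine far_induction hD hsol hC ha (P := fun v => ∃ g ∈ Subgroup.closure {y : G | y ∈ D ∧ Commute a y},
    g * c * g⁻¹ = v) hc hac ⟨1, one_mem _, by simp⟩ (fun u hu v hv hau hav huv hPu => ?_) hc' hac'
  obtain ⟨g, hg, hgu⟩ := hPu
  obtain ⟨k, hka, hku⟩ := conj_in_far hD.1 ha hu hv hau hav huv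
  -- the element used there is a product of two members commuting with `a`
  have A := sq hD.1 ha; have B := sq hD.1 hu; have C := sq hD.1 hv
  set s := v * (a * u * a) * v with hs
  have hsD : s ∈ D := by
    have h1 : a * u * a ∈ D := by
      have := conj_mem hD hu a
      rwa [inv hD.1 ha] at this
    have := conj_mem hD h1 v
    rwa [inv hD.1 hv] at this
  have hsc : Commute a s := by
    have au : a * u * a = u * a * u := braid hD.1 ha hu hau
    have av : a * v * a = v * a * v := braid hD.1 ha hv hav
    have vuv : v * u * v = u := by rw [huv.symm.eq, mul_assoc, C, mul_one]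
    show a * s = s * a
    calc a * s = (a * v * a) * u * (a * v) := by rw [hs]; group
      _ = v * a * (v * u) * (a * v) := by rw [av]; group
      _ = v * a * (u * v) * (a * v) := by rw [huv.symm.eq]
      _ = v * a * u * (v * a * v) := by group
      _ = v * a * u * (a * v * a) := by rw [av]
      _ = s * a := by rw [hs]; group
  refine ⟨s * a * g, mul_mem (mul_mem (Subgroup.subset_closure ⟨hsD, hsc⟩)
    (Subgroup.subset_closure ⟨ha, Commute.refl a⟩)) hg, ?_⟩
  rw [show s * a * g * c * (s * a * g)⁻¹ = s * a * (g * c * g⁻¹) * (s * a)⁻¹ by group, hgu, mul_inv_rev,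
    inv hD.1 ha, inv hD.1 hsD]
  have au : a * u * a = u * a * u := braid hD.1 ha hu hau
  have av : a * v * a = v * a * v := braid hD.1 ha hv hav
  have huvu : u * v * u = v := by rw [huv.eq, mul_assoc, B, mul_one]
  calc s * a * u * (a * s) = v * (a * u * a) * v * (a * u * a) * v * (a * u * a) * v := by rw [hs]; group
    _ = v * (u * a * u) * v * (u * a * u) * v * (u * a * u) * v := by rw [au]
    _ = v * u * a * (u * v * u) * a * (u * v * u) * a * (u * v) := by group
    _ = v * u * (a * v * a) * v * a * (u * v) := by rw [huvu]; group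
    _ = v * u * v * a * (v * v) * a * (u * v) := by rw [av]; group
    _ = v * u * v * (a * a) * u * v := by rw [C, mul_one]; group
    _ = v := by
      rw [A, mul_one, show v * u * v * u * v = v * (u * v * u) * v by group, huvu, C, one_mul]

end CfsgLib.ThreeT
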