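import Cfsg.Agent.Spor3T.TripleProducts
import Cfsg.Agent.Comp.Fitting
import Cfsg.Agent.Unitary.Simple
import Cfsg.Agent.Unitary.Special

/-!
Twin-freeness and indecomposability down the chain of types M(22), M(23); no products of five
commuting members equal to one.
-/

set_option autoImplicit false
set_option linter.unusedSectionVars false
set_option linter.style.haveILetI false

namespace CfsgLib.ThreeT.Prod

variable {G : Type*} [Group G]

/-- The members other than `d` commuting with `d`. -/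
abbrev nb (D : Set G) (d : G) : Set G := {y : G | y ∈ D ∧ y ≠ d ∧ Commute d y}

/-- The subgroup they generate. -/
abbrev hsub (D : Set G) (d : G) : Subgroup G := Subgroup.closure (nb D d)

/-- Their images modulo the centre. -/
abbrev img (D : Set G) (d : G) : Set (↥(hsub D d) ⧸ Subgroup.center ↥(hsub D d)) :=
  (QuotientGroup.mk : ↥(hsub D d) → _) '' {x : ↥(hsub D d) | (x : G) ∈ nb D d}

/-- Non-identity members are conjugate. -/
def ConjD (D : Set G) : Prop :=
  ∀ a ∈ D, ∀ b ∈ D, a ≠ 1 → b ≠ 1 → ∃ g : G, g * a * g⁻¹ = b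

/-- No decomposition into two commuting non-central parts. -/
def Indec (D : Set G) : Prop := ∀ P₁ P₂ : Set G, P₁ ∪ P₂ = D →
  (∀ a ∈ P₁, ∀ b ∈ P₂, Commute a b) →
    P₁ ⊆ (Subgroup.center G : Set G) ∨ P₂ ⊆ (Subgroup.center G : Set G)

theorem commute_of_closure {S : Set G} {x : G} (h : ∀ y ∈ S, Commute y x) :
    ∀ y ∈ Subgroup.closure S, Commute y x := fun y hy => by
  induction hy using Subgroup.closure_induction with
  | mem v hv => exact h v hv
  | one => exact Commute.one_left x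
  | mul v w _ _ hv hw => exact hv.mul_left hw
  | inv v _ hv => exact hv.inv_left

variable {D : Set G} {d : G}

theorem commute_hsub {h : G} (hh : h ∈ hsub D d) : Commute h d :=
  commute_of_closure (fun _ hy => hy.2.2.symm) h hh

theorem mem_center_hsub {x : ↥(hsub D d)} (h : ∀ y ∈ nb D d, Commute y (x : G)) :
    x ∈ Subgroup.center ↥(hsub D d) :=
  Subgroup.mem_center_iff.2 fun z => Subtype.ext (commute_of_closure h z z.2).eq

theorem commute_of_mem_center {x : ↥(hsub D d)} (h : x ∈ Subgroup.center ↥(hsub D d))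
    {y : G} (hy : y ∈ nb D d) : Commute y (x : G) :=
  congrArg Subtype.val (Subgroup.mem_center_iff.1 h ⟨y, Subgroup.subset_closure hy⟩)

theorem img_gen : Subgroup.closure (img D d) = ⊤ := by
  have h := (MonoidHom.map_closure (QuotientGroup.mk' (Subgroup.center ↥(hsub D d)))
    {x : ↥(hsub D d) | (x : G) ∈ nb D d}).symm
  refine h.trans ?_
  rw [show Subgroup.closure {x : ↥(hsub D d) | (x : G) ∈ nb D d} = ⊤ from
    Subgroup.closure_closure_coe_preimage, Subgroup.map_top_of_surjective _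
      (QuotientGroup.mk'_surjective _)]

theorem img_tt0 (hD : TT0 D) : TT0 (img D d) := by
  refine ⟨?_, ?_, ?_⟩
  · rintro _ ⟨x, hx, rfl⟩
    have e : x * x = 1 := Subtype.ext (hD.sq _ hx.1)
    rw [← QuotientGroup.mk_mul, e, QuotientGroup.mk_one]
  · rintro _ ⟨x, hx, rfl⟩ _ ⟨y, hy, rfl⟩
    rw [← QuotientGroup.mk_mul, ← QuotientGroup.mk_pow, ← QuotientGroup.mk_pow]
    rcases hD.pair _ hx.1 _ hy.1 with h | h
    · left; rw [show (x * y) ^ 2 = 1 from Subtype.ext (by simpa using h), QuotientGroup.mk_one]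
    · right; rw [show (x * y) ^ 3 = 1 from Subtype.ext (by simpa using h), QuotientGroup.mk_one]
  · rintro g _ ⟨x, hx, rfl⟩
    obtain ⟨k, rfl⟩ := QuotientGroup.mk_surjective g
    have hkd : Commute (k : G) d := commute_hsub k.2
    refine ⟨k * x * k⁻¹, ⟨hD.conj _ _ hx.1, ?_, ?_⟩, rfl⟩
    · intro e
      refine hx.2.1 ?_
      calc (x : G) = (k : G)⁻¹ * ((k * x * k⁻¹ : ↥(hsub D d)) : G) * k := by
            simp only [Subgroup.coe_mul, Subgroup.coe_inv]; group
        _ = (k : G)⁻¹ * d * k := by rw [e]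
        _ = d := by rw [hkd.inv_left.eq, mul_assoc, inv_mul_cancel, mul_one]
    · simpa using (hkd.symm.mul_right hx.2.2).mul_right hkd.symm.inv_right

theorem map_commute_iff (hD : TT0 D) {x y : ↥(hsub D d)} (hx : (x : G) ∈ nb D d)
    (hy : (y : G) ∈ nb D d) :
    Commute (x : ↥(hsub D d) ⧸ Subgroup.center ↥(hsub D d)) (y : _) ↔ Commute (x : G) (y : G) := by
  constructor
  · intro h
    by_contra hne
    have h3 := cube_of_not_commute hD.tts ⟨hx.1, ne_one_left hne⟩ ⟨hy.1, ne_one_right hne⟩ hne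
    have hm : ((x * y) ^ 2 : ↥(hsub D d)) ∈ Subgroup.center ↥(hsub D d) := by
      refine (QuotientGroup.eq_one_iff _).1 ?_
      rw [QuotientGroup.mk_pow, QuotientGroup.mk_mul, h.mul_pow, ← QuotientGroup.mk_pow,
        ← QuotientGroup.mk_pow, show x ^ 2 = 1 from Subtype.ext (by simpa [pow_two] using hD.sq _ hx.1),
        show y ^ 2 = 1 from Subtype.ext (by simpa [pow_two] using hD.sq _ hy.1), QuotientGroup.mk_one,
        one_mul]
    have hc := commute_of_mem_center hm hx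
    simp only [Subgroup.coe_pow, Subgroup.coe_mul] at hc
    have e : (x : G) * y = ((x : G) * y) ^ 2 * ((x : G) * y) ^ 2 := by
      rw [← pow_add, show 2 + 2 = 3 + 1 from rfl, pow_succ, h3, one_mul]
    have hc2 : Commute (x : G) ((x : G) * y) := by rw [e]; exact hc.mul_right hc
    have h2 := ((Commute.refl (x : G)).inv_right.mul_right hc2)
    rw [inv_mul_cancel_left] at h2
    exact hne h2
  · intro h
    exact (show Commute x y from Subtype.ext h.eq).map (QuotientGroup.mk' _)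

theorem central_of_mk_eq_one {x : ↥(hsub D d)}
    (h : (x : ↥(hsub D d) ⧸ Subgroup.center ↥(hsub D d)) = 1) {y : G} (hy : y ∈ nb D d) :
    Commute y (x : G) :=
  commute_of_mem_center ((QuotientGroup.eq_one_iff _).1 h) hy

theorem central_of_mk_eq (hD : TT0 D) {x y : ↥(hsub D d)} (hx : (x : G) ∈ nb D d)
    (hy : (y : G) ∈ nb D d) (hne : (x : G) ≠ y)
    (h : (x : ↥(hsub D d) ⧸ Subgroup.center ↥(hsub D d)) = (y : _)) {z : G} (hz : z ∈ nb D d) :
    Commute z (x : G) := by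
  have hxy : Commute (x : G) (y : G) := (map_commute_iff hD hx hy).1 (by rw [h])
  have h1 : ((x * y : ↥(hsub D d)) : ↥(hsub D d) ⧸ Subgroup.center ↥(hsub D d)) = 1 := by
    rw [QuotientGroup.mk_mul, h, ← QuotientGroup.mk_mul,
      show y * y = 1 from Subtype.ext (hD.sq _ hy.1), QuotientGroup.mk_one]
  have hc := central_of_mk_eq_one h1 hz
  exact ((commute_mul_iff0 hD hx.1 hy.1 hz.1 hxy hne).1 hc.symm).1.symm

theorem twin_of_subset [Finite G] (hD : TT0 D) (hc : ConjD D) {b c : G} (hb : b ∈ D) (hcD : c ∈ D)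
    (hb1 : b ≠ 1) (hc1 : c ≠ 1) (hbc : Commute b c) (h : ∀ y ∈ nb D b, Commute y c) :
    Twin D b c := by
  obtain ⟨g, hg⟩ := hc b hb c hcD hb1 hc1
  set Cb := {x | x ∈ D ∧ Commute x b}
  set Cc := {x | x ∈ D ∧ Commute x c}
  have hsub' : Cb ⊆ Cc := fun x hx => ⟨hx.1, by
    by_cases e : x = b
    · rw [e]; exact hbc
    · exact h x ⟨hx.1, e, hx.2.symm⟩⟩
  have himg : (fun x => g * x * g⁻¹) '' Cb = Cc := by
    ext x
    constructor
    · rintro ⟨z, hz, rfl⟩
      exact ⟨hD.conj g z hz.1, by rw [← hg]; exact (commute_conj_iff g z b).2 hz.2⟩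
    · intro hx
      refine ⟨g⁻¹ * x * g, ⟨by simpa using hD.conj g⁻¹ x hx.1, ?_⟩, by
        show g * (g⁻¹ * x * g) * g⁻¹ = x; group⟩
      rw [← commute_conj_iff g, hg, show g * (g⁻¹ * x * g) * g⁻¹ = x by group]
      exact hx.2
  have hcard : Cc.ncard ≤ Cb.ncard := by rw [← himg]; exact Set.ncard_image_le (Set.toFinite _)
  have := Set.eq_of_subset_of_ncard_le hsub' hcard (Set.toFinite _)
  exact fun x hx => ⟨fun hxb => (hsub' ⟨hx, hxb⟩).2, fun hxc =>
    ((Set.ext_iff.1 this x).2 ⟨hx, hxc⟩).2⟩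

theorem not_central [Finite G] (hD : TT0 D) (hc : ConjD D) (htf : TwinFree D) (hd : d ∈ D)
    (hd1 : d ≠ 1) {x : G} (hx : x ∈ nb D d) (hx1 : x ≠ 1) : ¬ ∀ z ∈ nb D d, Commute z x := fun h =>
  hx.2.1 (htf d hd x hx.1 hd1 hx1 (twin_of_subset hD hc hd hx.1 hd1 hx1 hx.2.2 h)).symm

theorem indec_of_simple [IsSimpleGroup G] (hgen : Subgroup.closure D = ⊤) : Indec D := by
  intro P₁ P₂ hu hcm
  set N := Subgroup.closure P₁
  have hN : N.Normal := by
    rw [← Subgroup.normalizer_eq_top_iff, ← top_le_iff, ← hgen, Subgroup.closure_le]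
    intro v hv
    rcases (hu.symm ▸ hv : v ∈ P₁ ∪ P₂) with h | h
    · exact Subgroup.le_normalizer (Subgroup.subset_closure h)
    · rw [SetLike.mem_coe, Subgroup.mem_normalizer_iff]
      have hc := commute_of_closure (fun y hy => hcm y hy v h)
      intro z
      constructor
      · intro hz
        rw [← (hc z hz).eq, mul_inv_cancel_right]; exact hz
      · intro hz
        have e : v * z * v⁻¹ * v = v * (v * z * v⁻¹) := (hc _ hz).eq
        rw [inv_mul_cancel_right] at e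
        rwa [mul_left_cancel e]
  rcases hN.eq_bot_or_eq_top with h | h
  · left
    intro a ha
    have : a ∈ N := Subgroup.subset_closure ha
    rw [h, Subgroup.mem_bot] at this
    rw [this]; exact one_mem _
  · right
    intro b hb
    exact Subgroup.mem_center_iff.2 fun a =>
      (commute_of_closure (fun y hy => hcm y hy b hb) a (h ▸ Subgroup.mem_top a : a ∈ N)).eq


theorem pCore_eq_bot [Finite G] [IsSimpleGroup G] (hna : ¬ ∀ a b : G, Commute a b) :
    Cfsg.pCore 2 G = ⊥ := by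
  haveI : Fact (Nat.Prime 2) := ⟨Nat.prime_two⟩
  have hn : (Cfsg.pCore 2 G).Normal := Subgroup.sSup_normal _ (fun _ h => h.1)
  refine hn.eq_bot_or_eq_top.resolve_right fun h => hna ?_
  have hp : IsPGroup 2 G := by
    have := Comp.pCore_isPGroup' (G := G) 2
    rw [h] at this
    exact this.of_equiv Subgroup.topEquiv
  haveI := IsSimpleGroup.toNontrivial (G := G)
  haveI := hp.center_nontrivial
  have hz : Subgroup.center G = ⊤ :=
    ((inferInstance : (Subgroup.center G).Normal).eq_bot_or_eq_top).resolve_left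
      ((Subgroup.nontrivial_iff_ne_bot _).1 inferInstance)
  exact fun a b => Subgroup.mem_center_iff.1 (hz ▸ Subgroup.mem_top b) a

theorem twinFree_of_simple [Finite G] [IsSimpleGroup G] (hna : ¬ ∀ a b : G, Commute a b)
    (hD : TT0 D) : TwinFree D := fun a ha b hb _ _ ht => by
  have h := twin_mem_pCore hD ha hb ht
  rw [pCore_eq_bot hna, Subgroup.mem_bot, mul_eq_one_iff_eq_inv, hD.inv hb] at h
  exact h

theorem conjD_of_indec (hD : TT0 D) (hgen : Subgroup.closure D = ⊤) (hZ : Subgroup.center G = ⊥)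
    (hI : Indec D) : ConjD D := by
  intro a ha b hb ha1 hb1
  by_contra hne
  have hne1 : ¬ ∃ g : G, g * a * g⁻¹ = b := hne
  refine (hI {x | x ∈ D ∧ ∃ g : G, g * a * g⁻¹ = x} {x | x ∈ D ∧ ¬ ∃ g : G, g * a * g⁻¹ = x}
    (by ext x; simp only [Set.mem_union, Set.mem_ofPred_eq]; tauto) ?_).elim (fun h => ?_)
    (fun h => ?_)
  rotate_left
  · have := h ⟨ha, 1, by simp⟩
    rw [hZ] at this
    exact ha1 this
  · have := h ⟨hb, hne1⟩
    rw [hZ] at this
    exact hb1 this
  · rintro x ⟨hx, g, rfl⟩ y ⟨hy, hyn⟩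
    by_contra hxy
    refine hyn ⟨g * a * g⁻¹ * y * g, ?_⟩
    have e := braid0 hD hx hy hxy
    set x := g * a * g⁻¹
    have hx2 : x * y * g * a * (x * y * g)⁻¹ = x * y * x * y * x := by
      rw [mul_inv_rev, mul_inv_rev, hD.inv hx, hD.inv hy]
      simp only [x]; group
    rw [hx2, e, mul_assoc (y * x) y y, hD.sq y hy, mul_one, mul_assoc, hD.sq x hx, mul_one]

/-- Indecomposability passes up one level. -/
theorem indec_step [Finite G] (hgen : Subgroup.closure D = ⊤)
    {c : G} (hd : d ∈ D) (hc : c ∈ D) (hdc : ¬ Commute d c)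
    (hQZ : Subgroup.center (↥(hsub D d) ⧸ Subgroup.center ↥(hsub D d)) = ⊥)
    (hQI : Indec (img D d))
    (hcard : ¬ Nat.card (↥(hsub D d) ⧸ Subgroup.center ↥(hsub D d)) ∣
      Nat.card (↥(Subgroup.closure (nb D d ∩ nb D c)) ⧸
        Subgroup.center ↥(Subgroup.closure (nb D d ∩ nb D c)))) : Indec D := by
  classical
  have aux : ∀ P₁ P₂ : Set G, P₁ ∪ P₂ = D → (∀ a ∈ P₁, ∀ b ∈ P₂, Commute a b) → d ∈ P₁ →
      P₂ ⊆ (Subgroup.center G : Set G) := by
    intro P₁ P₂ hu hcm hd1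
    have hc1 : c ∈ P₁ := (hu.symm ▸ hc : c ∈ P₁ ∪ P₂).resolve_right fun h => hdc (hcm d hd1 c h)
    have h2 : ∀ y ∈ P₂, y ∈ nb D d ∩ nb D c := fun y hy =>
      have hyD : y ∈ D := hu ▸ Or.inr hy
      ⟨⟨hyD, fun e => hdc (e ▸ (hcm c hc1 y hy).symm), hcm d hd1 y hy⟩,
        hyD, fun e => hdc (e ▸ hcm d hd1 y hy), hcm c hc1 y hy⟩
    let π := QuotientGroup.mk' (Subgroup.center ↥(hsub D d))
    have hsplit : π '' {x | (x : G) ∈ nb D d ∧ (x : G) ∈ P₁} ∪ π '' {x | (x : G) ∈ P₂} = img D d := by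
      rw [← Set.image_union]
      refine congrArg (Set.image π) (Set.ext fun x => ⟨?_, fun hx => ?_⟩)
      · rintro (h | h)
        · exact h.1
        · exact (h2 _ h).1
      · rcases (hu.symm ▸ hx.1 : (x : G) ∈ P₁ ∪ P₂) with h | h
        · exact Or.inl ⟨hx, h⟩
        · exact Or.inr h
    rcases hQI _ _ hsplit (by
      rintro _ ⟨x, hx, rfl⟩ _ ⟨y, hy, rfl⟩
      exact (show Commute x y from Subtype.ext (hcm _ hx.2 _ hy).eq).map π) with hA | hA
    · exfalso
      refine hcard ?_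
      set L := Subgroup.closure (nb D d ∩ nb D c)
      have hLH : L ≤ hsub D d := Subgroup.closure_mono Set.inter_subset_left
      let f : ↥L →* ↥(hsub D d) ⧸ Subgroup.center ↥(hsub D d) := π.comp (Subgroup.inclusion hLH)
      have hf : Function.Surjective f := by
        rw [← MonoidHom.range_eq_top, ← top_le_iff, ← img_gen, Subgroup.closure_le, ← hsplit]
        rintro q (hq | ⟨x, hx, rfl⟩)
        · have := hA hq
          rw [hQZ] at this
          rw [SetLike.mem_coe, (this : q = 1)]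
          exact one_mem _
        · exact ⟨⟨x, Subgroup.subset_closure (h2 _ hx)⟩, rfl⟩
      have hker : Subgroup.center ↥L ≤ f.ker := fun z hz => by
        rw [MonoidHom.mem_ker, ← Subgroup.mem_bot, ← hQZ, Subgroup.mem_center_iff]
        intro q
        obtain ⟨w, rfl⟩ := hf q
        rw [← map_mul, ← map_mul, Subgroup.mem_center_iff.1 hz w]
      refine Subgroup.card_dvd_of_surjective (QuotientGroup.lift _ f hker) fun q => ?_
      obtain ⟨w, rfl⟩ := hf q
      exact ⟨(w : ↥L ⧸ Subgroup.center ↥L), rfl⟩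
    · intro y hy
      have hall : ∀ z ∈ D, Commute z y := by
        intro z hz
        rcases (hu.symm ▸ hz : z ∈ P₁ ∪ P₂) with h | h
        · exact hcm z h y hy
        · have h1 : π ⟨y, Subgroup.subset_closure (h2 y hy).1⟩ = 1 := by
            have := hA ⟨⟨y, Subgroup.subset_closure (h2 y hy).1⟩, hy, rfl⟩
            rwa [hQZ] at this
          exact central_of_mk_eq_one h1 (h2 z h).1
      exact Subgroup.mem_center_iff.2 fun g =>
        (commute_of_closure hall g (hgen ▸ Subgroup.mem_top g)).eq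
  intro P₁ P₂ hu hcm
  rcases (hu.symm ▸ hd : d ∈ P₁ ∪ P₂) with h | h
  · exact Or.inr (aux P₁ P₂ hu hcm h)
  · exact Or.inl (aux P₂ P₁ (Set.union_comm _ _ ▸ hu) (fun a ha b hb => (hcm b hb a ha).symm) h)

theorem twinFree_step [Finite G] (hD : TT0 D) (hcj : ConjD D) (hd : d ∈ D) (hd1 : d ≠ 1)
    (htQ : TwinFree (img D d)) [Nontrivial (↥(hsub D d) ⧸ Subgroup.center ↥(hsub D d))] :
    TwinFree D := by
  intro a ha b hb ha1 hb1 ht
  by_contra hab
  have htw : ∀ g : G, Twin D (g * a * g⁻¹) (g * b * g⁻¹) := fun g z hz => by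
    have := ht _ (hD.conj g⁻¹ z hz)
    rw [← commute_conj_iff g, ← commute_conj_iff g (g⁻¹ * z * g⁻¹⁻¹) b] at this
    simpa [mul_assoc] using this
  obtain ⟨x, hxnb, hxc⟩ : ∃ x : ↥(hsub D d), (x : G) ∈ nb D d ∧ ∃ z ∈ nb D d, ¬ Commute z (x : G) := by
    by_contra h
    push Not at h
    have : (⊤ : Subgroup (↥(hsub D d) ⧸ Subgroup.center ↥(hsub D d))) ≤ ⊥ := by
      rw [← img_gen, Subgroup.closure_le]
      rintro _ ⟨x, hx, rfl⟩
      exact (QuotientGroup.eq_one_iff x).2 (mem_center_hsub (h x hx))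
    exact bot_ne_top (top_le_iff.1 this).symm.symm
  obtain ⟨z0, hz0, hz0x⟩ := hxc
  have hx1 : (x : G) ≠ 1 := ne_one_right hz0x
  obtain ⟨g, hg⟩ := hcj a ha d hd ha1 hd1
  obtain ⟨k, hk⟩ := hcj a ha x hxnb.1 ha1 hx1
  have tx : Twin D (x : G) (k * b * k⁻¹) := by have := htw k; rwa [hk] at this
  set y := k * b * k⁻¹ with hydef
  have hyD : y ∈ D := hD.conj k b hb
  have hyx : y ≠ x := fun e => hab (by
    rw [← hk, hydef, mul_left_inj, mul_right_inj] at e
    exact e.symm)
  have hyd : y ≠ d := fun e => hz0x ((tx z0 hz0.1).2 (e ▸ hz0.2.2.symm))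
  have hynb : y ∈ nb D d := ⟨hyD, hyd, (tx d hd).1 hxnb.2.2⟩
  have hmem : y ∈ hsub D d := Subgroup.subset_closure hynb
  set Y : ↥(hsub D d) := ⟨y, hmem⟩
  have hY : (Y : G) ∈ nb D d := hynb
  have heq := htQ _ ⟨x, hxnb, rfl⟩ _ ⟨Y, hY, rfl⟩
    (fun e => hz0x (central_of_mk_eq_one e hz0))
    (fun e => hz0x ((tx z0 hz0.1).2 (central_of_mk_eq_one (x := Y) e hz0))) (by
      rintro _ ⟨z, hz, rfl⟩
      rw [map_commute_iff hD hz hxnb, map_commute_iff hD hz hY]
      exact tx z hz.1)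
  exact hz0x (central_of_mk_eq hD hxnb hY (Ne.symm hyx) heq hz0)

/-- Five distinct commuting members have no product relation. -/
theorem no_five [Finite G] (hD : TT0 D) (hcj : ConjD D) (htf : TwinFree D) (hd : d ∈ D) (hd1 : d ≠ 1)
    (htQ : TwinFree (img D d)) {b c e f g : G} (hb : b ∈ D) (hc : c ∈ D) (he : e ∈ D) (hf : f ∈ D)
    (hg : g ∈ D) (hb1 : b ≠ 1) (hc1 : c ≠ 1) (he1 : e ≠ 1)
    (nbc : b ≠ c) (nbe : b ≠ e) (nce : c ≠ e) (ncf : c ≠ f) (ncg : c ≠ g) (nef : e ≠ f)
    (neg : e ≠ g) (nfg : f ≠ g)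
    (cbc : Commute b c) (cbe : Commute b e) (cce : Commute c e) (ccf : Commute c f)
    (ccg : Commute c g) (cef : Commute e f) (ceg : Commute e g) (cfg : Commute f g)
    (h : b = c * e * f * g) : False := by
  obtain ⟨k, hk⟩ := hcj b hb d hd hb1 hd1
  set σ := MulAut.conj k
  have hm : ∀ u ∈ D, σ u ∈ D := fun u hu => hD.conj k u hu
  have hn : ∀ {u v : G}, u ≠ v → σ u ≠ σ v := fun h e => h (σ.injective e)
  have hcm : ∀ {u v : G}, Commute u v → Commute (σ u) (σ v) := fun h => h.map σ.toMonoidHom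
  have hσb : σ b = d := hk
  have hnb : ∀ u ∈ D, b ≠ u → Commute b u → σ u ∈ nb D d := fun u hu hne hcu =>
    ⟨hm u hu, hσb ▸ (hn hne).symm, hσb ▸ hcm hcu⟩
  have hC := hnb c hc nbc cbc
  have hE := hnb e he nbe cbe
  have h1 : d = σ c * σ e * σ f * σ g := by rw [← hσb, h, map_mul, map_mul, map_mul]
  have h2 : d = σ e * σ c * σ f * σ g := by rw [h1, (hcm cce).eq]
  let C : ↥(hsub D d) := ⟨σ c, Subgroup.subset_closure hC⟩
  let E : ↥(hsub D d) := ⟨σ e, Subgroup.subset_closure hE⟩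
  have hC1 : σ c ≠ 1 := fun e' => hc1 (σ.injective (e'.trans σ.map_one.symm))
  have hE1 : σ e ≠ 1 := fun e' => he1 (σ.injective (e'.trans σ.map_one.symm))
  have heq := htQ _ ⟨C, hC, rfl⟩ _ ⟨E, hE, rfl⟩
    (fun h' => not_central hD hcj htf hd hd1 hC hC1 fun z hz => central_of_mk_eq_one (x := C) h' hz)
    (fun h' => not_central hD hcj htf hd hd1 hE hE1 fun z hz => central_of_mk_eq_one (x := E) h' hz)
    (by
      rintro _ ⟨z, hz, rfl⟩
      rw [map_commute_iff hD hz hC, map_commute_iff hD hz hE]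
      exact ⟨fun hzc => five_step hD (hm c hc) (hm e he) (hm f hf) (hm g hg) hz.1 (hcm cce)
          (hcm cef) (hcm ceg) (hcm cfg) (hn nef) (hn neg) (hn nfg) (hcm ccf) (hcm ccg) h1 hz.2.2.symm hzc,
        fun hze => five_step hD (hm e he) (hm c hc) (hm f hf) (hm g hg) hz.1 (hcm cce).symm
          (hcm ccf) (hcm ccg) (hcm cfg) (hn ncf) (hn ncg) (hn nfg) (hcm cef) (hcm ceg) h2 hz.2.2.symm hze⟩)
  exact not_central hD hcj htf hd hd1 hC hC1 fun z hz =>
    central_of_mk_eq hD (x := C) (y := E) hC hE (hn nce) heq hz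

/-- A subquotient of `GL_n(3)`: its order divides that of `GL_n(3)`. -/
theorem card_dvd_GL {X : Type*} [Group X] {n : ℕ} {μ c : ZMod 3}
    (h : Cfsg.IsProjReflectionGroupModThree X n μ c) :
    Nat.card X ∣ Nat.card (GL (Fin n) (ZMod 3)) := by
  obtain ⟨Q, -, -, ⟨e⟩⟩ := h
  rw [Nat.card_congr e.toEquiv]
  exact (Subgroup.card_quotient_dvd_card _).trans
    ((Subgroup.card_subgroup_dvd_card _).trans (Subgroup.card_subgroup_dvd_card _))

theorem not_dvd_GL {n : ℕ} (hn : n = 6 ∨ n = 7) : ¬ 2 ^ 15 ∣ Nat.card (GL (Fin n) (ZMod 3)) := by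
  rcases hn with rfl | rfl <;>
    (rw [Matrix.card_GL_field, ZMod.card]; decide +kernel)

theorem psu_facts {F : Type} [Field F] [Fintype F] (hF : Fintype.card F = 4) :
    IsSimpleGroup (Cfsg.PSU 6 F 2) ∧ Nat.card (Cfsg.PSU 6 F 2) = 9196830720 := by
  have hF' : Nat.card F = 2 ^ 2 := by rw [Nat.card_eq_fintype_card, hF]; rfl
  refine ⟨Unitary.isSimpleGroup_PSU hF' (by norm_num) (by omega), ?_⟩
  have h := Unitary.card_PSU_mul hF' (n := 6) (by norm_num)
  rw [Unitary.card_GU hF'] at h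
  have e : 2 ^ (6 * (6 - 1) / 2) * ∏ i ∈ Finset.range 6,
      (if Even i then 2 ^ (i + 1) + 1 else 2 ^ (i + 1) - 1) = 9 * 9196830720 := by decide +kernel
  rw [e, show Nat.gcd 6 (2 + 1) = 3 by decide] at h
  omega

theorem card_img_dvd :
    Nat.card (↥(hsub D d) ⧸ Subgroup.center ↥(hsub D d)) ∣ Nat.card G :=
  (Subgroup.card_quotient_dvd_card _).trans (Subgroup.card_subgroup_dvd_card _)

/-- What is needed from type M(22) or M(23). -/
structure Facts (D : Set G) : Prop where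
  center : Subgroup.center G = ⊥
  indec : Indec D
  twinFree : TwinFree D
  conjD : ConjD D
  point : ∃ d ∈ D, d ≠ 1 ∧ TwinFree (img D d) ∧ ConjD (img D d)
  card : 2 ^ 15 ∣ Nat.card G

theorem facts22 [Finite G] (hD : TT0 D) (hgen : Subgroup.closure D = ⊤)
    (h : Cfsg.IsOfTypeM22 G D) : Facts D := by
  obtain ⟨hZ, d, hd, c, hc, hdc, ⟨F, _, _, hF, ⟨e⟩⟩, c₃, -, hR⟩ := h
  obtain ⟨hs, hcard⟩ := psu_facts hF
  haveI : IsSimpleGroup (↥(hsub D d) ⧸ Subgroup.center ↥(hsub D d)) :=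
    haveI := hs
    haveI := e.toEquiv.nontrivial
    IsSimpleGroup.isSimpleGroup_of_surjective e.symm.toMonoidHom e.symm.surjective
  have hQc : Nat.card (↥(hsub D d) ⧸ Subgroup.center ↥(hsub D d)) = 9196830720 :=
    (Nat.card_congr e.toEquiv).trans hcard
  have hna : ¬ ∀ a b : ↥(hsub D d) ⧸ Subgroup.center ↥(hsub D d), Commute a b := fun hab => by
    letI : CommGroup (↥(hsub D d) ⧸ Subgroup.center ↥(hsub D d)) :=
      { (inferInstance : Group (↥(hsub D d) ⧸ Subgroup.center ↥(hsub D d))) with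
        mul_comm := fun a b => (hab a b).eq }
    have := IsSimpleGroup.prime_card (α := ↥(hsub D d) ⧸ Subgroup.center ↥(hsub D d))
    rw [hQc] at this
    exact absurd (this.eq_one_or_self_of_dvd 2 (by norm_num)) (by norm_num)
  have hQZ : Subgroup.center (↥(hsub D d) ⧸ Subgroup.center ↥(hsub D d)) = ⊥ :=
    ((inferInstance : (Subgroup.center (↥(hsub D d) ⧸ Subgroup.center ↥(hsub D d))).Normal)
      ).eq_bot_or_eq_top.resolve_right fun h => hna fun a b =>
        Subgroup.mem_center_iff.1 (h ▸ Subgroup.mem_top b) a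
  have htQ := twinFree_of_simple hna (img_tt0 (d := d) hD)
  have h15 : 2 ^ 15 ∣ Nat.card (↥(hsub D d) ⧸ Subgroup.center ↥(hsub D d)) := by rw [hQc]; norm_num
  have hI : Indec D := indec_step hgen hd hc hdc hQZ (indec_of_simple img_gen) fun hdv =>
    not_dvd_GL (Or.inl rfl) (h15.trans (hdv.trans (card_dvd_GL hR)))
  have hcj := conjD_of_indec hD hgen hZ hI
  exact ⟨hZ, hI, twinFree_step hD hcj hd (ne_one_left hdc) htQ, hcj,
    ⟨d, hd, ne_one_left hdc, htQ, conjD_of_indec (img_tt0 hD) img_gen hQZ (indec_of_simple img_gen)⟩, h15.trans card_img_dvd⟩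

theorem facts23 [Finite G] (hD : TT0 D) (hgen : Subgroup.closure D = ⊤)
    (h : Cfsg.IsOfTypeM23 G D) : Facts D := by
  obtain ⟨hZ, d, hd, c, hc, hdc, h22, c₃, -, hR⟩ := h
  have hQ := facts22 (img_tt0 (d := d) hD) img_gen h22
  haveI : Nontrivial (↥(hsub D d) ⧸ Subgroup.center ↥(hsub D d)) := by
    rw [← Finite.one_lt_card_iff_nontrivial]
    exact lt_of_lt_of_le (by norm_num) (Nat.le_of_dvd Nat.card_pos hQ.card)
  have hI : Indec D := indec_step hgen hd hc hdc hQ.center hQ.indec fun hdv =>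
    not_dvd_GL (Or.inr rfl) (hQ.card.trans (hdv.trans (card_dvd_GL hR)))
  have hcj := conjD_of_indec hD hgen hZ hI
  exact ⟨hZ, hI, twinFree_step hD hcj hd (ne_one_left hdc) hQ.twinFree, hcj,
    ⟨d, hd, ne_one_left hdc, hQ.twinFree, hQ.conjD⟩, hQ.card.trans card_img_dvd⟩

/-- Twins are equal in a primitive centreless 3-transposition group. -/
theorem twinFree_of_primitive (hD : TT0 D) (hgen : Subgroup.closure D = ⊤)
    (hZ : Subgroup.center G = ⊥) (hp : Cfsg.IsPrimitiveUnderConj D) : TwinFree D := by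
  intro a ha b hb ha1 _ ht
  by_contra hab
  have hsub' : {y | y ∈ D ∧ Twin D a y} ⊆ D := fun y hy => hy.1
  refine (hp.2.2 _ hsub' (fun g => ?_)).elim (fun h => ?_) (fun h => ?_)
  rotate_left
  · exact hab (h ⟨ha, fun _ _ => Iff.rfl⟩ ⟨hb, ht⟩)
  · have hall : ∀ z ∈ D, Commute z a := fun z hz => by
      have := ((h.symm ▸ hz : z ∈ {y | y ∈ D ∧ Twin D a y})).2
      exact (this z hz).2 (Commute.refl z)
    have hac : a ∈ Subgroup.center G := Subgroup.mem_center_iff.2 fun g =>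
      (commute_of_closure hall g (hgen ▸ Subgroup.mem_top g)).eq
    rw [hZ] at hac
    exact ha1 hac
  · by_cases hdj : Disjoint ((fun x => g * x * g⁻¹) '' {y | y ∈ D ∧ Twin D a y}) {y | y ∈ D ∧ Twin D a y}
    · exact Or.inr hdj
    left
    obtain ⟨_, ⟨y, hy, rfl⟩, hz⟩ := Set.not_disjoint_iff.1 hdj
    have key : ∀ (k : G) (u v : G), Twin D u v → Twin D (k * u * k⁻¹) (k * v * k⁻¹) := fun k u v h z hz => by
      have := h _ (hD.conj k⁻¹ z hz)
      rw [← commute_conj_iff k, ← commute_conj_iff k (k⁻¹ * z * k⁻¹⁻¹) v] at this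
      simpa [mul_assoc] using this
    have tr : ∀ {u v w : G}, Twin D u v → Twin D v w → Twin D u w := fun h1 h2 z hz =>
      (h1 z hz).trans (h2 z hz)
    have sy : ∀ {u v : G}, Twin D u v → Twin D v u := fun h1 z hz => (h1 z hz).symm
    have hga : Twin D (g * a * g⁻¹) a := tr (key g a y hy.2) (sy hz.2)
    ext z
    constructor
    · rintro ⟨w, hw, rfl⟩
      exact ⟨hD.conj g w hw.1, tr (sy hga) (key g a w hw.2)⟩
    · intro hw
      refine ⟨g⁻¹ * z * g, ⟨by simpa using hD.conj g⁻¹ z hw.1, ?_⟩, by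
        show g * (g⁻¹ * z * g) * g⁻¹ = z; group⟩
      have := key g⁻¹ _ _ (tr hga hw.2)
      simpa [mul_assoc] using this

end CfsgLib.ThreeT.Prod
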