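import Cfsg.Agent.Spor3T.UnitaryPentad
import Cfsg.Agent.Unitary.Generated
import Cfsg.Agent.Unitary.Isotropic
import Cfsg.Agent.Spor3T.TypeChain

/-!
Counting transvections of `PSU₆(2)`; hyperbolic lines; the centraliser of a transvection.
-/

set_option autoImplicit false
set_option linter.unusedSectionVars false
set_option linter.style.haveILetI false

namespace CfsgLib.ThreeT.SixTwo

open Matrix CfsgLib.Unitary CfsgLib.ThreeT.Prod

variable {F : Type} [Field F] [Finite F] [CharP F 2] (hF : Nat.card F = 2 ^ 2)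

local notation "V" => Fin 6 → F
local notation "hh" => Cfsg.hermForm 6 F 2
local notation "π" => QuotientGroup.mk' (Subgroup.center (Cfsg.SU 6 F 2))

/-- The images of the transvections. -/
def tvSet : Set (Cfsg.PSU 6 F 2) := {x | ∃ v, IsPt v ∧ π (tv hF v) = x}

include hF

theorem comm_pi {u v : V} (hu : IsPt u) (hv : IsPt v) :
    Commute (π (tv hF u)) (π (tv hF v)) ↔ hh u v = 0 :=
  (pi_commute_iff hF (tv_sq hF hu.2) (tv_sq hF hv.2)).trans (tv_comm_iff hF hu hv)

theorem mul_pi {u v : V} (hu : hh u u = 0) (hv : hh v v = 0) :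
    π (tv hF u) * π (tv hF v) * π (tv hF u) = π (tv hF (v + hh v u • u)) := by
  rw [← tv_apply hF hu v, ← tv_conj hF (tv hF u) hv, inv_eq_of_mul_eq_one_right (tv_sq hF hu), map_mul, map_mul]

/-- Two members with the same common neighbours lie on one hyperbolic line. -/
theorem line_three {x y z : Cfsg.PSU 6 F 2} (hx : x ∈ tvSet hF) (hy : y ∈ tvSet hF) (hz : z ∈ tvSet hF)
    (hxy : ¬ Commute x y) (hxz : ¬ Commute x z)
    (h : ∀ w ∈ tvSet hF, Commute w x → Commute w y → Commute w z) :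
    z = y ∨ z = x * y * x := by
  obtain ⟨u, hu, rfl⟩ := hx
  obtain ⟨v, hv, rfl⟩ := hy
  obtain ⟨w, hw, rfl⟩ := hz
  rw [comm_pi hF hu hv] at hxy
  rw [comm_pi hF hu hw] at hxz
  obtain ⟨ω, hω0, hω1, hω⟩ := exists_omega hF
  have e2 : (2 : F) = 0 := CharTwo.two_eq_zero
  have hω3 := pow_three hF hω0
  set a : F := (ω / hh u v) ^ 2 with hadef
  have ha : a ≠ 0 := pow_ne_zero _ (div_ne_zero hω0 hxy)
  set v' : V := a • v with hv'def
  have hv' : IsPt v' := ⟨smul_ne_zero ha hv.1, by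
    rw [herm_smul_left, herm_smul_right hF, hv.2, mul_zero, mul_zero]⟩
  have hP : tv hF v' = tv hF v := tv_smul hF hv.2 ha
  rw [← hP]
  have huv : hh u v' = ω := by
    rw [herm_smul_right hF, hadef]
    have h3 := pow_three hF (div_ne_zero hω0 hxy)
    field_simp at h3 ⊢
    linear_combination h3
  let u₀ : V := ![0, 0, 0, 0, 1, 1]
  let v₀ : V := ![0, 0, 0, 0, 1, ω]
  have hu₀ : hh u₀ u₀ = 0 := by simp [u₀, Cfsg.hermForm, Fin.sum_univ_six, CharTwo.add_self_eq_zero]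
  have hv₀ : hh v₀ v₀ = 0 := by
    simp [v₀, Cfsg.hermForm, Fin.sum_univ_six]; linear_combination hω3 + e2
  have huv₀ : hh u₀ v₀ = ω := by
    simp [u₀, v₀, Cfsg.hermForm, Fin.sum_univ_six]; linear_combination hω + e2
  have hvu₀ : hh v₀ u₀ = ω ^ 2 := by rw [herm_swap hF u₀ v₀, huv₀]
  have hvu : hh v' u = ω ^ 2 := by rw [herm_swap hF u v', huv]
  obtain ⟨G, hG⟩ := exists_GU_family hF ![u₀, v₀] ![u, v'] (indep_pair (fun e => by
      simpa [u₀] using congrFun e 4) fun b e => by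
        have h4 := congrFun e 4
        have h5 := congrFun e 5
        simp [u₀, v₀] at h4 h5
        exact hω1 (by rw [← h5, h4]))
    (indep_pair hu.1 fun b e => hω0 (by rw [← huv, ← e, herm_smul_right hF, hu.2, mul_zero]))
    (fun i j => by fin_cases i <;> fin_cases j <;> simp [hu.2, hv'.2, huv, hvu, hu₀, hv₀, huv₀, hvu₀])
  have hp := mem_GU_iff.1 G.2
  set M := ((G : Matrix.GeneralLinearGroup (Fin 6) F) : Matrix (Fin 6) (Fin 6) F) with hM
  have hGu : M *ᵥ u₀ = u := hG 0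
  have hGv : M *ᵥ v₀ = v' := hG 1
  set w' : V := ((G : Matrix.GeneralLinearGroup (Fin 6) F)⁻¹ :
    Matrix.GeneralLinearGroup (Fin 6) F).1 *ᵥ w with hw'
  have hMw : M *ᵥ w' = w := by
    rw [hw', Matrix.mulVec_mulVec, hM, ← Units.val_mul, mul_inv_cancel, Units.val_one, Matrix.one_mulVec]
  have key : ∀ r : V, r ≠ 0 → hh r r = 0 → hh r u₀ = 0 → hh r v₀ = 0 → hh r w' = 0 := by
    intro r r0 rr ru rv
    have hMr : IsPt (M *ᵥ r) := ⟨fun e => r0 (uForm_nondeg hF 6 r fun x => by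
      show hh x r = 0
      rw [← hp, e, hh_zero_right hF]), by rw [hp]; exact rr⟩
    have := h _ ⟨_, hMr, rfl⟩ ((comm_pi hF hMr hu).2 (by rw [← hGu, hp, ru]))
      (by rw [← hP]; exact (comm_pi hF hMr hv').2 (by rw [← hGv, hp, rv]))
    rw [← hp, hMw]
    exact (comm_pi hF hMr hw).1 this
  have k := fun (r : V) h1 h2 h3 h4 => key r h1 h2 h3 h4
  have k1 := k ![1, 1, 0, 0, 0, 0] (fun e => by simpa using congrFun e 0)
    (by simp [Cfsg.hermForm, Fin.sum_univ_six, CharTwo.add_self_eq_zero])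
    (by simp [u₀, Cfsg.hermForm, Fin.sum_univ_six]) (by simp [v₀, Cfsg.hermForm, Fin.sum_univ_six])
  have k2 := k ![1, ω, 0, 0, 0, 0] (fun e => by simpa using congrFun e 0)
    (by simp [Cfsg.hermForm, Fin.sum_univ_six]; linear_combination hω3 + e2)
    (by simp [u₀, Cfsg.hermForm, Fin.sum_univ_six]) (by simp [v₀, Cfsg.hermForm, Fin.sum_univ_six])
  have k3 := k ![0, 0, 1, 1, 0, 0] (fun e => by simpa using congrFun e 2)
    (by simp [Cfsg.hermForm, Fin.sum_univ_six, CharTwo.add_self_eq_zero])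
    (by simp [u₀, Cfsg.hermForm, Fin.sum_univ_six]) (by simp [v₀, Cfsg.hermForm, Fin.sum_univ_six])
  have k4 := k ![0, 0, 1, ω, 0, 0] (fun e => by simpa using congrFun e 2)
    (by simp [Cfsg.hermForm, Fin.sum_univ_six]; linear_combination hω3 + e2)
    (by simp [u₀, Cfsg.hermForm, Fin.sum_univ_six]) (by simp [v₀, Cfsg.hermForm, Fin.sum_univ_six])
  simp [Cfsg.hermForm, Fin.sum_univ_six] at k1 k2 k3 k4
  have w1 : w' 1 = 0 := by
    have : w' 1 ^ 2 * (ω - 1) = 0 := by linear_combination k2 - k1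
    exact eq_zero_of_pow_eq_zero ((mul_eq_zero.1 this).resolve_right (sub_ne_zero.2 hω1))
  have w0 : w' 0 = 0 := eq_zero_of_pow_eq_zero (n := 2) (by rw [w1] at k1; linear_combination k1)
  have w3 : w' 3 = 0 := by
    have : w' 3 ^ 2 * (ω - 1) = 0 := by linear_combination k4 - k3
    exact eq_zero_of_pow_eq_zero ((mul_eq_zero.1 this).resolve_right (sub_ne_zero.2 hω1))
  have w2' : w' 2 = 0 := eq_zero_of_pow_eq_zero (n := 2) (by rw [w3] at k3; linear_combination k3)
  have hww : hh w' w' = 0 := by rw [← hp, hMw]; exact hw.2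
  simp [Cfsg.hermForm, Fin.sum_univ_six, w0, w1, w2', w3] at hww
  have hw5 : w' 5 ≠ 0 := by
    intro e
    rw [e] at hww
    have h4 : w' 4 = 0 := eq_zero_of_pow_eq_zero (n := 3) (by linear_combination hww)
    refine hw.1 ?_
    rw [← hMw, show w' = 0 from funext fun i => by fin_cases i <;> assumption, Matrix.mulVec_zero]
  have hw4 : w' 4 ≠ 0 := fun e => hw5 (eq_zero_of_pow_eq_zero (n := 3) (by rw [e] at hww; linear_combination hww))
  set c := w' 5 / w' 4 with hc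
  have hc0 : c ≠ 0 := div_ne_zero hw5 hw4
  have hfac : (c - 1) * (c - ω) * (c - ω ^ 2) = 0 := by
    linear_combination pow_three hF hc0 + (-(c ^ 2) + c) * hω + c * hω3 - hω3 +
      (c ^ 2 * (-ω - 1) + c * (ω + 1)) * e2
  have hw'' : w' = w' 4 • (![0, 0, 0, 0, 1, c] : V) := by
    funext i
    fin_cases i <;> simp [w0, w1, w2', w3, hc, mul_div_cancel₀ _ hw4]
  have hscale : ∀ r : V, IsPt (M *ᵥ r) → ![0, 0, 0, 0, 1, c] = r → tv hF w = tv hF (M *ᵥ r) := by
    intro r hr e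
    rw [← hMw, hw'', e, Matrix.mulVec_smul, tv_smul hF hr.2 hw4]
  rcases mul_eq_zero.1 hfac with h' | h'
  · rcases mul_eq_zero.1 h' with h' | h'
    · exfalso
      refine hxz ?_
      have := hscale u₀ (by rw [hGu]; exact hu) (by rw [sub_eq_zero.1 h'])
      rw [hGu] at this
      have hcom : Commute (π (tv hF u)) (π (tv hF w)) := by rw [this]
      exact (comm_pi hF hu hw).1 hcom
    · left
      rw [hscale v₀ (by rw [hGv]; exact hv') (by rw [sub_eq_zero.1 h']), hGv]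
  · right
    rw [mul_pi hF hu.2 hv'.2, hvu]
    have hr : hh (v' + ω ^ 2 • u) (v' + ω ^ 2 • u) = 0 := by
      rw [← hvu, ← tv_apply hF hu.2 v', su_preserves]; exact hv'.2
    have hMr : M *ᵥ (v₀ + ω ^ 2 • u₀) = v' + ω ^ 2 • u := by
      rw [Matrix.mulVec_add, Matrix.mulVec_smul, hGu, hGv]
    have e : v₀ + ω ^ 2 • u₀ = ω • (![0, 0, 0, 0, 1, c] : V) := by
      funext i
      rw [sub_eq_zero.1 h']
      fin_cases i <;> simp [u₀, v₀]
      · linear_combination hω + e2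
      · linear_combination hω - hω3 + ω * e2
    rw [← hMr, e, Matrix.mulVec_smul, tv_smul hF (by
      have := hr
      rw [← hMr, hp, e, herm_smul_left, herm_smul_right hF] at this
      rw [hp]
      exact (mul_eq_zero.1 ((mul_eq_zero.1 this).resolve_left hω0)).resolve_left (pow_ne_zero _ hω0)) hω0,
      ← hMw, hw'', Matrix.mulVec_smul, tv_smul hF (by
      have h2 := hw.2
      rw [← hMw, hw'', Matrix.mulVec_smul, herm_smul_left, herm_smul_right hF] at h2
      exact (mul_eq_zero.1 ((mul_eq_zero.1 h2).resolve_left hw4)).resolve_left (pow_ne_zero _ hw4)) hw4]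

/-- Members commuting with everything in a list of points, counted through vectors. -/
theorem ncard_perp {k : ℕ} (p : Fin k → V) (hp : ∀ i, IsPt (p i)) :
    3 * {z | z ∈ tvSet hF ∧ ∀ i, Commute z (π (tv hF (p i)))}.ncard + 1 =
      Nat.card {x : V // hh x x = 0 ∧ ∀ i, hh x (p i) = 0} := by
  classical
  haveI := Fintype.ofFinite F
  set S := {z | z ∈ tvSet hF ∧ ∀ i, Commute z (π (tv hF (p i)))}
  set T : Finset V := Finset.univ.filter fun x => hh x x = 0 ∧ ∀ i, hh x (p i) = 0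
  have h0 : (0 : V) ∈ T := by simp [T, hh_zero_left hF]
  have hT : Nat.card {x : V // hh x x = 0 ∧ ∀ i, hh x (p i) = 0} = T.card := by
    rw [Nat.card_eq_fintype_card, Fintype.card_subtype]
  have himg : ((T.erase 0).image fun x => π (tv hF x) : Set (Cfsg.PSU 6 F 2)) = S := by
    ext z
    simp only [Finset.coe_image, Set.mem_image, Finset.mem_coe, Finset.mem_erase]
    constructor
    · rintro ⟨x, ⟨hx0, hx⟩, rfl⟩
      simp only [T, Finset.mem_filter, Finset.mem_univ, true_and] at hx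
      exact ⟨⟨x, ⟨hx0, hx.1⟩, rfl⟩, fun i => (comm_pi hF ⟨hx0, hx.1⟩ (hp i)).2 (hx.2 i)⟩
    · rintro ⟨⟨x, hx, rfl⟩, hall⟩
      exact ⟨x, ⟨hx.1, by simp [T, hx.2, fun i => (comm_pi hF hx (hp i)).1 (hall i)]⟩, rfl⟩
  have hfib : ∀ z ∈ (T.erase 0).image (fun x => π (tv hF x)),
      ((T.erase 0).filter fun x => π (tv hF x) = z).card = 3 := by
    intro z hz
    obtain ⟨x, hx, rfl⟩ := Finset.mem_image.1 hz
    simp only [Finset.mem_erase, T, Finset.mem_filter, Finset.mem_univ, true_and] at hx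
    have he : ((T.erase 0).filter fun y => π (tv hF y) = π (tv hF x)) =
        (Finset.univ.filter fun a : F => a ≠ 0).image fun a => a • x := by
      ext y
      simp only [Finset.mem_filter, Finset.mem_erase, T, Finset.mem_univ, true_and, Finset.mem_image]
      constructor
      · rintro ⟨⟨hy0, hy⟩, e⟩
        obtain ⟨a, rfl⟩ := tv_eq_smul hF ⟨hy0, hy.1⟩ ⟨hx.1, hx.2.1⟩
          (pi_inj hF (tv_sq hF hy.1) (tv_sq hF hx.2.1) e)
        exact ⟨a, fun ha => hy0 (by rw [ha, zero_smul]), rfl⟩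
      · rintro ⟨a, ha, rfl⟩
        refine ⟨⟨smul_ne_zero ha hx.1, by rw [herm_smul_left, herm_smul_right hF, hx.2.1, mul_zero, mul_zero],
          fun i => by rw [herm_smul_left, hx.2.2 i, mul_zero]⟩, by rw [tv_smul hF hx.2.1 ha]⟩
    rw [he, Finset.card_image_of_injective _ fun a b e => smul_left_injective F hx.1 e,
      Finset.filter_ne', Finset.card_erase_of_mem (Finset.mem_univ _), Finset.card_univ,
      ← Nat.card_eq_fintype_card, hF]
    norm_num
  have hc : (T.erase 0).card = 3 * ((T.erase 0).image fun x => π (tv hF x)).card := by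
    rw [Finset.card_eq_sum_card_image (fun x => π (tv hF x)) (T.erase 0), Finset.sum_congr rfl hfib,
      Finset.sum_const, smul_eq_mul, mul_comm]
  rw [← himg, Set.ncard_coe_finset, hT, ← hc, Finset.card_erase_add_one h0]

theorem numLen_values : numLen F 2 6 0 = 2080 ∧ numLen F 2 4 0 = 136 ∧ numLen F 2 2 0 = 10 := by
  have h6 := numLen_zero hF 6
  have h4 := numLen_zero hF 4
  have h2 := numLen_zero hF 2
  norm_num at h6 h4 h2
  omega

theorem ncard_tvSet : (tvSet hF).ncard = 693 := by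
  have h := ncard_perp hF (k := 0) ![] (fun i => i.elim0)
  have e : {z | z ∈ tvSet hF ∧ ∀ i : Fin 0, Commute z (π (tv hF ((![] : Fin 0 → V) i)))} = tvSet hF := by
    ext z; simp
  rw [e] at h
  have e2 : Nat.card {x : V // hh x x = 0 ∧ ∀ i : Fin 0, hh x ((![] : Fin 0 → V) i) = 0} = numLen F 2 6 0 :=
    Nat.card_congr (Equiv.subtypeEquivRight fun x => by simp)
  rw [e2, (numLen_values hF).1] at h
  omega

theorem ncard_nb {x : Cfsg.PSU 6 F 2} (hx : x ∈ tvSet hF) :
    {z | z ∈ tvSet hF ∧ z ≠ x ∧ Commute z x}.ncard = 180 := by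
  obtain ⟨v, hv, rfl⟩ := hx
  have h := ncard_perp hF (k := 1) ![v] (fun i => by fin_cases i; exact hv)
  have hl : LinearIndependent F (![v] : Fin 1 → V) := linearIndependent_unique_iff.2 hv.1
  have hcard := card_perp_tuple hF (n := 6) (k := 1) (m := 4) rfl
    ⟨![v], hl, fun i j => by fin_cases i; fin_cases j; exact hv.2⟩
  rw [hcard, (numLen_values hF).2.1] at h
  have e : {z | z ∈ tvSet hF ∧ ∀ i : Fin 1, Commute z (π (tv hF ((![v] : Fin 1 → V) i)))} =
      insert (π (tv hF v)) {z | z ∈ tvSet hF ∧ z ≠ π (tv hF v) ∧ Commute z (π (tv hF v))} := by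
    ext z
    simp only [Fin.forall_fin_one, Matrix.cons_val_fin_one, Set.mem_ofPred_eq, Set.mem_insert_iff]
    by_cases hz : z = π (tv hF v)
    · subst hz; exact iff_of_true ⟨⟨v, hv, rfl⟩, Commute.refl _⟩ (Or.inl rfl)
    · exact ⟨fun h => Or.inr ⟨h.1, hz, h.2⟩, fun h => h.elim (fun e => absurd e hz) fun h => ⟨h.1, h.2.2⟩⟩
  rw [e, Set.ncard_insert_of_notMem (fun h' => h'.2.1 rfl)] at h
  omega

theorem ncard_common_comm {x y : Cfsg.PSU 6 F 2} (hx : x ∈ tvSet hF) (hy : y ∈ tvSet hF) (hne : x ≠ y)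
    (hxy : Commute x y) : {z | z ∈ tvSet hF ∧ z ≠ x ∧ z ≠ y ∧ Commute z x ∧ Commute z y}.ncard = 51 := by
  obtain ⟨u, hu, rfl⟩ := hx
  obtain ⟨v, hv, rfl⟩ := hy
  have huv := (comm_pi hF hu hv).1 hxy
  have h := ncard_perp hF (k := 2) ![u, v] (fun i => by fin_cases i; exacts [hu, hv])
  have hl : LinearIndependent F (![u, v] : Fin 2 → V) := indep_pair hu.1 fun a e => hne (by
    rw [← e, tv_smul hF hu.2 fun ha => hv.1 (by rw [← e, ha, zero_smul])])
  have hcard := card_perp_tuple hF (n := 6) (k := 2) (m := 2) rfl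
    ⟨![u, v], hl, fun i j => by fin_cases i <;> fin_cases j <;> simp [hu.2, hv.2, huv, (hh_comm hF).1 huv]⟩
  rw [hcard, (numLen_values hF).2.2] at h
  have hu' : π (tv hF u) ∈ tvSet hF := ⟨u, hu, rfl⟩
  have hv' : π (tv hF v) ∈ tvSet hF := ⟨v, hv, rfl⟩
  have e : {z | z ∈ tvSet hF ∧ ∀ i : Fin 2, Commute z (π (tv hF ((![u, v] : Fin 2 → V) i)))} =
      insert (π (tv hF u)) (insert (π (tv hF v)) {z | z ∈ tvSet hF ∧ z ≠ π (tv hF u) ∧ z ≠ π (tv hF v) ∧
        Commute z (π (tv hF u)) ∧ Commute z (π (tv hF v))}) := by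
    ext z
    simp only [Fin.forall_fin_two, Matrix.cons_val_zero, Matrix.cons_val_one, Set.mem_ofPred_eq,
      Set.mem_insert_iff]
    by_cases h1 : z = π (tv hF u)
    · subst h1; exact iff_of_true ⟨hu', Commute.refl _, hxy⟩ (Or.inl rfl)
    by_cases h2 : z = π (tv hF v)
    · subst h2; exact iff_of_true ⟨hv', hxy.symm, Commute.refl _⟩ (Or.inr (Or.inl rfl))
    exact ⟨fun h => Or.inr (Or.inr ⟨h.1, h1, h2, h.2⟩), fun h => h.elim (fun e => absurd e h1)
      fun h => h.elim (fun e => absurd e h2) fun h => ⟨h.1, h.2.2.2⟩⟩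
  rw [e, Set.ncard_insert_of_notMem (by
      simp only [Set.mem_insert_iff, Set.mem_ofPred_eq, not_or]
      exact ⟨hne, fun h' => h'.2.1 rfl⟩),
    Set.ncard_insert_of_notMem (fun h' => h'.2.2.1 rfl)] at h
  omega

/-- A standard embedding of `F⁴` onto the vectors orthogonal to a non-orthogonal pair. -/
theorem exists_perp_embed {u v : V} (hu : IsPt u) (hv : IsPt v) (huv : hh u v ≠ 0) :
    ∃ φ : (Fin 4 → F) → V, Function.Injective φ ∧
      (∀ a b, hh (φ a) (φ b) = Cfsg.hermForm 4 F 2 a b) ∧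
      ∀ x, (hh x u = 0 ∧ hh x v = 0) ↔ ∃ a, φ a = x := by
  set s := hh u v
  let u₀ : V := ![0, 0, 0, 0, 1, 1]
  obtain ⟨ω, hω0, hω1, hω⟩ := exists_omega hF
  have e2 : (2 : F) = 0 := CharTwo.two_eq_zero
  have hω3 := pow_three hF hω0
  let v₀ : V := (s ^ 2 * ω) • ![0, 0, 0, 0, 1, ω]
  have hu₀ : hh u₀ u₀ = 0 := by simp [u₀, Cfsg.hermForm, Fin.sum_univ_six, CharTwo.add_self_eq_zero]
  have hv₀ : hh v₀ v₀ = 0 := by
    rw [herm_smul_left, herm_smul_right hF]
    simp [Cfsg.hermForm, Fin.sum_univ_six]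
    right
    linear_combination hω3 + e2
  have huv₀ : hh u₀ v₀ = s := by
    rw [herm_smul_right hF]
    simp [u₀, Cfsg.hermForm, Fin.sum_univ_six]
    have hs3 := pow_three hF huv
    linear_combination (s ^ 4 * ω ^ 2) * hω + (s ^ 4 * ω ^ 2) * e2 + (s ^ 4) * hω3 + s * hs3
  have hvu₀ : hh v₀ u₀ = hh v u := by rw [herm_swap hF u₀ v₀, huv₀, herm_swap hF u v]
  have hv₀5 : v₀ 5 = v₀ 4 * ω := by simp [v₀]
  have hv₀4 : v₀ 4 ≠ 0 := by simp [v₀, hω0, huv]
  obtain ⟨G, hG⟩ := exists_GU_family hF ![u₀, v₀] ![u, v] (indep_pair (fun e => by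
      simpa [u₀] using congrFun e 4) fun b e => by
        have h4 := congrFun e 4
        have h5 := congrFun e 5
        rw [hv₀5] at h5
        simp only [Pi.smul_apply, smul_eq_mul, u₀, Matrix.cons_val] at h4 h5
        have : v₀ 4 * (ω - 1) = 0 := by linear_combination h4 - h5
        exact hω1 (sub_eq_zero.1 ((mul_eq_zero.1 this).resolve_left hv₀4)))
    (indep_pair hu.1 fun b e => huv (by
      show hh u v = 0
      rw [← e, herm_smul_right hF, hu.2, mul_zero]))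
    (fun i j => by fin_cases i <;> fin_cases j <;> simp [hu.2, hv.2, hu₀, hv₀, huv₀, hvu₀, s])
  have hp := mem_GU_iff.1 G.2
  set M := ((G : Matrix.GeneralLinearGroup (Fin 6) F) : Matrix (Fin 6) (Fin 6) F) with hM
  set M' := ((G : Matrix.GeneralLinearGroup (Fin 6) F)⁻¹ : Matrix.GeneralLinearGroup (Fin 6) F).1 with hM'
  have hMM : ∀ x, M *ᵥ (M' *ᵥ x) = x := fun x => by
    rw [Matrix.mulVec_mulVec, hM, hM', ← Units.val_mul, mul_inv_cancel, Units.val_one, Matrix.one_mulVec]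
  have hM'M : ∀ x, M' *ᵥ (M *ᵥ x) = x := fun x => by
    rw [Matrix.mulVec_mulVec, hM, hM', ← Units.val_mul, inv_mul_cancel, Units.val_one, Matrix.one_mulVec]
  refine ⟨fun a => M *ᵥ ![a 0, a 1, a 2, a 3, 0, 0], fun a b e => ?_, fun a b => ?_, fun x => ⟨fun hx => ?_, ?_⟩⟩
  · have := (hM'M _).symm.trans ((congrArg (M' *ᵥ ·) e).trans (hM'M _))
    funext i
    fin_cases i
    exacts [congrFun this 0, congrFun this 1, congrFun this 2, congrFun this 3]
  · rw [hp]; simp [Cfsg.hermForm, Fin.sum_univ_six, Fin.sum_univ_four]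
  · set y := M' *ᵥ x
    have h1 : hh y u₀ = 0 := by rw [← hp, hMM, show M *ᵥ u₀ = u from hG 0]; exact hx.1
    have h2 : hh y v₀ = 0 := by rw [← hp, hMM, show M *ᵥ v₀ = v from hG 1]; exact hx.2
    rw [herm_smul_right hF] at h2
    have h2' := (mul_eq_zero.1 h2).resolve_left (pow_ne_zero _ (mul_ne_zero (pow_ne_zero _ huv) hω0))
    simp [u₀, Cfsg.hermForm, Fin.sum_univ_six] at h1 h2'
    have h5 : y 5 = 0 := by
      have : y 5 * (ω ^ 2 - 1) = 0 := by linear_combination h2' - h1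
      refine (mul_eq_zero.1 this).resolve_right fun e => hω0 ?_
      linear_combination e - hω
    have h4 : y 4 = 0 := by linear_combination h1 - h5
    refine ⟨![y 0, y 1, y 2, y 3], ?_⟩
    show M *ᵥ ![y 0, y 1, y 2, y 3, 0, 0] = x
    conv_rhs => rw [← hMM x]
    congr 1
    funext i
    fin_cases i
    exacts [rfl, rfl, rfl, rfl, h4.symm, h5.symm]
  · rintro ⟨a, rfl⟩
    refine ⟨?_, ?_⟩
    · rw [← show M *ᵥ u₀ = u from hG 0, hp]; simp [u₀, Cfsg.hermForm, Fin.sum_univ_six]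
    · rw [← show M *ᵥ v₀ = v from hG 1, hp, herm_smul_right hF]
      simp [Cfsg.hermForm, Fin.sum_univ_six]

theorem ncard_common {x y : Cfsg.PSU 6 F 2} (hx : x ∈ tvSet hF) (hy : y ∈ tvSet hF)
    (hxy : ¬ Commute x y) : {z | z ∈ tvSet hF ∧ Commute z x ∧ Commute z y}.ncard = 45 := by
  obtain ⟨u, hu, rfl⟩ := hx
  obtain ⟨v, hv, rfl⟩ := hy
  rw [comm_pi hF hu hv] at hxy
  obtain ⟨φ, hinj, hφ, hran⟩ := exists_perp_embed hF hu hv hxy
  have h := ncard_perp hF (k := 2) ![u, v] (fun i => by fin_cases i; exacts [hu, hv])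
  have e : Nat.card {x : V // hh x x = 0 ∧ ∀ i : Fin 2, hh x ((![u, v] : Fin 2 → V) i) = 0} = numLen F 2 4 0 := by
    refine (Nat.card_eq_of_bijective (f := fun a : {a : Fin 4 → F // Cfsg.hermForm 4 F 2 a a = 0} =>
      (⟨φ a.1, by rw [hφ]; exact a.2, Fin.forall_fin_two.2 ((hran _).2 ⟨_, rfl⟩)⟩ :
        {x : V // hh x x = 0 ∧ ∀ i : Fin 2, hh x ((![u, v] : Fin 2 → V) i) = 0}))
      ⟨fun a b e => Subtype.ext (hinj (congrArg Subtype.val e)), fun z => ?_⟩).symm
    obtain ⟨a, ha⟩ := (hran z.1).1 ⟨z.2.2 0, z.2.2 1⟩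
    exact ⟨⟨a, by rw [← hφ, ha]; exact z.2.1⟩, Subtype.ext ha⟩
  rw [e, (numLen_values hF).2.1] at h
  have e' : {z | z ∈ tvSet hF ∧ ∀ i : Fin 2, Commute z (π (tv hF ((![u, v] : Fin 2 → V) i)))} =
      {z | z ∈ tvSet hF ∧ Commute z (π (tv hF u)) ∧ Commute z (π (tv hF v))} := by
    ext z; simp [Fin.forall_fin_two]
  rw [e'] at h
  omega

theorem ncard_common_three {x y c : Cfsg.PSU 6 F 2} (hx : x ∈ tvSet hF) (hy : y ∈ tvSet hF)
    (hc : c ∈ tvSet hF) (hxy : ¬ Commute x y) (hcx : Commute c x) (hcy : Commute c y) :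
    {z | z ∈ tvSet hF ∧ z ≠ c ∧ Commute z x ∧ Commute z y ∧ Commute z c}.ncard = 12 := by
  obtain ⟨u, hu, rfl⟩ := hx
  obtain ⟨v, hv, rfl⟩ := hy
  obtain ⟨w, hw, rfl⟩ := hc
  rw [comm_pi hF hu hv] at hxy
  obtain ⟨φ, hinj, hφ, hran⟩ := exists_perp_embed hF hu hv hxy
  obtain ⟨g, rfl⟩ := (hran w).1 ⟨(comm_pi hF hw hu).1 hcx, (comm_pi hF hw hv).1 hcy⟩
  have hgg : Cfsg.hermForm 4 F 2 g g = 0 := by rw [← hφ]; exact hw.2
  have hg0 : g ≠ 0 := by
    intro e
    refine hw.1 (uForm_nondeg hF 6 _ fun x => ?_)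
    have hz : hh (φ g) u = 0 ∧ hh (φ g) v = 0 := (hran _).2 ⟨g, rfl⟩
    show hh x (φ g) = 0
    obtain ⟨b, hb⟩ := (hran 0).1 ⟨hh_zero_left hF u, hh_zero_left hF v⟩
    have hb0 : b = g := by
      rw [e]
      refine uForm_nondeg hF 4 b fun a => ?_
      show Cfsg.hermForm 4 F 2 a b = 0
      rw [← hφ, hb, hh_zero_right hF]
    rw [← hb0, hb, hh_zero_right hF]
  have hcard := card_perp_tuple hF (n := 4) (k := 1) (m := 2) rfl
    ⟨![g], linearIndependent_unique_iff.2 hg0, fun i j => by fin_cases i; fin_cases j; exact hgg⟩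
  have h := ncard_perp hF (k := 3) ![u, v, φ g] (fun i => by fin_cases i; exacts [hu, hv, hw])
  have e : Nat.card {x : V // hh x x = 0 ∧ ∀ i : Fin 3, hh x ((![u, v, φ g] : Fin 3 → V) i) = 0} =
      Nat.card {a : Fin 4 → F // Cfsg.hermForm 4 F 2 a a = 0 ∧
        ∀ i : Fin 1, Cfsg.hermForm 4 F 2 a ((![g] : Fin 1 → Fin 4 → F) i) = 0} := by
    refine (Nat.card_eq_of_bijective (f := fun a : {a : Fin 4 → F // Cfsg.hermForm 4 F 2 a a = 0 ∧
        ∀ i : Fin 1, Cfsg.hermForm 4 F 2 a ((![g] : Fin 1 → Fin 4 → F) i) = 0} =>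
      (⟨φ a.1, by rw [hφ]; exact a.2.1, fun i => by
        fin_cases i
        exacts [((hran _).2 ⟨_, rfl⟩).1, ((hran _).2 ⟨_, rfl⟩).2, (hφ _ _).trans (a.2.2 0)]⟩ :
        {x : V // hh x x = 0 ∧ ∀ i : Fin 3, hh x ((![u, v, φ g] : Fin 3 → V) i) = 0}))
      ⟨fun a b e => Subtype.ext (hinj (congrArg Subtype.val e)), fun z => ?_⟩).symm
    obtain ⟨a, ha⟩ := (hran z.1).1 ⟨z.2.2 0, z.2.2 1⟩
    exact ⟨⟨a, by rw [← hφ, ha]; exact z.2.1,
      fun i => by fin_cases i; exact (hφ a g).symm.trans (ha.symm ▸ z.2.2 2)⟩, Subtype.ext ha⟩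
  rw [e, hcard, (numLen_values hF).2.2] at h
  have hc' : π (tv hF (φ g)) ∈ tvSet hF := ⟨_, hw, rfl⟩
  have e' : {z | z ∈ tvSet hF ∧ ∀ i : Fin 3, Commute z (π (tv hF ((![u, v, φ g] : Fin 3 → V) i)))} =
      insert (π (tv hF (φ g))) {z | z ∈ tvSet hF ∧ z ≠ π (tv hF (φ g)) ∧ Commute z (π (tv hF u)) ∧
        Commute z (π (tv hF v)) ∧ Commute z (π (tv hF (φ g)))} := by
    ext z
    simp only [Fin.forall_fin_succ, IsEmpty.forall_iff, Set.mem_ofPred_eq, Set.mem_insert_iff]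
    by_cases hz : z = π (tv hF (φ g))
    · subst hz; simpa [-QuotientGroup.mk'_apply] using iff_of_true
        (show π (tv hF (φ g)) ∈ tvSet hF ∧ Commute (π (tv hF (φ g))) (π (tv hF u)) ∧
          Commute (π (tv hF (φ g))) (π (tv hF v)) from ⟨hc', hcx, hcy⟩) trivial
    · exact ⟨fun h => Or.inr ⟨h.1, hz, h.2.1, h.2.2.1, h.2.2.2.1⟩, fun h => h.elim (fun e => absurd e hz)
        fun h => ⟨h.1, h.2.2.1, h.2.2.2.1, h.2.2.2.2, trivial⟩⟩
  rw [e', Set.ncard_insert_of_notMem (fun h' => h'.2.1 rfl)] at h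
  omega

/-- The centraliser of a transvection is generated by the transvections commuting with it. -/
theorem centralizer_gen {x g : Cfsg.PSU 6 F 2} (hx : x ∈ tvSet hF) (hg : Commute g x)
    (htrans : ∀ y ∈ tvSet hF, ∀ z ∈ tvSet hF, ¬ Commute x y → ¬ Commute x z →
      ∃ k ∈ Subgroup.closure {w | w ∈ tvSet hF ∧ Commute x w}, k * y * k⁻¹ = z) :
    g ∈ Subgroup.closure {w | w ∈ tvSet hF ∧ Commute x w} := by
  set R := Subgroup.closure {w | w ∈ tvSet hF ∧ Commute x w} with hR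
  obtain ⟨ω, hω0, hω1, hω⟩ := exists_omega hF
  have e2 : (2 : F) = 0 := CharTwo.two_eq_zero
  have hω3 := pow_three hF hω0
  let u₀ : V := ![1, 1, 0, 0, 0, 0]
  let f₀ : V := ![1, ω, 0, 0, 0, 0]
  have hu₀ : IsPt u₀ := ⟨fun e => by simpa [u₀] using congrFun e 0,
    by simp [u₀, Cfsg.hermForm, Fin.sum_univ_six, CharTwo.add_self_eq_zero]⟩
  have hf₀ : IsPt f₀ := ⟨fun e => by simpa [f₀] using congrFun e 0,
    by simp [f₀, Cfsg.hermForm, Fin.sum_univ_six]; linear_combination hω3 + e2⟩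
  have huf : hh u₀ f₀ = ω := by
    simp [u₀, f₀, Cfsg.hermForm, Fin.sum_univ_six]; linear_combination hω + e2
  obtain ⟨w, hw, rfl⟩ := hx
  obtain ⟨T, hT⟩ := exists_SU_vec hF (by norm_num) hu₀.1 hw.1 hu₀.2 hw.2
  have hxT : π T * π (tv hF u₀) * (π T)⁻¹ = π (tv hF w) := by
    rw [← map_inv, ← map_mul, ← map_mul, tv_conj hF T hu₀.2, hT]
  set f : V := suMat T *ᵥ f₀ with hfdef
  have hf : IsPt f := ⟨su_mulVec_ne_zero T hf₀.1, by rw [su_preserves]; exact hf₀.2⟩
  have hwf : hh w f = ω := by rw [← hT, su_preserves]; exact huf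
  have hnc : ¬ Commute (π (tv hF w)) (π (tv hF f)) := by rw [comm_pi hF hw hf, hwf]; exact hω0
  -- move the image of `f` back
  obtain ⟨k, hk, hkf⟩ := htrans (g * π (tv hF f) * g⁻¹) (by
      obtain ⟨s, rfl⟩ := QuotientGroup.mk_surjective g
      exact ⟨suMat s *ᵥ f, ⟨su_mulVec_ne_zero s hf.1, by rw [su_preserves]; exact hf.2⟩, by
        rw [← tv_conj hF s hf.2, map_mul, map_mul, map_inv]; rfl⟩)
    (π (tv hF f)) ⟨f, hf, rfl⟩ (fun h => hnc (by
      have := (commute_conj_iff g⁻¹ _ _).2 h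
      rw [show g⁻¹ * (g * π (tv hF f) * g⁻¹) * g⁻¹⁻¹ = π (tv hF f) by group,
        hg.inv_left.eq, mul_inv_cancel_right] at this
      exact this)) hnc
  suffices k * g ∈ R by simpa using mul_mem (inv_mem hk) this
  have hkw : Commute k (π (tv hF w)) := commute_of_closure (fun y hy => hy.2.symm) k hk
  obtain ⟨s, hs⟩ := QuotientGroup.mk_surjective ((π T)⁻¹ * (k * g) * π T)
  have hgx : Commute (k * g) (π (tv hF w)) := hkw.mul_left hg
  have fix : ∀ r : V, IsPt r → (k * g) * π (tv hF (suMat T *ᵥ r)) * (k * g)⁻¹ = π (tv hF (suMat T *ᵥ r)) →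
      ∃ a : F, suMat s *ᵥ r = a • r := by
    intro r hr e
    have h1 : π (s * tv hF r * s⁻¹) = π (tv hF r) := by
      rw [map_mul, map_mul, map_inv, show π s = (π T)⁻¹ * (k * g) * π T from hs]
      have h2 : π T * π (tv hF r) * (π T)⁻¹ = π (tv hF (suMat T *ᵥ r)) := by
        rw [← map_inv, ← map_mul, ← map_mul, tv_conj hF T hr.2]
      rw [← h2] at e
      calc (π T)⁻¹ * (k * g) * π T * π (tv hF r) * ((π T)⁻¹ * (k * g) * π T)⁻¹
          = (π T)⁻¹ * ((k * g) * (π T * π (tv hF r) * (π T)⁻¹) * (k * g)⁻¹) * π T := by group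
        _ = π (tv hF r) := by rw [e]; group
    rw [tv_conj hF s hr.2] at h1
    exact tv_eq_smul hF ⟨su_mulVec_ne_zero s hr.1, by rw [su_preserves]; exact hr.2⟩ hr
      (pi_inj hF (tv_sq hF (by rw [su_preserves]; exact hr.2)) (tv_sq hF hr.2) h1)
  obtain ⟨a, ha⟩ := fix u₀ hu₀ (by rw [hT, hgx.eq, mul_inv_cancel_right])
  obtain ⟨b, hb⟩ := fix f₀ hf₀ (by
    rw [← hfdef]
    calc k * g * π (tv hF f) * (k * g)⁻¹ = k * (g * π (tv hF f) * g⁻¹) * k⁻¹ := by group
      _ = π (tv hF f) := hkf)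
  have hab : a * b ^ 2 = 1 := by
    have := su_preserves s u₀ f₀
    rw [ha, hb, herm_smul_left, herm_smul_right hF, huf] at this
    exact mul_right_cancel₀ hω0 (by linear_combination this)
  have ha0 : a ≠ 0 := fun e => by rw [e, zero_mul] at hab; exact zero_ne_one hab
  have hb0 : b ≠ 0 := fun e => by rw [e] at hab; simp at hab
  have hba : b = a := by linear_combination b * hab - a * pow_three hF hb0 + (b - a) * e2
  subst hba
  -- rescale by a central element
  let z : Cfsg.SU 6 F 2 := ⟨⟨(b⁻¹ : F) • 1, by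
      rw [Matrix.det_smul, Matrix.det_one, mul_one, Fintype.card_fin, show 6 = 3 * 2 from rfl, pow_mul,
        pow_three hF (inv_ne_zero hb0), one_pow]⟩, fun x y => by
      show hh (((b⁻¹ : F) • (1 : Matrix (Fin 6) (Fin 6) F)) *ᵥ x) (((b⁻¹ : F) • 1) *ᵥ y) = hh x y
      rw [Matrix.smul_mulVec, Matrix.smul_mulVec, Matrix.one_mulVec, Matrix.one_mulVec, herm_smul_left,
        herm_smul_right hF, ← mul_assoc, ← pow_succ', pow_three hF (inv_ne_zero hb0), one_mul]⟩
  have hz : z ∈ Subgroup.center (Cfsg.SU 6 F 2) := (mem_center_SU_iff hF (by norm_num)).2 ⟨b⁻¹, rfl⟩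
  set s' := z * s
  have hs'u : ∀ r : V, suMat s *ᵥ r = b • r → suMat s' *ᵥ r = r := fun r hr => by
    rw [suMat_mul, ← Matrix.mulVec_mulVec, hr]
    show ((b⁻¹ : F) • (1 : Matrix (Fin 6) (Fin 6) F)) *ᵥ (b • r) = r
    rw [Matrix.smul_mulVec, Matrix.one_mulVec, smul_smul, inv_mul_cancel₀ hb0, one_smul]
  have hu' := hs'u _ ha
  have hf' := hs'u _ hb
  have hspan : ∀ r : V, r = Pi.single 0 1 ∨ r = Pi.single 1 1 → suMat s' *ᵥ r = r := by
    have hd : ω + 1 ≠ 0 := by rw [← hω]; exact pow_ne_zero _ hω0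
    have e1 : (Pi.single 1 1 : V) = (ω + 1)⁻¹ • (f₀ + u₀) := by
      funext i
      fin_cases i <;> simp [u₀, f₀, CharTwo.add_self_eq_zero, inv_mul_cancel₀ hd]
    have e0 : (Pi.single 0 1 : V) = u₀ + Pi.single 1 1 := by
      funext i
      fin_cases i <;> simp [u₀, CharTwo.add_self_eq_zero]
    have h1 : suMat s' *ᵥ (Pi.single 1 1 : V) = Pi.single 1 1 := by
      rw [e1, Matrix.mulVec_smul, Matrix.mulVec_add, hf', hu']
    rintro r (rfl | rfl)
    · rw [e0, Matrix.mulVec_add, h1, hu']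
    · exact h1
  obtain ⟨k₅, hk₅⟩ := exists_suSucc_eq hF (g := s') (hspan _ (Or.inl rfl))
  have h5 : suMat k₅ *ᵥ Pi.single 0 1 = Pi.single 0 1 := by
    have := hspan _ (Or.inr rfl)
    rw [← hk₅, suSucc_mulVec] at this
    have ht : Fin.tail (Pi.single 1 1 : V) = Pi.single 0 1 := by
      funext i; fin_cases i <;> simp [Fin.tail, Pi.single_apply]
    funext i
    have h' := congrFun this i.succ
    rw [Fin.cons_succ, ht] at h'
    rw [h', ← ht]; rfl
  obtain ⟨k₄, hk₄⟩ := exists_suSucc_eq hF (g := k₅) h5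
  let ψ : Cfsg.SU 4 F 2 →* Cfsg.PSU 6 F 2 := (MulAut.conj (π T)).toMonoidHom.comp
    ((QuotientGroup.mk' _).comp ((suSucc (F := F) (q := 2) (n := 5)).comp (suSucc (F := F) (q := 2) (n := 4))))
  have hψ : ψ k₄ = k * g := by
    show π T * π (suSucc (suSucc k₄)) * (π T)⁻¹ = k * g
    rw [hk₄, hk₅, map_mul, show π z = 1 from (QuotientGroup.eq_one_iff _).2 hz, one_mul,
      show π s = (π T)⁻¹ * (k * g) * π T from hs]
    group
  rw [← hψ]
  have hle : tvGroup 4 F 2 ≤ R.comap ψ := by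
    refine (Subgroup.closure_le _).2 ?_
    rintro A ⟨v, c, hv, hA⟩
    rw [SetLike.mem_coe, Subgroup.mem_comap]
    set r : V := Fin.cons 0 (Fin.cons 0 v) with hr
    have hrr : hh r r = 0 := by
      rw [hr, herm_cons, herm_cons, hv]; simp
    by_cases hv0 : v = 0
    · have : A = 1 := su_ext fun x => by rw [hA, utv_mulVec, hv0, smul_zero, add_zero, suMat_one, Matrix.one_mulVec]
      rw [this, map_one]; exact one_mem _
    by_cases hc0 : c = 0
    · have : A = 1 := su_ext fun x => by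
        rw [hA, utv_mulVec, hc0, zero_mul, zero_smul, add_zero, suMat_one, Matrix.one_mulVec]
      rw [this, map_one]; exact one_mem _
    have hcq : c + c ^ 2 = 0 := (utv_preserves_iff hF hv0 hv c).1 fun x y => by
      rw [← hA]; exact su_preserves A x y
    have hc1 : c = 1 := by
      have : c * (1 + c) = 0 := by linear_combination hcq
      linear_combination ((mul_eq_zero.1 this).resolve_left hc0) - e2
    have hr0 : r ≠ 0 := fun e => hv0 (funext fun i => by simpa [hr] using congrFun e i.succ.succ)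
    have hAr : suSucc (suSucc A) = tv hF r := su_ext fun x => by
      rw [tv_apply hF hrr, suSucc_mulVec, suSucc_mulVec, hA, utv_mulVec, hc1, one_mul, hr]
      conv_rhs => rw [← Fin.cons_self_tail x, herm_cons, ← Fin.cons_self_tail (Fin.tail x), herm_cons]
      funext i
      induction i using Fin.cases with
      | zero => simp
      | succ i => induction i using Fin.cases <;> simp [Fin.tail]
    have hru : hh r u₀ = 0 := by
      simp [hr, u₀, Cfsg.hermForm, Fin.sum_univ_succ]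
    refine Subgroup.subset_closure ⟨⟨suMat T *ᵥ r, ⟨su_mulVec_ne_zero T hr0, by rw [su_preserves]; exact hrr⟩, ?_⟩, ?_⟩
    · show π (tv hF (suMat T *ᵥ r)) = π T * π (suSucc (suSucc A)) * (π T)⁻¹
      rw [hAr, ← tv_conj hF T hrr, map_mul, map_mul, map_inv]
    · show Commute (π (tv hF w)) (π T * π (suSucc (suSucc A)) * (π T)⁻¹)
      rw [hAr, ← hxT]
      exact (commute_conj_iff (π T) _ _).2 ((comm_pi hF hu₀ ⟨hr0, hrr⟩).2 ((hh_comm hF).1 hru))
  exact hle (by rw [tvGroup_eq_top hF (by norm_num) (by omega)]; exact Subgroup.mem_top _)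

/-- The points of a totally isotropic plane. -/
theorem exists_clique : ∃ C, C ⊆ tvSet hF ∧ (∀ x ∈ C, ∀ y ∈ C, Commute x y) ∧ C.ncard = 21 := by
  classical
  haveI := Fintype.ofFinite F
  let f : (Fin 3 → F) → V := fun a => ![a 0, a 0, a 1, a 1, a 2, a 2]
  have hf : Function.Injective f := fun a b e => by
    funext i
    fin_cases i
    exacts [congrFun e 0, congrFun e 2, congrFun e 4]
  have hz : ∀ a b, hh (f a) (f b) = 0 := fun a b => by
    have e2 : (2 : F) = 0 := CharTwo.two_eq_zero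
    simp [f, Cfsg.hermForm, Fin.sum_univ_six]
    linear_combination (a 0 * b 0 ^ 2 + a 1 * b 1 ^ 2 + a 2 * b 2 ^ 2) * e2
  have hsm : ∀ (t : F) (a : Fin 3 → F), f (t • a) = t • f a := fun t a => by
    funext i; fin_cases i <;> simp [f]
  have hf0 : ∀ {a : Fin 3 → F}, a ≠ 0 → IsPt (f a) := fun {a} ha => by
    refine ⟨fun e => ha (funext fun i => ?_), hz a a⟩
    fin_cases i
    exacts [congrFun e 0, congrFun e 2, congrFun e 4]
  set T : Finset (Fin 3 → F) := Finset.univ.erase 0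
  set C := T.image fun a => π (tv hF (f a))
  have hmem : ∀ x ∈ C, ∃ a, a ≠ 0 ∧ x = π (tv hF (f a)) := fun x hx => by
    obtain ⟨a, ha, rfl⟩ := Finset.mem_image.1 hx
    exact ⟨a, Finset.ne_of_mem_erase ha, rfl⟩
  refine ⟨C, fun x hx => ?_, fun x hx y hy => ?_, ?_⟩
  · obtain ⟨a, ha, rfl⟩ := hmem x (Finset.mem_coe.1 hx)
    exact ⟨_, hf0 ha, rfl⟩
  · obtain ⟨a, ha, rfl⟩ := hmem x (Finset.mem_coe.1 hx)
    obtain ⟨b, hb, rfl⟩ := hmem y (Finset.mem_coe.1 hy)
    exact (comm_pi hF (hf0 ha) (hf0 hb)).2 (hz a b)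
  have hfib : ∀ x ∈ C, (T.filter fun a => π (tv hF (f a)) = x).card = 3 := by
    intro x hx
    obtain ⟨a, ha, rfl⟩ := hmem x hx
    have he : (T.filter fun b => π (tv hF (f b)) = π (tv hF (f a))) =
        (Finset.univ.filter fun t : F => t ≠ 0).image fun t => t • a := by
      ext b
      simp only [T, Finset.mem_filter, Finset.mem_erase, Finset.mem_univ, and_true, true_and, Finset.mem_image]
      constructor
      · rintro ⟨hb, e⟩
        obtain ⟨t, ht⟩ := tv_eq_smul hF (hf0 hb) (hf0 ha)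
          (pi_inj hF (tv_sq hF (hz b b)) (tv_sq hF (hz a a)) e)
        rw [← hsm] at ht
        have := hf ht
        subst this
        exact ⟨t, fun e => hb (by rw [e, zero_smul]), rfl⟩
      · rintro ⟨t, ht, rfl⟩
        exact ⟨smul_ne_zero ht ha, by rw [hsm, tv_smul hF (hz a a) ht]⟩
    rw [he, Finset.card_image_of_injective _ fun t u e => smul_left_injective F ha e,
      Finset.filter_ne', Finset.card_erase_of_mem (Finset.mem_univ _), Finset.card_univ,
      ← Nat.card_eq_fintype_card, hF]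
    norm_num
  have hT : T.card = 63 := by
    rw [Finset.card_erase_of_mem (Finset.mem_univ _), Finset.card_univ, Fintype.card_fun, Fintype.card_fin,
      ← Nat.card_eq_fintype_card, hF]
    norm_num
  have := Finset.card_eq_sum_card_image (fun a => π (tv hF (f a))) T
  rw [Finset.sum_congr rfl hfib, Finset.sum_const, hT, smul_eq_mul] at this
  rw [Set.ncard_coe_finset]
  show C.card = 21
  change 63 = C.card * 3 at this
  omega

/-- Two hexads of the totally isotropic plane spanned by three points. -/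
theorem hexads_at {u : Fin 3 → V} (hu : ∀ i j, hh (u i) (u j) = 0)
    (hind : ∀ a : Fin 3 → F, a 0 • u 0 + a 1 • u 1 + a 2 • u 2 = 0 → a = 0) : ∃ t l₁ l₂ : List (Cfsg.PSU 6 F 2),
    t = [π (tv hF (u 0)), π (tv hF (u 1)), π (tv hF (u 2))] ∧
    (∀ x ∈ t ++ l₁ ++ l₂, x ∈ tvSet hF) ∧ (∀ x ∈ t ++ l₁ ++ l₂, ∀ y ∈ t ++ l₁ ++ l₂, Commute x y) ∧
    t.length = 3 ∧ l₁.length = 3 ∧ l₂.length = 3 ∧ (t ++ l₁).Nodup ∧ (t ++ l₂).Nodup ∧
    (∃ x ∈ l₂, x ∉ l₁) ∧ t.prod * l₁.prod = 1 ∧ t.prod * l₂.prod = 1 := by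
  classical
  obtain ⟨ω, hω0, hω1, hω⟩ := exists_omega hF
  have e2 : (2 : F) = 0 := CharTwo.two_eq_zero
  have hω3 : ω ^ 3 = 1 := pow_three hF hω0
  let f : (Fin 3 → F) → V := fun a => a 0 • u 0 + a 1 • u 1 + a 2 • u 2
  have hf : Function.Injective f := fun a b e => by
    refine sub_eq_zero.1 (hind (a - b) ?_)
    simp only [f] at e
    simp only [Pi.sub_apply, sub_smul]
    rw [← sub_eq_zero.2 e]; abel
  have hsm : ∀ (t : F) (a : Fin 3 → F), f (t • a) = t • f a := fun t a => by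
    simp [f, smul_add, smul_smul]
  have hz : ∀ a b, hh (f a) (f b) = 0 := fun a b => by
    simp [f, herm_add_left, hh_add_right hF, herm_smul_left, herm_smul_right hF, hu]
  have hf0 : ∀ {a : Fin 3 → F}, a ≠ 0 → IsPt (f a) := fun {a} ha => ⟨fun e => ha (hind a e), hz a a⟩
  let g : (Fin 3 → F) → Cfsg.PSU 6 F 2 := fun a => π (tv hF (f a))
  have hg : ∀ {a b : Fin 3 → F}, a ≠ 0 → b ≠ 0 → g a = g b → ∃ t : F, a = t • b := fun {a b} ha hb e => by
    obtain ⟨t, ht⟩ := tv_eq_smul hF (hf0 ha) (hf0 hb) (pi_inj hF (tv_sq hF (hz a a)) (tv_sq hF (hz b b)) e)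
    exact ⟨t, hf (ht.trans (hsm t b).symm)⟩
  let A : Fin 9 → Fin 3 → F := ![![1, 0, 0], ![0, 1, 0], ![0, 0, 1], ![1, 1, 1], ![1, ω, ω ^ 2], ![1, ω ^ 2, ω],
    ![1, 1, ω], ![1, ω, 1], ![1, ω ^ 2, ω ^ 2]]
  have hA : ∀ i, A i ≠ 0 := fun i e => by
    have e0 := congrFun e 0
    have e1 := congrFun e 1
    have e2 := congrFun e 2
    fin_cases i <;> simp [A] at e0 e1 e2
  have hω2 : ω ^ 2 ≠ 1 := fun e => hω0 (by linear_combination hω.symm.trans e)
  have hω12 : ω ^ 2 ≠ ω := fun e => hω1 (by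
    have : ω * (ω - 1) = 0 := by linear_combination e
    exact sub_eq_zero.1 ((mul_eq_zero.1 this).resolve_left hω0))
  have hinj : Function.Injective fun i => g (A i) := by
    intro i j e
    obtain ⟨t, ht⟩ := hg (hA i) (hA j) e
    have h0 := congrFun ht 0
    have h1 := congrFun ht 1
    have h2 := congrFun ht 2
    fin_cases i <;> fin_cases j <;> simp [A] at h0 h1 h2 ⊢ <;> grind
  have hprod : ∀ a b c : Fin 3 → F, (∀ j k : Fin 3, (if j = k then 1 else 0) + a j * a k ^ 2 + b j * b k ^ 2 +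
      c j * c k ^ 2 = (0 : F)) →
      g ![1, 0, 0] * (g ![0, 1, 0] * (g ![0, 0, 1] * 1)) * (g a * (g b * (g c * 1))) = 1 := by
    intro a b c habc
    simp only [g, mul_one]
    rw [← map_mul, ← map_mul, ← map_mul, ← map_mul, ← map_mul, ← map_one π]
    refine congrArg π (su_ext fun x => ?_)
    simp only [suMat_mul, ← Matrix.mulVec_mulVec, tv_apply hF (hz _ _), suMat_one, Matrix.one_mulVec,
      herm_add_left, herm_smul_left, hz, mul_zero, add_zero]
    have key : ∀ v, hh x (f v) = hh x (u 0) * v 0 ^ 2 + hh x (u 1) * v 1 ^ 2 + hh x (u 2) * v 2 ^ 2 := fun v => by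
      simp [f, hh_add_right hF, herm_smul_right hF]; ring
    simp only [key]
    funext i
    have k00 := habc 0 0
    have k01 := habc 0 1
    have k02 := habc 0 2
    have k10 := habc 1 0
    have k11 := habc 1 1
    have k12 := habc 1 2
    have k20 := habc 2 0
    have k21 := habc 2 1
    have k22 := habc 2 2
    simp only [Fin.reduceEq, if_true, if_false, zero_add] at k00 k01 k02 k10 k11 k12 k20 k21 k22
    simp [f]
    linear_combination (hh x (u 0) * k00 + hh x (u 1) * k01 + hh x (u 2) * k02) * u 0 i +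
      (hh x (u 0) * k10 + hh x (u 1) * k11 + hh x (u 2) * k12) * u 1 i +
      (hh x (u 0) * k20 + hh x (u 1) * k21 + hh x (u 2) * k22) * u 2 i
  let G' := fun i : Fin 9 => g (A i)
  have hmem : ∀ x ∈ [G' 0, G' 1, G' 2] ++ [G' 3, G' 4, G' 5] ++ [G' 6, G' 7, G' 8], ∃ i, x = G' i := by
    intro x hx
    simp only [List.cons_append, List.nil_append, List.mem_cons, List.not_mem_nil, or_false] at hx
    rcases hx with e | e | e | e | e | e | e | e | e <;> exact ⟨_, e⟩
  refine ⟨[G' 0, G' 1, G' 2], [G' 3, G' 4, G' 5], [G' 6, G' 7, G' 8], by simp [G', g, A, f], fun x hx => ?_, fun x hx y hy => ?_,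
    rfl, rfl, rfl, ?_, ?_, ⟨G' 6, by simp, ?_⟩, ?_, ?_⟩
  · obtain ⟨i, rfl⟩ := hmem x hx
    exact ⟨_, hf0 (hA i), rfl⟩
  · obtain ⟨i, rfl⟩ := hmem x hx
    obtain ⟨j, rfl⟩ := hmem y hy
    exact (comm_pi hF (hf0 (hA i)) (hf0 (hA j))).2 (hz _ _)
  · exact (show ([0, 1, 2, 3, 4, 5] : List (Fin 9)).Nodup by decide).map hinj
  · exact (show ([0, 1, 2, 6, 7, 8] : List (Fin 9)).Nodup by decide).map hinj
  · simp only [List.mem_cons, List.not_mem_nil, or_false, not_or]
    exact ⟨hinj.ne (by decide), hinj.ne (by decide), hinj.ne (by decide)⟩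
  · simp only [List.prod_cons, List.prod_nil]
    exact hprod _ _ _ fun j k => by
      fin_cases j <;> fin_cases k <;> simp [A] <;> grind
  · simp only [List.prod_cons, List.prod_nil]
    exact hprod _ _ _ fun j k => by
      fin_cases j <;> fin_cases k <;> simp [A] <;> grind

/-- Two hexads of some totally isotropic plane. -/
theorem exists_two_hexads : ∃ t l₁ l₂ : List (Cfsg.PSU 6 F 2),
    (∀ x ∈ t ++ l₁ ++ l₂, x ∈ tvSet hF) ∧ (∀ x ∈ t ++ l₁ ++ l₂, ∀ y ∈ t ++ l₁ ++ l₂, Commute x y) ∧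
    t.length = 3 ∧ l₁.length = 3 ∧ l₂.length = 3 ∧ (t ++ l₁).Nodup ∧ (t ++ l₂).Nodup ∧
    (∃ x ∈ l₂, x ∉ l₁) ∧ t.prod * l₁.prod = 1 ∧ t.prod * l₂.prod = 1 := by
  obtain ⟨t, l₁, l₂, -, h⟩ := hexads_at hF (u := ![![1, 1, 0, 0, 0, 0], ![0, 0, 1, 1, 0, 0], ![0, 0, 0, 0, 1, 1]])
    (fun i j => by
      fin_cases i <;> fin_cases j <;> simp [Cfsg.hermForm, Fin.sum_univ_six, CharTwo.add_self_eq_zero])
    (fun a e => by
      funext i
      have e0 := congrFun e 0
      have e2 := congrFun e 2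
      have e4 := congrFun e 4
      fin_cases i <;> simp_all)
  exact ⟨t, l₁, l₂, h⟩

end CfsgLib.ThreeT.SixTwo
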