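import Cfsg.Agent.Spor3T.M22Pentad
import Cfsg.Agent.Spor3T.UnitaryCounts
import Cfsg.Agent.Spor3T.FarConnected

/-!
The neighbourhood of a transposition in type M(22): counts, hyperbolic lines, centralisers.
-/

set_option autoImplicit false
set_option linter.unusedSectionVars false
set_option linter.style.haveILetI false

namespace CfsgLib.ThreeT

namespace SixTwo

open Matrix CfsgLib.Unitary CfsgLib.ThreeT.Prod

variable {F : Type} [Field F] [Finite F] [CharP F 2] (hF : Nat.card F = 2 ^ 2)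

include hF

theorem tvSet_far_trans {x y z : Cfsg.PSU 6 F 2} (hx : x ∈ tvSet hF) (hy : y ∈ tvSet hF)
    (hz : z ∈ tvSet hF) (hxy : ¬ Commute x y) (hxz : ¬ Commute x z) :
    ∃ k ∈ Subgroup.closure {w | w ∈ tvSet hF ∧ Commute x w}, k * y * k⁻¹ = z := by
  haveI := Fintype.ofFinite F
  have hs : IsSimpleGroup (Cfsg.PSU 6 F 2) := Unitary.isSimpleGroup_PSU hF (by norm_num) (by omega)
  have hconj : ∀ (g : Cfsg.PSU 6 F 2), ∀ a ∈ tvSet hF, g * a * g⁻¹ ∈ tvSet hF := by
    rintro g _ ⟨v, hv, rfl⟩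
    obtain ⟨s, rfl⟩ := QuotientGroup.mk_surjective g
    exact ⟨suMat s *ᵥ v, ⟨su_mulVec_ne_zero s hv.1, by rw [su_preserves]; exact hv.2⟩, by
      rw [← tv_conj hF s hv.2, map_mul, map_mul, map_inv]; rfl⟩
  have hna : ¬ ∀ a b : Cfsg.PSU 6 F 2, Commute a b := fun h => hxy (h x y)
  have hgen : Subgroup.closure (tvSet hF) = ⊤ := by
    have hn : (Subgroup.closure (tvSet hF)).Normal := ⟨fun a ha g => by
      induction ha using Subgroup.closure_induction with
      | mem u hu => exact Subgroup.subset_closure (hconj g u hu)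
      | one => simp
      | mul u v _ _ hu hv => simpa [mul_assoc] using mul_mem hu hv
      | inv u _ hu => simpa [mul_assoc] using inv_mem hu⟩
    refine hn.eq_bot_or_eq_top.resolve_left fun h => ?_
    obtain ⟨v, hv, rfl⟩ := hx
    exact pi_tv_ne_one hF hv (Subgroup.mem_bot.1 (h ▸ Subgroup.subset_closure ⟨v, hv, rfl⟩))
  have hcl : Cfsg.IsThreeTranspositionClass (tvSet hF) := by
    refine ⟨⟨?_, ?_⟩, ⟨x, hx, Set.ext fun a => ⟨fun ha => ?_, fun ha => ?_⟩⟩, hgen⟩
    · rintro _ ⟨v, hv, rfl⟩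
      exact orderOf_eq_prime (by rw [pow_two, ← map_mul, tv_sq hF hv.2, map_one]) (pi_tv_ne_one hF hv)
    · rintro _ ⟨u, hu, rfl⟩ _ ⟨v, hv, rfl⟩
      by_cases h : Cfsg.hermForm 6 F 2 u v = 0
      · left
        rw [((comm_pi hF hu hv).2 h).mul_pow, pow_two, pow_two, ← map_mul, ← map_mul, tv_sq hF hu.2,
          tv_sq hF hv.2, map_one, one_mul]
      · right
        set A := QuotientGroup.mk' (Subgroup.center (Cfsg.SU 6 F 2)) (tv hF u) with hA
        set B := QuotientGroup.mk' (Subgroup.center (Cfsg.SU 6 F 2)) (tv hF v) with hB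
        have e : A * B * A = B * A * B := by
          rw [hA, hB, mul_pi hF hu.2 hv.2, mul_pi hF hv.2 hu.2]
          have h' := fun e => h ((hh_comm hF).1 e)
          have hsc : Cfsg.hermForm 6 F 2 u v • (v + Cfsg.hermForm 6 F 2 v u • u) =
              u + Cfsg.hermForm 6 F 2 u v • v := by
            rw [smul_add, smul_smul, herm_swap hF u v, ← pow_succ', pow_three hF h, one_smul, add_comm]
          rw [← hsc, tv_smul hF (by
            rw [← tv_apply hF hu.2 v, su_preserves]; exact hv.2) h]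
        have hA2 : A * A = 1 := by rw [hA, ← map_mul, tv_sq hF hu.2, map_one]
        have hB2 : B * B = 1 := by rw [hB, ← map_mul, tv_sq hF hv.2, map_one]
        calc (A * B) ^ 3 = A * B * A * (B * A * B) := by
              simp only [pow_succ, pow_zero, one_mul, mul_assoc]
          _ = A * B * A * (A * B * A) := by rw [← e]
          _ = A * B * (A * A) * B * A := by group
          _ = A * (B * B) * A := by rw [hA2, mul_one]; group
          _ = 1 := by rw [hB2, mul_one, hA2]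
    · obtain ⟨u, hu, rfl⟩ := hx
      obtain ⟨v, hv, rfl⟩ := ha
      obtain ⟨g, hg⟩ := exists_SU_vec hF (by norm_num) hu.1 hv.1 hu.2 hv.2
      exact isConj_iff.2 ⟨QuotientGroup.mk' _ g, by rw [← map_inv, ← map_mul, ← map_mul, tv_conj hF g hu.2, hg]⟩
    · obtain ⟨g, rfl⟩ := isConj_iff.1 ha
      exact hconj g x hx
  have hperfect : commutator (Cfsg.PSU 6 F 2) = ⊤ := by
    refine (inferInstance : (commutator (Cfsg.PSU 6 F 2)).Normal).eq_bot_or_eq_top.resolve_left fun h => hna ?_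
    intro a b
    have := Subgroup.commutator_mem_commutator (Subgroup.mem_top a) (Subgroup.mem_top b)
    rw [← commutator_def, h, Subgroup.mem_bot] at this
    exact commutatorElement_eq_one_iff_commute.1 this
  have hsol : ∀ N : Subgroup (Cfsg.PSU 6 F 2), N.Normal → Group.IsSolvable N → N = ⊥ := by
    intro N hN hs'
    refine hN.eq_bot_or_eq_top.resolve_right fun h => hna ?_
    subst h
    haveI := hs'
    haveI : Group.IsSolvable (Cfsg.PSU 6 F 2) :=
      Group.isSolvable_of_surjective (f := (Subgroup.topEquiv (G := Cfsg.PSU 6 F 2)).toMonoidHom)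
        (Subgroup.topEquiv).surjective
    have := (inferInstance : Group.IsSolvable (Cfsg.PSU 6 F 2)).solvable
    obtain ⟨n, hn⟩ := this
    have hall : ∀ n, derivedSeries (Cfsg.PSU 6 F 2) n = ⊤ := fun n => by
      induction n with
      | zero => rfl
      | succ n ih => rw [derivedSeries_succ, ih, ← commutator_def, hperfect]
    intro a b
    have ha : a ∈ derivedSeries (Cfsg.PSU 6 F 2) n := hall n ▸ Subgroup.mem_top a
    rw [hn, Subgroup.mem_bot] at ha
    rw [ha]; exact Commute.one_left b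
  exact far_transitive hcl hsol (comm_connected hcl hsol (by rw [hperfect, ← commutator_def, hperfect]))
    hx hy hz hxy hxz

end SixTwo

namespace Prod

variable {G : Type*} [Group G] {D : Set G} {d : G}

/-- The facts about the neighbourhood of `d`. -/
structure Local (D : Set G) (d : G) : Prop where
  card_nb : (nb D d).ncard = 693
  card_pair : ∀ b ∈ nb D d, {y | y ∈ nb D d ∧ y ≠ b ∧ Commute y b}.ncard = 180
  card_comm : ∀ b ∈ nb D d, ∀ c ∈ nb D d, b ≠ c → Commute b c →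
    {y | y ∈ nb D d ∧ y ≠ b ∧ y ≠ c ∧ Commute y b ∧ Commute y c}.ncard = 51
  card_line : ∀ b ∈ nb D d, ∀ c ∈ nb D d, ¬ Commute b c →
    {y | y ∈ nb D d ∧ Commute y b ∧ Commute y c}.ncard = 45
  card_three : ∀ b ∈ nb D d, ∀ c ∈ nb D d, ∀ e ∈ nb D d, ¬ Commute b c → Commute e b → Commute e c →
    {y | y ∈ nb D d ∧ y ≠ e ∧ Commute y b ∧ Commute y c ∧ Commute y e}.ncard = 12
  line_three : ∀ b ∈ nb D d, ∀ c ∈ nb D d, ∀ e ∈ nb D d, ¬ Commute b c → ¬ Commute b e →
    (∀ y ∈ nb D d, Commute y b → Commute y c → Commute y e) → e = c ∨ e = b * c * b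
  cent : ∀ b ∈ nb D d, ∀ g ∈ hsub D d, Commute g b →
    ∃ k ∈ Subgroup.closure {y | y ∈ nb D d ∧ Commute b y}, ∀ y ∈ nb D d, Commute y (k⁻¹ * g)
  clique : ∃ C, C ⊆ nb D d ∧ (∀ x ∈ C, ∀ y ∈ C, Commute x y) ∧ C.ncard = 21

theorem local_of_iso [Finite G] (hD : TT0 D) (hcj : ConjD D) (htf : TwinFree D)
    (h1 : ∀ a ∈ D, a ≠ 1) (hd : d ∈ D) (hne : (nb D d).Nonempty) {F : Type} [Field F] [Fintype F]
    (hF : Fintype.card F = 4)
    (e : ↥(hsub D d) ⧸ Subgroup.center ↥(hsub D d) ≃* Cfsg.PSU 6 F 2) : Local D d := by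
  have hF' : Nat.card F = 2 ^ 2 := by rw [Nat.card_eq_fintype_card, hF]; rfl
  haveI : CharP F 2 := by
    obtain ⟨p, hp⟩ := CharP.exists F
    haveI := hp
    obtain ⟨n, hprime, hn⟩ := FiniteField.card F p
    rw [hF] at hn
    have h2 : p ∣ 2 ^ 2 := ⟨p ^ ((n : ℕ) - 1), by
      rw [← pow_succ', Nat.sub_add_cancel (show 1 ≤ (n : ℕ) from n.2)]; exact hn⟩
    rwa [(Nat.prime_dvd_prime_iff_eq hprime Nat.prime_two).1 (hprime.dvd_of_dvd_pow h2)] at hp
  set φ : ↥(hsub D d) →* Cfsg.PSU 6 F 2 :=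
    e.toMonoidHom.comp (QuotientGroup.mk' (Subgroup.center ↥(hsub D d))) with hφ
  set E : Set (Cfsg.PSU 6 F 2) := φ '' {x | (x : G) ∈ nb D d} with hEdef
  have hI := img_tt0 (d := d) hD
  have hmem : ∀ {x : Cfsg.PSU 6 F 2}, x ∈ E → e.symm x ∈ img D d := by
    rintro _ ⟨y, hy, rfl⟩
    exact ⟨y, hy, (e.symm_apply_apply _).symm⟩
  have hE : TT0 E := by
    refine ⟨fun a ha => e.symm.injective ?_, fun a ha a' ha' => ?_, fun g a ha => ?_⟩
    · rw [map_mul, map_one]; exact hI.sq _ (hmem ha)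
    · rcases hI.pair _ (hmem ha) _ (hmem ha') with h | h
      · exact Or.inl (e.symm.injective (by rwa [map_pow, map_mul, map_one]))
      · exact Or.inr (e.symm.injective (by rwa [map_pow, map_mul, map_one]))
    · obtain ⟨y, hy, hye⟩ := hI.conj (e.symm g) _ (hmem ha)
      refine ⟨y, hy, e.symm.injective ?_⟩
      show e.symm (e (y : ↥(hsub D d) ⧸ Subgroup.center ↥(hsub D d))) = _
      rw [map_mul, map_mul, map_inv, e.symm_apply_apply, hye]
  have hd1 := h1 d hd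
  have hinj : ∀ {x y : ↥(hsub D d)}, (x : G) ∈ nb D d → (y : G) ∈ nb D d → φ x = φ y → (x : G) = y :=
    fun {x y} hx hy h => by
      by_contra hne'
      exact not_central hD hcj htf hd hd1 hx (h1 _ hx.1) fun z hz =>
        central_of_mk_eq hD hx hy hne' (e.injective h) hz
  have hcom : ∀ {x y : ↥(hsub D d)}, (x : G) ∈ nb D d → (y : G) ∈ nb D d →
      (Commute (φ x) (φ y) ↔ Commute (x : G) (y : G)) := fun {x y} hx hy =>
    ⟨fun h => (map_commute_iff hD hx hy).1 (by simpa [hφ] using h.map e.symm),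
      fun h => ((map_commute_iff hD hx hy).2 h).map e.toMonoidHom⟩
  have h1E : (1 : Cfsg.PSU 6 F 2) ∉ E := fun ⟨x, hx, h⟩ =>
    not_central hD hcj htf hd hd1 hx (h1 _ hx.1) fun z hz =>
      central_of_mk_eq_one (e.injective (h.trans e.map_one.symm)) hz
  obtain ⟨b₀, hb₀⟩ := hne
  have hEeq : E = SixTwo.tvSet hF' :=
    SixTwo.class_eq hF' hE h1E ⟨φ ⟨b₀, Subgroup.subset_closure hb₀⟩, _, hb₀, rfl⟩
  -- the bijection
  classical
  let ψ : G → Cfsg.PSU 6 F 2 := fun y => if h : y ∈ nb D d then φ ⟨y, Subgroup.subset_closure h⟩ else 1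
  have hψ : ∀ y (hy : y ∈ nb D d), ψ y = φ ⟨y, Subgroup.subset_closure hy⟩ := fun y hy => dif_pos hy
  have hψinj : Set.InjOn ψ (nb D d) := fun a ha b hb h => by
    rw [hψ a ha, hψ b hb] at h
    exact hinj (x := ⟨a, Subgroup.subset_closure ha⟩) (y := ⟨b, Subgroup.subset_closure hb⟩) ha hb h
  have hψim : ψ '' nb D d = SixTwo.tvSet hF' := by
    rw [← hEeq]
    ext z
    constructor
    · rintro ⟨y, hy, rfl⟩; exact ⟨_, hy, (hψ y hy).symm⟩
    · rintro ⟨x, hx, rfl⟩; exact ⟨x, hx, hψ x hx⟩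
  have hψc : ∀ a ∈ nb D d, ∀ b ∈ nb D d, (Commute (ψ a) (ψ b) ↔ Commute a b) := fun a ha b hb => by
    rw [hψ a ha, hψ b hb]
    exact hcom (x := ⟨a, Subgroup.subset_closure ha⟩) (y := ⟨b, Subgroup.subset_closure hb⟩) ha hb
  have hψm : ∀ a ∈ nb D d, ψ a ∈ SixTwo.tvSet hF' := fun a ha => hψim ▸ Set.mem_image_of_mem ψ ha
  have hψe : ∀ a ∈ nb D d, ∀ b ∈ nb D d, (ψ a = ψ b ↔ a = b) := fun a ha b hb =>
    ⟨fun h => hψinj ha hb h, fun h => h ▸ rfl⟩
  have cnt : ∀ (P : G → Prop) (Q : Cfsg.PSU 6 F 2 → Prop), (∀ y ∈ nb D d, P y ↔ Q (ψ y)) →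
      {y | y ∈ nb D d ∧ P y}.ncard = {z | z ∈ SixTwo.tvSet hF' ∧ Q z}.ncard := by
    intro P Q h
    rw [← Set.InjOn.ncard_image (hψinj.mono fun y hy => hy.1)]
    congr 1
    ext z
    constructor
    · rintro ⟨y, ⟨hy, hP⟩, rfl⟩; exact ⟨hψm y hy, (h y hy).1 hP⟩
    · rintro ⟨hz, hQ⟩
      obtain ⟨y, hy, rfl⟩ := (hψim ▸ hz : z ∈ ψ '' nb D d)
      exact ⟨y, ⟨hy, (h y hy).2 hQ⟩, rfl⟩
  refine ⟨?_, fun b hb => ?_, fun b hb c hc hbc hcm => ?_, fun b hb c hc hbc => ?_,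
    fun b hb c hc x hx hbc hxb hxc => ?_, fun b hb c hc x hx hbc hbx hall => ?_, fun b hb g hg hgb => ?_, ?_⟩
  · rw [← SixTwo.ncard_tvSet hF', ← hψim, hψinj.ncard_image]
  · rw [← SixTwo.ncard_nb hF' (hψm b hb)]
    exact cnt (fun y => y ≠ b ∧ Commute y b) (fun z => z ≠ ψ b ∧ Commute z (ψ b)) fun y hy =>
      and_congr (not_congr (hψe y hy b hb).symm) (hψc y hy b hb).symm
  · rw [← SixTwo.ncard_common_comm hF' (hψm b hb) (hψm c hc) (fun h => hbc ((hψe b hb c hc).1 h))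
      ((hψc b hb c hc).2 hcm)]
    exact cnt (fun y => y ≠ b ∧ y ≠ c ∧ Commute y b ∧ Commute y c)
      (fun z => z ≠ ψ b ∧ z ≠ ψ c ∧ Commute z (ψ b) ∧ Commute z (ψ c)) fun y hy =>
      and_congr (not_congr (hψe y hy b hb).symm) (and_congr (not_congr (hψe y hy c hc).symm)
        (and_congr (hψc y hy b hb).symm (hψc y hy c hc).symm))
  · rw [← SixTwo.ncard_common hF' (hψm b hb) (hψm c hc) (fun h => hbc ((hψc b hb c hc).1 h))]
    exact cnt (fun y => Commute y b ∧ Commute y c) (fun z => Commute z (ψ b) ∧ Commute z (ψ c)) fun y hy =>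
      and_congr (hψc y hy b hb).symm (hψc y hy c hc).symm
  · rw [← SixTwo.ncard_common_three hF' (hψm b hb) (hψm c hc) (hψm x hx)
      (fun h => hbc ((hψc b hb c hc).1 h)) ((hψc x hx b hb).2 hxb) ((hψc x hx c hc).2 hxc)]
    exact cnt (fun y => y ≠ x ∧ Commute y b ∧ Commute y c ∧ Commute y x)
      (fun z => z ≠ ψ x ∧ Commute z (ψ b) ∧ Commute z (ψ c) ∧ Commute z (ψ x)) fun y hy =>
      and_congr (not_congr (hψe y hy x hx).symm) (and_congr (hψc y hy b hb).symm
        (and_congr (hψc y hy c hc).symm (hψc y hy x hx).symm))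
  · have hm : b * c * b ∈ nb D d := by
      refine ⟨hD.conj' hc.1 hb.1, fun h => hc.2.1 ?_, (hb.2.2.mul_right hc.2.2).mul_right hb.2.2⟩
      calc c = b * (b * c * b) * b := by
            rw [show b * (b * c * b) * b = (b * b) * c * (b * b) by group, hD.sq b hb.1, one_mul, mul_one]
        _ = d := by rw [h, hb.2.2.symm.eq, mul_assoc, hD.sq b hb.1, mul_one]
    rcases SixTwo.line_three hF' (hψm b hb) (hψm c hc) (hψm x hx) (fun h => hbc ((hψc b hb c hc).1 h))
      (fun h => hbx ((hψc b hb x hx).1 h)) (fun w hw h1 h2 => by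
        obtain ⟨y, hy, rfl⟩ := (hψim ▸ hw : w ∈ ψ '' nb D d)
        exact (hψc y hy x hx).2 (hall y hy ((hψc y hy b hb).1 h1) ((hψc y hy c hc).1 h2))) with h | h
    · exact Or.inl ((hψe x hx c hc).1 h)
    · refine Or.inr ((hψe x hx _ hm).1 ?_)
      rw [h, hψ b hb, hψ c hc, hψ _ hm, ← map_mul, ← map_mul]
      rfl
  · set B : ↥(hsub D d) := ⟨b, Subgroup.subset_closure hb⟩
    have hgen := SixTwo.centralizer_gen hF' (hψm b hb) (g := φ ⟨g, hg⟩) (by
      rw [hψ b hb]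
      exact (show Commute (⟨g, hg⟩ : ↥(hsub D d)) B from Subtype.ext hgb.eq).map φ)
      fun y hy z hz h1 h2 => SixTwo.tvSet_far_trans hF' (hψm b hb) hy hz h1 h2
    have hle : Subgroup.closure {w | w ∈ SixTwo.tvSet hF' ∧ Commute (ψ b) w} ≤
        ((Subgroup.closure {y | y ∈ nb D d ∧ Commute b y}).subgroupOf (hsub D d)).map φ := by
      refine (Subgroup.closure_le _).2 ?_
      rintro w ⟨hw, hc⟩
      obtain ⟨y, hy, rfl⟩ := (hψim ▸ hw : w ∈ ψ '' nb D d)
      exact ⟨⟨y, Subgroup.subset_closure hy⟩, Subgroup.mem_subgroupOf.2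
        (Subgroup.subset_closure ⟨hy, (hψc b hb y hy).1 hc⟩), (hψ y hy).symm⟩
    obtain ⟨k, hk, hkg⟩ := hle hgen
    refine ⟨k, Subgroup.mem_subgroupOf.1 hk, fun y hy => ?_⟩
    have h1 : φ (k⁻¹ * ⟨g, hg⟩) = 1 := by rw [map_mul, map_inv, hkg, inv_mul_cancel]
    have hmk : ((k⁻¹ * ⟨g, hg⟩ : ↥(hsub D d)) : ↥(hsub D d) ⧸ Subgroup.center ↥(hsub D d)) = 1 :=
      e.injective (h1.trans e.map_one.symm)
    exact central_of_mk_eq_one (x := k⁻¹ * ⟨g, hg⟩) hmk hy
  · obtain ⟨C, hC, hcC, hn⟩ := SixTwo.exists_clique hF'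
    have hsub' : C ⊆ ψ '' nb D d := hψim ▸ hC
    refine ⟨{y | y ∈ nb D d ∧ ψ y ∈ C}, fun y hy => hy.1, fun x hx y hy =>
      (hψc x hx.1 y hy.1).1 (hcC _ hx.2 _ hy.2), ?_⟩
    rw [← hn, ← Set.InjOn.ncard_image (hψinj.mono fun y hy => hy.1)]
    congr 1
    ext z
    constructor
    · rintro ⟨y, hy, rfl⟩; exact hy.2
    · intro hz
      obtain ⟨y, hy, rfl⟩ := hsub' hz
      exact ⟨y, ⟨hy, hz⟩, rfl⟩

theorem Local.conj (hD : TT0 D) (h : Local D d) (g : G) : Local D (MulAut.conj g d) := by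
  set σ := MulAut.conj g with hσ
  have hm : ∀ {x}, σ x ∈ nb D (σ d) ↔ x ∈ nb D d := fun {x} => mem_nb_conj hD g
  have hc : ∀ {x y}, Commute (σ x) (σ y) ↔ Commute x y := fun {x y} => commute_conj_iff g x y
  have he : ∀ {x y}, σ x = σ y ↔ x = y := fun {x y} => σ.injective.eq_iff
  have himg : ∀ (P Q : G → Prop), (∀ y, P (σ y) ↔ Q y) →
      {y | y ∈ nb D (σ d) ∧ P y}.ncard = {y | y ∈ nb D d ∧ Q y}.ncard := by
    intro P Q hPQ
    rw [← Set.ncard_image_of_injective {y | y ∈ nb D d ∧ Q y} σ.injective]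
    congr 1
    ext y
    obtain ⟨y, rfl⟩ := σ.surjective y
    rw [σ.injective.mem_set_image]
    exact and_congr hm (hPQ y)
  refine ⟨?_, fun b hb => ?_, fun b hb c hc' hbc hcm => ?_, fun b hb c hc' hbc => ?_,
    fun b hb c hc' x hx hbc hxb hxc => ?_, fun b hb c hc' x hx hbc hbx hall => ?_, fun b hb k hk hkb => ?_, ?_⟩
  · rw [← h.card_nb, ← Set.ncard_image_of_injective (nb D d) σ.injective]
    congr 1
    ext y
    obtain ⟨y, rfl⟩ := σ.surjective y
    rw [σ.injective.mem_set_image]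
    exact hm
  rotate_right
  · obtain ⟨C, hC, hcC, hn⟩ := h.clique
    refine ⟨σ '' C, ?_, ?_, by rw [Set.ncard_image_of_injective _ σ.injective, hn]⟩
    · rintro _ ⟨y, hy, rfl⟩; exact hm.2 (hC hy)
    · rintro _ ⟨x, hx, rfl⟩ _ ⟨y, hy, rfl⟩; exact hc.2 (hcC x hx y hy)
  all_goals obtain ⟨b, rfl⟩ := σ.surjective b; rw [hm] at hb
  · rw [← h.card_pair b hb]
    exact himg _ _ fun y => and_congr (not_congr he) hc
  all_goals try (obtain ⟨c, rfl⟩ := σ.surjective c; rw [hm] at hc')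
  · rw [← h.card_comm b hb c hc' (fun e => hbc (by rw [e])) (hc.1 hcm)]
    exact himg _ _ fun y => and_congr (not_congr he) (and_congr (not_congr he) (and_congr hc hc))
  · rw [← h.card_line b hb c hc' (fun e => hbc (hc.2 e))]
    exact himg _ _ fun y => and_congr hc hc
  all_goals try (obtain ⟨x, rfl⟩ := σ.surjective x; rw [hm] at hx)
  · rw [← h.card_three b hb c hc' x hx (fun e => hbc (hc.2 e)) (hc.1 hxb) (hc.1 hxc)]
    exact himg _ _ fun y => and_congr (not_congr he) (and_congr hc (and_congr hc hc))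
  · rcases h.line_three b hb c hc' x hx (fun e => hbc (hc.2 e)) (fun e => hbx (hc.2 e))
      (fun y hy h1 h2 => hc.1 (hall (σ y) (hm.2 hy) (hc.2 h1) (hc.2 h2))) with e | e
    · exact Or.inl (by rw [e])
    · exact Or.inr (by rw [e, map_mul, map_mul])
  · have hmap : hsub D (σ d) ≤ (hsub D d).map σ.toMonoidHom := by
      refine (Subgroup.closure_le _).2 fun y hy => ?_
      obtain ⟨y, rfl⟩ := σ.surjective y
      exact ⟨y, Subgroup.subset_closure (hm.1 hy), rfl⟩
    obtain ⟨k', hk', rfl⟩ := hmap hk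
    obtain ⟨l, hl, hall⟩ := h.cent b hb k' hk' (hc.1 hkb)
    have hle : (Subgroup.closure {y | y ∈ nb D d ∧ Commute b y}).map σ.toMonoidHom ≤
        Subgroup.closure {y | y ∈ nb D (σ d) ∧ Commute (σ b) y} := by
      rw [MonoidHom.map_closure]
      exact Subgroup.closure_mono fun z ⟨y, ⟨hy, hby⟩, e⟩ => e ▸ ⟨hm.2 hy, hc.2 hby⟩
    refine ⟨σ l, hle ⟨l, hl, rfl⟩, fun y hy => ?_⟩
    obtain ⟨y, rfl⟩ := σ.surjective y
    show Commute (σ y) ((σ l)⁻¹ * σ k')
    rw [← map_inv, ← map_mul]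
    exact hc.2 (hall y (hm.1 hy))

theorem local22 [Finite G] (hD : Cfsg.IsThreeTranspositionGroup D) (hp : Cfsg.IsPrimitiveUnderConj D)
    (h : Cfsg.IsOfTypeM22 G D) : ∀ a ∈ D, Local D a := by
  have hS := setup22 hD hp h
  obtain ⟨-, d, hd, c, hc, hdc, ⟨F, _, _, hF, ⟨e⟩⟩, -⟩ := id h
  have hne : (nb D d).Nonempty := by
    by_contra hno
    rw [Set.not_nonempty_iff_eq_empty] at hno
    have hbot : hsub D d = ⊥ := by rw [hsub, hno, Subgroup.closure_empty]
    obtain ⟨-, hcard⟩ := psu_facts hF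
    have h3 := Subgroup.card_quotient_dvd_card (Subgroup.center ↥(hsub D d))
    rw [Nat.card_congr e.toEquiv, hcard, show Nat.card ↥(hsub D d) = 1 by rw [hbot]; exact Subgroup.card_bot] at h3
    norm_num at h3
  intro a ha
  obtain ⟨g, rfl⟩ := hp.1 d hd a ha
  exact (local_of_iso hS.tt hS.conjD hS.twinFree hS.ne_one hd hne hF e).conj hS.tt g

end Prod

end CfsgLib.ThreeT
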