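import Mathlib

/-!
Elementary abelian 2-groups of automorphisms of a system of 22 points with blocks of six points, any three
points lying in exactly one block: such a group has order at most 32, and it fixes few of the singletons,
pairs and trisected blocks. This is what makes the Golay cocode module free of offenders.
-/

set_option autoImplicit false
set_option linter.unusedSectionVars false
set_option linter.style.haveILetI false

namespace CfsgLib.ThreeT.Block22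

variable {ι : Type*} [Fintype ι] [DecidableEq ι]

/-- Any three of the 22 points lie in exactly one block of six. -/
structure Sys (Blk : Finset ι → Prop) : Prop where
  card : Fintype.card ι = 22
  six : ∀ {H}, Blk H → H.card = 6
  ex : ∀ {a b c : ι}, a ≠ b → a ≠ c → b ≠ c → ∃ H, Blk H ∧ a ∈ H ∧ b ∈ H ∧ c ∈ H
  uniq : ∀ {H H'}, Blk H → Blk H' → ∀ {a b c : ι}, a ≠ b → a ≠ c → b ≠ c → a ∈ H → b ∈ H → c ∈ H →
    a ∈ H' → b ∈ H' → c ∈ H' → H = H'

/-- Preserves the blocks. -/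
def Aut (Blk : Finset ι → Prop) (σ : Equiv.Perm ι) : Prop := ∀ H, Blk H → Blk (H.map σ.toEmbedding)

/-- The permutations fixing every point of a set. -/
def fixer (S : Finset ι) : Subgroup (Equiv.Perm ι) where
  carrier := {σ | ∀ x ∈ S, σ x = x}
  one_mem' := fun _ _ => rfl
  mul_mem' := fun {σ τ} hs ht x hx => by rw [Equiv.Perm.mul_apply, ht x hx, hs x hx]
  inv_mem' := fun {σ} hs x hx => by
    show σ.symm x = x
    rw [Equiv.symm_apply_eq, hs x hx]

theorem mem_fixer {S : Finset ι} {σ : Equiv.Perm ι} : σ ∈ fixer S ↔ ∀ x ∈ S, σ x = x := Iff.rfl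

/-- A bound through the fibres of a map. -/
theorem card_le_fibre {Γ α : Type*} [Group Γ] (B S : Subgroup Γ) [Finite B] [Finite S] [DecidableEq α]
    (f : Γ → α) (O : Finset α) (hO : ∀ b ∈ B, f b ∈ O)
    (hf : ∀ b ∈ B, ∀ b' ∈ B, f b = f b' → b⁻¹ * b' ∈ S) : Nat.card B ≤ O.card * Nat.card S := by
  classical
  let r : α → Γ := fun y => if hy : ∃ b ∈ B, f b = y then hy.choose else 1
  have hr : ∀ b ∈ B, r (f b) ∈ B ∧ f (r (f b)) = f b := fun b hb => by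
    have hy : ∃ b' ∈ B, f b' = f b := ⟨b, hb, rfl⟩
    simp only [r, dif_pos hy]
    exact hy.choose_spec
  let φ : ↥B → ↥O × ↥S := fun b =>
    (⟨f b, hO b b.2⟩, ⟨(r (f b))⁻¹ * b, hf _ (hr b b.2).1 _ b.2 (hr b b.2).2⟩)
  have := Nat.card_le_card_of_injective φ fun b b' e => by
    simp only [φ, Prod.mk.injEq, Subtype.mk.injEq] at e
    obtain ⟨e1, e2⟩ := e
    rw [e1] at e2
    exact Subtype.ext (mul_left_cancel e2)
  rwa [Nat.card_prod, Nat.card_eq_fintype_card (α := ↥O), Fintype.card_coe] at this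

/-- A 2-subgroup has order a power of two. -/
theorem exists_pow {Γ : Type*} [Group Γ] [Finite Γ] {B : Subgroup Γ} (hsq : ∀ σ ∈ B, σ * σ = 1) :
    ∃ k, Nat.card B = 2 ^ k :=
  haveI : Fact (2 : ℕ).Prime := ⟨Nat.prime_two⟩
  IsPGroup.iff_card.1 fun g => ⟨1, Subtype.ext (by simpa [pow_two] using hsq g g.2)⟩

/-- On three points an elementary abelian 2-group induces at most two permutations. -/
theorem small_three {B : Subgroup (Equiv.Perm ι)} (hsq : ∀ σ ∈ B, σ * σ = 1) {T : Finset ι}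
    (hT : T.card = 3) (hinv : ∀ σ ∈ B, ∀ x ∈ T, σ x ∈ T) : Nat.card B ≤ 2 * Nat.card ↥(B ⊓ fixer T) := by
  classical
  haveI : Fact (2 : ℕ).Prime := ⟨Nat.prime_two⟩
  let f : ↥B →* Equiv.Perm ↥T :=
    { toFun := fun σ => Equiv.mk (fun x => ⟨(σ : Equiv.Perm ι) x, hinv σ σ.2 x x.2⟩)
        (fun x => ⟨(σ : Equiv.Perm ι) x, hinv σ σ.2 x x.2⟩)
        (fun x => Subtype.ext (by
          show (σ : Equiv.Perm ι) ((σ : Equiv.Perm ι) x) = x
          rw [← Equiv.Perm.mul_apply, hsq σ σ.2]; rfl))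
        (fun x => Subtype.ext (by
          show (σ : Equiv.Perm ι) ((σ : Equiv.Perm ι) x) = x
          rw [← Equiv.Perm.mul_apply, hsq σ σ.2]; rfl))
      map_one' := Equiv.ext fun x => Subtype.ext rfl
      map_mul' := fun σ τ => Equiv.ext fun x => Subtype.ext rfl }
  have hp : IsPGroup 2 ↥B := fun g => ⟨1, Subtype.ext (by simpa [pow_two] using hsq g g.2)⟩
  obtain ⟨k, hk⟩ := IsPGroup.iff_card.1 (hp.of_surjective f.rangeRestrict f.rangeRestrict_surjective)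
  have hdvd : Nat.card f.range ∣ 6 := by
    have := Subgroup.card_subgroup_dvd_card f.range
    rwa [Nat.card_perm, Nat.card_eq_fintype_card (α := ↥T), Fintype.card_coe, hT] at this
  have hr : Nat.card f.range ≤ 2 := by
    rcases Nat.lt_or_ge k 2 with hk' | hk'
    · rw [hk]; interval_cases k <;> norm_num
    · have : (4 : ℕ) ∣ 6 := (pow_dvd_pow 2 hk').trans (hk ▸ hdvd)
      norm_num at this
  have hker : Nat.card f.ker ≤ Nat.card ↥(B ⊓ fixer T) :=
    Nat.card_le_card_of_injective (fun σ : ↥f.ker => (⟨((σ : ↥B) : Equiv.Perm ι), (σ : ↥B).2, fun x hx =>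
        congrArg Subtype.val (Equiv.congr_fun σ.2 ⟨x, hx⟩)⟩ : ↥(B ⊓ fixer T)))
      fun σ τ e => Subtype.ext (Subtype.ext (congrArg (fun z : ↥(B ⊓ fixer T) => (z : Equiv.Perm ι)) e))
  rw [Subgroup.card_eq_card_quotient_mul_card_subgroup f.ker,
    Nat.card_congr (QuotientGroup.quotientKerEquivRange f).toEquiv]
  exact Nat.mul_le_mul hr hker

variable {Blk : Finset ι → Prop} (h : Sys Blk)

include h

/-- Two blocks with a common point have exactly one more in common. -/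
theorem second {H H' : Finset ι} (hH : Blk H) (hH' : Blk H') (hne : H ≠ H') {x : ι} (hx : x ∈ H)
    (hx' : x ∈ H') : ∃ z, z ≠ x ∧ z ∈ H ∧ z ∈ H' ∧ ∀ w ∈ H, w ∈ H' → w = x ∨ w = z := by
  classical
  obtain ⟨y, hy', hy⟩ : ∃ y ∈ H', y ∉ H := by
    by_contra hc
    push Not at hc
    exact hne (Finset.eq_of_subset_of_card_le hc (by rw [h.six hH, h.six hH'])).symm
  have hyx : y ≠ x := fun e => hy (e ▸ hx)
  have hK : ∀ z ∈ H.erase x, ∃ K, Blk K ∧ x ∈ K ∧ y ∈ K ∧ z ∈ K ∧ ∀ w ∈ H, w ∈ K → w = x ∨ w = z := by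
    intro z hz
    obtain ⟨hzx, hzH⟩ := Finset.mem_erase.1 hz
    obtain ⟨K, hK, h1, h2, h3⟩ := h.ex hyx.symm hzx.symm (fun e : y = z => hy (e ▸ hzH))
    refine ⟨K, hK, h1, h2, h3, fun w hw hwK => ?_⟩
    by_contra hc
    push Not at hc
    exact hy (h.uniq hK hH hzx.symm hc.1.symm hc.2.symm h1 h3 hwK hx hzH hw ▸ h2)
  choose! K hK1 hK2 hK3 hK4 hK5 using hK
  have hrest : ∀ z ∈ H.erase x, ((K z).erase x).erase y ⊆ (Finset.univ.erase x).erase y := fun z _ =>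
    Finset.erase_subset_erase _ (Finset.erase_subset_erase _ (Finset.subset_univ _))
  have hdisj : (↑(H.erase x) : Set ι).PairwiseDisjoint fun z => ((K z).erase x).erase y := by
    intro z hz z' hz' hne'
    refine Finset.disjoint_left.2 fun w hw hw' => hne' ?_
    simp only [Finset.mem_erase] at hw hw'
    have e := h.uniq (hK1 z hz) (hK1 z' hz') hyx.symm hw.2.1.symm hw.1.symm (hK2 z hz) (hK3 z hz) hw.2.2
      (hK2 z' hz') (hK3 z' hz') hw'.2.2
    rcases hK5 z' hz' z (Finset.mem_of_mem_erase hz) (e ▸ hK4 z hz) with q | q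
    · exact absurd q (Finset.ne_of_mem_erase hz)
    · exact q
  have hcov : (H.erase x).biUnion (fun z => ((K z).erase x).erase y) = (Finset.univ.erase x).erase y := by
    refine Finset.eq_of_subset_of_card_le (Finset.biUnion_subset.2 hrest) ?_
    rw [Finset.card_biUnion hdisj, Finset.card_erase_of_mem (Finset.mem_erase.2 ⟨hyx, Finset.mem_univ y⟩),
      Finset.card_erase_of_mem (Finset.mem_univ x), Finset.card_univ, h.card,
      Finset.sum_congr rfl fun z hz => (show (((K z).erase x).erase y).card = 4 by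
        rw [Finset.card_erase_of_mem (Finset.mem_erase.2 ⟨hyx, hK3 z hz⟩), Finset.card_erase_of_mem (hK2 z hz),
          h.six (hK1 z hz)]),
      Finset.sum_const, Finset.card_erase_of_mem hx, h.six hH, smul_eq_mul]
  obtain ⟨w, hw⟩ : ((H'.erase x).erase y).Nonempty := Finset.card_pos.1 (by
    rw [Finset.card_erase_of_mem (Finset.mem_erase.2 ⟨hyx, hy'⟩), Finset.card_erase_of_mem hx', h.six hH']
    norm_num)
  simp only [Finset.mem_erase] at hw
  have hw2 : w ∈ (Finset.univ.erase x).erase y := by simp [hw.1, hw.2.1]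
  rw [← hcov, Finset.mem_biUnion] at hw2
  obtain ⟨z, hz, hwz⟩ := hw2
  simp only [Finset.mem_erase] at hwz
  have e : H' = K z := h.uniq hH' (hK1 z hz) hyx.symm hw.2.1.symm hw.1.symm hx' hy' hw.2.2
    (hK2 z hz) (hK3 z hz) hwz.2.2
  exact ⟨z, Finset.ne_of_mem_erase hz, Finset.mem_of_mem_erase hz, e ▸ hK4 z hz,
    fun v hv hv' => hK5 z hz v hv (e ▸ hv')⟩

/-- Invariance of a block. -/
theorem block_invariant {σ : Equiv.Perm ι} (hσ : Aut Blk σ) {H : Finset ι} (hH : Blk H) {a b c : ι}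
    (hab : a ≠ b) (hac : a ≠ c) (hbc : b ≠ c) (ha : a ∈ H) (hb : b ∈ H) (hc : c ∈ H) (ha' : σ a ∈ H)
    (hb' : σ b ∈ H) (hc' : σ c ∈ H) : ∀ x ∈ H, σ x ∈ H := by
  intro x hx
  have e := h.uniq (hσ H hH) hH (σ.injective.ne hab) (σ.injective.ne hac) (σ.injective.ne hbc)
    (Finset.mem_map_of_mem _ ha) (Finset.mem_map_of_mem _ hb) (Finset.mem_map_of_mem _ hc) ha' hb' hc'
  have := Finset.mem_map_of_mem σ.toEmbedding hx
  rw [e] at this
  exact this

/-- The blocks on two points of `H` and an outside point, and where they meet each other. -/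
theorem meet {H : Finset ι} (hH : Blk H) {p a b : ι} (hp : p ∉ H) (ha : a ∈ H) (hb : b ∈ H) (hab : a ≠ b) :
    ∃ B₁, Blk B₁ ∧ a ∈ B₁ ∧ b ∈ B₁ ∧ p ∈ B₁ ∧ (∀ w ∈ H, w ∈ B₁ → w = a ∨ w = b) ∧
      ∀ c ∈ H, c ≠ a → c ≠ b → ∀ d ∈ H, d ≠ a → d ≠ b → d ≠ c →
        ∃ B₂ q, Blk B₂ ∧ c ∈ B₂ ∧ d ∈ B₂ ∧ p ∈ B₂ ∧ q ∉ H ∧ q ≠ p ∧ q ∈ B₁ ∧ q ∈ B₂ ∧
          (∀ w ∈ B₁, w ∈ B₂ → w = p ∨ w = q) ∧ ∀ w ∈ H, w ∈ B₂ → w = c ∨ w = d := by
  have hnp : ∀ {u : ι}, u ∈ H → u ≠ p := fun hu e => hp (e ▸ hu)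
  have key : ∀ {a b : ι}, a ∈ H → b ∈ H → a ≠ b →
      ∃ B₁, Blk B₁ ∧ a ∈ B₁ ∧ b ∈ B₁ ∧ p ∈ B₁ ∧ ∀ w ∈ H, w ∈ B₁ → w = a ∨ w = b := by
    intro a b ha hb hab
    obtain ⟨B₁, h1, h2, h3, h4⟩ := h.ex hab (hnp ha) (hnp hb)
    refine ⟨B₁, h1, h2, h3, h4, fun w hw hw1 => ?_⟩
    by_contra hc
    push Not at hc
    exact hp (h.uniq h1 hH hab hc.1.symm hc.2.symm h2 h3 hw1 ha hb hw ▸ h4)
  obtain ⟨B₁, h1, h2, h3, h4, h5⟩ := key ha hb hab
  refine ⟨B₁, h1, h2, h3, h4, h5, fun c hc hca hcb d hd hda hdb hdc => ?_⟩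
  obtain ⟨B₂, k1, k2, k3, k4, k5⟩ := key hc hd hdc.symm
  have hne : B₁ ≠ B₂ := fun e => by
    rcases h5 c hc (e ▸ k2) with q | q
    exacts [hca q, hcb q]
  obtain ⟨q, hq, hq1, hq2, hqq⟩ := second h h1 k1 hne h4 k4
  refine ⟨B₂, q, k1, k2, k3, k4, fun hqH => ?_, hq, hq1, hq2, hqq, k5⟩
  rcases h5 q hqH hq1 with e | e <;> rcases k5 q hqH hq2 with e' | e'
  exacts [hca (e'.symm.trans e), hda (e'.symm.trans e), hcb (e'.symm.trans e), hdb (e'.symm.trans e)]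

omit h in
theorem three_mem {S : Finset ι} (hS : 3 ≤ S.card) :
    ∃ a b c, a ∈ S ∧ b ∈ S ∧ c ∈ S ∧ a ≠ b ∧ a ≠ c ∧ b ≠ c := by
  obtain ⟨T, hT, hT3⟩ := Finset.exists_subset_card_eq hS
  obtain ⟨a, b, c, hab, hac, hbc, rfl⟩ := Finset.card_eq_three.1 hT3
  exact ⟨a, b, c, hT (by simp), hT (by simp), hT (by simp), hab, hac, hbc⟩

/-- An automorphism fixing a block pointwise and one more point is trivial. -/
theorem eq_one_of_fix {σ : Equiv.Perm ι} (hσ : Aut Blk σ) {H : Finset ι} (hH : Blk H)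
    (hfix : ∀ x ∈ H, σ x = x) {p : ι} (hp : p ∉ H) (hpf : σ p = p) : σ = 1 := by
  classical
  refine Equiv.ext fun w => ?_
  show σ w = w
  by_cases hwH : w ∈ H
  · exact hfix w hwH
  by_cases hwp : w = p
  · rw [hwp, hpf]
  obtain ⟨a, ha⟩ : H.Nonempty := Finset.card_pos.1 (by rw [h.six hH]; norm_num)
  obtain ⟨B, hB, hBp, hBw, hBa⟩ := h.ex (a := p) (b := w) (c := a) (fun e => hwp e.symm) (fun e => hp (e ▸ ha))
    (fun e => hwH (e ▸ ha))
  obtain ⟨b, hba, hbH, hbB, hbu⟩ := second h hH hB (fun e => hp (e ▸ hBp)) ha hBa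
  obtain ⟨B₁, h1, h2, h3, h4, h5, h6⟩ := meet h hH hp ha hbH hba.symm
  have hB1 : B₁ = B := h.uniq h1 hB hba.symm (fun e : a = p => hp (e ▸ ha)) (fun e : b = p => hp (e ▸ hbH)) h2 h3 h4 hBa hbB hBp
  subst hB1
  -- the three further points of the block come from three pairs
  have hR : ((H.erase a).erase b).card = 4 := by
    rw [Finset.card_erase_of_mem (Finset.mem_erase.2 ⟨hba, hbH⟩), Finset.card_erase_of_mem ha, h.six hH]
  obtain ⟨c, hc⟩ : ((H.erase a).erase b).Nonempty := Finset.card_pos.1 (by omega)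
  set Q := ((H.erase a).erase b).erase c
  have hQ : Q.card = 3 := by rw [Finset.card_erase_of_mem hc, hR]
  simp only [Finset.mem_erase] at hc
  have hsel : ∀ d ∈ Q, ∃ q, q ∈ ((B₁.erase a).erase b).erase p ∧ σ q = q ∧
      ∃ B₂, Blk B₂ ∧ c ∈ B₂ ∧ d ∈ B₂ ∧ p ∈ B₂ ∧ q ∈ B₂ ∧ ∀ v ∈ H, v ∈ B₂ → v = c ∨ v = d := by
    intro d hd
    simp only [Q, Finset.mem_erase] at hd
    obtain ⟨B₂, q, k1, k2, k3, k4, k5, k6, k7, k8, k9, k10⟩ :=
      h6 c hc.2.2 hc.2.1 hc.1 d hd.2.2.2 hd.2.2.1 hd.2.1 hd.1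
    refine ⟨q, ?_, ?_, B₂, k1, k2, k3, k4, k8, k10⟩
    · simp only [Finset.mem_erase]
      exact ⟨k6, fun e => k5 (e ▸ hbH), fun e => k5 (e ▸ ha), k7⟩
    · have i1 := block_invariant h hσ h1 hba.symm (fun e : a = p => hp (e ▸ ha)) (fun e : b = p => hp (e ▸ hbH))
        h2 h3 h4 (by rwa [hfix a ha]) (by rwa [hfix b hbH]) (by rwa [hpf]) q k7
      have i2 := block_invariant h hσ k1 hd.1.symm (fun e : c = p => hp (e ▸ hc.2.2))
        (fun e : d = p => hp (e ▸ hd.2.2.2))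
        k2 k3 k4 (by rwa [hfix c hc.2.2]) (by rwa [hfix d hd.2.2.2]) (by rwa [hpf]) q k8
      rcases k9 _ i1 i2 with e | e
      · exact absurd (σ.injective (e.trans hpf.symm)) k6
      · exact e
  choose! s hs1 hs2 B₂ hs3 hs4 hs5 hs6 hs7 hs8 using hsel
  have hinj : Set.InjOn s ↑Q := by
    intro d hd d' hd' e
    have hcp : c ≠ p := fun e' => hp (e' ▸ hc.2.2)
    have hsd := hs1 d hd
    simp only [Finset.mem_erase] at hsd
    have hsH : s d ≠ c := fun e' => by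
      rcases h5 c hc.2.2 (e' ▸ hsd.2.2.2) with q | q
      exacts [hc.2.1 q, hc.1 q]
    have e2 := h.uniq (hs3 d hd) (hs3 d' hd') hcp hsH.symm hsd.1.symm (hs4 d hd) (hs6 d hd) (hs7 d hd)
      (hs4 d' hd') (hs6 d' hd') (e ▸ hs7 d' hd')
    have hdH : d ∈ H ∧ d ≠ c := by
      simp only [Q, Finset.coe_erase, Set.mem_diff, Set.mem_singleton_iff, Finset.mem_coe] at hd
      exact ⟨hd.1.1.1, hd.2⟩
    rcases hs8 d' hd' d hdH.1 (e2 ▸ hs5 d hd) with q | q
    · exact absurd q hdH.2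
    · exact q
  have himg : Q.image s = ((B₁.erase a).erase b).erase p := by
    refine Finset.eq_of_subset_of_card_le (Finset.image_subset_iff.2 hs1) ?_
    rw [Finset.card_image_of_injOn hinj, hQ, Finset.card_erase_of_mem (by
        simp only [Finset.mem_erase]; exact ⟨fun e => hp (e ▸ hbH), fun e => hp (e ▸ ha), h4⟩),
      Finset.card_erase_of_mem (Finset.mem_erase.2 ⟨hba, h3⟩), Finset.card_erase_of_mem h2, h.six h1]
  have hw : w ∈ ((B₁.erase a).erase b).erase p := by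
    simp only [Finset.mem_erase]
    exact ⟨hwp, fun e => hwH (e ▸ hbH), fun e => hwH (e ▸ ha), hBw⟩
  rw [← himg, Finset.mem_image] at hw
  obtain ⟨d, hd, rfl⟩ := hw
  exact hs2 d hd

variable {B : Subgroup (Equiv.Perm ι)} (hsq : ∀ σ ∈ B, σ * σ = 1) (haut : ∀ σ ∈ B, Aut Blk σ)

include haut in
/-- The elements fixing a block pointwise act semiregularly outside it. -/
theorem semireg {H : Finset ι} (hH : Blk H) {p : ι} (hp : p ∉ H) :
    ∀ σ ∈ B ⊓ fixer H, ∀ τ ∈ B ⊓ fixer H, σ p = τ p → σ = τ := by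
  intro σ hσ τ hτ e
  have hm : τ⁻¹ * σ ∈ B ⊓ fixer H := mul_mem (inv_mem hτ) hσ
  have := eq_one_of_fix h (haut _ hm.1) hH hm.2 hp (by
    rw [Equiv.Perm.mul_apply, e]; exact τ.symm_apply_apply p)
  exact (inv_mul_eq_one.1 this).symm

include hsq haut

/-- Fixing four points off a block leaves at most two elements. -/
theorem card_general {a b c p : ι} (hab : a ≠ b) (hac : a ≠ c) (hbc : b ≠ c) {H : Finset ι} (hH : Blk H)
    (ha : a ∈ H) (hb : b ∈ H) (hc : c ∈ H) (hp : p ∉ H)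
    (hfix : ∀ σ ∈ B, σ a = a ∧ σ b = b ∧ σ c = c ∧ σ p = p) : Nat.card B ≤ 2 := by
  classical
  set R := ((H.erase a).erase b).erase c
  have hR : R.card = 3 := by
    rw [Finset.card_erase_of_mem (by simp only [Finset.mem_erase]; exact ⟨hbc.symm, hac.symm, hc⟩),
      Finset.card_erase_of_mem (Finset.mem_erase.2 ⟨hab.symm, hb⟩), Finset.card_erase_of_mem ha, h.six hH]
  have hinv : ∀ σ ∈ B, ∀ x ∈ R, σ x ∈ R := by
    intro σ hσ x hx
    obtain ⟨f1, f2, f3, -⟩ := hfix σ hσ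
    simp only [R, Finset.mem_erase] at hx ⊢
    refine ⟨fun e => hx.1 (σ.injective (e.trans f3.symm)), fun e => hx.2.1 (σ.injective (e.trans f2.symm)),
      fun e => hx.2.2.1 (σ.injective (e.trans f1.symm)),
      block_invariant h (haut σ hσ) hH hab hac hbc ha hb hc (by rwa [f1]) (by rwa [f2]) (by rwa [f3]) x hx.2.2.2⟩
  have h1 := small_three hsq hR hinv
  have hbot : B ⊓ fixer R = ⊥ := by
    rw [Subgroup.eq_bot_iff_forall]
    intro σ hσ
    obtain ⟨f1, f2, f3, f4⟩ := hfix σ hσ.1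
    refine eq_one_of_fix h (haut σ hσ.1) hH (fun x hx => ?_) hp f4
    by_cases ea : x = a; · rw [ea, f1]
    by_cases eb : x = b; · rw [eb, f2]
    by_cases ec : x = c; · rw [ec, f3]
    exact hσ.2 x (by simp [R, ea, eb, ec, hx])
  rw [hbot, Subgroup.card_bot] at h1
  exact h1

/-- A large fixed set contains four points off a block. -/
theorem card_of_fixed {S : Finset ι} (hS : 7 ≤ S.card) (hfix : ∀ σ ∈ B, ∀ x ∈ S, σ x = x) : Nat.card B ≤ 2 := by
  obtain ⟨a, b, c, ha, hb, hc, hab, hac, hbc⟩ := three_mem (S := S) (by omega)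
  obtain ⟨H, hH, hHa, hHb, hHc⟩ := h.ex hab hac hbc
  obtain ⟨p, hpS, hp⟩ : ∃ p ∈ S, p ∉ H := by
    by_contra hn
    push Not at hn
    have := Finset.card_le_card hn
    rw [h.six hH] at this
    omega
  exact card_general h hsq haut hab hac hbc hH hHa hHb hHc hp
    fun σ hσ => ⟨hfix σ hσ a ha, hfix σ hσ b hb, hfix σ hσ c hc, hfix σ hσ p hpS⟩

omit hsq haut in
/-- An involution moves at least eight points. -/
theorem moved_card {σ : Equiv.Perm ι} (hσ : Aut Blk σ) (h2 : σ * σ = 1) (hne : σ ≠ 1) :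
    8 ≤ (Finset.univ.filter fun x => σ x ≠ x).card := by
  classical
  set F := Finset.univ.filter fun x => σ x = x
  set M := Finset.univ.filter fun x => σ x ≠ x
  have hFM : F.card + M.card = 22 := by
    rw [← h.card, ← Finset.card_univ]; exact Finset.card_filter_add_card_filter_not _
  rcases Nat.lt_or_ge F.card 7 with hF | hF
  · omega
  have hmF : ∀ {x}, x ∈ F → σ x = x := fun hx => (Finset.mem_filter.1 hx).2
  have hss : ∀ x, σ (σ x) = x := fun x => by rw [← Equiv.Perm.mul_apply, h2]; rfl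
  obtain ⟨a, b, c, ha, hb, hc, hab, hac, hbc⟩ := three_mem (S := F) (by omega)
  obtain ⟨H, hH, hHa, hHb, hHc⟩ := h.ex hab hac hbc
  obtain ⟨p, hpF, hp⟩ : ∃ p ∈ F, p ∉ H := by
    by_contra hn
    push Not at hn
    have := Finset.card_le_card hn
    rw [h.six hH] at this
    omega
  have hinvH := block_invariant h hσ hH hab hac hbc hHa hHb hHc (by rwa [hmF ha]) (by rwa [hmF hb])
    (by rwa [hmF hc])
  obtain ⟨d, hdH, hd⟩ : ∃ d ∈ H, σ d ≠ d := by
    by_contra hn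
    push Not at hn
    exact hne (eq_one_of_fix h hσ hH hn hp (hmF hpF))
  set e := σ d
  have heH : e ∈ H := hinvH d hdH
  have hde : d ≠ e := fun q => hd q.symm
  -- the sixth point of the block is fixed
  have hnd : ∀ {u}, σ u = u → d ≠ u ∧ e ≠ u := fun {u} hu => ⟨fun q => hd ((congrArg σ q).trans (hu.trans q.symm)),
    fun q => hd (q.trans (σ.injective (q.trans hu.symm)).symm)⟩
  obtain ⟨nda, nea⟩ := hnd (hmF ha)
  obtain ⟨ndb, neb⟩ := hnd (hmF hb)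
  obtain ⟨ndc, nec⟩ := hnd (hmF hc)
  have h5 : ({a, b, c, d, e} : Finset ι).card = 5 := by
    simp [hab, hac, hbc, nda.symm, ndb.symm, ndc.symm, nea.symm, neb.symm, nec.symm, hde]
  have h5H : ({a, b, c, d, e} : Finset ι) ⊆ H := by simp [Finset.insert_subset_iff, hHa, hHb, hHc, hdH, heH]
  obtain ⟨f, hf⟩ : ∃ f, H \ {a, b, c, d, e} = {f} := Finset.card_eq_one.1 (by
    rw [Finset.card_sdiff_of_subset h5H, h.six hH, h5])
  have hfm : f ∈ H \ {a, b, c, d, e} := by rw [hf]; exact Finset.mem_singleton_self f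
  simp only [Finset.mem_sdiff, Finset.mem_insert, Finset.mem_singleton, not_or] at hfm
  obtain ⟨hfH, nfa, nfb, nfc, nfd, nfe⟩ := hfm
  have hff : σ f = f := by
    have : σ f ∈ H \ ({a, b, c, d, e} : Finset ι) := by
      simp only [Finset.mem_sdiff, Finset.mem_insert, Finset.mem_singleton, not_or]
      exact ⟨hinvH f hfH, fun q => nfa (σ.injective (q.trans (hmF ha).symm)),
        fun q => nfb (σ.injective (q.trans (hmF hb).symm)), fun q => nfc (σ.injective (q.trans (hmF hc).symm)),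
        fun q => nfe (by show f = σ d; rw [← q, hss]), fun q => nfd (σ.injective q)⟩
    rw [hf] at this
    exact Finset.mem_singleton.1 this
  -- three blocks through `a` and `p`, each with two moved points
  have hblock : ∀ y ∈ H, σ y = y → y ≠ a → ∀ z ∈ H, σ z = z → z ≠ a → z ≠ y →
      ∃ B₁ q, Blk B₁ ∧ a ∈ B₁ ∧ y ∈ B₁ ∧ p ∈ B₁ ∧ q ∉ H ∧ σ q ≠ q ∧ q ∈ B₁ ∧ σ q ∈ B₁ ∧
        ∀ v ∈ H, v ∈ B₁ → v = a ∨ v = y := by
    intro y hy hyf hya z hz hzf hza hzy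
    obtain ⟨B₁, h1, h2', h3, h4, h5', h6⟩ := meet h hH hp hHa hy hya.symm
    obtain ⟨dza, -⟩ := hnd (hmF ha)
    obtain ⟨dzy, -⟩ := hnd hyf
    obtain ⟨dzz, ezz⟩ := hnd hzf
    obtain ⟨B₂, q, k1, k2, k3, k4, k5, k6, k7, k8, k9, k10⟩ := h6 z hz hza hzy d hdH dza dzy dzz
    have hi : ∀ v ∈ B₁, σ v ∈ B₁ := block_invariant h hσ h1 hya.symm (fun e' : a = p => hp (e' ▸ hHa))
      (fun e' : y = p => hp (e' ▸ hy)) h2' h3 h4 (by rwa [hmF ha]) (by rwa [hyf]) (by rwa [hmF hpF])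
    refine ⟨B₁, q, h1, h2', h3, h4, k5, fun hq => ?_, k7, hi q k7, h5'⟩
    have hm := hσ B₂ k1
    have m1 : σ z ∈ B₂.map σ.toEmbedding := Finset.mem_map_of_mem _ k2
    have m2 : σ p ∈ B₂.map σ.toEmbedding := Finset.mem_map_of_mem _ k4
    have m3 : σ q ∈ B₂.map σ.toEmbedding := Finset.mem_map_of_mem _ k8
    rw [hzf] at m1; rw [hmF hpF] at m2; rw [hq] at m3
    have e' := h.uniq hm k1 (fun r : z = p => hp (r ▸ hz)) (fun r : z = q => k5 (r ▸ hz)) k6.symm m1 m2 m3 k2 k4 k8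
    have m4 : e ∈ B₂.map σ.toEmbedding := Finset.mem_map_of_mem _ k3
    rw [e'] at m4
    rcases k10 e heH m4 with r | r
    · exact ezz r
    · exact hde r.symm
  obtain ⟨K₁, q₁, hK₁, a₁, b₁, p₁, o₁, n₁, i₁, j₁, u₁⟩ :=
    hblock b hHb (hmF hb) hab.symm c hHc (hmF hc) hac.symm hbc.symm
  obtain ⟨K₂, q₂, hK₂, a₂, b₂, p₂, o₂, n₂, i₂, j₂, u₂⟩ :=
    hblock c hHc (hmF hc) hac.symm b hHb (hmF hb) hab.symm hbc
  obtain ⟨K₃, q₃, hK₃, a₃, b₃, p₃, o₃, n₃, i₃, j₃, u₃⟩ :=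
    hblock f hfH hff nfa b hHb (hmF hb) hab.symm (Ne.symm nfb)
  have hout : ∀ {q : ι}, q ∉ H → σ q ∉ H := fun {q} hq hm => hq (by
    have := hinvH _ hm; rwa [hss] at this)
  -- points of different blocks differ
  have hdiff : ∀ {K K' : Finset ι} {u u' q q' : ι}, Blk K → Blk K' → a ∈ K → a ∈ K' → p ∈ K → p ∈ K' →
      u ∈ K → u ∈ H → u ≠ a → (∀ v ∈ H, v ∈ K' → v = a ∨ v = u') → u ≠ u' → σ q ≠ q → q ∈ K → q' ∈ K' →
      q ≠ q' := by
    intro K K' u u' q q' hK hK' ak ak' pk pk' uk uH ua hu' huu hq qk qk' e'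
    subst e'
    have hpa : a ≠ p := fun r => hp (r ▸ hHa)
    have := h.uniq hK hK' hpa (fun r : a = q => hq (r ▸ hmF ha)) (fun r : p = q => hq (r ▸ hmF hpF))
      ak pk qk ak' pk' qk'
    rcases hu' u uH (this ▸ uk) with r | r
    exacts [ua r, huu r]
  have hs : ∀ {q : ι}, σ q ≠ q → σ (σ q) ≠ σ q := fun {q} hq r => hq (σ.injective r)
  have h8 : ({d, e, q₁, σ q₁, q₂, σ q₂, q₃, σ q₃} : Finset ι).card = 8 := by
    have g12 := hdiff hK₁ hK₂ a₁ a₂ p₁ p₂ b₁ hHb hab.symm u₂ hbc n₁ i₁ i₂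
    have g12' := hdiff hK₁ hK₂ a₁ a₂ p₁ p₂ b₁ hHb hab.symm u₂ hbc n₁ i₁ j₂
    have g1'2 := hdiff hK₁ hK₂ a₁ a₂ p₁ p₂ b₁ hHb hab.symm u₂ hbc (hs n₁) j₁ i₂
    have g1'2' := hdiff hK₁ hK₂ a₁ a₂ p₁ p₂ b₁ hHb hab.symm u₂ hbc (hs n₁) j₁ j₂
    have g13 := hdiff hK₁ hK₃ a₁ a₃ p₁ p₃ b₁ hHb hab.symm u₃ (Ne.symm nfb) n₁ i₁ i₃
    have g13' := hdiff hK₁ hK₃ a₁ a₃ p₁ p₃ b₁ hHb hab.symm u₃ (Ne.symm nfb) n₁ i₁ j₃
    have g1'3 := hdiff hK₁ hK₃ a₁ a₃ p₁ p₃ b₁ hHb hab.symm u₃ (Ne.symm nfb) (hs n₁) j₁ i₃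
    have g1'3' := hdiff hK₁ hK₃ a₁ a₃ p₁ p₃ b₁ hHb hab.symm u₃ (Ne.symm nfb) (hs n₁) j₁ j₃
    have g23 := hdiff hK₂ hK₃ a₂ a₃ p₂ p₃ b₂ hHc hac.symm u₃ (Ne.symm nfc) n₂ i₂ i₃
    have g23' := hdiff hK₂ hK₃ a₂ a₃ p₂ p₃ b₂ hHc hac.symm u₃ (Ne.symm nfc) n₂ i₂ j₃
    have g2'3 := hdiff hK₂ hK₃ a₂ a₃ p₂ p₃ b₂ hHc hac.symm u₃ (Ne.symm nfc) (hs n₂) j₂ i₃
    have g2'3' := hdiff hK₂ hK₃ a₂ a₃ p₂ p₃ b₂ hHc hac.symm u₃ (Ne.symm nfc) (hs n₂) j₂ j₃
    have hne' : ∀ {u q : ι}, u ∈ H → q ∉ H → u ≠ q := fun hu hq r => hq (r ▸ hu)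
    simp [hde, hne' hdH o₁, hne' hdH o₂, hne' hdH o₃, hne' hdH (hout o₁), hne' hdH (hout o₂), hne' hdH (hout o₃),
      hne' heH o₁, hne' heH o₂, hne' heH o₃, hne' heH (hout o₁), hne' heH (hout o₂), hne' heH (hout o₃),
      n₁.symm, n₂.symm, n₃.symm, g12, g12', g1'2, g1'2', g13, g13', g1'3, g1'3', g23, g23', g2'3, g2'3']
  rw [← h8]
  refine Finset.card_le_card fun x hx => ?_
  simp only [Finset.mem_insert, Finset.mem_singleton] at hx
  refine Finset.mem_filter.2 ⟨Finset.mem_univ x, ?_⟩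
  rcases hx with rfl | rfl | rfl | rfl | rfl | rfl | rfl | rfl
  exacts [hd, hs hd, n₁, hs n₁, n₂, hs n₂, n₃, hs n₃]

variable (hcomm : ∀ σ ∈ B, ∀ τ ∈ B, σ * τ = τ * σ)

/-- The orbit of a point. -/
noncomputable def orb (B : Subgroup (Equiv.Perm ι)) (x : ι) : Finset ι :=
  letI := Classical.decPred fun y => ∃ σ ∈ B, σ x = y
  Finset.univ.filter fun y => ∃ σ ∈ B, σ x = y

omit h hsq haut in
theorem mem_orb {x y : ι} : y ∈ orb B x ↔ ∃ σ ∈ B, σ x = y := by simp [orb]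

omit h hsq haut in
theorem self_mem_orb (x : ι) : x ∈ orb B x := mem_orb.2 ⟨1, one_mem B, rfl⟩

omit h hsq haut in
include hcomm in
theorem fix_orb {x : ι} {σ : Equiv.Perm ι} (hσ : σ ∈ B) (hx : σ x = x) : ∀ y ∈ orb B x, σ y = y := by
  intro y hy
  obtain ⟨τ, hτ, rfl⟩ := mem_orb.1 hy
  rw [← Equiv.Perm.mul_apply, hcomm σ hσ τ hτ, Equiv.Perm.mul_apply, hx]

omit h hsq haut in
theorem card_le_orb (x : ι) : Nat.card B ≤ (orb B x).card * Nat.card ↥(B ⊓ fixer {x}) :=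
  card_le_fibre B _ (fun σ => σ x) _ (fun σ hσ => mem_orb.2 ⟨σ, hσ, rfl⟩) fun σ hσ τ hτ e =>
    Subgroup.mem_inf.2 ⟨B.mul_mem (B.inv_mem hσ) hτ, fun y hy => by
      rw [Finset.mem_singleton.1 hy, Equiv.Perm.mul_apply, ← e]; exact σ.symm_apply_apply x⟩

omit h haut in
theorem card_orb_dvd (x : ι) : (orb B x).card ∣ Nat.card B := by
  classical
  have e : orb B x = (MulAction.orbit (↥B) x).toFinset := by
    ext y
    rw [mem_orb, Set.mem_toFinset]
    exact ⟨fun ⟨σ, hσ, e⟩ => ⟨⟨σ, hσ⟩, e⟩, fun ⟨⟨σ, hσ⟩, e⟩ => ⟨σ, hσ, e⟩⟩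
  rw [e, ← Set.ncard_eq_toFinset_card', ← Nat.card_coe_set_eq,
    Nat.card_congr (MulAction.orbitEquivQuotientStabilizer (↥B) x)]
  exact Subgroup.card_quotient_dvd_card _

/-- A point outside a block has an orbit at least as large as the pointwise stabiliser. -/
theorem le_card_orb {H : Finset ι} (hH : Blk H) {p : ι} (hp : p ∉ H) :
    Nat.card ↥(B ⊓ fixer H) ≤ (orb B p).card := by
  have := card_le_fibre (B ⊓ fixer H) ⊥ (fun σ => σ p) (orb B p)
    (fun σ hσ => mem_orb.2 ⟨σ, hσ.1, rfl⟩) fun σ hσ τ hτ e => by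
      rw [Subgroup.mem_bot, semireg h haut hH hp σ hσ τ hτ e, inv_mul_cancel]
  rwa [Subgroup.card_bot, mul_one] at this

/-- The orbits outside meet an invariant set in few points. -/
theorem le_card_sdiff {H : Finset ι} (hH : Blk H) {S : Finset ι} (hS : ∀ σ ∈ B ⊓ fixer H, ∀ x ∈ S, σ x ∈ S)
    {p : ι} (hpS : p ∈ S) (hp : p ∉ H) : Nat.card ↥(B ⊓ fixer H) ≤ (S \ H).card := by
  have := card_le_fibre (B ⊓ fixer H) ⊥ (fun σ => σ p) (S \ H)
    (fun σ hσ => Finset.mem_sdiff.2 ⟨hS σ hσ p hpS, fun hm => hp (by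
      have e : σ (σ p) = p := by rw [← Equiv.Perm.mul_apply, hsq σ hσ.1]; rfl
      rw [hσ.2 _ hm] at e
      rwa [e] at hm)⟩) fun σ hσ τ hτ e => by
      rw [Subgroup.mem_bot, semireg h haut hH hp σ hσ τ hτ e, inv_mul_cancel]
  rwa [Subgroup.card_bot, mul_one] at this

omit h hsq haut in
theorem pow_le {n k m : ℕ} (e : n = 2 ^ k) (hn : n < 2 * 2 ^ m) : n ≤ 2 ^ m := by
  subst e
  exact Nat.pow_le_pow_right (by norm_num) (Nat.lt_succ_iff.1 ((Nat.pow_lt_pow_iff_right (by norm_num : 1 < 2)).1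
    (by rw [pow_succ']; exact hn)))

include hcomm

/-- At most 32 elements. -/
theorem card_le_32 : Nat.card B ≤ 32 := by
  classical
  obtain ⟨n, hn⟩ := exists_pow hsq
  have hopow : ∀ x, ∃ j, (orb B x).card = 2 ^ j := fun x => by
    obtain ⟨j, -, hj⟩ := (Nat.dvd_prime_pow Nat.prime_two).1 (hn ▸ card_orb_dvd hsq x)
    exact ⟨j, hj⟩
  have hstab : ∀ x, ∀ σ ∈ B ⊓ fixer {x}, ∀ y ∈ orb B x, σ y = y := fun x σ hσ =>
    fix_orb hcomm hσ.1 (hσ.2 x (Finset.mem_singleton_self x))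
  have hsqS : ∀ (S : Subgroup (Equiv.Perm ι)), ∀ σ ∈ B ⊓ S, σ * σ = 1 := fun S σ hσ => hsq σ hσ.1
  have hautS : ∀ (S : Subgroup (Equiv.Perm ι)), ∀ σ ∈ B ⊓ S, Aut Blk σ := fun S σ hσ => haut σ hσ.1
  -- a long orbit
  by_cases hlong : ∃ x, 7 ≤ (orb B x).card
  · obtain ⟨x, hx⟩ := hlong
    obtain ⟨j, hj⟩ := hopow x
    have h16 : (orb B x).card ≤ 2 ^ 4 := pow_le hj (by
      have := Finset.card_le_univ (orb B x)
      rw [h.card] at this
      omega)
    have h2 := card_of_fixed h (hsqS _) (hautS _) hx (hstab x)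
    calc Nat.card B ≤ (orb B x).card * Nat.card ↥(B ⊓ fixer {x}) := card_le_orb x
      _ ≤ 2 ^ 4 * 2 := Nat.mul_le_mul h16 h2
      _ ≤ 32 := by norm_num
  push Not at hlong
  by_cases hfour : ∃ x, 3 ≤ (orb B x).card
  · obtain ⟨x, hx⟩ := hfour
    have hx7 := hlong x
    obtain ⟨a, b, c, ha, hb, hc, hab, hac, hbc⟩ := three_mem hx
    obtain ⟨H, hH, hHa, hHb, hHc⟩ := h.ex hab hac hbc
    set S := B ⊓ fixer {x}
    by_cases hsub : orb B x ⊆ H
    · have horb : ∀ σ ∈ B, ∀ y ∈ orb B x, σ y ∈ H := by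
        intro σ hσ y hy
        obtain ⟨τ, hτ, rfl⟩ := mem_orb.1 hy
        exact hsub (mem_orb.2 ⟨σ * τ, mul_mem hσ hτ, rfl⟩)
      set R := ((H.erase a).erase b).erase c
      have hR : R.card = 3 := by
        rw [Finset.card_erase_of_mem (by simp only [Finset.mem_erase]; exact ⟨hbc.symm, hac.symm, hHc⟩),
          Finset.card_erase_of_mem (Finset.mem_erase.2 ⟨hab.symm, hHb⟩), Finset.card_erase_of_mem hHa, h.six hH]
      have hinv : ∀ σ ∈ S, ∀ y ∈ R, σ y ∈ R := by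
        intro σ hσ y hy
        have f1 := hstab x σ hσ a ha
        have f2 := hstab x σ hσ b hb
        have f3 := hstab x σ hσ c hc
        simp only [R, Finset.mem_erase] at hy ⊢
        refine ⟨fun e => hy.1 (σ.injective (e.trans f3.symm)), fun e => hy.2.1 (σ.injective (e.trans f2.symm)),
          fun e => hy.2.2.1 (σ.injective (e.trans f1.symm)),
          block_invariant h (haut σ hσ.1) hH hab hac hbc hHa hHb hHc (horb σ hσ.1 a ha) (horb σ hσ.1 b hb)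
            (horb σ hσ.1 c hc) y hy.2.2.2⟩
      have h1 := small_three (hsqS (fixer {x})) hR hinv
      have hle : Nat.card ↥(S ⊓ fixer R) ≤ Nat.card ↥(B ⊓ fixer H) := by
        refine Nat.card_le_card_of_injective _ (Subgroup.inclusion_injective (K := B ⊓ fixer H) ?_)
        rintro σ ⟨hσ, hσR⟩
        refine ⟨hσ.1, fun y hy => ?_⟩
        by_cases ea : y = a; · rw [ea]; exact hstab x σ hσ a ha
        by_cases eb : y = b; · rw [eb]; exact hstab x σ hσ b hb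
        by_cases ec : y = c; · rw [ec]; exact hstab x σ hσ c hc
        exact hσR y (by simp [R, ea, eb, ec, hy])
      obtain ⟨p, hp⟩ : ∃ p, p ∉ H := by
        by_contra hn'
        push Not at hn'
        have := Finset.card_le_card (s := Finset.univ) (fun y _ => hn' y)
        rw [Finset.card_univ, h.card, h.six hH] at this
        omega
      have h7 := (le_card_orb h hsq haut hH hp).trans_lt (hlong p)
      obtain ⟨i, hi⟩ := exists_pow (hsqS (fixer H))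
      obtain ⟨j, hj⟩ := hopow x
      have h4 : Nat.card ↥(B ⊓ fixer H) ≤ 2 ^ 2 := pow_le hi (by omega)
      have h4' : (orb B x).card ≤ 2 ^ 2 := pow_le hj (by omega)
      calc Nat.card B ≤ (orb B x).card * Nat.card ↥S := card_le_orb x
        _ ≤ 2 ^ 2 * (2 * 2 ^ 2) := Nat.mul_le_mul h4' (h1.trans (Nat.mul_le_mul le_rfl (hle.trans h4)))
        _ ≤ 32 := by norm_num
    · obtain ⟨p, hpO, hp⟩ := Finset.not_subset.1 hsub
      have h2 := card_general h (hsqS (fixer {x})) (hautS (fixer {x})) hab hac hbc hH hHa hHb hHc hp fun σ hσ =>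
        ⟨hstab x σ hσ a ha, hstab x σ hσ b hb, hstab x σ hσ c hc, hstab x σ hσ p hpO⟩
      calc Nat.card B ≤ (orb B x).card * Nat.card ↥S := card_le_orb x
        _ ≤ 7 * 2 := Nat.mul_le_mul (by omega) h2
        _ ≤ 32 := by norm_num
  push Not at hfour
  -- only short orbits
  by_cases hB : B = ⊥
  · rw [hB, Subgroup.card_bot]; norm_num
  obtain ⟨σ, hσ, hσ1⟩ := B.bot_or_exists_ne_one.resolve_left hB
  have hM := moved_card h (haut σ hσ) (hsq σ hσ) hσ1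
  obtain ⟨u, hu⟩ : (Finset.univ.filter fun x => σ x ≠ x).Nonempty := Finset.card_pos.1 (by omega)
  have hu' := (Finset.mem_filter.1 hu).2
  obtain ⟨v, hv⟩ : ((Finset.univ.erase u).erase (σ u)).Nonempty := Finset.card_pos.1 (by
    rw [Finset.card_erase_of_mem (Finset.mem_erase.2 ⟨hu', Finset.mem_univ _⟩),
      Finset.card_erase_of_mem (Finset.mem_univ _), Finset.card_univ, h.card]
    norm_num)
  simp only [Finset.mem_erase] at hv
  obtain ⟨H, hH, hH1, hH2, hH3⟩ := h.ex (a := u) (b := σ u) (c := v) (fun e => hu' e.symm) hv.2.1.symm hv.1.symm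
  obtain ⟨w, hw⟩ : ∃ w, w ∉ H := by
    by_contra hn'
    push Not at hn'
    have := Finset.card_le_card (s := Finset.univ) (fun y _ => hn' y)
    rw [Finset.card_univ, h.card, h.six hH] at this
    omega
  set S := B ⊓ fixer {u, v, w}
  have hS : Nat.card B ≤ ((orb B u) ×ˢ (orb B v) ×ˢ (orb B w)).card * Nat.card ↥S :=
    card_le_fibre B S (fun τ => (τ u, τ v, τ w)) _
      (fun τ hτ => by simp only [Finset.mem_product]; exact ⟨mem_orb.2 ⟨τ, hτ, rfl⟩, mem_orb.2 ⟨τ, hτ, rfl⟩,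
        mem_orb.2 ⟨τ, hτ, rfl⟩⟩) fun τ hτ τ' hτ' e => by
      simp only [Prod.mk.injEq] at e
      refine Subgroup.mem_inf.2 ⟨B.mul_mem (B.inv_mem hτ) hτ', fun y hy => ?_⟩
      simp only [Finset.mem_insert, Finset.mem_singleton] at hy
      rw [Equiv.Perm.mul_apply]
      rcases hy with rfl | rfl | rfl
      · rw [← e.1]; exact τ.symm_apply_apply y
      · rw [← e.2.1]; exact τ.symm_apply_apply y
      · rw [← e.2.2]; exact τ.symm_apply_apply y
  have hS2 := card_general h (hsqS (fixer {u, v, w})) (hautS (fixer {u, v, w})) (fun e => hu' e.symm) hv.2.1.symm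
    hv.1.symm hH hH1 hH2 hH3 hw fun τ hτ =>
    ⟨hτ.2 u (by simp), fix_orb hcomm hτ.1 (hτ.2 u (by simp)) _ (mem_orb.2 ⟨σ, hσ, rfl⟩), hτ.2 v (by simp),
      hτ.2 w (by simp)⟩
  have h2 : ∀ y, (orb B y).card ≤ 2 := fun y => Nat.lt_succ_iff.1 (hfour y)
  rw [Finset.card_product, Finset.card_product] at hS
  calc Nat.card B ≤ (orb B u).card * ((orb B v).card * (orb B w).card) * Nat.card ↥S := hS
    _ ≤ 2 * (2 * 2) * 2 := Nat.mul_le_mul (Nat.mul_le_mul (h2 u) (Nat.mul_le_mul (h2 v) (h2 w))) hS2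
    _ ≤ 32 := by norm_num

end CfsgLib.ThreeT.Block22
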