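import Cfsg.Agent.Spor3T.ReflOrderSix
import Mathlib.Algebra.Module.PID
import Mathlib.RingTheory.Polynomial.Cyclotomic.Basic
import Mathlib.FieldTheory.IsAlgClosed.AlgebraicClosure

/-!
The projective reflection group of a seven-dimensional space over three elements: its order is at least
`4585351680`, and an element of order 13 has centraliser without elements of order 3 or 5.
-/

set_option autoImplicit false
set_option linter.style.haveILetI false
set_option linter.unusedSectionVars false

namespace CfsgLib.ReflThree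

open QuadraticMap CfsgLib.Quad CfsgLib.Forms CfsgLib.QuadStd Polynomial

/-- With a minimal polynomial of full degree, what commutes is a polynomial. -/
theorem commute_eq_aeval {F V : Type*} [Field F] [AddCommGroup V] [Module F V] [FiniteDimensional F V]
    {y z : Module.End F V} (hdeg : Module.finrank F V ≤ (minpoly F y).natDegree) (hyz : Commute z y) :
    ∃ q : F[X], z = aeval y q := by
  obtain ⟨x, hx⟩ := Module.exists_ker_toSpanSingleton_eq_annihilator (R := F[X]) (M := Module.AEval' y)
  obtain ⟨v, rfl⟩ := (Module.AEval'.of y).surjective x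
  have hv : ∀ p : F[X], aeval y p v = 0 → aeval y p = 0 := by
    intro p hp
    have h1 : p ∈ Module.annihilator F[X] (Module.AEval' y) := by
      rw [← hx, LinearMap.mem_ker, LinearMap.toSpanSingleton_apply, ← Module.AEval.of_aeval_smul]
      show Module.AEval'.of y (aeval y p v) = 0
      rw [hp, map_zero]
    refine LinearMap.ext fun w => ?_
    have h2 := Module.mem_annihilator.1 h1 (Module.AEval'.of y w)
    rw [← Module.AEval.of_aeval_smul] at h2
    exact (Module.AEval'.of y).injective (h2.trans (map_zero _).symm)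
  set n := Module.finrank F V
  let Φ : degreeLT F n →ₗ[F] V :=
    (LinearMap.applyₗ v).comp ((aeval y).toLinearMap.comp (degreeLT F n).subtype)
  have hΦ : Function.Injective Φ := by
    refine (injective_iff_map_eq_zero Φ).2 fun p hp => Subtype.ext ?_
    have h1 : aeval y (p : F[X]) = 0 := hv _ hp
    by_contra hne
    have h2 := natDegree_le_of_dvd (minpoly.dvd F y h1) hne
    have h3 := mem_degreeLT.1 p.2
    rw [← natDegree_lt_iff_degree_lt hne] at h3
    omega
  obtain ⟨q, hq⟩ := ((LinearMap.injective_iff_surjective_of_finrank_eq_finrank (by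
    rw [(degreeLTEquiv F n).finrank_eq, Module.finrank_fin_fun])).1 hΦ) (z v)
  refine ⟨q, LinearMap.ext fun w => ?_⟩
  obtain ⟨p, rfl⟩ := ((LinearMap.injective_iff_surjective_of_finrank_eq_finrank (by
    rw [(degreeLTEquiv F n).finrank_eq, Module.finrank_fin_fun])).1 hΦ) w
  have hc : Commute z (aeval y (p : F[X])) :=
    Algebra.commute_of_mem_adjoin_singleton_of_commute (aeval_mem_adjoin_singleton F y) hyz
  show z (aeval y (p : F[X]) v) = aeval y (q : F[X]) (aeval y (p : F[X]) v)
  rw [← Module.End.mul_apply, hc.eq, Module.End.mul_apply, show z v = aeval y (q : F[X]) v from hq.symm,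
    ← Module.End.mul_apply, ← map_mul, mul_comm, map_mul, Module.End.mul_apply]

local instance : Fact (Nat.Prime 3) := ⟨Nat.prime_three⟩

theorem aeval_cube {A : Type*} [Ring A] [Algebra (ZMod 3) A] (a : A) (p : (ZMod 3)[X]) :
    aeval (a ^ 3) p = (aeval a p) ^ 3 := by
  rw [← map_pow, ← ZMod.expand_card, expand_aeval]

/-- An element of order 13 preserving a form in seven dimensions has minimal polynomial of degree seven. -/
theorem natDegree_minpoly_thirteen {Q : QuadraticForm (ZMod 3) (Fin 7 → ZMod 3)}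
    (hQ : (polarBilin Q).Nondegenerate) {y : oGroup Q} (h13 : y ^ 13 = 1) (h1 : y ≠ 1) :
    7 ≤ (minpoly (ZMod 3) (y.1.toLinearMap)).natDegree := by
  classical
  set g : Module.End (ZMod 3) (Fin 7 → ZMod 3) := y.1.toLinearMap
  set p := minpoly (ZMod 3) g
  have hval : ∀ k : ℕ, g ^ k = ((y ^ k : oGroup Q).1).toLinearMap := by
    intro k
    induction k with
    | zero => rfl
    | succ k ih => rw [pow_succ, pow_succ, ih]; rfl
  have hg13 : g ^ 13 = 1 := by rw [hval, h13]; rfl
  have hpol : ∀ k : ℕ, ∀ u w, polar Q ((g ^ k) u) ((g ^ k) w) = polar Q u w := by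
    intro k u w
    rw [hval]
    show polar Q ((y ^ k : oGroup Q).1 u) ((y ^ k : oGroup Q).1 w) = _
    simp only [QuadraticMap.polar, ← map_add, (y ^ k : oGroup Q).2 _]
  have hg12 : g * g ^ 12 = 1 := by rw [← pow_succ', hg13]
  -- the inverse is the adjoint
  have hstep : ∀ (k : ℕ) (u w), polar Q ((g ^ k) u) w = polar Q u (((g ^ 12) ^ k) w) := by
    intro k u w
    rw [← hpol k u (((g ^ 12) ^ k) w), ← Module.End.mul_apply (g ^ k), ← ((Commute.refl g).pow_right 12).mul_pow,
      hg12, one_pow, Module.End.one_apply]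
  have hadj : ∀ (q : (ZMod 3)[X]) (u w), polar Q (aeval g q u) w = polar Q u (aeval (g ^ 12) q w) := by
    intro q u w
    induction q using Polynomial.induction_on' with
    | add q r hq hr =>
      rw [map_add, map_add, LinearMap.add_apply, LinearMap.add_apply, polar_add_left, polar_add_right, hq, hr]
    | monomial n a =>
      rw [aeval_monomial, aeval_monomial, Module.End.mul_apply, Module.End.mul_apply, Module.algebraMap_end_apply,
        Module.algebraMap_end_apply, polar_smul_left, polar_smul_right, hstep]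
  have hinv : aeval (g ^ 12) p = 0 := LinearMap.ext fun w => hQ.2 _ fun u => by
    rw [polarBilin_apply_apply, ← hadj, minpoly.aeval, LinearMap.zero_apply, polar_zero_left]
  have hcube : aeval (g ^ 3) p = 0 := by rw [aeval_cube, minpoly.aeval, zero_pow (by norm_num)]
  -- an eigenvalue one
  have hone : p.IsRoot 1 := by
    obtain ⟨v, hv0, hv⟩ : ∃ v, v ≠ 0 ∧ g v = v := by
      by_contra hno
      push Not at hno
      set N := g - 1
      have hNinj : Function.Injective N := by
        refine (injective_iff_map_eq_zero N).2 fun v hv => ?_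
        by_contra hv0
        exact hno v hv0 (sub_eq_zero.1 hv)
      set N' := g ^ 12 - 1
      set b := Pi.basisFun (ZMod 3) (Fin 7)
      have hBN : ∀ u w, polarBilin Q (N u) w = polarBilin Q u (N' w) := by
        intro u w
        have := hadj (X - 1) u w
        simpa [N, N'] using this
      have hM : (LinearMap.toMatrix b b N).transpose * gram Q b = gram Q b * LinearMap.toMatrix b b N' := by
        ext i j
        simp only [Matrix.mul_apply, Matrix.transpose_apply, LinearMap.toMatrix_apply, gram, Matrix.of_apply]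
        have h := hBN (b i) (b j)
        rw [← b.sum_repr (N (b i)), ← b.sum_repr (N' (b j))] at h
        simp only [map_sum, map_smul, LinearMap.sum_apply, LinearMap.smul_apply, polarBilin_apply_apply,
          smul_eq_mul] at h
        rw [h]
        exact Finset.sum_congr rfl fun k _ => mul_comm _ _
      have hdet : LinearMap.det N = LinearMap.det N' := by
        have h := congrArg Matrix.det hM
        rw [Matrix.det_mul, Matrix.det_mul, Matrix.det_transpose, LinearMap.det_toMatrix,
          LinearMap.det_toMatrix, mul_comm] at h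
        exact mul_left_cancel₀ (det_gram_ne_zero hQ b) h
      have hdg : LinearMap.det g = 1 := by
        have h := congrArg LinearMap.det hg13
        rw [map_pow, map_one] at h
        generalize LinearMap.det g = a at h
        revert a; decide
      have hNN : N = (-1 : ZMod 3) • (g * N') := by
        have e : g * N' = -N := by rw [mul_sub, hg12, mul_one, neg_sub]
        refine LinearMap.ext fun v => ?_
        rw [e]
        simp
      have h2 := congrArg LinearMap.det hNN
      rw [LinearMap.det_smul, map_mul, hdg, ← hdet, one_mul, Module.finrank_fin_fun] at h2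
      have h0 : LinearMap.det N = 0 := by
        generalize LinearMap.det N = a at h2
        revert a; decide
      exact (LinearMap.det_eq_zero_iff_ker_ne_bot.1 h0) (LinearMap.ker_eq_bot.2 hNinj)
    have h := Module.End.aeval_apply_of_hasEigenvector (μ := (1 : ZMod 3)) (f := g) (p := p)
      ⟨Module.End.mem_eigenspace_iff.2 (by rw [hv, one_smul]), hv0⟩
    rw [minpoly.aeval, LinearMap.zero_apply] at h
    exact (smul_eq_zero.1 h.symm).resolve_right hv0
  -- roots
  let E := AlgebraicClosure (ZMod 3)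
  have hpdvd : p ∣ X ^ 13 - 1 := minpoly.dvd _ _ (by rw [map_sub, map_pow, aeval_X, map_one, hg13, sub_self])
  have hsep : p.Separable := Separable.of_dvd ((X_pow_sub_one_separable_iff).2 (by decide)) hpdvd
  have hp0 : p ≠ 0 := minpoly.ne_zero (Algebra.IsIntegral.isIntegral g)
  set R := (p.map (algebraMap (ZMod 3) E)).roots.toFinset
  have hR : R.card = p.natDegree := by
    rw [Multiset.toFinset_card_of_nodup (nodup_roots (hsep.map)),
      (IsAlgClosed.splits _).natDegree_eq_card_roots.symm, natDegree_map]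
  have hmem : ∀ a : E, a ∈ R ↔ aeval a p = 0 := fun a => by
    rw [Multiset.mem_toFinset, mem_roots (map_ne_zero hp0), IsRoot.def, eval_map_algebraMap]
  have hclosed : ∀ k : ℕ, aeval (g ^ k) p = 0 → ∀ a ∈ R, a ^ k ∈ R := by
    intro k hk a ha
    obtain ⟨r, hr⟩ : p ∣ p.comp (X ^ k) := minpoly.dvd _ _ (by rw [aeval_comp, map_pow, aeval_X, hk])
    rw [hmem] at ha ⊢
    have := congrArg (aeval a) hr
    rwa [aeval_comp, map_pow, aeval_X, map_mul, ha, zero_mul] at this
  have h1R : (1 : E) ∈ R := by
    rw [hmem, ← (algebraMap (ZMod 3) E).map_one, aeval_algebraMap_apply_eq_algebraMap_eval, hone.eq_zero, map_zero]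
  obtain ⟨a, haR, ha1⟩ : ∃ a ∈ R, a ≠ 1 := by
    by_contra hno
    push Not at hno
    have h := Finset.card_le_card (t := ({1} : Finset E)) fun a ha => Finset.mem_singleton.2 (hno a ha)
    rw [hR, Finset.card_singleton] at h
    have h' : p.natDegree = 1 := le_antisymm h (minpoly.natDegree_pos (Algebra.IsIntegral.isIntegral g))
    have hX : p = X - C 1 :=
      (eq_of_monic_of_dvd_of_natDegree_le (monic_X_sub_C 1) (minpoly.monic (Algebra.IsIntegral.isIntegral g))
        (dvd_iff_isRoot.2 hone) (by rw [h', natDegree_X_sub_C]))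
    have := minpoly.aeval (ZMod 3) g
    rw [show minpoly (ZMod 3) g = p from rfl, hX, map_sub, aeval_X, aeval_C, map_one, sub_eq_zero] at this
    exact h1 (Subtype.ext (LinearEquiv.toLinearMap_injective this))
  have ha13 : orderOf a = 13 := by
    refine orderOf_eq_prime ?_ ha1 (hp := ⟨by norm_num⟩)
    obtain ⟨r, hr⟩ := hpdvd
    have := congrArg (aeval a) hr
    rw [map_mul, (hmem a).1 haR, zero_mul, map_sub, map_pow, aeval_X, map_one, sub_eq_zero] at this
    exact this
  have h12 := hclosed 12 hinv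
  have h3 := hclosed 3 hcube
  have e3 : a ^ 3 ∈ R := h3 a haR
  have e9 : a ^ 9 ∈ R := by rw [show a ^ 9 = (a ^ 3) ^ 3 by ring]; exact h3 _ e3
  have e12 : a ^ 12 ∈ R := h12 a haR
  have e10 : a ^ 10 ∈ R := by
    have := h12 _ e3
    rwa [← pow_mul, ← pow_mod_orderOf, ha13] at this
  have e4 : a ^ 4 ∈ R := by
    have := h12 _ e9
    rwa [← pow_mul, ← pow_mod_orderOf, ha13] at this
  have hsub : ([0, 1, 3, 9, 12, 10, 4].toFinset.image fun k => a ^ k) ⊆ R := by
    intro z hz
    obtain ⟨k, hk, rfl⟩ := Finset.mem_image.1 hz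
    simp only [List.toFinset_cons, List.toFinset_nil, Finset.mem_insert, Finset.notMem_empty, or_false] at hk
    rcases hk with rfl | rfl | rfl | rfl | rfl | rfl | rfl
    exacts [by rwa [pow_zero], by rwa [pow_one], e3, e9, e12, e10, e4]
  have h7 := Finset.card_le_card hsub
  rw [Finset.card_image_of_injOn, hR] at h7
  · exact le_trans (le_of_eq (by decide)) h7
  · intro i hi j hj e
    have hlt : ∀ k ∈ [0, 1, 3, 9, 12, 10, 4].toFinset, k < 13 := by decide
    exact pow_injOn_Iio_orderOf (by rw [ha13]; exact hlt i hi) (by rw [ha13]; exact hlt j hj) e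

variable {Q : QuadraticForm (ZMod 3) (Fin 7 → ZMod 3)}

theorem card_oGroup_seven (hQ : (polarBilin Q).Nondegenerate) : Nat.card (oGroup Q) = 18341406720 := by
  let r : (Unit ⊕ (Fin 3 ⊕ Fin 3)) ≃ Fin 7 := Fintype.equivOfCardEq (by simp)
  let c := (Pi.basisFun (ZMod 3) (Unit ⊕ (Fin 3 ⊕ Fin 3))).reindex r
  let P := oddQ (F := ZMod 3) 3
  have hP : (polarBilin P).Nondegenerate := oddQ_nondeg two_ne 3
  set b := Pi.basisFun (ZMod 3) (Fin 7)
  have hne : ∀ {V : Type} [AddCommGroup V] [Module (ZMod 3) V] [FiniteDimensional (ZMod 3) V]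
      {R : QuadraticForm (ZMod 3) V} (_ : (polarBilin R).Nondegenerate) (e : Module.Basis (Fin 7) (ZMod 3) V),
      (gram R e).det ≠ 0 := fun hR e => det_gram_ne_zero hR e
  have hneg : gram (-Q) b = -gram Q b := by
    ext i j
    simp [gram, QuadraticMap.polar]
    ring
  have hQ' : (polarBilin (-Q)).Nondegenerate := by
    have e : ∀ u w, polarBilin (-Q) u w = -polarBilin Q u w := fun u w => by
      simp [polarBilin_apply_apply, QuadraticMap.polar]; ring
    exact ⟨fun u hu => hQ.1 u fun w => neg_eq_zero.1 ((e u w).symm.trans (hu w)),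
      fun w hw => hQ.2 w fun u => neg_eq_zero.1 ((e u w).symm.trans (hw u))⟩
  have hcard : Nat.card (oGroup P) = 18341406720 := by
    have h := card_oGroup_odd (q := 3) (Nat.card_zmod 3) two_ne 3
    have e : (2 * ((3 : ℕ) : ℤ) ^ (3 ^ 2) *
      ∏ i ∈ Finset.range 3, (((3 : ℕ) : ℤ) ^ (2 * (i + 1)) - 1)) = 18341406720 := by decide +kernel
    rw [e] at h
    exact_mod_cast h
  have hiso : ∃ g : (Fin 7 → ZMod 3) ≃ₗ[ZMod 3] (Unit ⊕ (Fin 3 ⊕ Fin 3) → ZMod 3),
      (∀ v, P (g v) = Q v) ∨ ∀ v, P (g v) = (-Q) v := by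
    have h1 := hne hQ b
    have h2 := hne hP c
    by_cases hsq : IsSquare ((gram Q b).det * (gram P c).det)
    · obtain ⟨g, hg⟩ := isometric_of_disc two_ne hQ hP b c hsq
      exact ⟨g, Or.inl hg⟩
    · obtain ⟨g, hg⟩ := isometric_of_disc two_ne hQ' hP b c (by
        rw [hneg, Matrix.det_neg, Fintype.card_fin]
        have key : ∀ u v : ZMod 3, u ≠ 0 → v ≠ 0 → ¬ IsSquare (u * v) → IsSquare ((-1) ^ 7 * u * v) := by
          decide
        exact key _ _ h1 h2 hsq)
      exact ⟨g, Or.inr hg⟩
  obtain ⟨g, hg | hg⟩ := hiso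
  · rw [Nat.card_congr (oGroupCongr (Q := Q) (Q' := P) g hg).toEquiv, hcard]
  · have e : oGroup (-Q) = oGroup Q := by
      ext f
      show (∀ v, (-Q) (f v) = (-Q) v) ↔ ∀ v, Q (f v) = Q v
      simp
    rw [← e, Nat.card_congr (oGroupCongr (Q := -Q) (Q' := P) g hg).toEquiv, hcard]

variable {c : ZMod 3}

theorem center_refl_scalar (hQ : (polarBilin Q).Nondegenerate) (hc : c ≠ 0) :
    ∀ z ∈ Subgroup.center ↥(Cfsg.reflectionSubgroup (⇑Q) c), ∃ a : ZMod 3, (a = 1 ∨ a = -1) ∧
      ∀ v, (isoGroupEquiv Q (z : Cfsg.isometryGroup (ZMod 3) (⇑Q))).1 v = a • v := by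
  intro z hz
  have hfr : 5 ≤ Module.finrank (ZMod 3) (Fin 7 → ZMod 3) := by rw [Module.finrank_fin_fun]; norm_num
  obtain ⟨a, ha, hv⟩ := scalar_of_commute hQ hfr (isoGroupEquiv Q (z : Cfsg.isometryGroup (ZMod 3) (⇑Q)))
    fun t ht => by
    obtain ⟨r, hr, rfl⟩ := (map_reflectionSubgroup c).ge (commutator_le_closure hQ (by norm_num) hc ht)
    show isoGroupEquiv Q r * _ = _ * isoGroupEquiv Q r
    rw [← map_mul, ← map_mul]
    exact congrArg _ (congrArg Subtype.val (Subgroup.mem_center_iff.1 hz ⟨r, hr⟩))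
  exact ⟨a, mul_self_eq_one_iff.1 ha, hv⟩

theorem center_refl_sq (hQ : (polarBilin Q).Nondegenerate) (hc : c ≠ 0)
    {z : ↥(Cfsg.reflectionSubgroup (⇑Q) c)} (hz : z ∈ Subgroup.center _) : z * z = 1 := by
  obtain ⟨a, ha, hv⟩ := center_refl_scalar hQ hc z hz
  refine Subtype.ext ((isoGroupEquiv Q).injective (Subtype.ext (LinearEquiv.ext fun v => ?_)))
  rw [Subgroup.coe_mul, map_mul]
  show (isoGroupEquiv Q _).1 ((isoGroupEquiv Q _).1 v) = _
  rw [hv, hv, smul_smul, show a * a = 1 by rcases ha with rfl | rfl <;> rfl, one_smul, Subgroup.coe_one, map_one]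
  rfl

theorem card_proj_seven (hQ : (polarBilin Q).Nondegenerate) (hc : c ≠ 0) :
    4585351680 ≤ Nat.card (↥(Cfsg.reflectionSubgroup (⇑Q) c) ⧸
      Subgroup.center ↥(Cfsg.reflectionSubgroup (⇑Q) c)) := by
  set R := Cfsg.reflectionSubgroup (⇑Q) c
  have hR : Nat.card ↥R = 9170703360 := by
    have h := Subgroup.card_mul_index R
    rw [index_reflectionSubgroup hQ (by norm_num) hc, Nat.card_congr (isoGroupEquiv Q).toEquiv,
      card_oGroup_seven hQ] at h
    omega
  choose f hf1 hf2 using fun z : ↥(Subgroup.center ↥R) => center_refl_scalar hQ hc z.1 z.2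
  have hinj : Function.Injective fun z : ↥(Subgroup.center ↥R) => decide (f z = 1) := by
    intro z w e
    have hfe : f z = f w := by
      simp only [decide_eq_decide] at e
      rcases hf1 z with h1 | h1 <;> rcases hf1 w with h2 | h2 <;> rw [h1, h2] at e ⊢
      · exact absurd (e.1 rfl) (by decide)
      · exact absurd (e.2 rfl) (by decide)
    refine Subtype.ext (Subtype.ext ((isoGroupEquiv Q).injective (Subtype.ext (LinearEquiv.ext fun v => ?_))))
    rw [hf2, hf2, hfe]
  have hZ : Nat.card ↥(Subgroup.center ↥R) ≤ 2 := by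
    have := Nat.card_le_card_of_injective _ hinj
    simpa using this
  have h := Subgroup.card_eq_card_quotient_mul_card_subgroup (Subgroup.center ↥R)
  rw [hR] at h
  generalize Nat.card (↥R ⧸ Subgroup.center ↥R) = A at h ⊢
  generalize Nat.card ↥(Subgroup.center ↥R) = B at h hZ
  interval_cases B <;> omega

/-- An element of order 13 centralises no element of order 3 or 5. -/
theorem thirteen_isolated (hQ : (polarBilin Q).Nondegenerate) (hc : c ≠ 0)
    {y z : ↥(Cfsg.reflectionSubgroup (⇑Q) c) ⧸ Subgroup.center ↥(Cfsg.reflectionSubgroup (⇑Q) c)}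
    {r : ℕ} (hr : r = 3 ∨ r = 5) (hy : orderOf y = 13) (hz : orderOf z = r) : ¬ Commute z y := by
  intro hcomm
  let π := QuotientGroup.mk' (Subgroup.center ↥(Cfsg.reflectionSubgroup (⇑Q) c))
  have hone : ∀ x : ↥(Cfsg.reflectionSubgroup (⇑Q) c), π x = 1 → x * x = 1 := fun x hx => center_refl_sq hQ hc ((QuotientGroup.eq_one_iff x).1 hx)
  have hlift : ∀ (w : ↥(Cfsg.reflectionSubgroup (⇑Q) c) ⧸ Subgroup.center ↥(Cfsg.reflectionSubgroup (⇑Q) c)) (m : ℕ), Odd m → w ^ m = 1 → ∃ x : ↥(Cfsg.reflectionSubgroup (⇑Q) c), π x = w ∧ x ^ m = 1 := by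
    intro w m hm hw
    obtain ⟨x₀, rfl⟩ := QuotientGroup.mk'_surjective _ w
    obtain ⟨i, hi⟩ := hm
    refine ⟨x₀ ^ (m + 1), by rw [pow_succ, map_mul, map_pow, hw, one_mul], ?_⟩
    have h2 := hone (x₀ ^ m) (by rw [map_pow, hw])
    rw [← pow_mul, show (m + 1) * m = m * 2 * (i + 1) by rw [hi]; ring, pow_mul, pow_mul, pow_two, h2, one_pow]
  obtain ⟨Y, hY, hY13⟩ := hlift y 13 (by decide) (by rw [← hy]; exact pow_orderOf_eq_one y)
  obtain ⟨Z, hZ, hZr⟩ := hlift z r (by rcases hr with rfl | rfl <;> decide) (by rw [← hz]; exact pow_orderOf_eq_one z)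
  have hYZ : Commute Z Y := by
    set w := Z * Y * Z⁻¹ * Y⁻¹ with hw
    have hwπ : π w = 1 := by
      rw [hw, map_mul, map_mul, map_mul, map_inv, map_inv, hY, hZ, hcomm.eq, mul_inv_cancel_right, mul_inv_cancel]
    have hwY : Commute w Y := (Subgroup.mem_center_iff.1 ((QuotientGroup.eq_one_iff w).1 hwπ) Y).symm
    have hw13 : w ^ 13 = 1 := by
      have e : w * Y = Z * Y * Z⁻¹ := by rw [hw, inv_mul_cancel_right]
      have := congrArg (· ^ 13) e
      simp only [hwY.mul_pow, conj_pow, hY13] at this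
      simpa using this
    have hw1 : w = 1 := by
      rw [show (13 : ℕ) = 2 * 6 + 1 from rfl, pow_succ, pow_mul, pow_two, hone w hwπ, one_pow, one_mul] at hw13
      exact hw13
    exact mul_inv_eq_iff_eq_mul.1 (mul_inv_eq_one.1 hw1)
  let φ : ↥(Cfsg.reflectionSubgroup (⇑Q) c) →* oGroup Q := (isoGroupEquiv Q).toMonoidHom.comp (Cfsg.reflectionSubgroup (⇑Q) c).subtype
  have hφi : Function.Injective φ := (isoGroupEquiv Q).injective.comp Subtype.val_injective
  let ψ : oGroup Q →* Module.End (ZMod 3) (Fin 7 → ZMod 3) :=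
    { toFun := fun x => x.1.toLinearMap
      map_one' := rfl
      map_mul' := fun _ _ => rfl }
  have hψi : Function.Injective ψ := fun u v e => Subtype.ext (LinearEquiv.toLinearMap_injective e)
  have hY1 : φ Y ≠ 1 := fun q => by
    have : Y = 1 := hφi (q.trans (map_one φ).symm)
    rw [this, map_one] at hY
    rw [← hY, orderOf_one] at hy
    norm_num at hy
  obtain ⟨q, hq⟩ := commute_eq_aeval (F := ZMod 3) (y := ψ (φ Y)) (z := ψ (φ Z))
    (by rw [Module.finrank_fin_fun]; exact natDegree_minpoly_thirteen hQ (by rw [← map_pow, hY13, map_one]) hY1)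
    ((hYZ.map φ).map ψ)
  have h27 : ψ (φ Z) ^ 27 = ψ (φ Z) := by
    have hg : ψ (φ Y) ^ 27 = ψ (φ Y) := by
      rw [show (27 : ℕ) = 13 * 2 + 1 from rfl, pow_succ, pow_mul, ← map_pow ψ (φ Y) 13, ← map_pow φ Y 13, hY13, map_one,
        map_one, one_pow, one_mul]
    rw [hq, show (27 : ℕ) = 3 * 3 * 3 from rfl, pow_mul, pow_mul, ← aeval_cube, ← aeval_cube, ← aeval_cube,
      ← pow_mul, ← pow_mul, hg]
  have h26 : Z ^ 26 = 1 := by
    refine mul_right_cancel (b := Z) ?_
    rw [← pow_succ, one_mul]
    exact hφi (hψi (by rw [map_pow, map_pow]; exact h27))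
  have hZ1 : Z = 1 := by
    rw [← pow_one Z, show (1 : ℕ) = Nat.gcd 26 r by rcases hr with rfl | rfl <;> rfl]
    exact pow_gcd_eq_one.2 ⟨h26, hZr⟩
  rw [hZ1, map_one] at hZ
  rw [← hZ, orderOf_one] at hz
  rcases hr with rfl | rfl <;> norm_num at hz

end CfsgLib.ReflThree
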