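import Cfsg.Agent.Spor3T.M22Order

/-!
One level of the Fischer chain with arbitrary parameters: given the strongly regular data `n, k, l, m, r`
of every neighbourhood, the number of common neighbours of a far pair, the number of members and the
centraliser of a member.
-/

set_option autoImplicit false
set_option linter.unusedSectionVars false
set_option linter.style.haveILetI false

namespace CfsgLib.ThreeT.Level

open CfsgLib.ThreeT.Prod

variable {G : Type*} [Group G] {D : Set G}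

/-- The facts about the neighbourhood of `d`. -/
structure Loc (D : Set G) (d : G) (n k l m r : ℕ) : Prop where
  card_nb : (nb D d).ncard = n
  card_pair : ∀ b ∈ nb D d, {y | y ∈ nb D d ∧ y ≠ b ∧ Commute y b}.ncard = k
  card_comm : ∀ b ∈ nb D d, ∀ c ∈ nb D d, b ≠ c → Commute b c →
    {y | y ∈ nb D d ∧ y ≠ b ∧ y ≠ c ∧ Commute y b ∧ Commute y c}.ncard = l
  card_line : ∀ b ∈ nb D d, ∀ c ∈ nb D d, ¬ Commute b c →
    {y | y ∈ nb D d ∧ Commute y b ∧ Commute y c}.ncard = m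
  card_three : ∀ b ∈ nb D d, ∀ c ∈ nb D d, ∀ e ∈ nb D d, ¬ Commute b c → Commute e b → Commute e c →
    {y | y ∈ nb D d ∧ y ≠ e ∧ Commute y b ∧ Commute y c ∧ Commute y e}.ncard = r
  line_three : ∀ b ∈ nb D d, ∀ c ∈ nb D d, ∀ e ∈ nb D d, ¬ Commute b c → ¬ Commute b e →
    (∀ y ∈ nb D d, Commute y b → Commute y c → Commute y e) → e = c ∨ e = b * c * b
  cent : ∀ b ∈ nb D d, ∀ g ∈ hsub D d, Commute g b →
    ∃ k ∈ Subgroup.closure {y | y ∈ nb D d ∧ Commute b y}, ∀ y ∈ nb D d, Commute y (k⁻¹ * g)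

/-- What is known of a group in the chain before counting. -/
structure Base (D : Set G) : Prop where
  class3 : Cfsg.IsThreeTranspositionClass D
  tt : TT0 D
  ne_one : ∀ a ∈ D, a ≠ 1
  center : Subgroup.center G = ⊥
  conjD : ConjD D
  twinFree : TwinFree D
  conn : ∀ p q : D, Relation.ReflTransGen (fun p q : D => Commute (p : G) q) p q
  near : ∀ a ∈ D, ∀ b ∈ nb D a, ∀ b' ∈ nb D a, ∃ g ∈ hsub D a, g * b * g⁻¹ = b'
  nosol : ∀ N : Subgroup G, N.Normal → Group.IsSolvable N → N = ⊥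
  refl : ∃ d ∈ D, ∃ c ∈ D, ¬ Commute d c ∧
    ¬ Group.IsSolvable (↥(Subgroup.closure (tri D d c)) ⧸ Subgroup.center ↥(Subgroup.closure (tri D d c)))

/-- A far pair whose common neighbours generate an almost simple group modulo the centre. -/
def Refl (D : Set G) : Prop :=
  ∃ d ∈ D, ∃ c ∈ D, ¬ Commute d c ∧
    AlmostSimple (↥(Subgroup.closure (tri D d c)) ⧸ Subgroup.center ↥(Subgroup.closure (tri D d c))) ∧
    ∃ u v : ↥(Subgroup.closure (tri D d c)) ⧸ Subgroup.center ↥(Subgroup.closure (tri D d c)), u * v ≠ v * u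

theorem Refl.not_solvable {D : Set G} (h : Refl D) : ∃ d ∈ D, ∃ c ∈ D, ¬ Commute d c ∧
    ¬ Group.IsSolvable (↥(Subgroup.closure (tri D d c)) ⧸ Subgroup.center ↥(Subgroup.closure (tri D d c))) := by
  obtain ⟨d, hd, c, hc, hdc, hAS, u, v, huv⟩ := h
  refine ⟨d, hd, c, hc, hdc, fun hs => huv ?_⟩
  haveI := hs
  have htop := hAS.nosol ⊤ inferInstance inferInstance
  have h1 : ∀ q : ↥(Subgroup.closure (tri D d c)) ⧸ Subgroup.center ↥(Subgroup.closure (tri D d c)), q = 1 :=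
    fun q => Subgroup.mem_bot.1 (htop ▸ Subgroup.mem_top q)
  rw [h1 u, h1 v]

/-- The data of one level of the chain, before the far pairs are counted. -/
structure Pre (D : Set G) (n k l m r : ℕ) : Prop extends Base D where
  loc : ∀ a ∈ D, Loc D a n k l m r

/-- The arithmetic of a level: `w` is the number of common neighbours of a far pair. -/
structure Arith (n k l m r w c : ℕ) : Prop where
  k_lt : k + 1 < n
  l_pos : 0 < l
  l_lt : 2 * (l + 1) < k
  m_pos : 0 < m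
  r_pos : 0 < r
  r_lt : r + 1 < m
  c_pos : 0 < c
  w_gt : m + 1 < w
  moments : (w : ℤ) * (k + m * l + (w - 1 - m) * m) - 2 * c * (w * k) + n * c ^ 2 = w * (m - c) ^ 2

/-- The data of one level of the chain: one far pair has as many common neighbours as the arithmetic says. -/
structure Geo (D : Set G) (n k l m r w : ℕ) : Prop extends Pre D n k l m r where
  far_one : ∃ d ∈ D, ∃ x₀ ∈ D, ¬ Commute d x₀ ∧ (tri D d x₀).ncard = w

theorem conj_far {a x g : G} (hg : Commute g a) :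
    ¬ Commute a (g * x * g⁻¹) ↔ ¬ Commute a x := by
  conv_lhs => rw [show a = g * a * g⁻¹ by rw [hg.eq, mul_inv_cancel_right], commute_conj_iff]

theorem tri_conj [Finite G] (hD : TT0 D) {a x g : G} (hg : Commute g a) :
    (fun y => g * y * g⁻¹) '' tri D a x = tri D a (g * x * g⁻¹) := by
  have hga : g * a * g⁻¹ = a := by rw [hg.eq, mul_inv_cancel_right]
  ext y
  constructor
  · rintro ⟨z, hz, rfl⟩
    exact ⟨nb_conj hD hz.1.1 hz.1.2.1 hz.1.2.2 hga, (commute_conj_iff g z x).2 hz.2⟩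
  · intro hy
    refine ⟨g⁻¹ * y * g⁻¹⁻¹, ⟨nb_conj hD hy.1.1 hy.1.2.1 hy.1.2.2 ?_, ?_⟩, by group⟩
    · rw [hg.inv_left.eq, mul_inv_cancel_right]
    · rw [← commute_conj_iff g, show g * (g⁻¹ * y * g⁻¹⁻¹) * g⁻¹ = y by group]
      exact hy.2

/-- The non-trivial images of the common neighbours of a far pair form one class. -/
theorem tri_quot [Finite G] (hD : TT0 D) (hset3 : Cfsg.IsThreeTranspositionSet D) {d c : G}
    (hAS : AlmostSimple (↥(Subgroup.closure (tri D d c)) ⧸ Subgroup.center ↥(Subgroup.closure (tri D d c))))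
    (hnc : ∃ u v : ↥(Subgroup.closure (tri D d c)) ⧸ Subgroup.center ↥(Subgroup.closure (tri D d c)), u * v ≠ v * u) :
    Cfsg.IsThreeTranspositionClass
      {q : ↥(Subgroup.closure (tri D d c)) ⧸ Subgroup.center ↥(Subgroup.closure (tri D d c)) |
        q ≠ 1 ∧ ∃ u : ↥(Subgroup.closure (tri D d c)), (u : G) ∈ tri D d c ∧ (u : ↥(Subgroup.closure (tri D d c)) ⧸ _) = q} ∧
    ∀ {u v : ↥(Subgroup.closure (tri D d c))}, (u : G) ∈ tri D d c → (v : G) ∈ tri D d c →
      Commute (QuotientGroup.mk' (Subgroup.center ↥(Subgroup.closure (tri D d c))) u)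
        (QuotientGroup.mk' (Subgroup.center ↥(Subgroup.closure (tri D d c))) v) → Commute (u : G) v := by
  set T := tri D d c
  set L := Subgroup.closure T
  have hLd : ∀ g ∈ L, Commute g d := commute_of_closure fun y hy => hy.1.2.2.symm
  have hLc : ∀ g ∈ L, Commute g c := commute_of_closure fun y hy => hy.2
  have hTL : ∀ y ∈ T, y ∈ L := fun y hy => Subgroup.subset_closure hy
  have hLT : ∀ g ∈ L, ∀ y ∈ T, g * y * g⁻¹ ∈ T := fun g hg y hy => by
    have hgc : g * c * g⁻¹ = c := by rw [(hLc g hg).eq, mul_inv_cancel_right]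
    have hmem : g * y * g⁻¹ ∈ (fun z => g * z * g⁻¹) '' T := ⟨y, hy, rfl⟩
    rwa [tri_conj hD (hLd g hg), hgc] at hmem
  set π := QuotientGroup.mk' (Subgroup.center ↥L)
  set DQ : Set (↥L ⧸ Subgroup.center ↥L) := {q | q ≠ 1 ∧ ∃ u : ↥L, (u : G) ∈ T ∧ π u = q}
  have hcz : ∀ z : ↥L, z ∈ Subgroup.center ↥L → ∀ y ∈ T, Commute y (z : G) := fun z hz y hy =>
    congrArg Subtype.val (Subgroup.mem_center_iff.1 hz ⟨y, hTL y hy⟩)
  have hcomm : ∀ {u v : ↥L}, (u : G) ∈ T → (v : G) ∈ T → Commute (π u) (π v) → Commute (u : G) v := by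
    intro u v hu hv huv
    by_contra hne
    have hm : (u * v) * (u * v) ∈ Subgroup.center ↥L := by
      refine (QuotientGroup.eq_one_iff _).1 ?_
      have e2 : ∀ {w : ↥L}, (w : G) ∈ T → π w * π w = 1 := fun {w} hw => by
        rw [← map_mul, show w * w = 1 from Subtype.ext (hD.sq _ hw.1.1), map_one]
      show π (u * v * (u * v)) = 1
      rw [map_mul, map_mul, ← pow_two, huv.mul_pow, pow_two, pow_two, e2 hu, e2 hv, one_mul]
    have hc1 := hcz _ hm _ hu
    simp only [Subgroup.coe_mul] at hc1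
    have h3 := cube_of_not_commute hset3 hu.1.1 hv.1.1 hne
    have e : (u : G) * v = ((u : G) * v * ((u : G) * v)) * ((u : G) * v * ((u : G) * v)) := by
      simp only [pow_succ, pow_zero, one_mul] at h3
      rw [← mul_assoc ((u : G) * v * ((u : G) * v)), h3, one_mul]
    have hc2 : Commute (u : G) ((u : G) * v) := by rw [e]; exact hc1.mul_right hc1
    have h2 := (Commute.refl (u : G)).inv_right.mul_right hc2
    rw [inv_mul_cancel_left] at h2
    exact hne h2
  refine ⟨?_, hcomm⟩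
  have hconj : ∀ (q : ↥L ⧸ Subgroup.center ↥L), ∀ a ∈ DQ, q * a * q⁻¹ ∈ DQ := by
    rintro q _ ⟨hne, u, hu, rfl⟩
    refine ⟨fun e => hne (conj_eq_one_iff.1 e), ?_⟩
    obtain ⟨g, rfl⟩ := QuotientGroup.mk_surjective q
    exact ⟨g * u * g⁻¹, hLT g g.2 u hu, by rw [map_mul, map_mul, map_inv]; rfl⟩
  have hgen : Subgroup.closure DQ = ⊤ := by
    refine top_le_iff.1 ?_
    rw [← Subgroup.map_top_of_surjective π (QuotientGroup.mk'_surjective _),
      ← show Subgroup.closure {y : ↥L | (y : G) ∈ T} = ⊤ from Subgroup.closure_closure_coe_preimage,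
      MonoidHom.map_closure, Subgroup.closure_le]
    rintro _ ⟨u, hu, rfl⟩
    by_cases e : π u = 1
    · rw [e]; exact one_mem _
    · exact Subgroup.subset_closure ⟨e, u, hu, rfl⟩
  have hset : Cfsg.IsThreeTranspositionSet DQ := by
    refine ⟨?_, ?_⟩
    · rintro _ ⟨hne, u, hu, rfl⟩
      exact orderOf_eq_prime (by rw [pow_two, ← map_mul, show u * u = 1 from Subtype.ext (hD.sq _ hu.1.1), map_one]) hne
    · rintro _ ⟨-, u, hu, rfl⟩ _ ⟨-, v, hv, rfl⟩
      rw [← map_mul, ← map_pow, ← map_pow]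
      exact (hD.pair _ hu.1.1 _ hv.1.1).imp
        (fun e => by rw [show (u * v) ^ 2 = 1 from Subtype.ext (by simpa using e), map_one])
        (fun e => by rw [show (u * v) ^ 3 = 1 from Subtype.ext (by simpa using e), map_one])
  have hone : ∀ a ∈ DQ, ∀ b ∈ DQ, IsConj a b := by
    intro a ha b hb
    by_contra hne
    set C₁ := {x | x ∈ DQ ∧ IsConj a x}
    set C₂ := {x | x ∈ DQ ∧ ¬ IsConj a x}
    have hn : ∀ C : Set (↥L ⧸ Subgroup.center ↥L), (∀ q, ∀ u ∈ C, q * u * q⁻¹ ∈ C) →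
        (Subgroup.closure C).Normal := fun C hC => ⟨fun u hu q => by
      induction hu using Subgroup.closure_induction with
      | mem u hu => exact Subgroup.subset_closure (hC q u hu)
      | one => simp
      | mul u v _ _ hu hv => simpa [mul_assoc] using mul_mem hu hv
      | inv u _ hu => simpa [mul_assoc] using inv_mem hu⟩
    have hC1 : ∀ q, ∀ u ∈ C₁, q * u * q⁻¹ ∈ C₁ := fun q u hu =>
      ⟨hconj q u hu.1, hu.2.trans (isConj_iff.2 ⟨q, rfl⟩)⟩
    have hC2 : ∀ q, ∀ u ∈ C₂, q * u * q⁻¹ ∈ C₂ := fun q u hu =>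
      ⟨hconj q u hu.1, fun e => hu.2 (e.trans (isConj_iff.2 ⟨q, rfl⟩).symm)⟩
    have hc : ⁅Subgroup.closure C₁, Subgroup.closure C₂⁆ = ⊥ := by
      refine Subgroup.commutator_eq_bot_iff_le_centralizer.2 ((Subgroup.closure_le _).2 fun u hu => ?_)
      rw [SetLike.mem_coe, Subgroup.centralizer_closure, Subgroup.mem_centralizer_iff]
      intro v hv
      by_contra hne'
      have := braid_eq_conj hset hu.1 hv.1 (fun e => hne' e.eq.symm)
      exact hv.2 (hu.2.trans (isConj_iff.2 ⟨u * v, this⟩))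
    have hpos : ∀ u ∈ DQ, u ≠ 1 := fun u hu e => by simpa [e] using hset.1 u hu
    rcases hAS.indec _ _ (hn C₁ hC1) (hn C₂ hC2) hc with e | e
    · exact hpos a ha (Subgroup.mem_bot.1 (e ▸ Subgroup.subset_closure ⟨ha, IsConj.refl a⟩))
    · exact hpos b hb (Subgroup.mem_bot.1 (e ▸ Subgroup.subset_closure ⟨hb, hne⟩))
  obtain ⟨q₀, hq₀⟩ : DQ.Nonempty := by
    by_contra hno
    rw [Set.not_nonempty_iff_eq_empty] at hno
    obtain ⟨u, v, huv⟩ := hnc
    have : ∀ x : ↥L ⧸ Subgroup.center ↥L, x = 1 := fun x => by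
      have hx : x ∈ Subgroup.closure DQ := hgen ▸ Subgroup.mem_top x
      rwa [hno, Subgroup.closure_empty, Subgroup.mem_bot] at hx
    exact huv (by rw [this u, this v])
  refine ⟨hset, ⟨q₀, hq₀, Set.ext fun x => ⟨fun hx => hone _ hq₀ x hx, fun hx => ?_⟩⟩, hgen⟩
  obtain ⟨q, rfl⟩ := isConj_iff.1 hx
  exact hconj q _ hq₀

section Base

variable [Finite G] (h : Base D)

include h

theorem far_trans {a c c' : G} (ha : a ∈ D) (hc : c ∈ D) (hc' : c' ∈ D) (hac : ¬ Commute a c)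
    (hac' : ¬ Commute a c') :
    ∃ g ∈ Subgroup.closure {y : G | y ∈ D ∧ Commute a y}, g * c * g⁻¹ = c' :=
  far_transitive h.class3 h.nosol h.conn ha hc hc' hac hac'

theorem commute_of_far {a g : G} (hg : g ∈ Subgroup.closure {y : G | y ∈ D ∧ Commute a y}) : Commute g a :=
  commute_of_closure (fun _ hy => hy.2.symm) g hg

/-- A common neighbour of a far pair has a commuting partner there. -/
theorem exists_partner {b c z : G} (hb : b ∈ D) (hc : c ∈ D) (hbc : ¬ Commute b c) (hz : z ∈ tri D b c) :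
    ∃ y ∈ tri D b c, y ≠ z ∧ Commute y z := by
  obtain ⟨d₀, hd₀, c₀, hc₀, hdc, hns⟩ := h.refl
  suffices key : ∀ z ∈ tri D d₀ c₀, ∃ y ∈ tri D d₀ c₀, y ≠ z ∧ Commute y z by
    obtain ⟨g₁, hg₁⟩ := h.conjD b hb d₀ hd₀ (h.ne_one b hb) (h.ne_one d₀ hd₀)
    obtain ⟨g₂, hg₂, e₂⟩ := far_trans h hd₀ (h.tt.conj g₁ c hc) hc₀
      (fun hh => hbc (by rwa [← hg₁, commute_conj_iff] at hh)) hdc
    have e1 : MulAut.conj (g₂ * g₁) b = d₀ := by
      show g₂ * g₁ * b * (g₂ * g₁)⁻¹ = d₀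
      rw [show g₂ * g₁ * b * (g₂ * g₁)⁻¹ = g₂ * (g₁ * b * g₁⁻¹) * g₂⁻¹ by group, hg₁,
        (commute_of_far h hg₂).eq, mul_inv_cancel_right]
    have e3 : MulAut.conj (g₂ * g₁) c = c₀ := by
      show g₂ * g₁ * c * (g₂ * g₁)⁻¹ = c₀
      rw [← e₂]; group
    have hm : ∀ y, MulAut.conj (g₂ * g₁) y ∈ tri D d₀ c₀ ↔ y ∈ tri D b c := fun y => by
      rw [← e1, ← e3]
      exact and_congr (mem_nb_conj h.tt _) (commute_conj_iff _ y c)
    obtain ⟨y, hy, hyz, hcy⟩ := key _ ((hm z).2 hz)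
    obtain ⟨y, rfl⟩ := (MulAut.conj (g₂ * g₁)).surjective y
    exact ⟨y, (hm y).1 hy, fun e => hyz (by rw [e]), (commute_conj_iff _ y z).1 hcy⟩
  intro z hz
  set T := tri D d₀ c₀
  set L := Subgroup.closure T
  by_contra hno
  push Not at hno
  have hiso : ∀ y ∈ T, y ≠ z → ¬ Commute y z := hno
  -- all members of `T` are conjugate inside `T` to `z`, so no two commute
  have hLT : ∀ g ∈ L, ∀ y ∈ T, g * y * g⁻¹ ∈ T := fun g hg y hy => by
    have hgc : g * c₀ * g⁻¹ = c₀ := by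
      rw [(commute_of_closure (fun y (hy : y ∈ T) => hy.2) g hg).eq, mul_inv_cancel_right]
    have hmem : g * y * g⁻¹ ∈ (fun z => g * z * g⁻¹) '' T := ⟨y, hy, rfl⟩
    rwa [tri_conj h.tt (commute_of_closure (fun y (hy : y ∈ T) => hy.1.2.2.symm) g hg), hgc] at hmem
  have hreach : ∀ y ∈ T, ∃ g ∈ L, g * z * g⁻¹ = y := fun y hy => by
    by_cases e : y = z
    · exact ⟨1, one_mem _, by rw [e]; group⟩
    · exact ⟨z * y, mul_mem (Subgroup.subset_closure hz) (Subgroup.subset_closure hy),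
        braid_eq_conj h.class3.1 hz.1.1 hy.1.1 (fun q => hiso y hy e q.symm)⟩
  have hnone : ∀ y ∈ T, ∀ y' ∈ T, y ≠ y' → ¬ Commute y y' := by
    intro y hy y' hy' hne hc
    obtain ⟨g, hg, rfl⟩ := hreach y hy
    have hm := hLT g⁻¹ (inv_mem hg) y' hy'
    refine hiso _ hm (fun e => hne ?_) ?_
    · rw [← e]; group
    · refine (commute_conj_iff g _ z).1 ?_
      rw [show g * (g⁻¹ * y' * g⁻¹⁻¹) * g⁻¹ = y' by group]
      exact hc.symm
  refine hns ?_
  set DL : Set ↥L := {y | (y : G) ∈ T}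
  set Z : ↥L := ⟨z, Subgroup.subset_closure hz⟩
  have hDL : Cfsg.IsThreeTranspositionClass DL := by
    refine ⟨⟨fun u hu => ?_, fun u hu v hv => ?_⟩, ⟨Z, hz, Set.ext fun u => ⟨fun hu => ?_, fun hu => ?_⟩⟩,
      Subgroup.closure_closure_coe_preimage⟩
    · refine orderOf_eq_prime (Subtype.ext (by simpa [pow_two] using h.tt.sq _ hu.1.1)) fun e => h.ne_one _ hu.1.1 ?_
      rw [e]; rfl
    · exact (h.tt.pair _ hu.1.1 _ hv.1.1).imp (fun e => Subtype.ext (by simpa using e))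
        fun e => Subtype.ext (by simpa using e)
    · obtain ⟨g, hg, e⟩ := hreach _ hu
      exact isConj_iff.2 ⟨⟨g, hg⟩, Subtype.ext e⟩
    · obtain ⟨g, rfl⟩ := isConj_iff.1 hu
      exact hLT g g.2 z hz
  haveI : Group.IsSolvable ↥L := isSolvable_of_no_commuting hDL fun a b e hh =>
    hnone _ a.2 _ b.2 (fun q => e (Subtype.ext (Subtype.ext q))) (congrArg Subtype.val hh)
  exact Group.isSolvable_of_surjective (QuotientGroup.mk'_surjective (Subgroup.center ↥L))

end Base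

section Geo

variable [Finite G] {n k l m r w c : ℕ} (h : Pre D n k l m r) (hA : Arith n k l m r w c)

include h hA

/-- The far members of a neighbour. -/
theorem ncard_far_nb {a b : G} (ha : a ∈ D) (hb : b ∈ nb D a) :
    {x | x ∈ nb D b ∧ ¬ Commute a x}.ncard = n - 1 - k := by
  have hb' : a ∈ nb D b := ⟨ha, fun e => hb.2.1 e.symm, hb.2.2.symm⟩
  have h1 := (h.loc b hb.1).card_nb
  have h2 := (h.loc b hb.1).card_pair a hb'
  have hdiff : {x | x ∈ nb D b ∧ ¬ Commute a x} =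
      nb D b \ insert a {y | y ∈ nb D b ∧ y ≠ a ∧ Commute y a} := by
    ext x
    constructor
    · intro hx
      refine ⟨hx.1, fun hmem => ?_⟩
      rcases hmem with e | hmem
      · exact hx.2 (e ▸ Commute.refl a)
      · exact hx.2 hmem.2.2.symm
    · intro hx
      refine ⟨hx.1, fun hc => hx.2 ?_⟩
      by_cases e : x = a
      · exact Or.inl e
      · exact Or.inr ⟨hx.1, e, hc.symm⟩
  rw [hdiff, Set.ncard_sdiff (Set.insert_subset hb' fun y hy => hy.1) (Set.toFinite _),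
    Set.ncard_insert_of_notMem (fun h' => h'.2.1 rfl) (Set.toFinite _), h1, h2]
  omega

theorem tri_nonempty {a x : G} (ha : a ∈ D) (hx : x ∈ D) (hax : ¬ Commute a x) : (tri D a x).Nonempty := by
  obtain ⟨b, hb⟩ : (nb D a).Nonempty :=
    Set.nonempty_of_ncard_ne_zero (by rw [(h.loc a ha).card_nb]; have := hA.k_lt; omega)
  obtain ⟨x₀, hx₀⟩ : {x | x ∈ nb D b ∧ ¬ Commute a x}.Nonempty :=
    Set.nonempty_of_ncard_ne_zero (by rw [ncard_far_nb h hA ha hb]; have := hA.k_lt; omega)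
  obtain ⟨g, hg, e⟩ := far_trans h.toBase ha hx₀.1.1 hx hx₀.2 hax
  have := hA.k_lt
  refine ⟨g * b * g⁻¹, nb_conj h.tt hb.1 hb.2.1 hb.2.2 ?_, ?_⟩
  · rw [(commute_of_far h.toBase hg).eq, mul_inv_cancel_right]
  · rw [← e]; exact (commute_conj_iff g b x₀).2 hx₀.1.2.2

/-- The hyperbolic line of a non-commuting pair. -/
theorem line_eq {a x y : G} (ha : a ∈ D) (hx : x ∈ D) (hy : y ∈ D) (hax : ¬ Commute a x)
    (hay : ¬ Commute a y) (hall : ∀ z ∈ tri D a x, Commute z y) : y = x ∨ y = a * x * a := by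
  obtain ⟨b, hb, hbx⟩ := tri_nonempty h hA ha hx hax
  have hb' : a ∈ nb D b := ⟨ha, fun e => hb.2.1 e.symm, hb.2.2.symm⟩
  have hby := hall b ⟨hb, hbx⟩
  refine (h.loc b hb.1).line_three a hb' x ⟨hx, fun e => hax (e ▸ hb.2.2), hbx⟩ y
    ⟨hy, fun e => hay (e ▸ hb.2.2), hby⟩ hax hay fun z hz hza hzx => ?_
  exact hall z ⟨⟨hz.1, fun e => hax (e ▸ hzx), hza.symm⟩, hzx⟩

/-- Only `⟨a⟩` centralises all neighbours of `a`. -/
theorem cent_nb {a w : G} (ha : a ∈ D) (haw : Commute a w) (hw : ∀ y ∈ nb D a, Commute y w) :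
    w = 1 ∨ w = a := by
  have hfix : ∀ v : G, Commute a v → (∀ y ∈ nb D a, Commute y v) → ∀ x ∈ D, ¬ Commute a x →
      Commute x v → v = 1 := by
    intro v hav hv x hx hax hxv
    have hall : ∀ y ∈ D, Commute y v := by
      intro y hy
      by_cases hay : Commute a y
      · by_cases e : y = a
        · rw [e]; exact hav
        · exact hv y ⟨hy, e, hay⟩
      · obtain ⟨g, hg, e⟩ := far_trans h.toBase ha hx hy hax hay
        have hgv : Commute g v := commute_of_closure (fun z hz => by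
          by_cases e : z = a
          · rw [e]; exact hav
          · exact hv z ⟨hz.1, e, hz.2⟩) g hg
        have h2 := (commute_conj_iff g x v).2 hxv
        rwa [e, hgv.eq, mul_inv_cancel_right] at h2
    have hvc : v ∈ Subgroup.center G := Subgroup.mem_center_iff.2 fun g =>
      (commute_of_closure hall g (h.class3.2.2 ▸ Subgroup.mem_top g)).eq
    rwa [h.center, Subgroup.mem_bot] at hvc
  obtain ⟨b, hb⟩ : (nb D a).Nonempty :=
    Set.nonempty_of_ncard_ne_zero (by rw [(h.loc a ha).card_nb]; have := hA.k_lt; omega)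
  obtain ⟨x, hxb, hax⟩ : {x | x ∈ nb D b ∧ ¬ Commute a x}.Nonempty :=
    Set.nonempty_of_ncard_ne_zero (by rw [ncard_far_nb h hA ha hb]; have := hA.k_lt; omega)
  have hfa : w * a * w⁻¹ = a := by rw [haw.symm.eq, mul_inv_cancel_right]
  have hy : w * x * w⁻¹ ∈ D := h.tt.conj w x hxb.1
  have hay : ¬ Commute a (w * x * w⁻¹) := fun hc => hax (by
    rw [← commute_conj_iff w, hfa]; exact hc)
  rcases line_eq h hA ha hxb.1 hy hax hay (fun z hz => by
    have := (commute_conj_iff w z x).2 hz.2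
    rwa [(hw z hz.1).symm.eq, mul_inv_cancel_right] at this) with e | e
  · exact Or.inl (hfix w haw hw x hxb.1 hax (by
      have := mul_inv_eq_iff_eq_mul.1 e
      exact this.symm))
  · right
    have h1 : a * w = 1 := hfix (a * w) ((Commute.refl a).mul_right haw)
      (fun y hy => hy.2.2.symm.mul_right (hw y hy)) x hxb.1 hax (by
        show x * (a * w) = a * w * x
        rw [mul_assoc a w x, mul_inv_eq_iff_eq_mul.1 e, ← mul_assoc a (a * x * a) w, mul_assoc (a : G) x a,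
          cancel2 h.tt ha, mul_assoc])
    rw [← cancel2 h.tt ha w, h1, mul_one]

/-- The centraliser in `hsub a` of a neighbour. -/
theorem cent_in_hsub {a b g : G} (ha : a ∈ D) (hb : b ∈ nb D a) (hg : g ∈ hsub D a) (hgb : Commute g b) :
    g ∈ Subgroup.closure {y : G | y ∈ D ∧ Commute a y ∧ Commute b y} := by
  obtain ⟨k, hk, hall⟩ := (h.loc a ha).cent b hb g hg hgb
  have hkm : k ∈ Subgroup.closure {y : G | y ∈ D ∧ Commute a y ∧ Commute b y} :=
    Subgroup.closure_mono (k := {y : G | y ∈ D ∧ Commute a y ∧ Commute b y}) (fun y hy => ⟨hy.1.1, hy.1.2.2, hy.2⟩) hk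
  have hka : Commute k a := commute_of_closure (fun y hy => hy.1.2.2.symm) k hk
  rcases cent_nb h hA ha (hka.symm.inv_right.mul_right (commute_hsub hg).symm) hall with e | e <;>
    rw [inv_mul_eq_iff_eq_mul] at e <;> rw [e]
  · simpa using hkm
  · exact mul_mem hkm (Subgroup.subset_closure ⟨ha, Commute.refl a, hb.2.2.symm⟩)

theorem tri_inner {a x b : G} (ha : a ∈ D) (hx : x ∈ D) (hax : ¬ Commute a x) (hb : b ∈ tri D a x) :
    {y | y ∈ tri D a x ∧ y ≠ b ∧ Commute y b}.ncard = m := by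
  have hba : a ∈ nb D b := ⟨ha, fun e => hb.1.2.1 e.symm, hb.1.2.2.symm⟩
  have hbx : x ∈ nb D b := ⟨hx, fun e => hax (e ▸ hb.1.2.2), hb.2⟩
  rw [← (h.loc b hb.1.1).card_line a hba x hbx hax]
  congr 1
  ext y
  exact ⟨fun hy => ⟨⟨hy.1.1.1, hy.2.1, hy.2.2.symm⟩, hy.1.1.2.2.symm, hy.1.2⟩,
    fun hy => ⟨⟨⟨hy.1.1, fun e => hax (e ▸ hy.2.2), hy.2.1.symm⟩, hy.2.2⟩, hy.1.2.1, hy.1.2.2.symm⟩⟩


theorem tri_inner_two {a x b c : G} (ha : a ∈ D) (hx : x ∈ D) (hax : ¬ Commute a x) (hb : b ∈ tri D a x)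
    (hc : c ∈ tri D a x) (hne : c ≠ b) (hcb : Commute c b) :
    {y | y ∈ tri D a x ∧ y ≠ b ∧ y ≠ c ∧ Commute y b ∧ Commute y c}.ncard = r := by
  have hba : a ∈ nb D b := ⟨ha, fun e => hb.1.2.1 e.symm, hb.1.2.2.symm⟩
  have hbx : x ∈ nb D b := ⟨hx, fun e => hax (e ▸ hb.1.2.2), hb.2⟩
  rw [← (h.loc b hb.1.1).card_three a hba x hbx c ⟨hc.1.1, hne, hcb.symm⟩ hax hc.1.2.2.symm hc.2]
  congr 1
  ext y
  exact ⟨fun hy => ⟨⟨hy.1.1.1, hy.2.1, hy.2.2.2.1.symm⟩, hy.2.2.1, hy.1.1.2.2.symm, hy.1.2, hy.2.2.2.2⟩,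
    fun hy => ⟨⟨⟨hy.1.1, fun e => hax (e ▸ hy.2.2.2.1), hy.2.2.1.symm⟩, hy.2.2.2.1⟩, hy.1.2.1, hy.2.1,
      hy.1.2.2.symm, hy.2.2.2.2⟩⟩

/-- Every member of `tri` misses 32 neighbours of each neighbour. -/
theorem tri_outer {a x b c : G} (ha : a ∈ D) (hx : x ∈ D) (hax : ¬ Commute a x) (hb : b ∈ tri D a x)
    (hc : c ∈ tri D a x) (hne : c ≠ b) (hcb : Commute c b) :
    {y | y ∈ tri D a x ∧ y ≠ c ∧ Commute y c ∧ ¬ Commute y b}.ncard = m - 1 - r := by
  have h1 := tri_inner h hA ha hx hax hc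
  have h2 := tri_inner_two h hA ha hx hax hb hc hne hcb
  have e : {y | y ∈ tri D a x ∧ y ≠ c ∧ Commute y c ∧ ¬ Commute y b} =
      {y | y ∈ tri D a x ∧ y ≠ c ∧ Commute y c} \
        insert b {y | y ∈ tri D a x ∧ y ≠ b ∧ y ≠ c ∧ Commute y b ∧ Commute y c} := by
    ext y
    constructor
    · intro hy
      refine ⟨⟨hy.1, hy.2.1, hy.2.2.1⟩, fun hmem => ?_⟩
      rcases hmem with e | hmem
      · exact hy.2.2.2 (e ▸ Commute.refl b)
      · exact hy.2.2.2 hmem.2.2.2.1
    · intro hy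
      refine ⟨hy.1.1, hy.1.2.1, hy.1.2.2, fun hc' => hy.2 ?_⟩
      by_cases e : y = b
      · exact Or.inl e
      · exact Or.inr ⟨hy.1.1, e, hy.1.2.1, hc', hy.1.2.2⟩
  rw [e, Set.ncard_sdiff (Set.insert_subset (t := {y | y ∈ tri D a x ∧ y ≠ c ∧ Commute y c})
      ⟨hb, hne.symm, hcb.symm⟩ fun y hy => ⟨hy.1, hy.2.2.1, hy.2.2.2.2⟩) (Set.toFinite _),
    Set.ncard_insert_of_notMem (fun h' => h'.2.1 rfl) (Set.toFinite _), h1, h2]
  omega

/-- Transitivity inside `tri d c` on the members not commuting with a given one. -/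
theorem exists_tri_trans (hR : Refl D) : ∃ d ∈ D, ∃ x₀ ∈ D, ¬ Commute d x₀ ∧ ∀ b ∈ tri D d x₀, ∀ y ∈ tri D d x₀, ∀ y' ∈ tri D d x₀,
    ¬ Commute b y → ¬ Commute b y' → ∃ g : G, Commute g d ∧ g * x₀ * g⁻¹ = x₀ ∧ g * b * g⁻¹ = b ∧
      g * y * g⁻¹ = y' := by
  obtain ⟨d, hd, x₀, hc, hdc, hAS, hnc⟩ := hR
  refine ⟨d, hd, x₀, hc, hdc, ?_⟩
  obtain ⟨hcl, hcomm⟩ := tri_quot h.tt h.class3.1 hAS hnc
  set T := tri D d x₀
  set L := Subgroup.closure T
  have hLd : ∀ g ∈ L, Commute g d := commute_of_closure fun y hy => hy.1.2.2.symm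
  have hLc : ∀ g ∈ L, Commute g x₀ := commute_of_closure fun y hy => hy.2
  have hTL : ∀ y ∈ T, y ∈ L := fun y hy => Subgroup.subset_closure hy
  have hLT : ∀ g ∈ L, ∀ y ∈ T, g * y * g⁻¹ ∈ T := fun g hg y hy => by
    have hgc : g * x₀ * g⁻¹ = x₀ := by rw [(hLc g hg).eq, mul_inv_cancel_right]
    have hmem : g * y * g⁻¹ ∈ (fun z => g * z * g⁻¹) '' T := ⟨y, hy, rfl⟩
    rwa [tri_conj h.tt (hLd g hg), hgc] at hmem
  set π := QuotientGroup.mk' (Subgroup.center ↥L)
  -- every member has a non-neighbour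
  have hnon : ∀ b ∈ T, ∃ y ∈ T, ¬ Commute y b := by
    intro b hb
    obtain ⟨e, he⟩ : {y | y ∈ T ∧ y ≠ b ∧ Commute y b}.Nonempty :=
      Set.nonempty_of_ncard_ne_zero (by rw [tri_inner h hA hd hc hdc hb]; have := hA.m_pos; omega)
    obtain ⟨y, hy⟩ : {y | y ∈ T ∧ y ≠ e ∧ Commute y e ∧ ¬ Commute y b}.Nonempty :=
      Set.nonempty_of_ncard_ne_zero (by rw [tri_outer h hA hd hc hdc hb he.1 he.2.1 he.2.2]; have := hA.r_lt; omega)
    exact ⟨y, hy.1, hy.2.2.2⟩
  have hcz : ∀ z : ↥L, z ∈ Subgroup.center ↥L → ∀ y ∈ T, Commute y (z : G) := fun z hz y hy =>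
    congrArg Subtype.val (Subgroup.mem_center_iff.1 hz ⟨y, hTL y hy⟩)
  have hinj : ∀ {u v : ↥L}, (u : G) ∈ T → (v : G) ∈ T → π u = π v → (u : G) = v := by
    intro u v hu hv huv
    by_contra hne
    have hcm : Commute (u : G) v := hcomm hu hv (by rw [huv])
    have hm : u * v ∈ Subgroup.center ↥L := (QuotientGroup.eq_one_iff _).1 (by
      show π (u * v) = 1
      rw [map_mul, huv, ← map_mul, show v * v = 1 from Subtype.ext (h.tt.sq _ hv.1.1), map_one])
    obtain ⟨y, hy, hyu⟩ := hnon u hu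
    exact hyu ((commute_mul_iff0 h.tt hu.1.1 hv.1.1 hy.1.1 hcm hne).1 (hcz _ hm y hy).symm).1.symm
  have hmemDQ : ∀ {u : ↥L}, (u : G) ∈ T → π u ∈ {q : ↥L ⧸ Subgroup.center ↥L | q ≠ 1 ∧ ∃ u : ↥L, (u : G) ∈ T ∧ (u : ↥L ⧸ _) = q} :=
    fun {u} hu => ⟨fun e1 => by
      obtain ⟨y, hy, hyu⟩ := hnon u hu
      exact hyu (hcz u ((QuotientGroup.eq_one_iff u).1 e1) y hy), u, hu, rfl⟩
  intro b hb y hy y' hy' hby hby'
  set B : ↥L := ⟨b, hTL b hb⟩
  set Y : ↥L := ⟨y, hTL y hy⟩
  set Y' : ↥L := ⟨y', hTL y' hy'⟩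
  have hBQ := hmemDQ (u := B) hb
  obtain ⟨q, hq, hqy⟩ := (rank_three_of_connected hcl hAS.nosol (comm_connected hcl hAS.nosol hAS.perfect)
    ⟨⟨π B, hBQ⟩, ⟨π Y, hmemDQ (u := Y) hy⟩, fun e => hby (by
      rw [show b = y from hinj (u := B) (v := Y) hb hy (congrArg Subtype.val e)])⟩ hBQ).2.2.2
    _ (hmemDQ (u := Y) hy) _ (hmemDQ (u := Y') hy') (fun e => hby (hcomm (u := B) (v := Y) hb hy e))
    (fun e => hby' (hcomm (u := B) (v := Y') hb hy' e))
  obtain ⟨g, rfl⟩ := QuotientGroup.mk_surjective q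
  refine ⟨g, hLd g g.2, by rw [(hLc g g.2).eq, mul_inv_cancel_right],
    hinj (u := g * B * g⁻¹) (v := B) (hLT g g.2 b hb) hb ?_,
    hinj (u := g * Y * g⁻¹) (v := Y') (hLT g g.2 y hy) hy' ?_⟩
  · rw [map_mul, map_mul, map_inv]
    show (g : ↥L ⧸ Subgroup.center ↥L) * π B * (g : ↥L ⧸ Subgroup.center ↥L)⁻¹ = π B
    rw [hq.eq, mul_inv_cancel_right]
  · rw [map_mul, map_mul, map_inv]; exact hqy

/-- A far pair of almost simple kind has the arithmetical number of common neighbours. -/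
theorem tri_one (hR : Refl D) (htri : ∀ v ≤ n, m + 1 < v → n * (n - 1 - k) % v = 0 →
    m * (m - 1 - r) % (v - (m + 1)) = 0 → m * (m - 1 - r) / (v - (m + 1)) ≤ m → v = w) :
    ∃ d ∈ D, ∃ x₀ ∈ D, ¬ Commute d x₀ ∧ (tri D d x₀).ncard = w := by
  classical
  haveI := Fintype.ofFinite G
  obtain ⟨d, hd, x₀, hc, hdc, htr⟩ := exists_tri_trans h hA hR
  set v := (tri D d x₀).ncard with hv
  -- the same at every member not commuting with `d`
  have hconst : ∀ x ∈ D, ¬ Commute d x → (tri D d x).ncard = v := by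
    intro x hx hdx
    obtain ⟨g, hg, rfl⟩ := far_trans h.toBase hd hc hx hdc hdx
    rw [← tri_conj h.tt (commute_of_far h.toBase hg), Set.ncard_image_of_injective _ (fun p q e => mul_left_cancel (mul_right_cancel e))]
  set Nb := (nb D d).toFinset
  set Fr := {x | x ∈ D ∧ ¬ Commute d x}.toFinset
  have hdc2 : ∑ b ∈ Nb, (Fr.filter fun x => Commute b x).card =
      ∑ x ∈ Fr, (Nb.filter fun b => Commute b x).card :=
    Finset.sum_card_bipartiteAbove_eq_sum_card_bipartiteBelow (fun b x => Commute b x)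
  have hL : ∀ b ∈ Nb, (Fr.filter fun x => Commute b x).card = n - 1 - k := by
    intro b hb
    rw [Set.mem_toFinset] at hb
    rw [← ncard_far_nb h hA hd hb, Set.ncard_eq_toFinset_card']
    congr 1
    ext x
    simp only [Fr, Finset.mem_filter, Set.mem_toFinset, Set.mem_ofPred_eq]
    exact ⟨fun hx => ⟨⟨hx.1.1, fun e => hx.1.2 (e ▸ hb.2.2), hx.2⟩, hx.1.2⟩, fun hx => ⟨⟨hx.1.1, hx.2⟩, hx.1.2.2⟩⟩
  have hR : ∀ x ∈ Fr, (Nb.filter fun b => Commute b x).card = v := by
    intro x hx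
    simp only [Fr, Set.mem_toFinset, Set.mem_ofPred_eq] at hx
    rw [← hconst x hx.1 hx.2, Set.ncard_eq_toFinset_card']
    congr 1
    ext b
    simp [Nb]
  have hNb : Nb.card = n := by rw [← Set.ncard_eq_toFinset_card', (h.loc d hd).card_nb]
  have hprod : n * (n - 1 - k) = v * Fr.card := by
    rw [Finset.sum_congr rfl hL, Finset.sum_congr rfl hR, Finset.sum_const, Finset.sum_const, hNb,
      smul_eq_mul, smul_eq_mul] at hdc2
    linarith
  -- the second count
  obtain ⟨b, hb⟩ := tri_nonempty h hA hd hc hdc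
  set T := (tri D d x₀).toFinset
  set Ad := T.filter fun y => y ≠ b ∧ Commute y b
  set Fb := T.filter fun y => ¬ Commute y b
  have hAd : Ad.card = m := by
    rw [← tri_inner h hA hd hc hdc hb, Set.ncard_eq_toFinset_card']
    congr 1; ext y; simp only [Ad, T, Finset.mem_filter, Set.mem_toFinset, Set.mem_ofPred_eq]
  have hsplit : v = m + 1 + Fb.card := by
    have h1 : v = T.card := Set.ncard_eq_toFinset_card' _
    have h2 : T.filter (fun y => Commute y b) = insert b Ad := by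
      ext y
      simp only [Ad, Finset.mem_filter, Finset.mem_insert]
      constructor
      · intro hy
        by_cases e : y = b
        · exact Or.inl e
        · exact Or.inr ⟨hy.1, e, hy.2⟩
      · rintro (rfl | hy)
        · exact ⟨Set.mem_toFinset.2 hb, Commute.refl _⟩
        · exact ⟨hy.1, hy.2.2⟩
    have h3 : (T.filter fun y => Commute y b).card + Fb.card = T.card :=
      Finset.card_filter_add_card_filter_not _
    rw [h2, Finset.card_insert_of_notMem (by simp [Ad]), hAd] at h3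
    omega
  have hdc3 : ∑ e ∈ Ad, (Fb.filter fun y => Commute y e).card =
      ∑ y ∈ Fb, (Ad.filter fun e => Commute y e).card :=
    Finset.sum_card_bipartiteAbove_eq_sum_card_bipartiteBelow (fun e y => Commute y e)
  have hL3 : ∀ e ∈ Ad, (Fb.filter fun y => Commute y e).card = m - 1 - r := by
    intro e he
    simp only [Ad, T, Finset.mem_filter, Set.mem_toFinset] at he
    rw [← tri_outer h hA hd hc hdc hb he.1 he.2.1 he.2.2, Set.ncard_eq_toFinset_card']
    congr 1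
    ext y
    simp only [Fb, T, Finset.mem_filter, Set.mem_toFinset, Set.mem_ofPred_eq]
    exact ⟨fun hy => ⟨hy.1.1, fun e' => hy.1.2 (e' ▸ he.2.2), hy.2, hy.1.2⟩, fun hy => ⟨⟨hy.1, hy.2.2.2⟩, hy.2.2.1⟩⟩
  obtain ⟨y₀, hy₀⟩ : Fb.Nonempty := by
    have := hA.m_pos
    have := hA.r_lt
    obtain ⟨e, he⟩ : Ad.Nonempty := Finset.card_pos.1 (by omega)
    exact (Finset.card_pos.1 (by rw [hL3 e he]; omega)).mono (Finset.filter_subset _ _)
  set μ := (Ad.filter fun e => Commute y₀ e).card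
  have hR3 : ∀ y ∈ Fb, (Ad.filter fun e => Commute y e).card = μ := by
    intro y hy
    simp only [Fb, T, Finset.mem_filter, Set.mem_toFinset] at hy hy₀
    obtain ⟨g, hgd, hgc, hgb, hgy⟩ := htr b hb y₀ hy₀.1 y hy.1 (fun e => hy₀.2 e.symm) (fun e => hy.2 e.symm)
    symm
    refine Finset.card_bij (fun e _ => g * e * g⁻¹) ?_
      (fun e₁ _ e₂ _ e => mul_left_cancel (mul_right_cancel e)) ?_
    · intro e he
      simp only [Ad, T, Finset.mem_filter, Set.mem_toFinset] at he ⊢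
      have hm : g * e * g⁻¹ ∈ (fun z => g * z * g⁻¹) '' tri D d x₀ := ⟨e, he.1.1, rfl⟩
      rw [tri_conj h.tt hgd, hgc] at hm
      refine ⟨⟨hm, fun e' => he.1.2.1 ?_, ?_⟩, ?_⟩
      · exact mul_left_cancel (mul_right_cancel (e'.trans hgb.symm))
      · have := (commute_conj_iff g e b).2 he.1.2.2; rwa [hgb] at this
      · have := (commute_conj_iff g y₀ e).2 he.2; rwa [hgy] at this
    · intro e he
      simp only [Ad, T, Finset.mem_filter, Set.mem_toFinset] at he ⊢
      have hm : e ∈ (fun z => g * z * g⁻¹) '' tri D d x₀ := by rw [tri_conj h.tt hgd, hgc]; exact he.1.1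
      obtain ⟨z, hz, rfl⟩ := hm
      refine ⟨z, ⟨⟨hz, fun e' => he.1.2.1 (by rw [e']; exact hgb), ?_⟩, ?_⟩, rfl⟩
      · have := he.1.2.2; rw [← hgb] at this; exact (commute_conj_iff g z b).1 this
      · have := he.2; rw [← hgy] at this; exact (commute_conj_iff g y₀ z).1 this
  have hprod3 : m * (m - 1 - r) = μ * Fb.card := by
    rw [Finset.sum_congr rfl hL3, Finset.sum_congr rfl hR3, Finset.sum_const, Finset.sum_const, hAd,
      smul_eq_mul, smul_eq_mul] at hdc3
    linarith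
  have hμ : μ ≤ m := hAd ▸ Finset.card_filter_le _ _
  have hFpos : 0 < Fb.card := Finset.card_pos.2 ⟨y₀, hy₀⟩
  have hle : v ≤ n := by
    have : (tri D d x₀).ncard ≤ (nb D d).ncard := Set.ncard_le_ncard (fun y hy => hy.1) (Set.toFinite _)
    rw [(h.loc d hd).card_nb] at this
    omega
  have hvw : v = w := by
    refine htri v hle (by omega) (by rw [hprod]; exact Nat.mul_mod_right _ _) ?_ ?_
    · rw [hprod3, show v - (m + 1) = Fb.card by omega]; exact Nat.mul_mod_left _ _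
    · rw [hprod3, show v - (m + 1) = Fb.card by omega, Nat.mul_div_cancel _ hFpos]; exact hμ
  exact ⟨d, hd, x₀, hc, hdc, hv ▸ hvw⟩

end Geo

section Geo

variable [Finite G] {n k l m r w c : ℕ} (h : Geo D n k l m r w) (hA : Arith n k l m r w c)

include h hA

/-- The counts. -/
theorem tri_card : (∀ a ∈ D, ∀ x ∈ D, ¬ Commute a x → (tri D a x).ncard = w) ∧
    ∀ a ∈ D, {x | x ∈ D ∧ ¬ Commute a x}.ncard = n * (n - 1 - k) / w := by
  classical
  haveI := Fintype.ofFinite G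
  obtain ⟨d, hd, x₀, hc, hdc, hvw⟩ := h.far_one
  set v := (tri D d x₀).ncard with hv
  -- the same at every member not commuting with `d`
  have hconst : ∀ x ∈ D, ¬ Commute d x → (tri D d x).ncard = v := by
    intro x hx hdx
    obtain ⟨g, hg, rfl⟩ := far_trans h.toBase hd hc hx hdc hdx
    rw [← tri_conj h.tt (commute_of_far h.toBase hg), Set.ncard_image_of_injective _ (fun p q e => mul_left_cancel (mul_right_cancel e))]
  set Nb := (nb D d).toFinset
  set Fr := {x | x ∈ D ∧ ¬ Commute d x}.toFinset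
  have hdc2 : ∑ b ∈ Nb, (Fr.filter fun x => Commute b x).card =
      ∑ x ∈ Fr, (Nb.filter fun b => Commute b x).card :=
    Finset.sum_card_bipartiteAbove_eq_sum_card_bipartiteBelow (fun b x => Commute b x)
  have hL : ∀ b ∈ Nb, (Fr.filter fun x => Commute b x).card = n - 1 - k := by
    intro b hb
    rw [Set.mem_toFinset] at hb
    rw [← ncard_far_nb h.toPre hA hd hb, Set.ncard_eq_toFinset_card']
    congr 1
    ext x
    simp only [Fr, Finset.mem_filter, Set.mem_toFinset, Set.mem_ofPred_eq]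
    exact ⟨fun hx => ⟨⟨hx.1.1, fun e => hx.1.2 (e ▸ hb.2.2), hx.2⟩, hx.1.2⟩, fun hx => ⟨⟨hx.1.1, hx.2⟩, hx.1.2.2⟩⟩
  have hR : ∀ x ∈ Fr, (Nb.filter fun b => Commute b x).card = v := by
    intro x hx
    simp only [Fr, Set.mem_toFinset, Set.mem_ofPred_eq] at hx
    rw [← hconst x hx.1 hx.2, Set.ncard_eq_toFinset_card']
    congr 1
    ext b
    simp [Nb]
  have hNb : Nb.card = n := by rw [← Set.ncard_eq_toFinset_card', (h.loc d hd).card_nb]
  have hprod : n * (n - 1 - k) = v * Fr.card := by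
    rw [Finset.sum_congr rfl hL, Finset.sum_congr rfl hR, Finset.sum_const, Finset.sum_const, hNb,
      smul_eq_mul, smul_eq_mul] at hdc2
    linarith
  have hN : Fr.card = n * (n - 1 - k) / w := by
    rw [hvw] at hprod
    rw [hprod, Nat.mul_div_cancel_left _ (by have := hA.w_gt; omega)]
  have hstep : ∀ a ∈ D, ∀ g : G, g * d * g⁻¹ = a →
      (∀ x ∈ D, ¬ Commute a x → (tri D a x).ncard = w) ∧ {x | x ∈ D ∧ ¬ Commute a x}.ncard = n * (n - 1 - k) / w := by
    intro a ha g hga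
    subst hga
    refine ⟨fun x hx hax => ?_, ?_⟩
    · set x' := g⁻¹ * x * g⁻¹⁻¹
      have hgx : g * x' * g⁻¹ = x := by simp only [x']; group
      have hdx : ¬ Commute d x' := fun e => hax (by rw [← hgx]; exact (commute_conj_iff g d x').2 e)
      rw [← hvw, ← hconst x' (h.tt.conj _ x hx) hdx, ← Set.ncard_image_of_injective (tri D d x') (MulAut.conj g).injective]
      congr 1
      ext y
      obtain ⟨y, rfl⟩ := (MulAut.conj g).surjective y
      rw [(MulAut.conj g).injective.mem_set_image]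
      show MulAut.conj g y ∈ nb D (MulAut.conj g d) ∧ Commute (MulAut.conj g y) x ↔ _
      rw [mem_nb_conj h.tt, ← hgx]
      exact and_congr Iff.rfl (commute_conj_iff g y x')
    · rw [← hN, ← Set.ncard_eq_toFinset_card', ← Set.ncard_image_of_injective {x | x ∈ D ∧ ¬ Commute d x}
        (MulAut.conj g).injective]
      congr 1
      ext y
      obtain ⟨y, rfl⟩ := (MulAut.conj g).surjective y
      rw [(MulAut.conj g).injective.mem_set_image]
      refine and_congr ⟨fun e => ?_, fun e => h.tt.conj g y e⟩ (not_congr (commute_conj_iff g d y))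
      simpa [mul_assoc] using h.tt.conj g⁻¹ _ e
  have hconjd : ∀ a ∈ D, ∃ g : G, g * d * g⁻¹ = a := fun a ha =>
    h.conjD d hd a ha (h.ne_one d hd) (h.ne_one a ha)
  exact ⟨fun a ha => (hstep a ha _ (hconjd a ha).choose_spec).1,
    fun a ha => (hstep a ha _ (hconjd a ha).choose_spec).2⟩

/-- The number of transpositions. -/
theorem ncard_D {d : G} (hd : d ∈ D) : D.ncard = 1 + n + n * (n - 1 - k) / w := by
  have h1 := (h.loc d hd).card_nb
  have h2 := (tri_card h hA).2 d hd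
  have e : D = insert d (nb D d ∪ {x | x ∈ D ∧ ¬ Commute d x}) := by
    ext x
    constructor
    · intro hx
      by_cases e : x = d
      · exact Or.inl e
      by_cases hc : Commute d x
      · exact Or.inr (Or.inl ⟨hx, e, hc⟩)
      · exact Or.inr (Or.inr ⟨hx, hc⟩)
    · rintro (rfl | hx | hx)
      exacts [hd, hx.1, hx.1]
  rw [e, Set.ncard_insert_of_notMem (by
      rintro (hx | hx)
      exacts [hx.2.1 rfl, hx.2 (Commute.refl d)]) (Set.toFinite _),
    Set.ncard_union_eq (Set.disjoint_left.2 fun x hx hx' => hx'.2 hx.2.2) (Set.toFinite _) (Set.toFinite _),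
    h1, h2]
  omega

/-- Of a commuting pair `d, u` and a member `x` far from both, some common neighbour exists. -/
theorem exists_common {d u x : G} (hd : d ∈ D) (hu : u ∈ nb D d) (hx : x ∈ D)
    (hdx : ¬ Commute d x) (hux : ¬ Commute u x) : ∃ b ∈ tri D d x, Commute b u := by
  classical
  haveI := Fintype.ofFinite G
  set Nb := (nb D d).toFinset with hNbdef
  set T := (tri D d x).toFinset with hTdef
  have hTN : T ⊆ Nb := fun z hz => Set.mem_toFinset.2 (Set.mem_toFinset.1 hz).1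
  set f : G → ℤ := fun z => ((T.filter fun b => z ≠ b ∧ Commute z b).card : ℤ) with hf
  have hL := h.loc d hd
  have hNb : Nb.card = n := by rw [← Set.ncard_eq_toFinset_card', hL.card_nb]
  have hT : T.card = w := by rw [← Set.ncard_eq_toFinset_card', (tri_card h hA).1 d hd x hx hdx]
  have hin : ∀ b ∈ T, (T.filter fun y => b ≠ y ∧ Commute b y).card = m := by
    intro b hb
    rw [← tri_inner h.toPre hA hd hx hdx (Set.mem_toFinset.1 hb), Set.ncard_eq_toFinset_card']
    congr 1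
    ext y
    simp only [T, Finset.mem_filter, Set.mem_toFinset, Set.mem_ofPred_eq]
    exact ⟨fun hy => ⟨hy.1, hy.2.1.symm, hy.2.2.symm⟩, fun hy => ⟨hy.1, hy.2.1.symm, hy.2.2.symm⟩⟩
  have hout : ∀ b ∈ T, (T.filter fun y => b ≠ y ∧ ¬ Commute b y).card = w - 1 - m := by
    intro b hb
    have e : insert b ((T.filter fun y => b ≠ y ∧ Commute b y) ∪ T.filter fun y => b ≠ y ∧ ¬ Commute b y) = T := by
      ext y
      by_cases e : b = y
      · subst e; simpa using hb
      · by_cases hc : Commute b y <;> simp [e, Ne.symm e, hc]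
    have h1 := congrArg Finset.card e
    rw [Finset.card_insert_of_notMem (by simp), Finset.card_union_of_disjoint
      (Finset.disjoint_filter.2 fun y _ hy hy' => hy'.2 hy.2), hin b hb, hT] at h1
    omega
  have hdeg : ∀ b ∈ Nb, (Nb.filter fun z => z ≠ b ∧ Commute z b).card = k := by
    intro b hb
    rw [← hL.card_pair b (Set.mem_toFinset.1 hb), Set.ncard_eq_toFinset_card']
    congr 1
    ext y
    simp only [Nb, Finset.mem_filter, Set.mem_toFinset, Set.mem_ofPred_eq]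
  -- the two moments of `k`
  have hone : ∑ z ∈ Nb, f z = w * k := by
    have h1 : ∑ z ∈ Nb, (T.filter fun b => z ≠ b ∧ Commute z b).card =
        ∑ b ∈ T, (Nb.filter fun z => z ≠ b ∧ Commute z b).card :=
      Finset.sum_card_bipartiteAbove_eq_sum_card_bipartiteBelow (fun z b => z ≠ b ∧ Commute z b)
    rw [Finset.sum_congr rfl fun b hb => hdeg b (hTN hb), Finset.sum_const, hT, smul_eq_mul] at h1
    simp only [f]
    rw [← Nat.cast_sum, h1]
    norm_num
  have htwo : ∑ z ∈ Nb, f z ^ 2 = w * (k + m * l + (w - 1 - m) * m : ℕ) := by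
    have h1 : ∑ z ∈ Nb, (T.filter fun b => z ≠ b ∧ Commute z b).card ^ 2 =
        ∑ b ∈ T, ∑ y ∈ T, ((Nb.filter fun z => z ≠ b ∧ Commute z b).filter fun z =>
          z ≠ y ∧ Commute z y).card := by
      have e : ∀ z, (T.filter fun b => z ≠ b ∧ Commute z b).card ^ 2 =
          ∑ b ∈ T, (if z ≠ b ∧ Commute z b then (T.filter fun b => z ≠ b ∧ Commute z b).card else 0) :=
        fun z => by rw [← Finset.sum_filter, Finset.sum_const, smul_eq_mul, pow_two]
      rw [Finset.sum_congr rfl fun z _ => e z, Finset.sum_comm]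
      refine Finset.sum_congr rfl fun b _ => ?_
      rw [← Finset.sum_filter]
      exact Finset.sum_card_bipartiteAbove_eq_sum_card_bipartiteBelow (fun z y => z ≠ y ∧ Commute z y)
    have hrow : ∀ b ∈ T, ∑ y ∈ T, ((Nb.filter fun z => z ≠ b ∧ Commute z b).filter fun z =>
          z ≠ y ∧ Commute z y).card = k + m * l + (w - 1 - m) * m := by
      intro b hb
      simp only [Finset.filter_filter]
      have hval : ∀ y ∈ T, (Nb.filter fun z => (z ≠ b ∧ Commute z b) ∧ (z ≠ y ∧ Commute z y)).card =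
          (if b = y then k else 0) + (if b ≠ y ∧ Commute b y then l else 0) +
            (if b ≠ y ∧ ¬ Commute b y then m else 0) := by
        intro y hy
        have hbN := Set.mem_toFinset.1 (hTN hb)
        have hyN := Set.mem_toFinset.1 (hTN hy)
        by_cases e : b = y
        · subst e
          simp only [if_true, ne_eq, not_true_eq_false, false_and, if_false, add_zero]
          rw [← hdeg b (hTN hb)]
          congr 1
          ext z; simp
        · by_cases hc : Commute b y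
          · simp only [if_neg e, ne_eq, e, not_false_eq_true, hc, and_self, if_true, not_true_eq_false,
              and_false, if_false, zero_add, add_zero]
            rw [← hL.card_comm b hbN y hyN e hc, Set.ncard_eq_toFinset_card']
            congr 1
            ext z
            simp only [Nb, Finset.mem_filter, Set.mem_toFinset, Set.mem_ofPred_eq]
            exact ⟨fun hz => ⟨hz.1, hz.2.1.1, hz.2.2.1, hz.2.1.2, hz.2.2.2⟩,
              fun hz => ⟨hz.1, ⟨hz.2.1, hz.2.2.2.1⟩, hz.2.2.1, hz.2.2.2.2⟩⟩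
          · simp only [if_neg e, ne_eq, e, not_false_eq_true, hc, and_self, if_true,
              and_false, if_false, zero_add, add_zero]
            rw [← hL.card_line b hbN y hyN hc, Set.ncard_eq_toFinset_card']
            congr 1
            ext z
            simp only [Nb, Finset.mem_filter, Set.mem_toFinset, Set.mem_ofPred_eq]
            exact ⟨fun hz => ⟨hz.1, hz.2.1.2, hz.2.2.2⟩, fun hz => ⟨hz.1,
              ⟨fun e' => hc (e' ▸ hz.2.2), hz.2.1⟩, fun e' => hc (e' ▸ hz.2.1.symm), hz.2.2⟩⟩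
      rw [Finset.sum_congr rfl hval, Finset.sum_add_distrib, Finset.sum_add_distrib, Finset.sum_ite_eq,
        if_pos hb, ← Finset.sum_filter, ← Finset.sum_filter, Finset.sum_const, Finset.sum_const,
        hin b hb, hout b hb]
      rfl
    rw [Finset.sum_congr rfl hrow, Finset.sum_const, hT, smul_eq_mul] at h1
    simp only [f]
    exact_mod_cast h1
  have hwm := hA.w_gt
  have hmom := hA.moments
  have hS : ∑ z ∈ Nb, (f z - c) ^ 2 = w * ((m : ℤ) - c) ^ 2 := by
    have e : ∀ z ∈ Nb, (f z - c) ^ 2 = f z ^ 2 - 2 * (c : ℤ) * f z + (c : ℤ) ^ 2 := fun z _ => by ring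
    rw [Finset.sum_congr rfl e, Finset.sum_add_distrib, Finset.sum_sub_distrib, ← Finset.mul_sum, hone, htwo,
      Finset.sum_const, hNb, nsmul_eq_mul]
    have e3 : ((w - 1 - m : ℕ) : ℤ) = w - 1 - m := by omega
    push_cast [e3]
    linarith
  have hinT : ∑ z ∈ T, (f z - c) ^ 2 = w * ((m : ℤ) - c) ^ 2 := by
    have e : ∀ z ∈ T, (f z - c) ^ 2 = ((m : ℤ) - c) ^ 2 := fun z hz => by
      simp only [f]; rw [hin z hz]
    rw [Finset.sum_congr rfl e, Finset.sum_const, hT, nsmul_eq_mul]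
  have huT : u ∉ T := fun hm => hux (Set.mem_toFinset.1 hm).2
  have huN : u ∈ Nb := Set.mem_toFinset.2 hu
  have hle : (f u - c) ^ 2 + ∑ z ∈ T, (f z - c) ^ 2 ≤ ∑ z ∈ Nb, (f z - c) ^ 2 := by
    rw [← Finset.sum_insert (f := fun z => (f z - c) ^ 2) huT]
    exact Finset.sum_le_sum_of_subset_of_nonneg (Finset.insert_subset huN hTN) fun z _ _ => sq_nonneg _
  have hfu : f u = c := by
    rw [hS, hinT] at hle
    nlinarith
  obtain ⟨b, hb⟩ : (T.filter fun b => u ≠ b ∧ Commute u b).Nonempty :=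
    Finset.card_pos.1 (by have := hA.c_pos; simp only [f] at hfu; omega)
  simp only [T, Finset.mem_filter, Set.mem_toFinset] at hb
  exact ⟨b, hb.1, hb.2.2.symm⟩

theorem nb_swap {a b : G} (ha : a ∈ D) (hb : b ∈ nb D a) : a ∈ nb D b :=
  ⟨ha, fun e => hb.2.1 e.symm, hb.2.2.symm⟩

omit h hA in
theorem hsub_conj (hD : TT0 D) (g : G) {y k : G} (hk : k ∈ hsub D y) :
    g * k * g⁻¹ ∈ hsub D (g * y * g⁻¹) := by
  induction hk using Subgroup.closure_induction with
  | mem u hu => exact Subgroup.subset_closure (nb_conj hD hu.1 hu.2.1 hu.2.2 rfl)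
  | one => simp
  | mul u v _ _ hu hv => simpa [mul_assoc] using mul_mem hu hv
  | inv u _ hu => simpa [mul_assoc] using inv_mem hu

section Self

variable (hself : ∀ a ∈ D, a ∈ hsub D a)

include hself

theorem closure_commute_le {a : G} (ha : a ∈ D) :
    Subgroup.closure {y : G | y ∈ D ∧ Commute a y} ≤ hsub D a := by
  refine (Subgroup.closure_le _).2 fun y hy => ?_
  by_cases e : y = a
  · rw [e]; exact hself a ha
  · exact Subgroup.subset_closure ⟨hy.1, e, hy.2⟩

omit hself in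
theorem block_mem {d y a : G} (hy : y ∈ D) (hdy : d ∈ nb D y) (ha : a ∈ hsub D y) :
    a * d * a⁻¹ ∈ nb D y :=
  nb_conj h.tt hdy.1 hdy.2.1 hdy.2.2 (by rw [(commute_hsub ha).eq, mul_inv_cancel_right])

/-- Cosets of `hsub d` inside one neighbourhood are determined by their points. -/
theorem same_coset {d y a a' : G} (hd : d ∈ D) (hy : y ∈ nb D d) (ha : a ∈ hsub D y)
    (ha' : a' ∈ hsub D y) (e : a * d * a⁻¹ = a' * d * a'⁻¹) :
    (a : G ⧸ hsub D d) = (a' : G ⧸ hsub D d) := by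
  refine QuotientGroup.eq.2 ?_
  have hc : Commute (a⁻¹ * a') d := by
    show a⁻¹ * a' * d = d * (a⁻¹ * a')
    calc a⁻¹ * a' * d = a⁻¹ * (a' * d * a'⁻¹) * a' := by group
      _ = a⁻¹ * (a * d * a⁻¹) * a' := by rw [e]
      _ = d * (a⁻¹ * a') := by group
  refine closure_commute_le h hA hself hd ?_
  exact Subgroup.closure_mono (k := {z : G | z ∈ D ∧ Commute d z}) (fun z hz => ⟨hz.1, hz.2.2⟩)
    (cent_in_hsub h.toPre hA hy.1 (nb_swap h hA hd hy) (mul_mem (inv_mem ha) ha') hc)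

omit hself in
/-- The point of a coset. -/
theorem point_eq {d e e' : G} (he : (e : G ⧸ hsub D d) = (e' : G ⧸ hsub D d)) :
    e * d * e⁻¹ = e' * d * e'⁻¹ := by
  have hc := commute_hsub (QuotientGroup.eq.1 he)
  calc e * d * e⁻¹ = e * (d * (e⁻¹ * e')) * e'⁻¹ := by group
    _ = e * (e⁻¹ * e' * d) * e'⁻¹ := by rw [hc.eq]
    _ = e' * d * e'⁻¹ := by group

/-- Independence of the auxiliary neighbour. -/
theorem coset_indep {d y y' k k' : G} (hd : d ∈ D) (hy : y ∈ nb D d) (hy' : y' ∈ nb D d)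
    (hk : k ∈ hsub D y) (hk' : k' ∈ hsub D y') (e : k * d * k⁻¹ = k' * d * k'⁻¹)
    (hb : k * d * k⁻¹ ∈ nb D d) : (k : G ⧸ hsub D d) = (k' : G ⧸ hsub D d) := by
  set b := k * d * k⁻¹ with hbdef
  have hby : b ∈ nb D y := block_mem h hA hy.1 (nb_swap h hA hd hy) hk
  have hby' : b ∈ nb D y' := by rw [e]; exact block_mem h hA hy'.1 (nb_swap h hA hd hy') hk'
  -- commuting auxiliary neighbours
  have comm : ∀ {p q l m : G}, p ∈ nb D d → q ∈ nb D d → b ∈ nb D p → b ∈ nb D q → l ∈ hsub D p →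
      m ∈ hsub D q → l * d * l⁻¹ = b → m * d * m⁻¹ = b → Commute p q →
      (l : G ⧸ hsub D d) = (m : G ⧸ hsub D d) := by
    intro p q l m hp hq hbp hbq hl hm el em hpq
    by_cases epq : p = q
    · subst epq; exact same_coset h hA hself hd hp hl hm (el.trans em.symm)
    have hL := h.loc p hp.1
    have hqp : q ∈ nb D p := ⟨hq.1, fun e => epq e.symm, hpq⟩
    have hdp : d ∈ nb D p := nb_swap h hA hd hp
    have hdq : d ∈ nb D q := nb_swap h hA hd hq
    obtain ⟨x, ⟨hx, hxq, hxqc⟩, hxd, hxb⟩ : ∃ x, (x ∈ nb D p ∧ x ≠ q ∧ Commute x q) ∧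
        ¬ Commute d x ∧ ¬ Commute b x := by
      by_contra hno
      push Not at hno
      have hsub' : {y | y ∈ nb D p ∧ y ≠ q ∧ Commute y q} ⊆
          insert d {y | y ∈ nb D p ∧ y ≠ q ∧ y ≠ d ∧ Commute y q ∧ Commute y d} ∪
          insert b {y | y ∈ nb D p ∧ y ≠ q ∧ y ≠ b ∧ Commute y q ∧ Commute y b} := by
        intro z hz
        by_cases hzd : Commute d z
        · left
          by_cases e : z = d
          · exact Or.inl e
          · exact Or.inr ⟨hz.1, hz.2.1, e, hz.2.2, hzd.symm⟩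
        · right
          by_cases e : z = b
          · exact Or.inl e
          · exact Or.inr ⟨hz.1, hz.2.1, e, hz.2.2, (hno z hz hzd).symm⟩
      have h1 := (Set.ncard_le_ncard hsub' (Set.toFinite _)).trans (Set.ncard_union_le _ _)
      rw [hL.card_pair q hqp,
        Set.ncard_insert_of_notMem (fun h' => h'.2.2.1 rfl) (Set.toFinite _),
        Set.ncard_insert_of_notMem (fun h' => h'.2.2.1 rfl) (Set.toFinite _),
        hL.card_comm q hqp d hdp (fun e => hdq.2.1 e.symm) hdq.2.2,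
        hL.card_comm q hqp b hbp (fun e => hbq.2.1 e.symm) hbq.2.2] at h1
      have := hA.l_lt
      omega
    have hxq' : x ∈ nb D q := ⟨hx.1, hxq, hxqc.symm⟩
    have hK : x * d * b * x * d * (x * d * b * x)⁻¹ = b := swap_conj h.tt hd hb.1 hx.1 hb.2.2 hxd hxb
    have hKp : x * d * b * x ∈ hsub D p := mul_mem (mul_mem (mul_mem (Subgroup.subset_closure hx)
      (Subgroup.subset_closure hdp)) (Subgroup.subset_closure hbp)) (Subgroup.subset_closure hx)
    have hKq : x * d * b * x ∈ hsub D q := mul_mem (mul_mem (mul_mem (Subgroup.subset_closure hxq')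
      (Subgroup.subset_closure hdq)) (Subgroup.subset_closure hbq)) (Subgroup.subset_closure hxq')
    exact (same_coset h hA hself hd hp hl hKp (el.trans hK.symm)).trans (same_coset h hA hself hd hq hKq hm (hK.trans em.symm))
  by_cases hc : Commute y y'
  · exact comm hy hy' hby hby' hk hk' rfl e.symm hc
  obtain ⟨z, hz⟩ : {z | z ∈ nb D d ∧ z ≠ b ∧ Commute z y ∧ Commute z y' ∧ Commute z b}.Nonempty :=
    Set.nonempty_of_ncard_ne_zero (by
      rw [(h.loc d hd).card_three y hy y' hy' b hb hc hby.2.2.symm hby'.2.2.symm]; have := hA.r_pos; omega)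
  have hbz : b ∈ nb D z := ⟨hb.1, hz.2.1.symm, hz.2.2.2.2⟩
  obtain ⟨m, hm, em⟩ := h.near z hz.1.1 d (nb_swap h hA hd hz.1) b hbz
  exact (comm hy hz.1 hby hbz hk hm rfl em hz.2.2.1.symm).trans
    (comm hz.1 hy' hbz hby' hm hk' em e.symm hz.2.2.2.1)

omit hself in
/-- Three members with two adjacencies among the last have a common neighbour. -/
theorem exists_block {d z z' : G} (hd : d ∈ D) (hz : z ∈ D) (hz' : z' ∈ D) (hne : z ≠ z')
    (hc : Commute z z') : ∃ y ∈ nb D d, z ∈ nb D y ∧ z' ∈ nb D y := by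
  have hpair : ∀ z₀, z₀ ∈ nb D d → ∃ y ∈ nb D d, d ∈ nb D y ∧ z₀ ∈ nb D y := fun z₀ hw => by
    obtain ⟨y, hy⟩ : {y | y ∈ nb D d ∧ y ≠ z₀ ∧ Commute y z₀}.Nonempty :=
      Set.nonempty_of_ncard_ne_zero (by rw [(h.loc d hd).card_pair z₀ hw]; have := hA.l_lt; omega)
    exact ⟨y, hy.1, nb_swap h hA hd hy.1, hw.1, hy.2.1.symm, hy.2.2⟩
  have hmix : ∀ w w', w ∈ nb D d → w' ∈ D → ¬ Commute d w' → Commute w w' →
      ∃ y ∈ nb D d, w ∈ nb D y ∧ w' ∈ nb D y := by
    intro w w' hw hw' hfar hcw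
    obtain ⟨y, hy⟩ : {y | y ∈ tri D d w' ∧ y ≠ w ∧ Commute y w}.Nonempty :=
      Set.nonempty_of_ncard_ne_zero (by rw [tri_inner h.toPre hA hd hw' hfar ⟨hw, hcw⟩]; have := hA.m_pos; omega)
    exact ⟨y, hy.1.1, ⟨hw.1, hy.2.1.symm, hy.2.2⟩, hw', fun e => hfar (e ▸ hy.1.1.2.2), hy.1.2⟩
  by_cases e : z = d
  · subst e
    exact hpair z' ⟨hz', hne.symm, hc⟩
  by_cases e' : z' = d
  · subst e'
    obtain ⟨y, h1, h2, h3⟩ := hpair z ⟨hz, hne, hc.symm⟩
    exact ⟨y, h1, h3, h2⟩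
  by_cases hdz : Commute d z <;> by_cases hdz' : Commute d z'
  · obtain ⟨y, hy⟩ : {y | y ∈ nb D d ∧ y ≠ z ∧ y ≠ z' ∧ Commute y z ∧ Commute y z'}.Nonempty :=
      Set.nonempty_of_ncard_ne_zero (by
        rw [(h.loc d hd).card_comm z ⟨hz, e, hdz⟩ z' ⟨hz', e', hdz'⟩ hne hc]; have := hA.l_pos; omega)
    exact ⟨y, hy.1, ⟨hz, hy.2.1.symm, hy.2.2.2.1⟩, hz', hy.2.2.1.symm, hy.2.2.2.2⟩
  · exact hmix z z' ⟨hz, e, hdz⟩ hz' hdz' hc
  · obtain ⟨y, h1, h2, h3⟩ := hmix z' z ⟨hz', e', hdz'⟩ hz hdz hc.symm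
    exact ⟨y, h1, h3, h2⟩
  · obtain ⟨y, hy, hyz'⟩ := exists_common h hA hz ⟨hz', hne.symm, hc⟩ hd (fun q => hdz q.symm)
      (fun q => hdz' q.symm)
    exact ⟨y, ⟨hy.1.1, fun q => hdz (q ▸ hy.1.2.2).symm, hy.2.symm⟩,
      ⟨hz, hy.1.2.1.symm, hy.1.2.2.symm⟩, hz', fun q => hdz' (q.symm ▸ hy.2.symm), hyz'⟩

/-- The centraliser of a transposition is generated by its neighbours. -/
theorem centralizer_eq {d : G} (hd : d ∈ D) :
    hsub D d = Subgroup.centralizer ({d} : Set G) ∧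
      Nat.card (G ⧸ hsub D d) = D.ncard := by
  set mk : G → G ⧸ hsub D d := QuotientGroup.mk
  let Lift : G ⧸ hsub D d → G ⧸ hsub D d → Prop := fun ω ω' =>
    ∃ g y k, y ∈ nb D d ∧ k ∈ hsub D y ∧ k * d * k⁻¹ ∈ nb D d ∧ ω = mk g ∧ ω' = mk (g * k)
  -- two lifts with the same point agree
  have U : ∀ {ω : G ⧸ hsub D d} {e₁ e₂ : G}, Lift ω (mk e₁) → Lift ω (mk e₂) →
      e₁ * d * e₁⁻¹ = e₂ * d * e₂⁻¹ → mk e₁ = mk e₂ := by
    rintro ω e₁ e₂ ⟨g, y, k, hy, hk, hkd, rfl, h1⟩ ⟨g', y', k', hy', hk', -, hg, h2⟩ hp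
    have hm := QuotientGroup.eq.1 hg
    set m := g⁻¹ * g'
    have hmd : m * d * m⁻¹ = d := by rw [(commute_hsub hm).eq, mul_inv_cancel_right]
    have hy'' : m * y' * m⁻¹ ∈ nb D d := nb_conj h.tt hy'.1 hy'.2.1 hy'.2.2 hmd
    have h2' : mk e₂ = mk (g * (m * k' * m⁻¹)) := by
      rw [h2]
      refine QuotientGroup.eq.2 ?_
      rw [show (g' * k')⁻¹ * (g * (m * k' * m⁻¹)) = m⁻¹ by simp only [m]; group]
      exact inv_mem hm
    have e : k * d * k⁻¹ = m * k' * m⁻¹ * d * (m * k' * m⁻¹)⁻¹ := by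
      refine mul_left_cancel (a := g) (mul_right_cancel (b := g⁻¹) ?_)
      calc g * (k * d * k⁻¹) * g⁻¹ = g * k * d * (g * k)⁻¹ := by group
        _ = e₁ * d * e₁⁻¹ := (point_eq h hA h1).symm
        _ = e₂ * d * e₂⁻¹ := hp
        _ = g * (m * k' * m⁻¹) * d * (g * (m * k' * m⁻¹))⁻¹ := point_eq h hA h2'
        _ = _ := by group
    have key := coset_indep h hA hself hd hy hy'' hk (hsub_conj h.tt m hk') e hkd
    rw [h1, h2']
    refine QuotientGroup.eq.2 ?_
    have := QuotientGroup.eq.1 key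
    rwa [show (g * k)⁻¹ * (g * (m * k' * m⁻¹)) = k⁻¹ * (m * k' * m⁻¹) by group]
  -- the section
  let Sec : G → G → Prop := fun z e =>
    (z = d ∧ mk e = mk 1) ∨ (z ∈ nb D d ∧ Lift (mk 1) (mk e) ∧ e * d * e⁻¹ = z) ∨
      (¬ Commute d z ∧ mk e = mk (d * z))
  have hblock : ∀ {y a : G}, y ∈ nb D d → a ∈ hsub D y → Sec (a * d * a⁻¹) a := by
    intro y a hy ha
    have hz := block_mem h hA hy.1 (nb_swap h hA hd hy) ha
    by_cases e : a * d * a⁻¹ = d
    · exact Or.inl ⟨e, same_coset h hA hself hd hy ha (one_mem _) (by rw [e]; group)⟩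
    by_cases hc : Commute d (a * d * a⁻¹)
    · exact Or.inr (Or.inl ⟨⟨hz.1, e, hc⟩, ⟨1, y, a, hy, ha, ⟨hz.1, e, hc⟩, rfl, by rw [one_mul]⟩, rfl⟩)
    refine Or.inr (Or.inr ⟨hc, ?_⟩)
    set z := a * d * a⁻¹ with hzdef
    refine same_coset h hA hself hd hy ha (mul_mem (Subgroup.subset_closure (nb_swap h hA hd hy))
      (Subgroup.subset_closure hz)) ?_
    rw [← hzdef, mul_inv_rev, h.tt.inv hd, h.tt.inv hz.1]
    rw [show d * z * d * (z * d) = (d * z * d) * z * d by group, ← braid0 h.tt hz.1 hd (fun q => hc q.symm),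
      show z * d * z * z * d = z * (d * (z * z) * d) by group, h.tt.sq z hz.1, mul_one, h.tt.sq d hd, mul_one]
  have hpoint : ∀ {z e : G}, z ∈ D → Sec z e → e * d * e⁻¹ = z := by
    rintro z e hz (⟨rfl, he⟩ | ⟨-, -, he⟩ | ⟨hfar, he⟩)
    · rw [point_eq h hA he]; group
    · exact he
    · rw [point_eq h hA he, mul_inv_rev, h.tt.inv hd, h.tt.inv hz,
        show d * z * d * (z * d) = (d * z * d) * z * d by group, braid0 h.tt hd hz hfar]
      rw [show z * d * z * z * d = z * (d * (z * z) * d) by group, h.tt.sq z hz, mul_one, h.tt.sq d hd, mul_one]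
  have huniq : ∀ {z e e' : G}, Sec z e → Sec z e' → mk e = mk e' := by
    rintro z e e' (⟨rfl, he⟩ | ⟨hn, he, hp⟩ | ⟨hfar, he⟩) (⟨hz', he'⟩ | ⟨hn', he', hp'⟩ | ⟨hfar', he'⟩)
    · exact he.trans he'.symm
    · exact absurd rfl hn'.2.1
    · exact absurd (Commute.refl _) hfar'
    · exact absurd hz' hn.2.1
    · exact U he he' (hp.trans hp'.symm)
    · exact absurd hn.2.2 hfar'
    · exact absurd (hz'.symm ▸ Commute.refl d) hfar
    · exact absurd hn'.2.2 hfar
    · exact he.trans he'.symm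
  -- the image is closed
  set S : Set (G ⧸ hsub D d) := {ω | ∃ z ∈ D, ∃ e, Sec z e ∧ ω = mk e}
  have hclosed : ∀ {ω ω' : G ⧸ hsub D d}, ω ∈ S → Lift ω ω' → ω' ∈ S := by
    rintro ω ω' ⟨z, hz, e, he, rfl⟩ hl
    obtain ⟨g, y, k, hy, hk, hkd, hg, rfl⟩ := hl
    have hzg : g * d * g⁻¹ = z := (point_eq h hA hg).symm.trans (hpoint hz he)
    have hz' : g * k * d * (g * k)⁻¹ ∈ nb D z := by
      rw [show g * k * d * (g * k)⁻¹ = g * (k * d * k⁻¹) * g⁻¹ by group]
      exact nb_conj h.tt hkd.1 hkd.2.1 hkd.2.2 hzg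
    obtain ⟨y₁, hy₁, hzy, hzy'⟩ := exists_block h hA hd hz hz'.1 hz'.2.1.symm hz'.2.2
    obtain ⟨a, ha, hae⟩ := h.near y₁ hy₁.1 d (nb_swap h hA hd hy₁) z hzy
    obtain ⟨a', ha', hae'⟩ := h.near y₁ hy₁.1 d (nb_swap h hA hd hy₁) _ hzy'
    have hSa : mk a = mk e := huniq (hae ▸ hblock hy₁ ha) he
    have hl1 : Lift (mk e) (mk a') := by
      refine ⟨a, y₁, a⁻¹ * a', hy₁, mul_mem (inv_mem ha) ha', ?_, hSa.symm, by rw [mul_inv_cancel_left]⟩
      rw [show a⁻¹ * a' * d * (a⁻¹ * a')⁻¹ = a⁻¹ * (a' * d * a'⁻¹) * a⁻¹⁻¹ by group, hae']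
      exact nb_conj h.tt hz'.1 hz'.2.1 hz'.2.2 (by rw [← hae]; group)
    have := U hl1 ⟨g, y, k, hy, hk, hkd, hg, rfl⟩ hae'
    exact ⟨_, hz'.1, a', hae' ▸ hblock hy₁ ha', this.symm⟩
  -- the image is everything
  have hstep : ∀ t ∈ D, ∀ g, mk g ∈ S → mk (g * t) ∈ S := by
    intro t ht g hg
    by_cases hdt : Commute d t
    · have : mk (g * t) = mk g := QuotientGroup.eq.2 (by
        rw [show (g * t)⁻¹ * g = t⁻¹ by group]
        exact inv_mem (closure_commute_le h hA hself hd (Subgroup.subset_closure ⟨ht, hdt⟩)))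
      rwa [this]
    obtain ⟨y, hy⟩ := tri_nonempty h.toPre hA hd ht hdt
    have hty : t ∈ nb D y := ⟨ht, fun e => hdt (e ▸ hy.1.2.2), hy.2⟩
    have hth : t ∈ hsub D y := Subgroup.subset_closure hty
    set x := t * d * t⁻¹ with hxdef
    have hxy : x ∈ nb D y := block_mem h hA hy.1.1 (nb_swap h hA hd hy.1) hth
    have hdx : ¬ Commute d x := fun hc => hdt (by
      have h1 := braid0 h.tt ht hd (fun q => hdt q.symm)
      rw [hxdef, h.tt.inv ht, h1] at hc
      have h2 := (commute_conj_iff d d (d * t * d⁻¹)).2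
      rw [h.tt.inv hd, mul_assoc d d d, h.tt.sq d hd, mul_one,
        show d * (d * t * d) * d = (d * d) * t * (d * d) by group, h.tt.sq d hd, one_mul, mul_one] at h2
      exact h2 hc)
    obtain ⟨u, hu⟩ : {u | u ∈ tri D d x ∧ u ≠ y ∧ Commute u y}.Nonempty :=
      Set.nonempty_of_ncard_ne_zero (by rw [tri_inner h.toPre hA hd hxy.1 hdx ⟨hy.1, hxy.2.2⟩]; have := hA.m_pos; omega)
    have huy : u ∈ nb D y := ⟨hu.1.1.1, hu.2.1, hu.2.2.symm⟩
    obtain ⟨k, hk, hke⟩ := h.near y hy.1.1 d (nb_swap h hA hd hy.1) u huy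
    have h1 : mk (g * k) ∈ S := hclosed hg ⟨g, y, k, hy.1, hk, hke.symm ▸ hu.1.1, rfl, rfl⟩
    refine hclosed h1 ⟨g * k, y, k⁻¹ * t, hy.1, mul_mem (inv_mem hk) hth, ?_, rfl, by
      rw [mul_assoc, mul_inv_cancel_left]⟩
    rw [show k⁻¹ * t * d * (k⁻¹ * t)⁻¹ = k⁻¹ * (t * d * t⁻¹) * k⁻¹⁻¹ by group]
    exact nb_conj h.tt hxy.1 (fun e : x = u => hdx (e.symm ▸ hu.1.1.2.2)) hu.1.2 (by rw [← hke]; group)
  have hall : ∀ g, mk g ∈ S := by
    let P : Subgroup G :=
      { carrier := {t | ∀ g, mk (g * t) ∈ S ↔ mk g ∈ S}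
        one_mem' := fun g => by rw [mul_one]
        mul_mem' := fun {a b} ha hb g => by rw [← mul_assoc, hb, ha]
        inv_mem' := fun {a} ha g => by
          have := ha (g * a⁻¹)
          rw [inv_mul_cancel_right] at this
          exact this.symm }
    have hP : (⊤ : Subgroup G) ≤ P := by
      rw [← h.class3.2.2, Subgroup.closure_le]
      intro t ht g
      exact ⟨fun hh => by
        have := hstep t ht _ hh
        rwa [mul_assoc, h.tt.sq t ht, mul_one] at this, hstep t ht g⟩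
    intro g
    have := (hP (Subgroup.mem_top g) 1).2 ⟨d, hd, 1, Or.inl ⟨rfl, rfl⟩, rfl⟩
    rwa [one_mul] at this
  refine ⟨le_antisymm (fun g hg => ?_) fun g hg => ?_, ?_⟩
  · rw [Subgroup.mem_centralizer_singleton_iff]
    exact (commute_hsub hg).eq
  · rw [Subgroup.mem_centralizer_singleton_iff] at hg
    obtain ⟨z, hz, e, he, hge⟩ := hall g
    have hzd : z = d := by
      rw [← hpoint hz he, ← point_eq h hA hge, hg, mul_inv_cancel_right]
    subst hzd
    rcases he with ⟨-, he⟩ | ⟨hn, -, -⟩ | ⟨hfar, -⟩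
    · have := QuotientGroup.eq.1 (hge.trans he)
      simpa using this
    · exact absurd rfl hn.2.1
    · exact absurd (Commute.refl _) hfar
  · have hc : ∀ a ∈ D, ∃ g : G, g * d * g⁻¹ = a := fun a ha =>
      h.conjD d hd a ha (h.ne_one d hd) (h.ne_one a ha)
    rw [← Nat.card_coe_set_eq]
    refine Nat.card_congr (Equiv.ofBijective (Quotient.lift
      (fun g => (⟨g * d * g⁻¹, h.tt.conj g d hd⟩ : D))
      (fun a b hab => Subtype.ext (point_eq h hA (Quotient.sound hab)))) ⟨?_, ?_⟩)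
    · intro ω ω' heq
      obtain ⟨g, rfl⟩ := QuotientGroup.mk_surjective ω
      obtain ⟨g', rfl⟩ := QuotientGroup.mk_surjective ω'
      obtain ⟨z, hz, e, he, hge⟩ := hall g
      obtain ⟨z', hz', e', he', hge'⟩ := hall g'
      have hzz : z = z' := by
        rw [← hpoint hz he, ← hpoint hz' he', ← point_eq h hA hge, ← point_eq h hA hge']
        exact congrArg Subtype.val heq
      exact hge.trans ((huniq he (hzz ▸ he')).trans hge'.symm)
    · rintro ⟨a, ha⟩
      obtain ⟨g, hg⟩ := hc a ha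
      exact ⟨(g : G ⧸ hsub D d), Subtype.ext hg⟩

end Self

end Geo

end CfsgLib.ThreeT.Level
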