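import Cfsg.Agent.Spor3T.Level

/-!
The neighbourhood data of one level are the global data of the level below.
-/

set_option autoImplicit false
set_option linter.unusedSectionVars false
set_option linter.style.haveILetI false

namespace CfsgLib.ThreeT.Level

open CfsgLib.ThreeT.Prod

variable {G : Type*} [Group G] {D : Set G}

theorem Loc.conj {d : G} {n k l m r : ℕ} (hD : TT0 D) (h : Loc D d n k l m r) (g : G) :
    Loc D (MulAut.conj g d) n k l m r := by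
  set σ := MulAut.conj g with hσ
  have hm : ∀ {x}, σ x ∈ nb D (σ d) ↔ x ∈ nb D d := fun {x} => mem_nb_conj hD g
  have hc : ∀ {x y}, Commute (σ x) (σ y) ↔ Commute x y := fun {x y} => commute_conj_iff g x y
  have he : ∀ {x y}, σ x = σ y ↔ x = y := fun {x y} => σ.injective.eq_iff
  have himg : ∀ (P Q : G → Prop), (∀ y, P (σ y) ↔ Q y) →
      {y | y ∈ nb D (σ d) ∧ P y}.ncard = {y | y ∈ nb D d ∧ Q y}.ncard := by
    intro P Q hPQ
    rw [← Set.ncard_image_of_injective {y | y ∈ nb D d ∧ Q y} σ.injective]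
    congr 1
    ext y
    obtain ⟨y, rfl⟩ := σ.surjective y
    rw [σ.injective.mem_set_image]
    exact and_congr hm (hPQ y)
  refine ⟨?_, fun b hb => ?_, fun b hb c hc' hbc hcm => ?_, fun b hb c hc' hbc => ?_,
    fun b hb c hc' x hx hbc hxb hxc => ?_, fun b hb c hc' x hx hbc hbx hall => ?_, fun b hb k hk hkb => ?_⟩
  · rw [← h.card_nb, ← Set.ncard_image_of_injective (nb D d) σ.injective]
    congr 1
    ext y
    obtain ⟨y, rfl⟩ := σ.surjective y
    rw [σ.injective.mem_set_image]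
    exact hm
  · obtain ⟨b, rfl⟩ := σ.surjective b
    rw [← h.card_pair b (hm.1 hb)]
    exact himg _ _ fun y => and_congr (not_congr he) hc
  · obtain ⟨b, rfl⟩ := σ.surjective b
    obtain ⟨c, rfl⟩ := σ.surjective c
    rw [← h.card_comm b (hm.1 hb) c (hm.1 hc') (fun e => hbc (by rw [e])) (hc.1 hcm)]
    exact himg _ _ fun y => and_congr (not_congr he) (and_congr (not_congr he) (and_congr hc hc))
  · obtain ⟨b, rfl⟩ := σ.surjective b
    obtain ⟨c, rfl⟩ := σ.surjective c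
    rw [← h.card_line b (hm.1 hb) c (hm.1 hc') (fun e => hbc (hc.2 e))]
    exact himg _ _ fun y => and_congr hc hc
  · obtain ⟨b, rfl⟩ := σ.surjective b
    obtain ⟨c, rfl⟩ := σ.surjective c
    obtain ⟨x, rfl⟩ := σ.surjective x
    rw [← h.card_three b (hm.1 hb) c (hm.1 hc') x (hm.1 hx) (fun e => hbc (hc.2 e)) (hc.1 hxb) (hc.1 hxc)]
    exact himg _ _ fun y => and_congr (not_congr he) (and_congr hc (and_congr hc hc))
  · obtain ⟨b, rfl⟩ := σ.surjective b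
    obtain ⟨c, rfl⟩ := σ.surjective c
    obtain ⟨x, rfl⟩ := σ.surjective x
    rcases h.line_three b (hm.1 hb) c (hm.1 hc') x (hm.1 hx) (fun e => hbc (hc.2 e)) (fun e => hbx (hc.2 e))
      (fun y hy h1 h2 => hc.1 (hall _ (hm.2 hy) (hc.2 h1) (hc.2 h2))) with e | e
    · exact Or.inl (by rw [e])
    · exact Or.inr (by rw [e, map_mul, map_mul])
  · obtain ⟨b, rfl⟩ := σ.surjective b
    obtain ⟨k, rfl⟩ := σ.surjective k
    have hback : ∀ {u}, σ u ∈ hsub D (σ d) → u ∈ hsub D d := by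
      intro u hu
      have hle : hsub D (σ d) ≤ (hsub D d).map σ.toMonoidHom := by
        refine (Subgroup.closure_le _).2 fun y hy => ?_
        obtain ⟨y, rfl⟩ := σ.surjective y
        exact ⟨y, Subgroup.subset_closure (hm.1 hy), rfl⟩
      obtain ⟨v, hv, e⟩ := hle hu
      rwa [σ.injective e] at hv
    obtain ⟨w, hw, hall⟩ := h.cent b (hm.1 hb) k (hback hk) (hc.1 hkb)
    refine ⟨σ w, ?_, fun y hy => ?_⟩
    · have hle : (Subgroup.closure {y | y ∈ nb D d ∧ Commute b y}).map σ.toMonoidHom ≤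
          Subgroup.closure {y | y ∈ nb D (σ d) ∧ Commute (σ b) y} := by
        rw [MonoidHom.map_closure]
        refine Subgroup.closure_mono ?_
        rintro _ ⟨y, hy, rfl⟩
        exact ⟨hm.2 hy.1, hc.2 hy.2⟩
      exact hle ⟨w, hw, rfl⟩
    · obtain ⟨y, rfl⟩ := σ.surjective y
      rw [← map_inv, ← map_mul]
      exact hc.2 (hall y (hm.1 hy))

/-- What a level gives to the one above. -/
structure Below {Q : Type*} [Group Q] (E : Set Q) (n k l m r : ℕ) : Prop where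
  card : E.ncard = n
  card_nb : ∀ a ∈ E, (nb E a).ncard = k
  card_pair : ∀ a ∈ E, ∀ b ∈ nb E a, {y | y ∈ nb E a ∧ y ≠ b ∧ Commute y b}.ncard = l
  tri : ∀ a ∈ E, ∀ x ∈ E, ¬ Commute a x → (tri E a x).ncard = m
  inner : ∀ a ∈ E, ∀ x ∈ E, ¬ Commute a x → ∀ b ∈ Prod.tri E a x,
    {y | y ∈ Prod.tri E a x ∧ y ≠ b ∧ Commute y b}.ncard = r
  line : ∀ a ∈ E, ∀ x ∈ E, ∀ y ∈ E, ¬ Commute a x → ¬ Commute a y →
    (∀ z ∈ Prod.tri E a x, Commute z y) → y = x ∨ y = a * x * a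
  cent : ∀ a ∈ E, Subgroup.centralizer ({a} : Set Q) ≤ hsub E a

/-- The neighbourhood of `d`, seen modulo the centre. -/
theorem loc_of_img [Finite G] (hB : Base D) {d : G} (hd : d ∈ D) {n k l m r : ℕ}
    (hI : Below (img D d) n k l m r) : Loc D d n k l m r := by
  classical
  have hD := hB.tt
  set H := hsub D d
  set π := QuotientGroup.mk' (Subgroup.center ↥H) with hπ
  have hd1 := hB.ne_one d hd
  have hinj : ∀ {x y : ↥H}, (x : G) ∈ nb D d → (y : G) ∈ nb D d → π x = π y → (x : G) = y :=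
    fun {x y} hx hy e => by
      by_contra hne
      exact not_central hD hB.conjD hB.twinFree hd hd1 hx (hB.ne_one _ hx.1) fun z hz =>
        central_of_mk_eq hD hx hy hne e hz
  let ψ : G → ↥H ⧸ Subgroup.center ↥H := fun y =>
    if hy : y ∈ nb D d then π ⟨y, Subgroup.subset_closure hy⟩ else 1
  have hψ : ∀ y (hy : y ∈ nb D d), ψ y = π ⟨y, Subgroup.subset_closure hy⟩ := fun y hy => dif_pos hy
  have hψinj : Set.InjOn ψ (nb D d) := fun a ha b hb e => by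
    rw [hψ a ha, hψ b hb] at e
    exact hinj (x := ⟨a, Subgroup.subset_closure ha⟩) (y := ⟨b, Subgroup.subset_closure hb⟩) ha hb e
  have hψim : ψ '' nb D d = img D d := by
    ext z
    constructor
    · rintro ⟨y, hy, rfl⟩; exact ⟨_, hy, (hψ y hy).symm⟩
    · rintro ⟨x, hx, rfl⟩; exact ⟨x, hx, hψ x hx⟩
  have hψm : ∀ a ∈ nb D d, ψ a ∈ img D d := fun a ha => hψim ▸ Set.mem_image_of_mem ψ ha
  have hψc : ∀ a ∈ nb D d, ∀ b ∈ nb D d, (Commute (ψ a) (ψ b) ↔ Commute a b) := fun a ha b hb => by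
    rw [hψ a ha, hψ b hb]
    exact map_commute_iff hD (x := ⟨a, Subgroup.subset_closure ha⟩) (y := ⟨b, Subgroup.subset_closure hb⟩) ha hb
  have hψe : ∀ a ∈ nb D d, ∀ b ∈ nb D d, (ψ a = ψ b ↔ a = b) := fun a ha b hb =>
    ⟨fun e => hψinj ha hb e, fun e => e ▸ rfl⟩
  have cnt : ∀ (P : G → Prop) (Q : ↥H ⧸ Subgroup.center ↥H → Prop), (∀ y ∈ nb D d, P y ↔ Q (ψ y)) →
      {y | y ∈ nb D d ∧ P y}.ncard = {z | z ∈ img D d ∧ Q z}.ncard := by
    intro P Q h
    rw [← Set.InjOn.ncard_image (hψinj.mono fun y hy => hy.1)]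
    congr 1
    ext z
    constructor
    · rintro ⟨y, ⟨hy, hP⟩, rfl⟩; exact ⟨hψm y hy, (h y hy).1 hP⟩
    · rintro ⟨hz, hQ⟩
      obtain ⟨y, hy, rfl⟩ := (hψim ▸ hz : z ∈ ψ '' nb D d)
      exact ⟨y, ⟨hy, (h y hy).2 hQ⟩, rfl⟩
  refine ⟨?_, fun b hb => ?_, fun b hb c hc hbc hcm => ?_, fun b hb c hc hbc => ?_,
    fun b hb c hc x hx hbc hxb hxc => ?_, fun b hb c hc x hx hbc hbx hall => ?_, fun b hb g hg hgb => ?_⟩
  · rw [← hI.card, ← hψim, hψinj.ncard_image]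
  · rw [← hI.card_nb _ (hψm b hb)]
    exact cnt (fun y => y ≠ b ∧ Commute y b) (fun z => z ≠ ψ b ∧ Commute (ψ b) z) fun y hy =>
      and_congr (not_congr (hψe y hy b hb).symm)
        ⟨fun e => ((hψc y hy b hb).2 e).symm, fun e => (hψc y hy b hb).1 e.symm⟩
  · have hc' : ψ c ∈ nb (img D d) (ψ b) :=
      ⟨hψm c hc, fun e => hbc ((hψe c hc b hb).1 e).symm, (hψc b hb c hc).2 hcm⟩
    rw [← hI.card_pair _ (hψm b hb) _ hc', cnt (fun y => y ≠ b ∧ y ≠ c ∧ Commute y b ∧ Commute y c)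
      (fun z => z ≠ ψ b ∧ z ≠ ψ c ∧ Commute z (ψ b) ∧ Commute z (ψ c)) fun y hy =>
      and_congr (not_congr (hψe y hy b hb).symm) (and_congr (not_congr (hψe y hy c hc).symm)
        (and_congr (hψc y hy b hb).symm (hψc y hy c hc).symm))]
    congr 1
    ext z
    exact ⟨fun hz => ⟨⟨hz.1, hz.2.1, hz.2.2.2.1.symm⟩, hz.2.2.1, hz.2.2.2.2⟩,
      fun hz => ⟨hz.1.1, hz.1.2.1, hz.2.1, hz.1.2.2.symm, hz.2.2⟩⟩
  · have hne : ¬ Commute (ψ b) (ψ c) := fun e => hbc ((hψc b hb c hc).1 e)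
    rw [← hI.tri _ (hψm b hb) _ (hψm c hc) hne,
      cnt (fun y => Commute y b ∧ Commute y c) (fun z => Commute z (ψ b) ∧ Commute z (ψ c)) fun y hy =>
        and_congr (hψc y hy b hb).symm (hψc y hy c hc).symm]
    congr 1
    ext z
    exact ⟨fun hz => ⟨⟨hz.1, fun e => hne (e ▸ hz.2.2), hz.2.1.symm⟩, hz.2.2⟩,
      fun hz => ⟨hz.1.1, hz.1.2.2.symm, hz.2⟩⟩
  · have hne : ¬ Commute (ψ b) (ψ c) := fun e => hbc ((hψc b hb c hc).1 e)
    have hx' : ψ x ∈ Prod.tri (img D d) (ψ b) (ψ c) := by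
      refine ⟨⟨hψm x hx, fun e => hne ?_, ((hψc x hx b hb).2 hxb).symm⟩, (hψc x hx c hc).2 hxc⟩
      rw [← e]; exact (hψc x hx c hc).2 hxc
    rw [← hI.inner _ (hψm b hb) _ (hψm c hc) hne _ hx',
      cnt (fun y => y ≠ x ∧ Commute y b ∧ Commute y c ∧ Commute y x)
        (fun z => z ≠ ψ x ∧ Commute z (ψ b) ∧ Commute z (ψ c) ∧ Commute z (ψ x)) fun y hy =>
        and_congr (not_congr (hψe y hy x hx).symm) (and_congr (hψc y hy b hb).symm
          (and_congr (hψc y hy c hc).symm (hψc y hy x hx).symm))]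
    congr 1
    ext z
    exact ⟨fun hz => ⟨⟨⟨hz.1, fun e => hne (e ▸ hz.2.2.2.1), hz.2.2.1.symm⟩, hz.2.2.2.1⟩, hz.2.1, hz.2.2.2.2⟩,
      fun hz => ⟨hz.1.1.1, hz.2.1, hz.1.1.2.2.symm, hz.1.2, hz.2.2⟩⟩
  · have hm : b * c * b ∈ nb D d := by
      refine ⟨hD.conj' hc.1 hb.1, fun h => hc.2.1 ?_, (hb.2.2.mul_right hc.2.2).mul_right hb.2.2⟩
      calc c = b * (b * c * b) * b := by
            rw [show b * (b * c * b) * b = (b * b) * c * (b * b) by group, hD.sq b hb.1, one_mul, mul_one]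
        _ = d := by rw [h, hb.2.2.symm.eq, mul_assoc, hD.sq b hb.1, mul_one]
    rcases hI.line _ (hψm b hb) _ (hψm c hc) _ (hψm x hx) (fun e => hbc ((hψc b hb c hc).1 e))
      (fun e => hbx ((hψc b hb x hx).1 e)) (fun z hz => by
        obtain ⟨y, hy, rfl⟩ := (hψim ▸ hz.1.1 : z ∈ ψ '' nb D d)
        exact (hψc y hy x hx).2 (hall y hy ((hψc y hy b hb).1 hz.1.2.2.symm) ((hψc y hy c hc).1 hz.2))) with e | e
    · exact Or.inl ((hψe x hx c hc).1 e)
    · refine Or.inr ((hψe x hx _ hm).1 ?_)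
      rw [e, hψ b hb, hψ c hc, hψ _ hm, ← map_mul, ← map_mul]
      rfl
  · have hgen : π ⟨g, hg⟩ ∈ hsub (img D d) (ψ b) := by
      refine hI.cent _ (hψm b hb) (Subgroup.mem_centralizer_singleton_iff.2 ?_)
      rw [hψ b hb]
      exact ((show Commute (⟨g, hg⟩ : ↥H) ⟨b, Subgroup.subset_closure hb⟩ from Subtype.ext hgb.eq).map π).eq
    have hle : hsub (img D d) (ψ b) ≤
        ((Subgroup.closure {y | y ∈ nb D d ∧ Commute b y}).subgroupOf H).map π := by
      refine (Subgroup.closure_le _).2 ?_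
      rintro w ⟨hw, -, hc⟩
      obtain ⟨y, hy, rfl⟩ := (hψim ▸ hw : w ∈ ψ '' nb D d)
      exact ⟨⟨y, Subgroup.subset_closure hy⟩, Subgroup.mem_subgroupOf.2
        (Subgroup.subset_closure ⟨hy, (hψc b hb y hy).1 hc⟩), (hψ y hy).symm⟩
    obtain ⟨k', hk, hkg⟩ := hle hgen
    refine ⟨k', Subgroup.mem_subgroupOf.1 hk, fun y hy => ?_⟩
    have h1 : π (k'⁻¹ * ⟨g, hg⟩) = 1 := by rw [map_mul, map_inv, hkg, inv_mul_cancel]
    exact central_of_mk_eq_one (D := D) (d := d) (x := k'⁻¹ * (⟨g, hg⟩ : ↥H)) h1 hy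

end CfsgLib.ThreeT.Level
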