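import Cfsg.Agent.Spor3T.M22AutQuad

/-!
Type M(22): the automorphisms centralising a product of two commuting members and acting trivially on
its centraliser modulo the 2-radical; the one outside the inner group exchanges the pair.
-/

set_option autoImplicit false
set_option linter.unusedSectionVars false
set_option linter.style.haveILetI false

namespace CfsgLib.ThreeT.Prod

open CfsgLib

theorem aut_center_bot {S : Type*} [Group S] (hz : Subgroup.center S = ⊥) :
    ∀ φ : MulAut S, (∀ s, Commute φ (MulAut.conj s)) → φ = 1 := by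
  intro φ hφ
  refine MulEquiv.ext fun s => ?_
  have e : MulAut.conj (φ s) = MulAut.conj s := by
    refine MulEquiv.ext fun y => ?_
    have := DFunLike.congr_fun (hφ s).eq (φ.symm y)
    simpa using this
  have : s⁻¹ * φ s ∈ Subgroup.center S := Subgroup.mem_center_iff.2 fun y => by
    have := DFunLike.congr_fun e y
    simp only [MulAut.conj_apply] at this
    calc y * (s⁻¹ * φ s) = s⁻¹ * (s * y * s⁻¹) * φ s := by group
      _ = s⁻¹ * (φ s * y * (φ s)⁻¹) * φ s := by rw [this]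
      _ = _ := by group
  rw [hz, Subgroup.mem_bot, inv_mul_eq_one] at this
  exact this.symm

/-- The automorphism group of a simple group with trivial centre is complete. -/
theorem aut_aut_inner (S : Type*) [Group S] [Finite S] [IsSimpleGroup S] (hz : Subgroup.center S = ⊥)
    (Φ : MulAut (MulAut S)) : ∃ β : MulAut S, ∀ α, Φ α = β * α * β⁻¹ := by
  classical
  set ι : S →* MulAut S := MulAut.conj
  have hinj : Function.Injective ι := by
    refine (injective_iff_map_eq_one ι).2 fun s hs => ?_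
    have : s ∈ Subgroup.center S := Subgroup.mem_center_iff.2 fun y => by
      have := DFunLike.congr_fun hs y
      simp only [ι, MulAut.conj_apply, MulAut.one_apply] at this
      exact (mul_inv_eq_iff_eq_mul.1 this).symm
    rwa [hz, Subgroup.mem_bot] at this
  have hnorm : ∀ (α : MulAut S) (s : S), α * ι s * α⁻¹ = ι (α s) := fun α s =>
    MulEquiv.ext fun y => by simp [ι]
  -- the image of the inner group meets it
  let J : Subgroup S :=
    { carrier := {s | ∃ r, Φ (ι r) = ι s}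
      one_mem' := ⟨1, by simp⟩
      mul_mem' := by
        rintro _ _ ⟨r, hr⟩ ⟨r', hr'⟩
        exact ⟨r * r', by rw [map_mul, map_mul, hr, hr', map_mul]⟩
      inv_mem' := by
        rintro _ ⟨r, hr⟩
        exact ⟨r⁻¹, by rw [map_inv, map_inv, hr, map_inv]⟩ }
  have hJn : J.Normal := ⟨fun s ⟨r, hr⟩ g => by
    obtain ⟨γ, hγ⟩ := Φ.surjective (ι g)
    exact ⟨γ r, by rw [← hnorm, map_mul, map_mul, map_inv, hr, hγ, map_mul, map_mul, map_inv]⟩⟩
  have hJ : J = ⊤ := by
    refine hJn.eq_bot_or_eq_top.resolve_left fun hbot => ?_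
    obtain ⟨r, hr⟩ := exists_ne (1 : S)
    refine hr (hinj (Φ.injective ?_))
    rw [map_one, map_one]
    refine aut_center_bot hz _ fun s => ?_
    -- commutators of the two inner groups lie in both
    obtain ⟨γ, hγ⟩ := Φ.surjective (ι s)
    have e1 : ι s * Φ (ι r) * (ι s)⁻¹ * (Φ (ι r))⁻¹ = ι (s * (Φ (ι r) s)⁻¹) := by
      rw [map_mul, map_inv, ← hnorm]; group
    have e2 : ι s * Φ (ι r) * (ι s)⁻¹ * (Φ (ι r))⁻¹ = Φ (ι (γ r * r⁻¹)) := by
      rw [← hγ, map_mul ι, map_inv ι, map_mul, map_inv, ← hnorm, map_mul, map_mul, map_inv]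
    have hm : s * (Φ (ι r) s)⁻¹ ∈ J := ⟨_, e2.symm.trans e1⟩
    rw [hbot, Subgroup.mem_bot] at hm
    rw [hm, map_one, mul_inv_eq_one, mul_inv_eq_iff_eq_mul] at e1
    exact e1.symm
  -- the induced automorphism
  have hall : ∀ s, ∃ r, Φ (ι r) = ι s := fun s => show s ∈ J from hJ.symm ▸ Subgroup.mem_top s
  choose f hf using hall
  have hfm : ∀ s t, f (s * t) = f s * f t := fun s t => hinj (Φ.injective (by
    simp only [map_mul, hf]))
  have hfinj : Function.Injective f := fun s t e =>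
    hinj ((hf s).symm.trans ((congrArg (fun r => Φ (ι r)) e).trans (hf t)))
  set δ : MulAut S := MulEquiv.ofBijective (MonoidHom.mk' f hfm)
    ⟨hfinj, Finite.surjective_of_injective hfinj⟩
  refine ⟨δ⁻¹, fun α => ?_⟩
  have hb : ∀ r, Φ (ι r) = ι (δ⁻¹ r) := fun r => by
    obtain ⟨s, rfl⟩ := δ.surjective r
    rw [show δ⁻¹ (δ s) = s from δ.symm_apply_apply s]
    exact hf s
  have key : (δ⁻¹ * α * δ⁻¹⁻¹)⁻¹ * Φ α = 1 := aut_center_bot hz _ fun s => by
    have e1 : Φ α * ι s * (Φ α)⁻¹ = ι (δ⁻¹ (α (δ s))) := by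
      rw [← hb, ← hnorm α, map_mul, map_mul, map_inv, hb, show δ⁻¹ (δ s) = s from δ.symm_apply_apply s]
    have e2 : (δ⁻¹ * α * δ⁻¹⁻¹) * ι s * (δ⁻¹ * α * δ⁻¹⁻¹)⁻¹ = ι (δ⁻¹ (α (δ s))) := by
      rw [hnorm]; simp
    show _ * ι s = ι s * _
    rw [mul_inv_eq_iff_eq_mul] at e1 e2
    set X := δ⁻¹ * α * δ⁻¹⁻¹
    have e3 : X⁻¹ * ι (δ⁻¹ (α (δ s))) = ι s * X⁻¹ := by
      rw [inv_mul_eq_iff_eq_mul, ← mul_assoc, e2, mul_inv_cancel_right]
    rw [mul_assoc, e1, ← mul_assoc, e3, mul_assoc]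
  exact (inv_mul_eq_one.1 key).symm

/-! Permutations of four letters. -/

/-- Three of the letters in a cycle. -/
def cyc : Equiv.Perm (Fin 4) := Equiv.swap 1 3 * Equiv.swap 1 2

theorem perm_cyc : ∀ π : Equiv.Perm (Fin 4), π 0 = 0 → π 1 = 2 →
    (∀ i j, i ≠ j → π i = i → π j = j → π = 1) → π = cyc := by
  decide +kernel

theorem perm_odd_comm : ∀ π : Equiv.Perm (Fin 4), Equiv.Perm.sign π = -1 →
    (π * cyc * π⁻¹ * cyc⁻¹) ^ 8 ≠ 1 := by
  decide +kernel

theorem perm_odd_word : ∀ π : Equiv.Perm (Fin 4), Equiv.Perm.sign π = -1 →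
    ∃ ρ ∈ [π, π * cyc, π * cyc * cyc], ρ ≠ 1 ∧ ∃ i j, i ≠ j ∧ ρ i = i ∧ ρ j = j := by
  decide +kernel

theorem perm_even_two : ∀ π : Equiv.Perm (Fin 4), Equiv.Perm.sign π = 1 → (π * π) ^ 8 = 1 →
    π ∈ [1, Equiv.swap 0 1 * Equiv.swap 2 3, Equiv.swap 0 2 * Equiv.swap 1 3,
      Equiv.swap 0 3 * Equiv.swap 1 2] := by
  decide +kernel

theorem perm_pow_eight {π : Equiv.Perm (Fin 4)} (e : π ^ 1024 = 1) : π ^ 8 = 1 := by
  rw [← orderOf_dvd_iff_pow_eq_one] at e ⊢
  have h2 : orderOf π ∣ 24 := by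
    have := orderOf_dvd_natCard π
    rwa [Nat.card_perm, Nat.card_fin] at this
  exact Nat.dvd_gcd e h2

variable {G : Type*} [Group G] [Finite G] {D : Set G}

/-- An automorphism moves the four letters by a permutation. -/
def Acts (x : Fin 4 → G) (α : MulAut G) (π : Equiv.Perm (Fin 4)) : Prop := ∀ i, α (x i) = x (π i)

theorem Acts.mul {x : Fin 4 → G} {α β : MulAut G} {π ρ : Equiv.Perm (Fin 4)} (hα : Acts x α π) (hβ : Acts x β ρ) :
    Acts x (α * β) (π * ρ) := fun i => by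
  rw [MulAut.mul_apply, hβ, hα]; rfl

theorem Acts.inv {x : Fin 4 → G} {α : MulAut G} {π : Equiv.Perm (Fin 4)} (hα : Acts x α π) :
    Acts x α⁻¹ π⁻¹ := fun i => by
  have := hα (π⁻¹ i)
  rw [show π (π⁻¹ i) = i from π.apply_symm_apply i] at this
  rw [← this]; simp

theorem Acts.one {x : Fin 4 → G} : Acts x 1 1 := fun _ => rfl

theorem Acts.pow {x : Fin 4 → G} {α : MulAut G} {π : Equiv.Perm (Fin 4)} (hα : Acts x α π) :
    ∀ n : ℕ, Acts x (α ^ n) (π ^ n)
  | 0 => by simpa using Acts.one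
  | n + 1 => by rw [pow_succ, pow_succ]; exact (hα.pow n).mul hα

theorem Acts.unique {x : Fin 4 → G} (hx : Function.Injective x) {α : MulAut G} {π ρ : Equiv.Perm (Fin 4)}
    (hα : Acts x α π) (hβ : Acts x α ρ) : π = ρ :=
  Equiv.ext fun i => hx ((hα i).symm.trans (hβ i))

variable {a b : G} (h : Geo22 D)

/-- Automorphisms fixing the product act trivially on its centraliser modulo the kernel. -/
def QA (hα : TT0 D) (a b : G) (α : MulAut G) : Prop :=
  α (a * b) = a * b ∧ ∀ c ∈ Subgroup.centralizer ({a * b} : Set G), α c * c⁻¹ ∈ fibreKer hα a b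

include h

theorem aut_pair (ha : a ∈ D) (hb : b ∈ nb D a) {α : MulAut G} (hp : ∀ d ∈ D, α d ∈ D)
    (hz : α (a * b) = a * b) : (α a = a ∧ α b = b) ∨ (α a = b ∧ α b = a) := by
  have hne : α a ≠ α b := fun q => hb.2.1 (α.injective q).symm
  have hu := uniq_two h.tt h.twinFree h.ne_one (l := [α a, α b]) (l' := [a, b])
    ⟨by simpa using hne, rfl, by simpa using ⟨hp a ha, hp b hb.1⟩, by
      simpa using ⟨hb.2.2.map α.toMonoidHom, (hb.2.2.map α.toMonoidHom).symm⟩⟩
    ⟨by simpa using hb.2.1.symm, rfl, by simpa using ⟨ha, hb.1⟩, by simpa using ⟨hb.2.2, hb.2.2.symm⟩⟩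
    (by simpa [map_mul] using hz)
  have h1 := (hu (α a)).1 (by simp)
  have h2 := (hu (α b)).1 (by simp)
  simp only [List.mem_cons, List.not_mem_nil, or_false] at h1 h2
  rcases h1 with h1 | h1 <;> rcases h2 with h2 | h2
  · exact absurd (h1.trans h2.symm) hne
  · exact Or.inl ⟨h1, h2⟩
  · exact Or.inr ⟨h1, h2⟩
  · exact absurd (h1.trans h2.symm) hne

theorem aut_common {α : MulAut G} (hp : ∀ d ∈ D, α d ∈ D)
    (hα : (α a = a ∧ α b = b) ∨ (α a = b ∧ α b = a)) {y : G} (hy : y ∈ common D a b) :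
    α y ∈ common D a b := by
  obtain ⟨y1, y2, y3, y4, y5⟩ := hy
  have n2 : α y ≠ α a := fun q => y2 (α.injective q)
  have n3 : α y ≠ α b := fun q => y3 (α.injective q)
  have c4 : Commute (α y) (α a) := y4.map α.toMonoidHom
  have c5 : Commute (α y) (α b) := y5.map α.toMonoidHom
  rcases hα with ⟨e1, e2⟩ | ⟨e1, e2⟩ <;> rw [e1] at n2 c4 <;> rw [e2] at n3 c5
  exacts [⟨hp y y1, n2, n3, c4, c5⟩, ⟨hp y y1, n3, n2, c5, c4⟩]

theorem aut_inv_pair {α : MulAut G} (hα : (α a = a ∧ α b = b) ∨ (α a = b ∧ α b = a)) :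
    (α⁻¹ a = a ∧ α⁻¹ b = b) ∨ (α⁻¹ a = b ∧ α⁻¹ b = a) := by
  have key : ∀ u v, α u = v → α⁻¹ v = u := fun u v e => by rw [← e]; simp
  rcases hα with ⟨e1, e2⟩ | ⟨e1, e2⟩
  exacts [Or.inl ⟨key _ _ e1, key _ _ e2⟩, Or.inr ⟨key _ _ e2, key _ _ e1⟩]

theorem aut_fibreKer {α : MulAut G} (hp : ∀ (β : MulAut G), ∀ d ∈ D, β d ∈ D)
    (hα : (α a = a ∧ α b = b) ∨ (α a = b ∧ α b = a)) {u : G} (hu : u ∈ fibreKer h.tt a b) :
    α u ∈ fibreKer h.tt a b := by
  obtain ⟨ua, ub, us⟩ := hu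
  have i1 : Commute (α u) (α a) := ua.map α.toMonoidHom
  have i2 : Commute (α u) (α b) := ub.map α.toMonoidHom
  have i3 : ∀ y ∈ common D a b, Sim D a b (α u * y * (α u)⁻¹) y := by
    intro y hy z hz
    have hy' := aut_common h (hp α⁻¹) (aut_inv_pair h hα) hy
    have hz' := aut_common h (hp α⁻¹) (aut_inv_pair h hα) hz
    have e := us _ hy' _ hz'
    have hc : ∀ v w : G, Commute v w ↔ Commute (α v) (α w) := fun v w =>
      ⟨fun c => c.map α.toMonoidHom, fun c => by simpa using c.map α.symm.toMonoidHom⟩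
    rw [hc (α⁻¹ z), hc (α⁻¹ z) (α⁻¹ y)] at e
    simpa [map_mul, map_inv] using e
  rcases hα with ⟨e1, e2⟩ | ⟨e1, e2⟩ <;> rw [e1] at i1 <;> rw [e2] at i2
  exacts [⟨i1, i2, i3⟩, ⟨i2, i1, i3⟩]

omit h in
theorem mem_cent_map {α : MulAut G} {z c : G} (hz : α z = z) (hc : c ∈ Subgroup.centralizer ({z} : Set G)) :
    α c ∈ Subgroup.centralizer ({z} : Set G) := by
  rw [Subgroup.mem_centralizer_singleton_iff] at hc ⊢
  have := congrArg α hc
  rwa [map_mul, map_mul, hz] at this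

variable {σ : MulAut G} {x : Fin 4 → G} {k : G} (w : AutWitness D a b σ x k)
  (hprim : Cfsg.IsPrimitiveUnderConj D) (ht : Cfsg.IsOfTypeM22 G D) (ha : a ∈ D) (hb : b ∈ nb D a)

include w hprim ht ha hb

/-- An automorphism keeping the class of the four permutes them. -/
theorem exists_acts {α : MulAut G} (hα : (α a = a ∧ α b = b) ∨ (α a = b ∧ α b = a))
    (hs : Sim D a b (α (x 0)) (x 0)) : ∃ π, Acts x α π := by
  obtain ⟨F, _, _, _, hF, φ, ω, e, -, -, d, -⟩ := exists_pair_data h hprim ht ha hb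
  have hab := hb.2.2
  have hall : ∀ i, ∃ j, α (x i) = x j := by
    intro i
    refine Quad.exhaust h d w.quad (aut_common h (w.pres α) hα (w.quad.mem i)) ?_
    refine Sim.trans (fun z hz => ?_) hs
    have hz' := aut_common h (w.pres α⁻¹) (aut_inv_pair h hα) hz
    have e := Quad.sim h w.quad hab i 0 _ hz'
    have hc : ∀ v u : G, Commute v u ↔ Commute (α v) (α u) := fun v u =>
      ⟨fun c => c.map α.toMonoidHom, fun c => by simpa using c.map α.symm.toMonoidHom⟩
    rw [hc (α⁻¹ z), hc (α⁻¹ z) (x 0)] at e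
    simpa using e
  choose f hf using hall
  have hinj : Function.Injective f := fun i j e => w.quad.inj (α.injective (by rw [hf, hf, e]))
  exact ⟨Equiv.ofBijective f ⟨hinj, Finite.surjective_of_injective hinj⟩, hf⟩

/-- An inner element fixing the pair and two of the four fixes all of them. -/
theorem acts_trans {g : G} (ga : Commute g a) (gb : Commute g b) {π : Equiv.Perm (Fin 4)}
    (hπ : Acts x (MulAut.conj g) π) {i j : Fin 4} (hij : i ≠ j) (hi : π i = i) (hj : π j = j) : π = 1 := by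
  obtain ⟨F, _, _, _, hF, φ, ω, e, -, -, d, -⟩ := exists_pair_data h hprim ht ha hb
  have hf : ∀ l, π l = l → Commute g (x l) := fun l hl => commute_of_fix (by
    have := hπ l
    rwa [MulAut.conj_apply, hl] at this)
  refine Equiv.ext fun l => w.quad.inj ?_
  rw [← hπ l, MulAut.conj_apply]
  exact fix_of_commute (line_fix h d (w.quad.mem i) (w.quad.mem j) (w.quad.mem l)
    (fun r => hij (w.quad.inj r).symm) (Quad.sim h w.quad hb.2.2 j i) (Quad.sim h w.quad hb.2.2 l i) ga gb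
    (hf i hi) (hf j hj))

theorem conj_pair {g : G} (ga : Commute g a) (gb : Commute g b) :
    (MulAut.conj g a = a ∧ MulAut.conj g b = b) ∨ (MulAut.conj g a = b ∧ MulAut.conj g b = a) :=
  Or.inl ⟨fix_of_commute ga, fix_of_commute gb⟩

theorem k_acts : Acts x (MulAut.conj k) cyc := by
  have hp := conj_pair h w hprim ht ha hb w.ka w.kb
  obtain ⟨π, hπ⟩ := exists_acts h w hprim ht ha hb hp
    (by rw [MulAut.conj_apply, fix_of_commute w.kx]; exact Sim.refl _)
  have h0 : π 0 = 0 := w.quad.inj (by rw [← hπ, MulAut.conj_apply, fix_of_commute w.kx])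
  have h1 : π 1 = 2 := w.quad.inj (by rw [← hπ, MulAut.conj_apply, w.k12])
  rwa [perm_cyc π h0 h1 fun i j hij => acts_trans h w hprim ht ha hb w.ka w.kb hπ hij] at hπ

theorem k_mem : k ∈ Subgroup.centralizer ({a * b} : Set G) :=
  Subgroup.mem_centralizer_singleton_iff.2 (w.ka.mul_right w.kb).eq

theorem qa_sim {α : MulAut G} (hα : QA h.tt a b α) {y : G} (hy : y ∈ common D a b) :
    Sim D a b (α y) y := by
  have hp := aut_pair h ha hb (w.pres α) hα.1
  refine sim_of_mul h hy (aut_common h (w.pres α) hp hy) ?_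
  have := hα.2 y (Subgroup.mem_centralizer_singleton_iff.2 (hy.2.2.2.1.mul_right hy.2.2.2.2).eq)
  rwa [h.tt.inv hy.1] at this

theorem pow_card {u : G} (hu : u ∈ fibreKer h.tt a b) : u ^ 1024 = 1 := by
  obtain ⟨-, -, cE, -, -, -⟩ := pair_orders h hprim ht ha hb
  have : (⟨u, hu⟩ : ↥(fibreKer h.tt a b)) ^ Nat.card ↥(fibreKer h.tt a b) = 1 := pow_card_eq_one'
  rw [cE] at this
  simpa using congrArg Subtype.val this

theorem acts_kernel_eight {u : G} (hu : u ∈ fibreKer h.tt a b) {π : Equiv.Perm (Fin 4)}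
    (hπ : Acts x (MulAut.conj u) π) : π ^ 8 = 1 := by
  refine perm_pow_eight ?_
  have := hπ.pow 1024
  rw [← map_pow, pow_card h w hprim ht ha hb hu, map_one] at this
  exact Acts.unique w.quad.inj this Acts.one

/-- The permutation of such an automorphism is even. -/
theorem qa_even {α : MulAut G} (hα : QA h.tt a b α) {π : Equiv.Perm (Fin 4)} (hπ : Acts x α π) :
    Equiv.Perm.sign π = 1 := by
  rcases Int.units_eq_one_or (Equiv.Perm.sign π) with r | r
  · exact r
  exfalso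
  refine perm_odd_comm π r (acts_kernel_eight h w hprim ht ha hb (hα.2 k (k_mem h w hprim ht ha hb)) ?_)
  have e : MulAut.conj (α k * k⁻¹) = α * MulAut.conj k * α⁻¹ * (MulAut.conj k)⁻¹ := by
    refine MulEquiv.ext fun y => ?_
    simp [mul_assoc]
  rw [e]
  exact ((hπ.mul (k_acts h w hprim ht ha hb)).mul hπ.inv).mul (k_acts h w hprim ht ha hb).inv

/-- No such automorphism outside the inner group fixes both members. -/
theorem qa_not_fixed {g : G} (hα : QA h.tt a b (MulAut.conj g * σ)) (e1 : (MulAut.conj g * σ) a = a) : False := by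
  have hp := aut_pair h ha hb (w.pres _) hα.1
  have e2 : (MulAut.conj g * σ) b = b := by
    rcases hp with ⟨-, r⟩ | ⟨r, -⟩
    · exact r
    · exact absurd (e1.symm.trans r) hb.2.1.symm
  obtain ⟨π, hπ⟩ := exists_acts h w hprim ht ha hb hp (qa_sim h w hprim ht ha hb hα (w.quad.mem 0))
  have ga : Commute g a := commute_of_fix (by simpa [w.fix_a] using e1)
  have gb : Commute g b := commute_of_fix (by simpa [w.fix_b] using e2)
  have hσ : Acts x σ (Equiv.swap 2 3) := w.swap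
  have hg : Acts x (MulAut.conj g) (π * (Equiv.swap 2 3)⁻¹) := by
    have := hπ.mul hσ.inv
    rwa [mul_inv_cancel_right] at this
  have hsgn : Equiv.Perm.sign (π * (Equiv.swap 2 3)⁻¹) = -1 := by
    rw [map_mul, map_inv, qa_even h w hprim ht ha hb hα hπ, Equiv.Perm.sign_swap (by decide)]
    rfl
  obtain ⟨ρ, hρ, hρ1, i, j, hij, hi, hj⟩ := perm_odd_word _ hsgn
  have kk := k_acts h w hprim ht ha hb
  simp only [List.mem_cons, List.not_mem_nil, or_false] at hρ
  rcases hρ with rfl | rfl | rfl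
  · exact hρ1 (acts_trans h w hprim ht ha hb ga gb hg hij hi hj)
  · refine hρ1 (acts_trans h w hprim ht ha hb (ga.mul_left w.ka) (gb.mul_left w.kb) ?_ hij hi hj)
    rw [map_mul]; exact hg.mul kk
  · refine hρ1 (acts_trans h w hprim ht ha hb ((ga.mul_left w.ka).mul_left w.ka)
      ((gb.mul_left w.kb).mul_left w.kb) ?_ hij hi hj)
    rw [map_mul, map_mul]; exact (hg.mul kk).mul kk

/-- An inner one comes from the kernel. -/
theorem qa_inner {g : G} (hα : QA h.tt a b (MulAut.conj g)) : g ∈ fibreKer h.tt a b := by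
  obtain ⟨hn, F, _, _, hF4, ⟨e⟩⟩ := pair_quot h hprim ht ha hb
  haveI := hn
  haveI := (PairStab.card_psu_four (F := F) hF4).2
  set C := Subgroup.centralizer ({a * b} : Set G)
  have hg : g ∈ C := Subgroup.mem_centralizer_singleton_iff.2
    (commute_of_fix (by simpa using hα.1)).eq
  set π := QuotientGroup.mk' ((fibreKer h.tt a b).subgroupOf C)
  have hcomm : ∀ y : ↥C, Commute (π ⟨g, hg⟩) (π y) := fun y => by
    have hm : (⟨g, hg⟩ * y * (⟨g, hg⟩ : ↥C)⁻¹ * y⁻¹) ∈ (fibreKer h.tt a b).subgroupOf C := by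
      rw [Subgroup.mem_subgroupOf]
      simpa using hα.2 y y.2
    have e1 : π (⟨g, hg⟩ * y * (⟨g, hg⟩ : ↥C)⁻¹ * y⁻¹) = 1 := (QuotientGroup.eq_one_iff _).2 hm
    rw [map_mul, map_mul, map_mul, map_inv, map_inv, mul_inv_eq_one, mul_inv_eq_iff_eq_mul] at e1
    exact e1
  have h1 : e (π ⟨g, hg⟩) = 1 := aut_center_bot (center_psu_four hF4).1 _ fun s => by
    obtain ⟨y, hy⟩ := e.surjective (MulAut.conj s)
    obtain ⟨y', rfl⟩ := QuotientGroup.mk'_surjective _ y
    rw [← hy]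
    exact (hcomm y').map e.toMonoidHom
  rw [← map_one e] at h1
  exact Subgroup.mem_subgroupOf.1 ((QuotientGroup.eq_one_iff _).1 (e.injective h1))

/-- There is one outside the inner group. -/
theorem exists_qa : ∃ c ∈ Subgroup.centralizer ({a * b} : Set G), QA h.tt a b (MulAut.conj c * σ) := by
  obtain ⟨hn, F, _, _, hF4, ⟨e⟩⟩ := pair_quot h hprim ht ha hb
  haveI := hn
  haveI := (PairStab.card_psu_four (F := F) hF4).2
  set C := Subgroup.centralizer ({a * b} : Set G) with hCdef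
  set E := fibreKer h.tt a b
  have hσz : σ (a * b) = a * b := by rw [map_mul, w.fix_a, w.fix_b]
  have hσz' : σ⁻¹ (a * b) = a * b := by
    conv_lhs => rw [← hσz]
    simp
  let σC : ↥C ≃* ↥C :=
    { toFun := fun y => ⟨σ y, mem_cent_map hσz y.2⟩
      invFun := fun y => ⟨σ⁻¹ y, mem_cent_map hσz' y.2⟩
      left_inv := fun y => Subtype.ext (by simp)
      right_inv := fun y => Subtype.ext (by simp)
      map_mul' := fun y z => Subtype.ext (by simp) }
  have hmap : (E.subgroupOf C).map σC.toMonoidHom = E.subgroupOf C := by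
    have hp : (σ a = a ∧ σ b = b) ∨ (σ a = b ∧ σ b = a) := Or.inl ⟨w.fix_a, w.fix_b⟩
    ext y
    constructor
    · rintro ⟨z, hz, rfl⟩
      exact Subgroup.mem_subgroupOf.2 (aut_fibreKer h w.pres hp (Subgroup.mem_subgroupOf.1 hz))
    · intro hy
      exact ⟨σC.symm y, Subgroup.mem_subgroupOf.2
        (aut_fibreKer h w.pres (aut_inv_pair h hp) (Subgroup.mem_subgroupOf.1 hy)), σC.apply_symm_apply y⟩
  set θ := QuotientGroup.congr _ _ σC hmap
  obtain ⟨β, hβ⟩ := aut_aut_inner (Cfsg.PSU 4 F 2) (center_psu_four hF4).1 ((e.symm.trans θ).trans e)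
  obtain ⟨q, rfl⟩ := e.surjective β
  obtain ⟨c, rfl⟩ := QuotientGroup.mk'_surjective _ q
  refine ⟨(c⁻¹ : ↥C), (c⁻¹).2, ?_, fun y hy => ?_⟩
  · have := Subgroup.mem_centralizer_singleton_iff.1 (c⁻¹).2
    rw [MulAut.mul_apply, hσz, MulAut.conj_apply]
    exact mul_inv_eq_iff_eq_mul.2 this
  · have e1 := hβ (e (QuotientGroup.mk' _ ⟨y, hy⟩))
    rw [← map_inv e, ← map_mul, ← map_mul] at e1
    simp only [MulEquiv.trans_apply, MulEquiv.symm_apply_apply] at e1
    have e2 := e.injective e1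
    rw [← map_inv, ← map_mul, ← map_mul] at e2
    have e3 : (σC ⟨y, hy⟩ : ↥C)⁻¹ * (c * ⟨y, hy⟩ * c⁻¹) ∈ E.subgroupOf C := QuotientGroup.eq.1 e2
    have e4 : (σ y)⁻¹ * ((c : G) * y * (c : G)⁻¹) ∈ E := Subgroup.mem_subgroupOf.1 e3
    have hσy : σ y ∈ C := mem_cent_map hσz hy
    have hcy : ((c⁻¹ : ↥C) : G) * σ y ∈ C := mul_mem (c⁻¹).2 hσy
    have := fibreKer_conj (hD := h.tt) ((mem_cent_prod_iff h ha hb).1 hcy) (inv_mem e4)
    convert this using 1
    rw [MulAut.mul_apply, MulAut.conj_apply]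
    simp only [Subgroup.coe_inv]
    group

end CfsgLib.ThreeT.Prod
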