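import Cfsg.Agent.Spor3T.M22AutWitness

/-!
Type M(22): the four members completing a pair to a hexad form one class of common neighbours, and
an element fixing two of them fixes all four.
-/

set_option autoImplicit false
set_option linter.unusedSectionVars false
set_option linter.style.haveILetI false

namespace CfsgLib.ThreeT.Prod

open CfsgLib
open scoped Matrix

variable {G : Type*} [Group G] [Finite G] {D : Set G} {a b : G} {x : Fin 4 → G}

theorem braid_sym (hD : TT0 D) {u z : G} (hu : u ∈ D) (hz : z ∈ D) (hn : ¬ Commute z u) :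
    u * z * u = z * u * z :=
  (braid0 hD hz hu hn).symm

/-- Two commuting members moved alike by a third are equal. -/
theorem eq_of_conj_eq (hD : TT0 D) {u v z : G} (hu : u ∈ D) (hv : v ∈ D) (hz : z ∈ D) (hn : ¬ Commute z u)
    (hm : ¬ Commute z v) (e : u * z * u = v * z * v) : u = v := by
  rw [braid_sym hD hu hz hn, braid_sym hD hv hz hm] at e
  exact mul_left_cancel (mul_right_cancel e)

variable (h : Geo22 D)

include h

theorem Quad.rot (hq : Quad D a b x) (hab : Commute a b) : Quad D a b (fun i => x (i + 1)) where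
  mem i := hq.mem _
  inj i j e := add_right_cancel (hq.inj e)
  comm i j := hq.comm _ _
  prod := by
    show x 1 * x 2 * x 3 * x 0 = a * b
    rw [← hq.prod]
    calc x 1 * x 2 * x 3 * x 0 = x 1 * x 2 * (x 3 * x 0) := by group
      _ = x 1 * x 2 * (x 0 * x 3) := by rw [(hq.comm 3 0).eq]
      _ = x 1 * (x 2 * x 0) * x 3 := by group
      _ = x 1 * (x 0 * x 2) * x 3 := by rw [(hq.comm 2 0).eq]
      _ = x 1 * x 0 * x 2 * x 3 := by group
      _ = _ := by rw [(hq.comm 1 0).eq]

theorem Quad.flip (hq : Quad D a b x) : Quad D a b (fun i => x (Equiv.swap 0 1 i)) where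
  mem i := hq.mem _
  inj i j e := (Equiv.swap 0 1).injective (hq.inj e)
  comm i j := hq.comm _ _
  prod := by
    show x (Equiv.swap 0 1 0) * x (Equiv.swap 0 1 1) * x (Equiv.swap 0 1 2) * x (Equiv.swap 0 1 3) = a * b
    rw [Equiv.swap_apply_left, Equiv.swap_apply_right, Equiv.swap_apply_of_ne_of_ne (by decide) (by decide),
      Equiv.swap_apply_of_ne_of_ne (by decide) (by decide), (hq.comm 1 0).eq]
    exact hq.prod

/-- The four are alike with respect to the common neighbours. -/
theorem Quad.step (hq : Quad D a b x) {z : G} (hz : z ∈ common D a b) (h0 : Commute z (x 0)) :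
    Commute z (x 1) := by
  by_contra h1
  obtain ⟨hzD, -, -, za, zb⟩ := hz
  have c0 : ∀ i, x i * x i = 1 := fun i => h.tt.sq _ (hq.mem i).1
  have hzab : Commute z (x 0 * x 1 * x 2 * x 3) := hq.prod ▸ za.mul_right zb
  have h123 : Commute z (x 1 * x 2 * x 3) := by
    have := h0.mul_right hzab
    rwa [show x 0 * (x 0 * x 1 * x 2 * x 3) = x 0 * x 0 * (x 1 * x 2 * x 3) by group, c0, one_mul] at this
  have pair : ∀ i, ¬ Commute z (x i) → i ≠ 1 → Commute z (x 1 * x i) → False := by
    intro i hn hi1 hc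
    refine hi1 (hq.inj (eq_of_conj_eq h.tt (hq.mem i).1 (hq.mem 1).1 hzD hn h1 ?_))
    calc x i * z * x i = x 1 * x 1 * x i * z * x i := by rw [c0, one_mul]
      _ = x 1 * (x 1 * x i * z) * x i := by group
      _ = x 1 * (z * (x 1 * x i)) * x i := by rw [hc.eq]
      _ = x 1 * z * x 1 * (x i * x i) := by group
      _ = _ := by rw [c0, mul_one]
  by_cases h2 : Commute z (x 2)
  · have h13 : Commute z (x 1 * x 3) := by
      have := h2.mul_right h123
      rwa [show x 2 * (x 1 * x 2 * x 3) = (x 2 * x 1) * x 2 * x 3 by group, (hq.comm 2 1).eq,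
        show x 1 * x 2 * x 2 * x 3 = x 1 * (x 2 * x 2) * x 3 by group, c0, mul_one] at this
    by_cases h3 : Commute z (x 3)
    · have := h13.mul_right h3
      rw [mul_assoc, c0, mul_one] at this
      exact h1 this
    · exact pair 3 h3 (by decide) h13
  · by_cases h3 : Commute z (x 3)
    · refine pair 2 h2 (by decide) ?_
      have := h123.mul_right h3
      rwa [mul_assoc (x 1 * x 2), c0, mul_one] at this
    · set v := x 1
      set w := x 2
      set s := x 3
      have hvz := braid_sym h.tt (hq.mem 1).1 hzD h1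
      have hwz := braid_sym h.tt (hq.mem 2).1 hzD h2
      have hsz := braid_sym h.tt (hq.mem 3).1 hzD h3
      set q := w * (s * z * s) * w with hqdef
      have e1 : q = z * q * z := by
        calc q = w * (z * s * z) * w := by rw [hqdef, hsz]
          _ = w * z * (w * w) * s * z * w := by rw [c0]; group
          _ = w * z * w * (w * s) * z * w := by group
          _ = w * z * w * (s * w) * z * w := by rw [(hq.comm 2 3).eq]
          _ = (w * z * w) * s * (w * z * w) := by group
          _ = (z * w * z) * s * (z * w * z) := by rw [hwz]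
          _ = z * (w * (z * s * z) * w) * z := by group
          _ = _ := by rw [← hsz, hqdef]
      have hzq : Commute z q := by
        show z * q = q * z
        conv_rhs => rw [e1]
        rw [mul_assoc _ z z, h.tt.sq z hzD, mul_one]
      have e2 : q = v * z * v := by
        have hc : z * (v * w * s) = v * w * s * z := h123.eq
        calc q = w * (s * z * s) * w := rfl
          _ = v * v * w * s * z * s * w := by rw [c0, one_mul]; group
          _ = v * (v * w * s * z) * s * w := by group
          _ = v * (z * (v * w * s)) * s * w := by rw [hc]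
          _ = v * z * v * (w * (s * s) * w) := by group
          _ = _ := by rw [c0, mul_one, c0, mul_one]
      rw [e2, hvz] at hzq
      have h3' : z * (z * v * z) = z * v * z * z := hzq.eq
      rw [← mul_assoc, ← mul_assoc, h.tt.sq z hzD, one_mul, mul_assoc (z * v), h.tt.sq z hzD, mul_one] at h3'
      exact h1 h3'.symm

theorem Quad.sim (hq : Quad D a b x) (hab : Commute a b) (i j : Fin 4) : Sim D a b (x i) (x j) := by
  have key : ∀ {y : Fin 4 → G}, Quad D a b y → Sim D a b (y 0) (y 1) := fun {y} hy z hz =>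
    ⟨Quad.step h hy hz, fun r => by
      have := Quad.step h (Quad.flip h hy) hz
      simp only [Equiv.swap_apply_left, Equiv.swap_apply_right] at this
      exact this r⟩
  have e01 := key hq
  have h1 := Quad.rot h hq hab
  have e12 : Sim D a b (x 1) (x 2) := key h1
  have e23 : Sim D a b (x 2) (x 3) := key (Quad.rot h h1 hab)
  have all : ∀ i, Sim D a b (x 0) (x i) := by
    intro i
    fin_cases i
    exacts [Sim.refl _, e01, e01.trans e12, (e01.trans e12).trans e23]
  exact (all i).symm.trans (all j)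

/-- A product of two common neighbours in the kernel relates them. -/
theorem sim_of_mul {u y : G} (hu : u ∈ common D a b) (hy : y ∈ common D a b)
    (hyu : y * u ∈ fibreKer h.tt a b) : Sim D a b y u := by
  have key : ∀ {x y : G}, x ∈ common D a b → y ∈ common D a b → y * x ∈ fibreKer h.tt a b →
      ∀ z ∈ common D a b, Commute z x → Commute z y := by
    intro x y hx hy hyx z hz hzx
    by_contra hzy
    have hs := hyx.2.2 z hz
    rw [show y * x * z * (y * x)⁻¹ = y * (x * z * x⁻¹) * y⁻¹ by group, fix_of_commute hzx.symm] at hs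
    have h1 := (hs z hz).2 (Commute.refl z)
    rw [h.tt.inv hy.1, braid0 h.tt hy.1 hz.1 fun r => hzy r.symm] at h1
    have h2 : Commute (z * z * z⁻¹) (z * y * z⁻¹) := by
      rwa [mul_inv_cancel_right, h.tt.inv hz.1]
    exact hzy ((commute_conj_iff z z y).1 h2)
  have hyu' : u * y ∈ fibreKer h.tt a b := by
    have := inv_mem hyu
    rwa [mul_inv_rev, h.tt.inv hu.1, h.tt.inv hy.1] at this
  exact fun z hz => ⟨key hy hu hyu' z hz, key hu hy hyu z hz⟩

variable {F : Type} [Field F] [Finite F] [CharP F 2] {hF : Nat.card F = 2 ^ 2}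
  {φ : ↥(hsub D a) →* Cfsg.PSU 6 F 2} {e : Fin 4 → Fin 6 → F} {p q : Fin 6 → F}
  (d : PairData D a b hF φ e p q)

include d

/-- The members of a class as points of an affine line. -/
theorem class_coord {y z : G} {u : Fin 6 → F} (hy : y ∈ common D a b) (hu : SixTwo.IsPt u) (ru : Rep hF φ y u)
    (hz : z ∈ common D a b) (s : Sim D a b z y) :
    ∃ t : F, SixTwo.IsPt (u + t • p) ∧ Rep hF φ z (u + t • p) := by
  obtain ⟨v, hv, rv⟩ := d.model.rep_exists (common_nb h d hz)
  obtain ⟨α, β, hvv⟩ := (sim_vec h d hy hz hu ru hv rv).1 s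
  have hα : α ≠ 0 := by
    intro r
    have hβ : β ≠ 0 := fun r' => hv.1 (by rw [hvv, r, r', zero_smul, zero_smul, add_zero])
    refine hz.2.2.1 (d.model.rep_inj (common_nb h d hz) d.memB rv d.rb ?_)
    rw [hvv, r, zero_smul, zero_add, SixTwo.tv_smul hF d.frame.pp.2 hβ]
  have e1 : u + (β * α⁻¹) • p = α⁻¹ • v := by
    rw [hvv, smul_add, smul_smul, smul_smul, inv_mul_cancel₀ hα, one_smul, mul_comm β]
  refine ⟨β * α⁻¹, e1 ▸ ⟨fun r => hv.1 ((smul_eq_zero.1 r).resolve_left (inv_ne_zero hα)), ?_⟩,
    e1 ▸ rv.change (SixTwo.tv_smul hF hv.2 (inv_ne_zero hα)).symm⟩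
  rw [Unitary.herm_smul_left, Unitary.herm_smul_right hF, hv.2, mul_zero, mul_zero]

/-- The class has only the four members. -/
theorem Quad.exhaust (hq : Quad D a b x) {z : G} (hz : z ∈ common D a b) (s : Sim D a b z (x 0)) :
    ∃ i, z = x i := by
  classical
  obtain ⟨u, hu, ru⟩ := d.model.rep_exists (common_nb h d (hq.mem 0))
  choose t ht rt using fun i => class_coord h d (hq.mem 0) hu ru (hq.mem i) (Quad.sim h hq d.memB.2.2 i 0)
  have hinj : Function.Injective t := fun i j r => hq.inj
    (d.model.rep_inj (common_nb h d (hq.mem i)) (common_nb h d (hq.mem j)) (rt i) (r ▸ rt j) rfl)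
  have hbij : Function.Bijective t :=
    hinj.bijective_of_nat_card_le (by rw [hF, Nat.card_fin]; norm_num)
  obtain ⟨t', -, rz⟩ := class_coord h d (hq.mem 0) hu ru hz s
  obtain ⟨i, rfl⟩ := hbij.2 t'
  exact ⟨i, d.model.rep_inj (common_nb h d hz) (common_nb h d (hq.mem i)) rz (rt i) rfl⟩

/-- Fixing two members of a class means fixing all of it. -/
theorem line_fix {y₁ y₂ y₃ g : G} (h1 : y₁ ∈ common D a b) (h2 : y₂ ∈ common D a b) (h3 : y₃ ∈ common D a b)
    (hne : y₂ ≠ y₁) (s2 : Sim D a b y₂ y₁) (s3 : Sim D a b y₃ y₁) (ga : Commute g a) (gb : Commute g b)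
    (g1 : Commute g y₁) (g2 : Commute g y₂) : Commute g y₃ := by
  obtain ⟨B, rg⟩ := lift_exists (φ := φ) (PairData.mem_hsub_of h d ga)
  obtain ⟨u, hu, ru, hup, hne0⟩ := common_rep h d h1
  obtain ⟨t, hv, rv⟩ := class_coord h d h1 hu ru h2 s2
  obtain ⟨t', hw, rw'⟩ := class_coord h d h1 hu ru h3 s3
  have ht : t ≠ 0 := fun r => hne (d.model.rep_inj (common_nb h d h2) (common_nb h d h1) rv ru
    (by rw [r, zero_smul, add_zero]))
  have fixd : ∀ {y : G} {w : Fin 6 → F}, y ∈ nb D a → SixTwo.IsPt w → Rep hF φ y w → Commute g y →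
      ∃ c : F, Unitary.suMat B *ᵥ w = c • w := fun hy hw rw' gy =>
    SixTwo.tv_eq_smul hF (isPt_mulVec B hw) hw ((d.model.fix_iff h.tt rg hy hw rw').1 gy)
  obtain ⟨c1, e1⟩ := fixd (common_nb h d h1) hu ru g1
  obtain ⟨c2, e2⟩ := fixd d.memB d.frame.pp d.rb gb
  obtain ⟨c3, e3⟩ := fixd (common_nb h d h2) hv rv g2
  rw [Matrix.mulVec_add, Matrix.mulVec_smul, e1, e2] at e3
  have eq0 : (c1 - c3) • u + (t * (c2 - c3)) • p = 0 := by
    have : c1 • u + t • c2 • p - c3 • (u + t • p) = 0 := by rw [e3, sub_self]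
    rw [← this]; module
  have hc13 : c1 = c3 := by
    by_contra r
    have r' := sub_ne_zero.2 r
    have e4 : u = (-((c1 - c3)⁻¹ * (t * (c2 - c3)))) • p := by
      have e5 := eq_neg_of_add_eq_zero_left eq0
      calc u = (c1 - c3)⁻¹ • ((c1 - c3) • u) := by rw [smul_smul, inv_mul_cancel₀ r', one_smul]
        _ = _ := by rw [e5]; module
    have hc : -((c1 - c3)⁻¹ * (t * (c2 - c3))) ≠ 0 := fun q => hu.1 (by rw [e4, q, zero_smul])
    exact hne0 (by rw [e4, SixTwo.tv_smul hF d.frame.pp.2 hc])
  have hc23 : c2 = c3 := by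
    rw [hc13, sub_self, zero_smul, zero_add] at eq0
    rcases smul_eq_zero.1 eq0 with r | r
    · exact sub_eq_zero.1 ((mul_eq_zero.1 r).resolve_left ht)
    · exact absurd r d.frame.pp.1
  refine (d.model.fix_iff h.tt rg (common_nb h d h3) hw rw').2 ?_
  have e6 : Unitary.suMat B *ᵥ (u + t' • p) = c3 • (u + t' • p) := by
    rw [Matrix.mulVec_add, Matrix.mulVec_smul, e1, e2, hc13, hc23]; module
  have hc3 : c3 ≠ 0 := fun r => (isPt_mulVec B hw).1 (by rw [e6, r, zero_smul])
  rw [e6, SixTwo.tv_smul hF hw.2 hc3]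

end CfsgLib.ThreeT.Prod
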