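import Cfsg.Agent.Spor3T.M22Global

/-!
Type M(22): the centraliser of a transposition is generated by its neighbours. The map sending a
coset of that subgroup to the conjugate of `d` is a covering of the commuting graph, which is shown
to be trivial because every short cycle lies in the neighbourhood of a vertex.
-/

set_option autoImplicit false
set_option linter.unusedSectionVars false
set_option linter.style.haveILetI false

namespace CfsgLib.ThreeT.Prod

variable {G : Type*} [Group G] [Finite G] {D : Set G} (h : Geo22 D)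

include h

/-- Of a commuting pair `d, u` and a member `x` far from both, some common neighbour exists. -/
theorem exists_common {d u x : G} (hd : d ∈ D) (hu : u ∈ nb D d) (hx : x ∈ D)
    (hdx : ¬ Commute d x) (hux : ¬ Commute u x) : ∃ b ∈ tri D d x, Commute b u := by
  classical
  haveI := Fintype.ofFinite G
  set Nb := (nb D d).toFinset with hNbdef
  set T := (tri D d x).toFinset with hTdef
  have hTN : T ⊆ Nb := fun z hz => Set.mem_toFinset.2 (Set.mem_toFinset.1 hz).1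
  set k : G → ℤ := fun z => ((T.filter fun b => z ≠ b ∧ Commute z b).card : ℤ) with hk
  have hL := h.loc d hd
  have hNb : Nb.card = 693 := by rw [← Set.ncard_eq_toFinset_card', hL.card_nb]
  have hT : T.card = 126 := by rw [← Set.ncard_eq_toFinset_card', (tri_card h).1 d hd x hx hdx]
  have hin : ∀ b ∈ T, (T.filter fun y => b ≠ y ∧ Commute b y).card = 45 := by
    intro b hb
    rw [← tri_inner h hd hx hdx (Set.mem_toFinset.1 hb), Set.ncard_eq_toFinset_card']
    congr 1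
    ext y
    simp only [T, Finset.mem_filter, Set.mem_toFinset, Set.mem_ofPred_eq]
    exact ⟨fun hy => ⟨hy.1, hy.2.1.symm, hy.2.2.symm⟩, fun hy => ⟨hy.1, hy.2.1.symm, hy.2.2.symm⟩⟩
  have hout : ∀ b ∈ T, (T.filter fun y => b ≠ y ∧ ¬ Commute b y).card = 80 := by
    intro b hb
    have e : insert b ((T.filter fun y => b ≠ y ∧ Commute b y) ∪ T.filter fun y => b ≠ y ∧ ¬ Commute b y) = T := by
      ext y
      by_cases e : b = y
      · subst e; simpa using hb
      · by_cases hc : Commute b y <;> simp [e, Ne.symm e, hc]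
    have h1 := congrArg Finset.card e
    rw [Finset.card_insert_of_notMem (by simp), Finset.card_union_of_disjoint
      (Finset.disjoint_filter.2 fun y _ hy hy' => hy'.2 hy.2), hin b hb, hT] at h1
    omega
  have hdeg : ∀ b ∈ Nb, (Nb.filter fun z => z ≠ b ∧ Commute z b).card = 180 := by
    intro b hb
    rw [← hL.card_pair b (Set.mem_toFinset.1 hb), Set.ncard_eq_toFinset_card']
    congr 1
    ext y
    simp only [Nb, Finset.mem_filter, Set.mem_toFinset, Set.mem_ofPred_eq]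
  -- the two moments of `k`
  have hone : ∑ z ∈ Nb, k z = 22680 := by
    have h1 : ∑ z ∈ Nb, (T.filter fun b => z ≠ b ∧ Commute z b).card =
        ∑ b ∈ T, (Nb.filter fun z => z ≠ b ∧ Commute z b).card :=
      Finset.sum_card_bipartiteAbove_eq_sum_card_bipartiteBelow (fun z b => z ≠ b ∧ Commute z b)
    rw [Finset.sum_congr rfl fun b hb => hdeg b (hTN hb), Finset.sum_const, hT, smul_eq_mul] at h1
    simp only [k]
    rw [← Nat.cast_sum, h1]
    norm_num
  have htwo : ∑ z ∈ Nb, k z ^ 2 = 765450 := by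
    have h1 : ∑ z ∈ Nb, (T.filter fun b => z ≠ b ∧ Commute z b).card ^ 2 =
        ∑ b ∈ T, ∑ y ∈ T, ((Nb.filter fun z => z ≠ b ∧ Commute z b).filter fun z =>
          z ≠ y ∧ Commute z y).card := by
      have e : ∀ z, (T.filter fun b => z ≠ b ∧ Commute z b).card ^ 2 =
          ∑ b ∈ T, (if z ≠ b ∧ Commute z b then (T.filter fun b => z ≠ b ∧ Commute z b).card else 0) :=
        fun z => by rw [← Finset.sum_filter, Finset.sum_const, smul_eq_mul, pow_two]
      rw [Finset.sum_congr rfl fun z _ => e z, Finset.sum_comm]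
      refine Finset.sum_congr rfl fun b _ => ?_
      rw [← Finset.sum_filter]
      exact Finset.sum_card_bipartiteAbove_eq_sum_card_bipartiteBelow (fun z y => z ≠ y ∧ Commute z y)
    have hrow : ∀ b ∈ T, ∑ y ∈ T, ((Nb.filter fun z => z ≠ b ∧ Commute z b).filter fun z =>
          z ≠ y ∧ Commute z y).card = 6075 := by
      intro b hb
      simp only [Finset.filter_filter]
      have hval : ∀ y ∈ T, (Nb.filter fun z => (z ≠ b ∧ Commute z b) ∧ (z ≠ y ∧ Commute z y)).card =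
          (if b = y then 180 else 0) + (if b ≠ y ∧ Commute b y then 51 else 0) +
            (if b ≠ y ∧ ¬ Commute b y then 45 else 0) := by
        intro y hy
        have hbN := Set.mem_toFinset.1 (hTN hb)
        have hyN := Set.mem_toFinset.1 (hTN hy)
        by_cases e : b = y
        · subst e
          simp only [if_true, ne_eq, not_true_eq_false, false_and, if_false, add_zero]
          rw [← hdeg b (hTN hb)]
          congr 1
          ext z; simp
        · by_cases hc : Commute b y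
          · simp only [if_neg e, ne_eq, e, not_false_eq_true, hc, and_self, if_true, not_true_eq_false,
              and_false, if_false, zero_add, add_zero]
            rw [← hL.card_comm b hbN y hyN e hc, Set.ncard_eq_toFinset_card']
            congr 1
            ext z
            simp only [Nb, Finset.mem_filter, Set.mem_toFinset, Set.mem_ofPred_eq]
            exact ⟨fun hz => ⟨hz.1, hz.2.1.1, hz.2.2.1, hz.2.1.2, hz.2.2.2⟩,
              fun hz => ⟨hz.1, ⟨hz.2.1, hz.2.2.2.1⟩, hz.2.2.1, hz.2.2.2.2⟩⟩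
          · simp only [if_neg e, ne_eq, e, not_false_eq_true, hc, and_self, if_true,
              and_false, if_false, zero_add, add_zero]
            rw [← hL.card_line b hbN y hyN hc, Set.ncard_eq_toFinset_card']
            congr 1
            ext z
            simp only [Nb, Finset.mem_filter, Set.mem_toFinset, Set.mem_ofPred_eq]
            exact ⟨fun hz => ⟨hz.1, hz.2.1.2, hz.2.2.2⟩, fun hz => ⟨hz.1,
              ⟨fun e' => hc (e' ▸ hz.2.2), hz.2.1⟩, fun e' => hc (e' ▸ hz.2.1.symm), hz.2.2⟩⟩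
      rw [Finset.sum_congr rfl hval, Finset.sum_add_distrib, Finset.sum_add_distrib, Finset.sum_ite_eq,
        if_pos hb, ← Finset.sum_filter, ← Finset.sum_filter, Finset.sum_const, Finset.sum_const,
        hin b hb, hout b hb]
      rfl
    rw [Finset.sum_congr rfl hrow, Finset.sum_const, hT, smul_eq_mul] at h1
    simp only [k]
    exact_mod_cast h1
  have hvar : ∑ z ∈ Nb, (k z - 30) ^ 2 = 28350 := by
    have e : ∀ z ∈ Nb, (k z - 30) ^ 2 = k z ^ 2 - 60 * k z + 900 := fun z _ => by ring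
    rw [Finset.sum_congr rfl e, Finset.sum_add_distrib, Finset.sum_sub_distrib, ← Finset.mul_sum, hone, htwo,
      Finset.sum_const, hNb, nsmul_eq_mul]
    norm_num
  have hinT : ∑ z ∈ T, (k z - 30) ^ 2 = 28350 := by
    have e : ∀ z ∈ T, (k z - 30) ^ 2 = 225 := fun z hz => by
      simp only [k]; rw [hin z hz]; norm_num
    rw [Finset.sum_congr rfl e, Finset.sum_const, hT, nsmul_eq_mul]
    norm_num
  have huT : u ∉ T := fun hm => hux (Set.mem_toFinset.1 hm).2
  have huN : u ∈ Nb := Set.mem_toFinset.2 hu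
  have hle : (k u - 30) ^ 2 + ∑ z ∈ T, (k z - 30) ^ 2 ≤ ∑ z ∈ Nb, (k z - 30) ^ 2 := by
    rw [← Finset.sum_insert (f := fun z => (k z - 30) ^ 2) huT]
    exact Finset.sum_le_sum_of_subset_of_nonneg (Finset.insert_subset huN hTN) fun z _ _ => sq_nonneg _
  have hku : k u = 30 := by
    rw [hvar, hinT] at hle
    nlinarith
  obtain ⟨b, hb⟩ : (T.filter fun b => u ≠ b ∧ Commute u b).Nonempty :=
    Finset.card_pos.1 (by simp only [k] at hku; omega)
  simp only [T, Finset.mem_filter, Set.mem_toFinset] at hb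
  exact ⟨b, hb.1, hb.2.2.symm⟩

theorem nb_swap {a b : G} (ha : a ∈ D) (hb : b ∈ nb D a) : a ∈ nb D b :=
  ⟨ha, fun e => hb.2.1 e.symm, hb.2.2.symm⟩

omit h in
theorem hsub_conj (hD : TT0 D) (g : G) {y k : G} (hk : k ∈ hsub D y) :
    g * k * g⁻¹ ∈ hsub D (g * y * g⁻¹) := by
  induction hk using Subgroup.closure_induction with
  | mem u hu => exact Subgroup.subset_closure (nb_conj hD hu.1 hu.2.1 hu.2.2 rfl)
  | one => simp
  | mul u v _ _ hu hv => simpa [mul_assoc] using mul_mem hu hv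
  | inv u _ hu => simpa [mul_assoc] using inv_mem hu

theorem block_mem {d y a : G} (hy : y ∈ D) (hdy : d ∈ nb D y) (ha : a ∈ hsub D y) :
    a * d * a⁻¹ ∈ nb D y :=
  nb_conj h.tt hdy.1 hdy.2.1 hdy.2.2 (by rw [(commute_hsub ha).eq, mul_inv_cancel_right])

/-- Cosets of `hsub d` inside one neighbourhood are determined by their points. -/
theorem same_coset {d y a a' : G} (hd : d ∈ D) (hy : y ∈ nb D d) (ha : a ∈ hsub D y)
    (ha' : a' ∈ hsub D y) (e : a * d * a⁻¹ = a' * d * a'⁻¹) :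
    (a : G ⧸ hsub D d) = (a' : G ⧸ hsub D d) := by
  refine QuotientGroup.eq.2 ?_
  have hc : Commute (a⁻¹ * a') d := by
    show a⁻¹ * a' * d = d * (a⁻¹ * a')
    calc a⁻¹ * a' * d = a⁻¹ * (a' * d * a'⁻¹) * a' := by group
      _ = a⁻¹ * (a * d * a⁻¹) * a' := by rw [e]
      _ = d * (a⁻¹ * a') := by group
  refine closure_commute_le h hd ?_
  exact Subgroup.closure_mono (k := {z : G | z ∈ D ∧ Commute d z}) (fun z hz => ⟨hz.1, hz.2.2⟩)
    (cent_in_hsub h hy.1 (nb_swap h hd hy) (mul_mem (inv_mem ha) ha') hc)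

/-- The point of a coset. -/
theorem point_eq {d e e' : G} (he : (e : G ⧸ hsub D d) = (e' : G ⧸ hsub D d)) :
    e * d * e⁻¹ = e' * d * e'⁻¹ := by
  have hc := commute_hsub (QuotientGroup.eq.1 he)
  calc e * d * e⁻¹ = e * (d * (e⁻¹ * e')) * e'⁻¹ := by group
    _ = e * (e⁻¹ * e' * d) * e'⁻¹ := by rw [hc.eq]
    _ = e' * d * e'⁻¹ := by group

/-- Independence of the auxiliary neighbour. -/
theorem coset_indep {d y y' k k' : G} (hd : d ∈ D) (hy : y ∈ nb D d) (hy' : y' ∈ nb D d)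
    (hk : k ∈ hsub D y) (hk' : k' ∈ hsub D y') (e : k * d * k⁻¹ = k' * d * k'⁻¹)
    (hb : k * d * k⁻¹ ∈ nb D d) : (k : G ⧸ hsub D d) = (k' : G ⧸ hsub D d) := by
  set b := k * d * k⁻¹ with hbdef
  have hby : b ∈ nb D y := block_mem h hy.1 (nb_swap h hd hy) hk
  have hby' : b ∈ nb D y' := by rw [e]; exact block_mem h hy'.1 (nb_swap h hd hy') hk'
  -- commuting auxiliary neighbours
  have comm : ∀ {p q l m : G}, p ∈ nb D d → q ∈ nb D d → b ∈ nb D p → b ∈ nb D q → l ∈ hsub D p →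
      m ∈ hsub D q → l * d * l⁻¹ = b → m * d * m⁻¹ = b → Commute p q →
      (l : G ⧸ hsub D d) = (m : G ⧸ hsub D d) := by
    intro p q l m hp hq hbp hbq hl hm el em hpq
    by_cases epq : p = q
    · subst epq; exact same_coset h hd hp hl hm (el.trans em.symm)
    have hL := h.loc p hp.1
    have hqp : q ∈ nb D p := ⟨hq.1, fun e => epq e.symm, hpq⟩
    have hdp : d ∈ nb D p := nb_swap h hd hp
    have hdq : d ∈ nb D q := nb_swap h hd hq
    obtain ⟨x, ⟨hx, hxq, hxqc⟩, hxd, hxb⟩ : ∃ x, (x ∈ nb D p ∧ x ≠ q ∧ Commute x q) ∧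
        ¬ Commute d x ∧ ¬ Commute b x := by
      by_contra hno
      push Not at hno
      have hsub' : {y | y ∈ nb D p ∧ y ≠ q ∧ Commute y q} ⊆
          insert d {y | y ∈ nb D p ∧ y ≠ q ∧ y ≠ d ∧ Commute y q ∧ Commute y d} ∪
          insert b {y | y ∈ nb D p ∧ y ≠ q ∧ y ≠ b ∧ Commute y q ∧ Commute y b} := by
        intro z hz
        by_cases hzd : Commute d z
        · left
          by_cases e : z = d
          · exact Or.inl e
          · exact Or.inr ⟨hz.1, hz.2.1, e, hz.2.2, hzd.symm⟩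
        · right
          by_cases e : z = b
          · exact Or.inl e
          · exact Or.inr ⟨hz.1, hz.2.1, e, hz.2.2, (hno z hz hzd).symm⟩
      have h1 := (Set.ncard_le_ncard hsub' (Set.toFinite _)).trans (Set.ncard_union_le _ _)
      rw [hL.card_pair q hqp,
        Set.ncard_insert_of_notMem (fun h' => h'.2.2.1 rfl) (Set.toFinite _),
        Set.ncard_insert_of_notMem (fun h' => h'.2.2.1 rfl) (Set.toFinite _),
        hL.card_comm q hqp d hdp (fun e => hdq.2.1 e.symm) hdq.2.2,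
        hL.card_comm q hqp b hbp (fun e => hbq.2.1 e.symm) hbq.2.2] at h1
      omega
    have hxq' : x ∈ nb D q := ⟨hx.1, hxq, hxqc.symm⟩
    have hK : x * d * b * x * d * (x * d * b * x)⁻¹ = b := swap_conj h.tt hd hb.1 hx.1 hb.2.2 hxd hxb
    have hKp : x * d * b * x ∈ hsub D p := mul_mem (mul_mem (mul_mem (Subgroup.subset_closure hx)
      (Subgroup.subset_closure hdp)) (Subgroup.subset_closure hbp)) (Subgroup.subset_closure hx)
    have hKq : x * d * b * x ∈ hsub D q := mul_mem (mul_mem (mul_mem (Subgroup.subset_closure hxq')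
      (Subgroup.subset_closure hdq)) (Subgroup.subset_closure hbq)) (Subgroup.subset_closure hxq')
    exact (same_coset h hd hp hl hKp (el.trans hK.symm)).trans (same_coset h hd hq hKq hm (hK.trans em.symm))
  by_cases hc : Commute y y'
  · exact comm hy hy' hby hby' hk hk' rfl e.symm hc
  obtain ⟨z, hz⟩ : {z | z ∈ nb D d ∧ z ≠ b ∧ Commute z y ∧ Commute z y' ∧ Commute z b}.Nonempty :=
    Set.nonempty_of_ncard_ne_zero (by
      rw [(h.loc d hd).card_three y hy y' hy' b hb hc hby.2.2.symm hby'.2.2.symm]; norm_num)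
  have hbz : b ∈ nb D z := ⟨hb.1, hz.2.1.symm, hz.2.2.2.2⟩
  obtain ⟨m, hm, em⟩ := h.near z hz.1.1 d (nb_swap h hd hz.1) b hbz
  exact (comm hy hz.1 hby hbz hk hm rfl em hz.2.2.1.symm).trans
    (comm hz.1 hy' hbz hby' hm hk' em e.symm hz.2.2.2.1)

/-- Three members with two adjacencies among the last have a common neighbour. -/
theorem exists_block {d z z' : G} (hd : d ∈ D) (hz : z ∈ D) (hz' : z' ∈ D) (hne : z ≠ z')
    (hc : Commute z z') : ∃ y ∈ nb D d, z ∈ nb D y ∧ z' ∈ nb D y := by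
  have hpair : ∀ w, w ∈ nb D d → ∃ y ∈ nb D d, d ∈ nb D y ∧ w ∈ nb D y := fun w hw => by
    obtain ⟨y, hy⟩ : {y | y ∈ nb D d ∧ y ≠ w ∧ Commute y w}.Nonempty :=
      Set.nonempty_of_ncard_ne_zero (by rw [(h.loc d hd).card_pair w hw]; norm_num)
    exact ⟨y, hy.1, nb_swap h hd hy.1, hw.1, hy.2.1.symm, hy.2.2⟩
  have hmix : ∀ w w', w ∈ nb D d → w' ∈ D → ¬ Commute d w' → Commute w w' →
      ∃ y ∈ nb D d, w ∈ nb D y ∧ w' ∈ nb D y := by
    intro w w' hw hw' hfar hcw
    obtain ⟨y, hy⟩ : {y | y ∈ tri D d w' ∧ y ≠ w ∧ Commute y w}.Nonempty :=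
      Set.nonempty_of_ncard_ne_zero (by rw [tri_inner h hd hw' hfar ⟨hw, hcw⟩]; norm_num)
    exact ⟨y, hy.1.1, ⟨hw.1, hy.2.1.symm, hy.2.2⟩, hw', fun e => hfar (e ▸ hy.1.1.2.2), hy.1.2⟩
  by_cases e : z = d
  · subst e
    exact hpair z' ⟨hz', hne.symm, hc⟩
  by_cases e' : z' = d
  · subst e'
    obtain ⟨y, h1, h2, h3⟩ := hpair z ⟨hz, hne, hc.symm⟩
    exact ⟨y, h1, h3, h2⟩
  by_cases hdz : Commute d z <;> by_cases hdz' : Commute d z'
  · obtain ⟨y, hy⟩ : {y | y ∈ nb D d ∧ y ≠ z ∧ y ≠ z' ∧ Commute y z ∧ Commute y z'}.Nonempty :=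
      Set.nonempty_of_ncard_ne_zero (by
        rw [(h.loc d hd).card_comm z ⟨hz, e, hdz⟩ z' ⟨hz', e', hdz'⟩ hne hc]; norm_num)
    exact ⟨y, hy.1, ⟨hz, hy.2.1.symm, hy.2.2.2.1⟩, hz', hy.2.2.1.symm, hy.2.2.2.2⟩
  · exact hmix z z' ⟨hz, e, hdz⟩ hz' hdz' hc
  · obtain ⟨y, h1, h2, h3⟩ := hmix z' z ⟨hz', e', hdz'⟩ hz hdz hc.symm
    exact ⟨y, h1, h3, h2⟩
  · obtain ⟨y, hy, hyz'⟩ := exists_common h hz ⟨hz', hne.symm, hc⟩ hd (fun q => hdz q.symm)
      (fun q => hdz' q.symm)
    exact ⟨y, ⟨hy.1.1, fun q => hdz (q ▸ hy.1.2.2).symm, hy.2.symm⟩,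
      ⟨hz, hy.1.2.1.symm, hy.1.2.2.symm⟩, hz', fun q => hdz' (q.symm ▸ hy.2.symm), hyz'⟩

/-- The centraliser of a transposition is generated by its neighbours. -/
theorem centralizer_eq {d : G} (hd : d ∈ D) :
    hsub D d = Subgroup.centralizer ({d} : Set G) ∧
      Nat.card (G ⧸ hsub D d) = D.ncard := by
  set mk : G → G ⧸ hsub D d := QuotientGroup.mk
  let Lift : G ⧸ hsub D d → G ⧸ hsub D d → Prop := fun ω ω' =>
    ∃ g y k, y ∈ nb D d ∧ k ∈ hsub D y ∧ k * d * k⁻¹ ∈ nb D d ∧ ω = mk g ∧ ω' = mk (g * k)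
  -- two lifts with the same point agree
  have U : ∀ {ω : G ⧸ hsub D d} {e₁ e₂ : G}, Lift ω (mk e₁) → Lift ω (mk e₂) →
      e₁ * d * e₁⁻¹ = e₂ * d * e₂⁻¹ → mk e₁ = mk e₂ := by
    rintro ω e₁ e₂ ⟨g, y, k, hy, hk, hkd, rfl, h1⟩ ⟨g', y', k', hy', hk', -, hg, h2⟩ hp
    have hm := QuotientGroup.eq.1 hg
    set m := g⁻¹ * g'
    have hmd : m * d * m⁻¹ = d := by rw [(commute_hsub hm).eq, mul_inv_cancel_right]
    have hy'' : m * y' * m⁻¹ ∈ nb D d := nb_conj h.tt hy'.1 hy'.2.1 hy'.2.2 hmd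
    have h2' : mk e₂ = mk (g * (m * k' * m⁻¹)) := by
      rw [h2]
      refine QuotientGroup.eq.2 ?_
      rw [show (g' * k')⁻¹ * (g * (m * k' * m⁻¹)) = m⁻¹ by simp only [m]; group]
      exact inv_mem hm
    have e : k * d * k⁻¹ = m * k' * m⁻¹ * d * (m * k' * m⁻¹)⁻¹ := by
      refine mul_left_cancel (a := g) (mul_right_cancel (b := g⁻¹) ?_)
      calc g * (k * d * k⁻¹) * g⁻¹ = g * k * d * (g * k)⁻¹ := by group
        _ = e₁ * d * e₁⁻¹ := (point_eq h h1).symm
        _ = e₂ * d * e₂⁻¹ := hp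
        _ = g * (m * k' * m⁻¹) * d * (g * (m * k' * m⁻¹))⁻¹ := point_eq h h2'
        _ = _ := by group
    have key := coset_indep h hd hy hy'' hk (hsub_conj h.tt m hk') e hkd
    rw [h1, h2']
    refine QuotientGroup.eq.2 ?_
    have := QuotientGroup.eq.1 key
    rwa [show (g * k)⁻¹ * (g * (m * k' * m⁻¹)) = k⁻¹ * (m * k' * m⁻¹) by group]
  -- the section
  let Sec : G → G → Prop := fun z e =>
    (z = d ∧ mk e = mk 1) ∨ (z ∈ nb D d ∧ Lift (mk 1) (mk e) ∧ e * d * e⁻¹ = z) ∨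
      (¬ Commute d z ∧ mk e = mk (d * z))
  have hblock : ∀ {y a : G}, y ∈ nb D d → a ∈ hsub D y → Sec (a * d * a⁻¹) a := by
    intro y a hy ha
    have hz := block_mem h hy.1 (nb_swap h hd hy) ha
    by_cases e : a * d * a⁻¹ = d
    · exact Or.inl ⟨e, same_coset h hd hy ha (one_mem _) (by rw [e]; group)⟩
    by_cases hc : Commute d (a * d * a⁻¹)
    · exact Or.inr (Or.inl ⟨⟨hz.1, e, hc⟩, ⟨1, y, a, hy, ha, ⟨hz.1, e, hc⟩, rfl, by rw [one_mul]⟩, rfl⟩)
    refine Or.inr (Or.inr ⟨hc, ?_⟩)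
    set z := a * d * a⁻¹ with hzdef
    refine same_coset h hd hy ha (mul_mem (Subgroup.subset_closure (nb_swap h hd hy))
      (Subgroup.subset_closure hz)) ?_
    rw [← hzdef, mul_inv_rev, h.tt.inv hd, h.tt.inv hz.1]
    rw [show d * z * d * (z * d) = (d * z * d) * z * d by group, ← braid0 h.tt hz.1 hd (fun q => hc q.symm),
      show z * d * z * z * d = z * (d * (z * z) * d) by group, h.tt.sq z hz.1, mul_one, h.tt.sq d hd, mul_one]
  have hpoint : ∀ {z e : G}, z ∈ D → Sec z e → e * d * e⁻¹ = z := by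
    rintro z e hz (⟨rfl, he⟩ | ⟨-, -, he⟩ | ⟨hfar, he⟩)
    · rw [point_eq h he]; group
    · exact he
    · rw [point_eq h he, mul_inv_rev, h.tt.inv hd, h.tt.inv hz,
        show d * z * d * (z * d) = (d * z * d) * z * d by group, braid0 h.tt hd hz hfar]
      rw [show z * d * z * z * d = z * (d * (z * z) * d) by group, h.tt.sq z hz, mul_one, h.tt.sq d hd, mul_one]
  have huniq : ∀ {z e e' : G}, Sec z e → Sec z e' → mk e = mk e' := by
    rintro z e e' (⟨rfl, he⟩ | ⟨hn, he, hp⟩ | ⟨hfar, he⟩) (⟨hz', he'⟩ | ⟨hn', he', hp'⟩ | ⟨hfar', he'⟩)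
    · exact he.trans he'.symm
    · exact absurd rfl hn'.2.1
    · exact absurd (Commute.refl _) hfar'
    · exact absurd hz' hn.2.1
    · exact U he he' (hp.trans hp'.symm)
    · exact absurd hn.2.2 hfar'
    · exact absurd (hz'.symm ▸ Commute.refl d) hfar
    · exact absurd hn'.2.2 hfar
    · exact he.trans he'.symm
  -- the image is closed
  set S : Set (G ⧸ hsub D d) := {ω | ∃ z ∈ D, ∃ e, Sec z e ∧ ω = mk e}
  have hclosed : ∀ {ω ω' : G ⧸ hsub D d}, ω ∈ S → Lift ω ω' → ω' ∈ S := by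
    rintro ω ω' ⟨z, hz, e, he, rfl⟩ hl
    obtain ⟨g, y, k, hy, hk, hkd, hg, rfl⟩ := hl
    have hzg : g * d * g⁻¹ = z := (point_eq h hg).symm.trans (hpoint hz he)
    have hz' : g * k * d * (g * k)⁻¹ ∈ nb D z := by
      rw [show g * k * d * (g * k)⁻¹ = g * (k * d * k⁻¹) * g⁻¹ by group]
      exact nb_conj h.tt hkd.1 hkd.2.1 hkd.2.2 hzg
    obtain ⟨y₁, hy₁, hzy, hzy'⟩ := exists_block h hd hz hz'.1 hz'.2.1.symm hz'.2.2
    obtain ⟨a, ha, hae⟩ := h.near y₁ hy₁.1 d (nb_swap h hd hy₁) z hzy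
    obtain ⟨a', ha', hae'⟩ := h.near y₁ hy₁.1 d (nb_swap h hd hy₁) _ hzy'
    have hSa : mk a = mk e := huniq (hae ▸ hblock hy₁ ha) he
    have hl1 : Lift (mk e) (mk a') := by
      refine ⟨a, y₁, a⁻¹ * a', hy₁, mul_mem (inv_mem ha) ha', ?_, hSa.symm, by rw [mul_inv_cancel_left]⟩
      rw [show a⁻¹ * a' * d * (a⁻¹ * a')⁻¹ = a⁻¹ * (a' * d * a'⁻¹) * a⁻¹⁻¹ by group, hae']
      exact nb_conj h.tt hz'.1 hz'.2.1 hz'.2.2 (by rw [← hae]; group)
    have := U hl1 ⟨g, y, k, hy, hk, hkd, hg, rfl⟩ hae'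
    exact ⟨_, hz'.1, a', hae' ▸ hblock hy₁ ha', this.symm⟩
  -- the image is everything
  have hstep : ∀ t ∈ D, ∀ g, mk g ∈ S → mk (g * t) ∈ S := by
    intro t ht g hg
    by_cases hdt : Commute d t
    · have : mk (g * t) = mk g := QuotientGroup.eq.2 (by
        rw [show (g * t)⁻¹ * g = t⁻¹ by group]
        exact inv_mem (closure_commute_le h hd (Subgroup.subset_closure ⟨ht, hdt⟩)))
      rwa [this]
    obtain ⟨y, hy⟩ := tri_nonempty h hd ht hdt
    have hty : t ∈ nb D y := ⟨ht, fun e => hdt (e ▸ hy.1.2.2), hy.2⟩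
    have hth : t ∈ hsub D y := Subgroup.subset_closure hty
    set x := t * d * t⁻¹ with hxdef
    have hxy : x ∈ nb D y := block_mem h hy.1.1 (nb_swap h hd hy.1) hth
    have hdx : ¬ Commute d x := fun hc => hdt (by
      have h1 := braid0 h.tt ht hd (fun q => hdt q.symm)
      rw [hxdef, h.tt.inv ht, h1] at hc
      have h2 := (commute_conj_iff d d (d * t * d⁻¹)).2
      rw [h.tt.inv hd, mul_assoc d d d, h.tt.sq d hd, mul_one,
        show d * (d * t * d) * d = (d * d) * t * (d * d) by group, h.tt.sq d hd, one_mul, mul_one] at h2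
      exact h2 hc)
    obtain ⟨u, hu⟩ : {u | u ∈ tri D d x ∧ u ≠ y ∧ Commute u y}.Nonempty :=
      Set.nonempty_of_ncard_ne_zero (by rw [tri_inner h hd hxy.1 hdx ⟨hy.1, hxy.2.2⟩]; norm_num)
    have huy : u ∈ nb D y := ⟨hu.1.1.1, hu.2.1, hu.2.2.symm⟩
    obtain ⟨k, hk, hke⟩ := h.near y hy.1.1 d (nb_swap h hd hy.1) u huy
    have h1 : mk (g * k) ∈ S := hclosed hg ⟨g, y, k, hy.1, hk, hke.symm ▸ hu.1.1, rfl, rfl⟩
    refine hclosed h1 ⟨g * k, y, k⁻¹ * t, hy.1, mul_mem (inv_mem hk) hth, ?_, rfl, by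
      rw [mul_assoc, mul_inv_cancel_left]⟩
    rw [show k⁻¹ * t * d * (k⁻¹ * t)⁻¹ = k⁻¹ * (t * d * t⁻¹) * k⁻¹⁻¹ by group]
    exact nb_conj h.tt hxy.1 (fun e : x = u => hdx (e.symm ▸ hu.1.1.2.2)) hu.1.2 (by rw [← hke]; group)
  have hall : ∀ g, mk g ∈ S := by
    let P : Subgroup G :=
      { carrier := {t | ∀ g, mk (g * t) ∈ S ↔ mk g ∈ S}
        one_mem' := fun g => by rw [mul_one]
        mul_mem' := fun {a b} ha hb g => by rw [← mul_assoc, hb, ha]
        inv_mem' := fun {a} ha g => by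
          have := ha (g * a⁻¹)
          rw [inv_mul_cancel_right] at this
          exact this.symm }
    have hP : (⊤ : Subgroup G) ≤ P := by
      rw [← h.class3.2.2, Subgroup.closure_le]
      intro t ht g
      exact ⟨fun hh => by
        have := hstep t ht _ hh
        rwa [mul_assoc, h.tt.sq t ht, mul_one] at this, hstep t ht g⟩
    intro g
    have := (hP (Subgroup.mem_top g) 1).2 ⟨d, hd, 1, Or.inl ⟨rfl, rfl⟩, rfl⟩
    rwa [one_mul] at this
  refine ⟨le_antisymm (fun g hg => ?_) fun g hg => ?_, ?_⟩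
  · rw [Subgroup.mem_centralizer_singleton_iff]
    exact (commute_hsub hg).eq
  · rw [Subgroup.mem_centralizer_singleton_iff] at hg
    obtain ⟨z, hz, e, he, hge⟩ := hall g
    have hzd : z = d := by
      rw [← hpoint hz he, ← point_eq h hge, hg, mul_inv_cancel_right]
    subst hzd
    rcases he with ⟨-, he⟩ | ⟨hn, -, -⟩ | ⟨hfar, -⟩
    · have := QuotientGroup.eq.1 (hge.trans he)
      simpa using this
    · exact absurd rfl hn.2.1
    · exact absurd (Commute.refl _) hfar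
  · have hc : ∀ a ∈ D, ∃ g : G, g * d * g⁻¹ = a := fun a ha =>
      h.conjD d hd a ha (h.ne_one d hd) (h.ne_one a ha)
    rw [← Nat.card_coe_set_eq]
    refine Nat.card_congr (Equiv.ofBijective (Quotient.lift
      (fun g => (⟨g * d * g⁻¹, h.tt.conj g d hd⟩ : D))
      (fun a b hab => Subtype.ext (point_eq h (Quotient.sound hab)))) ⟨?_, ?_⟩)
    · intro ω ω' heq
      obtain ⟨g, rfl⟩ := QuotientGroup.mk_surjective ω
      obtain ⟨g', rfl⟩ := QuotientGroup.mk_surjective ω'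
      obtain ⟨z, hz, e, he, hge⟩ := hall g
      obtain ⟨z', hz', e', he', hge'⟩ := hall g'
      have hzz : z = z' := by
        rw [← hpoint hz he, ← hpoint hz' he', ← point_eq h hge, ← point_eq h hge']
        exact congrArg Subtype.val heq
      exact hge.trans ((huniq he (hzz ▸ he')).trans hge'.symm)
    · rintro ⟨a, ha⟩
      obtain ⟨g, hg⟩ := hc a ha
      exact ⟨(g : G ⧸ hsub D d), Subtype.ext hg⟩

end CfsgLib.ThreeT.Prod
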