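import Cfsg.Agent.Spor3T.M22Iso

/-!
Type M(22): five common neighbours of a far pair in a chain, with a neighbour at the middle one, extend at one
end to a chain of six whose new member commutes with that neighbour.
-/

set_option autoImplicit false
set_option linter.unusedSectionVars false
set_option linter.style.haveILetI false
set_option maxRecDepth 100000

namespace CfsgLib.ThreeT.Prod

open QuadraticMap CfsgLib.Quad CfsgLib.ReflThree CfsgLib.Forms CfsgLib.QuadStd

/-- Adjacency in a chain of five. -/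
abbrev Adj5 (i j : Fin 5) : Prop := i.val + 1 = j.val ∨ j.val + 1 = i.val

theorem adj5_separate : ∀ i j : Fin 5, i ≠ j →
    ∃ k : Fin 5, (k ≠ i ∧ k ≠ j ∧ ((Adj5 i k ∧ ¬ Adj5 j k) ∨ (Adj5 j k ∧ ¬ Adj5 i k))) ∨ Adj5 i j := by
  decide

theorem chain_both_ends : ∀ c : ZMod 3, c ≠ 0 → ∃ y : Fin 6 → ZMod 3, chainVal c y = c ∧
    (∀ j : Fin 6, (polar (chainVal c) y (Pi.single j 1) = 0 ↔ (j ≠ 0 ∧ j ≠ 5))) := by
  unfold QuadraticMap.polar chainVal
  decide +kernel

section Roots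

variable {Q : QuadraticForm (ZMod 3) (Fin 6 → ZMod 3)} {c : ZMod 3}

/-- The radical of a normalised chain of five. -/
def rad5 (w : Fin 5 → Fin 6 → ZMod 3) : Fin 6 → ZMod 3 := w 0 + w 1 - w 3 - w 4

theorem root_perp_four (hQ : (polarBilin Q).Nondegenerate) (hc : c ≠ 0) (w : Fin 5 → Fin 6 → ZMod 3)
    (hw : ∀ i, Q (w i) = c) (hwp : ∀ i j, i ≠ j → polar Q (w i) (w j) = if Adj5 i j then c else 0) :
    ∃ z, Q z = c ∧ ∀ i : Fin 5, i ≠ 4 → polar Q z (w i) = 0 := by
  classical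
  let Φ : (Fin 6 → ZMod 3) →ₗ[ZMod 3] (Fin 4 → ZMod 3) :=
    LinearMap.pi fun i => (polarBilin Q).flip (w i.castSucc)
  have hΦ : ∀ x i, Φ x i = polar Q x (w i.castSucc) := fun x i => by simp [Φ]
  have hmem : ∀ x, x ∈ LinearMap.ker Φ ↔ ∀ i : Fin 5, i ≠ 4 → polar Q x (w i) = 0 := by
    intro x
    rw [LinearMap.mem_ker]
    constructor
    · intro e i hi
      have h4 : i.val < 4 := by
        rcases lt_or_ge i.val 4 with h | h
        · exact h
        · exact absurd (Fin.ext (show i.val = 4 by omega)) hi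
      have := congrFun e ⟨i.val, h4⟩
      rw [hΦ] at this
      exact this
    · intro e
      funext i
      rw [hΦ]
      exact e _ (fun q => by have := congrArg Fin.val q; simp at this; omega)
  -- the kernel meets the span of the four trivially, so is non-degenerate
  have hsplit : ∀ x, ∃ a : Fin 4 → ZMod 3, ∃ k ∈ LinearMap.ker Φ,
      x = a 0 • w 0 + a 1 • w 1 + a 2 • w 2 + a 3 • w 3 + k := by
    intro x
    have key : ∀ c : ZMod 3, c ≠ 0 → ∀ t0 t1 t2 t3 : ZMod 3, ∃ a : Fin 4 → ZMod 3,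
        a 0 * (2 * c) + a 1 * c = t0 ∧ a 0 * c + a 1 * (2 * c) + a 2 * c = t1 ∧
        a 1 * c + a 2 * (2 * c) + a 3 * c = t2 ∧ a 2 * c + a 3 * (2 * c) = t3 := by decide +kernel
    obtain ⟨a, e0, e1, e2, e3⟩ := key c hc (polar Q x (w 0)) (polar Q x (w 1)) (polar Q x (w 2)) (polar Q x (w 3))
    refine ⟨a, x - (a 0 • w 0 + a 1 • w 1 + a 2 • w 2 + a 3 • w 3), (hmem _).2 ?_, by abel⟩
    have hs : ∀ i, polar Q (w i) (w i) = 2 * c := fun i => by rw [polar_self, hw, two_nsmul, two_mul]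
    intro i hi
    simp only [polar_sub_left, polar_add_left, polar_smul_left, smul_eq_mul]
    fin_cases i <;>
      simp [hs, hwp, Adj5] at hi ⊢ <;>
      first
        | linear_combination -e0
        | linear_combination -e1
        | linear_combination -e2
        | linear_combination -e3
  have hnd : ∀ y ∈ LinearMap.ker Φ, (∀ k ∈ LinearMap.ker Φ, polar Q y k = 0) → y = 0 := by
    intro y hy hyk
    refine hQ.1 y fun x => ?_
    obtain ⟨a, k, hk, rfl⟩ := hsplit x
    have h := (hmem y).1 hy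
    simp [polarBilin_apply_apply, polar_add_right, polar_smul_right, hyk k hk, h 0 (by decide), h 1 (by decide),
      h 2 (by decide), h 3 (by decide)]
  have hrk : 2 ≤ Module.finrank (ZMod 3) (LinearMap.ker Φ) := by
    have := LinearMap.finrank_range_add_finrank_ker Φ
    have h4 := Submodule.finrank_le (LinearMap.range Φ)
    rw [Module.finrank_fin_fun] at this h4
    omega
  obtain ⟨z, hz, hz0⟩ : ∃ z ∈ LinearMap.ker Φ, Q z ≠ 0 := by
    by_contra hno
    simp only [not_exists, not_and, not_not] at hno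
    have : ∀ y ∈ LinearMap.ker Φ, y = 0 := fun y hy => hnd y hy fun k hk => by
      rw [QuadraticMap.polar, hno y hy, hno k hk, hno _ (add_mem hy hk)]; ring
    rw [(Submodule.eq_bot_iff _).2 this, finrank_bot] at hrk
    omega
  have three : ∀ c a : ZMod 3, c ≠ 0 → a ≠ 0 → a ≠ c → a + a = c := by decide
  by_cases ez : Q z = c
  · exact ⟨z, ez, (hmem z).1 hz⟩
  -- a perpendicular vector in the kernel
  let ψ : ↥(LinearMap.ker Φ) →ₗ[ZMod 3] ZMod 3 := (polarBilin Q z).comp (LinearMap.ker Φ).subtype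
  obtain ⟨⟨z', hz'⟩, hψ, hne⟩ : ∃ z' ∈ LinearMap.ker ψ, z' ≠ 0 := by
    refine Submodule.exists_mem_ne_zero_of_ne_bot fun e => ?_
    have h1 := LinearMap.finrank_range_add_finrank_ker ψ
    rw [e, finrank_bot] at h1
    have := Submodule.finrank_le (LinearMap.range ψ)
    rw [Module.finrank_self] at this
    omega
  have hzz' : polar Q z z' = 0 := hψ
  have hz'0 : Q z' ≠ 0 := by
    intro e
    refine hne (Subtype.ext (hnd z' hz' fun k hk => ?_))
    -- the kernel is spanned by `z` and `z'`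
    by_contra hk0
    have hqz : polar Q z z ≠ 0 := by
      rw [polar_self, two_nsmul]
      exact fun q => hz0 (by revert q; generalize Q z = a; revert a; decide)
    obtain ⟨a, b, hab⟩ : ∃ a b : ZMod 3, k = a • z + b • z' := by
      by_contra hsp
      simp only [not_exists] at hsp
      have hli : LinearIndependent (ZMod 3) ![(⟨z, hz⟩ : ↥(LinearMap.ker Φ)), ⟨z', hz'⟩, ⟨k, hk⟩] := by
        rw [Fintype.linearIndependent_iff]
        intro g hg
        have hg' := congrArg Subtype.val hg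
        simp [Fin.sum_univ_three] at hg'
        have g2 : g 2 = 0 := by
          by_contra h2
          have hinv : ∀ x : ZMod 3, x ≠ 0 → x * x = 1 := by decide
          refine hsp (-(g 2 * g 0)) (-(g 2 * g 1)) ?_
          have := congrArg (fun v => g 2 • v) hg'
          simp only [smul_add, smul_smul, hinv _ h2, one_smul, smul_zero] at this
          rw [neg_smul, neg_smul, ← sub_eq_zero, ← this]
          abel
        have g0 : g 0 = 0 := by
          have h1 := congrArg (fun v => polar Q z v) hg'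
          simp only [polar_add_right, polar_smul_right, hzz', g2, zero_smul, polar_zero_right, smul_zero,
            add_zero, smul_eq_mul, mul_zero] at h1
          exact (mul_eq_zero.1 h1).resolve_right hqz
        have g1 : g 1 = 0 := by
          rw [g0, g2] at hg'
          simp only [zero_smul, zero_add, add_zero] at hg'
          exact (smul_eq_zero.1 hg').resolve_right fun q => hne (Subtype.ext q)
        intro i; fin_cases i <;> assumption
      have := hli.fintype_card_le_finrank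
      simp at this
      have h1 := LinearMap.finrank_range_add_finrank_ker Φ
      have hsurj : Function.Surjective Φ := fun t => by
        have key : ∀ c : ZMod 3, c ≠ 0 → ∀ t : Fin 4 → ZMod 3, ∃ a : Fin 4 → ZMod 3,
            a 0 * (2 * c) + a 1 * c = t 0 ∧ a 0 * c + a 1 * (2 * c) + a 2 * c = t 1 ∧
            a 1 * c + a 2 * (2 * c) + a 3 * c = t 2 ∧ a 2 * c + a 3 * (2 * c) = t 3 := by decide +kernel
        obtain ⟨a, e0, e1, e2, e3⟩ := key c hc t
        refine ⟨a 0 • w 0 + a 1 • w 1 + a 2 • w 2 + a 3 • w 3, funext fun i => ?_⟩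
        have hs : ∀ i, polar Q (w i) (w i) = 2 * c := fun i => by rw [polar_self, hw, two_nsmul, two_mul]
        rw [hΦ, polar_add_left, polar_add_left, polar_add_left, polar_smul_left, polar_smul_left, polar_smul_left,
          polar_smul_left]
        fin_cases i <;> simp [hs, hwp, Adj5] <;>
          first
            | linear_combination e0
            | linear_combination e1
            | linear_combination e2
            | linear_combination e3
      rw [LinearMap.range_eq_top.2 hsurj, finrank_top, Module.finrank_fin_fun, Module.finrank_fin_fun] at h1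
      omega
    apply hk0
    rw [hab, polar_add_right, polar_smul_right, polar_smul_right, polar_comm Q z' z, hzz', polar_self, e]
    simp
  by_cases ez' : Q z' = c
  · exact ⟨z', ez', (hmem z').1 hz'⟩
  refine ⟨z + z', ?_, (hmem _).1 (add_mem hz hz')⟩
  have e1 := three c _ hc hz0 ez
  have e2 : Q z = Q z' := by
    have : ∀ c a b : ZMod 3, c ≠ 0 → a ≠ 0 → a ≠ c → b ≠ 0 → b ≠ c → a = b := by decide
    exact this c _ _ hc hz0 ez hz'0 ez'
  rw [← sub_add_cancel (Q (z + z')) (Q z), ← sub_add_cancel (Q (z + z') - Q z) (Q z'),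
    show Q (z + z') - Q z - Q z' = polar Q z z' from rfl, hzz', ← e2, zero_add, e1]

set_option synthInstance.maxSize 1024 in
theorem five_independent (hc : c ≠ 0) (w : Fin 5 → Fin 6 → ZMod 3) (hw : ∀ i, Q (w i) = c)
    (hwp : ∀ i j, i ≠ j → polar Q (w i) (w j) = if Adj5 i j then c else 0) (hr : rad5 w ≠ 0) :
    LinearIndependent (ZMod 3) w := by
  rw [Fintype.linearIndependent_iff]
  intro a ha
  have hs : ∀ i, polar Q (w i) (w i) = 2 * c := fun i => by rw [polar_self, hw, two_nsmul, two_mul]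
  have h : ∀ j, a 0 * polar Q (w 0) (w j) + a 1 * polar Q (w 1) (w j) + a 2 * polar Q (w 2) (w j) +
      a 3 * polar Q (w 3) (w j) + a 4 * polar Q (w 4) (w j) = 0 := by
    intro j
    have := congrArg (fun v => polar Q v (w j)) ha
    simpa [Fin.sum_univ_five, polar_add_left, polar_smul_left, polar_zero_left] using this
  have h0 := h 0
  have h1 := h 1
  have h2 := h 2
  have h3 := h 3
  have h4 := h 4
  simp [hs, hwp, Adj5] at h0 h1 h2 h3 h4
  have key : ∀ c : ZMod 3, c ≠ 0 → ∀ a0 a1 a2 a3 a4 : ZMod 3, a0 * (2 * c) + a1 * c = 0 →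
      a0 * c + a1 * (2 * c) + a2 * c = 0 → a1 * c + a2 * (2 * c) + a3 * c = 0 →
      a2 * c + a3 * (2 * c) + a4 * c = 0 → a3 * c + a4 * (2 * c) = 0 →
      a1 = a0 ∧ a2 = 0 ∧ a3 = -a0 ∧ a4 = -a0 := by decide +kernel
  obtain ⟨k1, k2, k3, k4⟩ := key c hc _ _ _ _ _ h0 h1 h2 h3 h4
  have he : a = fun i => a 0 * (![1, 1, 0, -1, -1] : Fin 5 → ZMod 3) i := by
    funext i; fin_cases i <;> simp [k1, k2, k3, k4]
  have hz : a 0 • rad5 w = 0 := by
    rw [Fin.sum_univ_five, congrFun he 1, congrFun he 2, congrFun he 3, congrFun he 4] at ha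
    simpa [rad5, smul_add, smul_sub, sub_eq_add_neg] using ha
  have a0 : a 0 = 0 := (smul_eq_zero.1 hz).resolve_right hr
  intro i
  rw [congrFun he i, a0, zero_mul]

end Roots

variable {G : Type*} [Group G] [Finite G] {D : Set G} (h : Geo22 D) (hprim : Cfsg.IsPrimitiveUnderConj D)
  (ht : Cfsg.IsOfTypeM22 G D)

include h hprim ht

/-- Five common neighbours in a chain: a sixth one at either end, or one commuting with all five. -/
theorem five_extend {a b : G} (ha : a ∈ D) (hb : b ∈ D) (hab : ¬ Commute a b) {u : Fin 5 → G}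
    (hu : ∀ i, u i ∈ tri D a b) (huc : ∀ i j, i ≠ j → (Commute (u i) (u j) ↔ ¬ Adj5 i j)) :
    (∃ p ∈ tri D a b, ∀ i, Commute p (u i)) ∨
    ∃ g₁ ∈ tri D a b, ∃ g₂ ∈ tri D a b, ¬ Commute g₁ g₂ ∧ (∀ i, Commute g₁ (u i) ↔ i ≠ 0) ∧
      ∀ i, Commute g₂ (u i) ↔ i ≠ 4 := by
  classical
  obtain ⟨c, Q, hc, hQ, hd, F, hF1, hF2, hF4, hF3⟩ := exists_refl_model h hprim ht ha hb hab
  choose v hv hFv using fun i => hF2 (u i) (hu i)
  have hune : ∀ i j, i ≠ j → u i ≠ u j := by
    intro i j hij e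
    obtain ⟨k, ⟨hki, hkj, ⟨h1, h2⟩ | ⟨h1, h2⟩⟩ | hk⟩ := adj5_separate i j hij
    · exact (huc i k hki.symm).1 (e ▸ (huc j k hkj.symm).2 h2) h1
    · exact (huc j k hkj.symm).1 (e ▸ (huc i k hki.symm).2 h2) h1
    · exact (huc i j hij).1 (e ▸ Commute.refl (u i)) hk
  have sep : ∀ {x y : Fin 6 → ZMod 3}, Q x = c → F x ≠ F y → y ≠ x ∧ y ≠ -x := fun {x y} hx hxy =>
    ⟨fun e => hxy (by rw [e]), fun e => hxy (by rw [e, hF4 x hx])⟩
  have hpol : ∀ i j, i ≠ j → (polar Q (v i) (v j) = 0 ↔ ¬ Adj5 i j) := fun i j hij => by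
    have s := sep (y := v j) (hv i) (by rw [hFv, hFv]; exact hune i j hij)
    rw [← (hF3 (v i) (v j) (hv i) (hv j) s.1 s.2).2, hFv, hFv]
    exact huc i j hij
  -- signs along the chain
  have hne : ∀ i j : Fin 5, i.val + 1 = j.val → polar Q (v i) (v j) ≠ 0 := fun i j e q =>
    (hpol i j (fun e' => by rw [e'] at e; omega)).1 q (Or.inl e)
  obtain ⟨s1, q1, e1⟩ := neg_smul_signs c _ hc (hne 0 1 rfl)
  obtain ⟨t2, q2, e2⟩ := neg_smul_signs c _ hc (hne 1 2 rfl)
  obtain ⟨t3, q3, e3⟩ := neg_smul_signs c _ hc (hne 2 3 rfl)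
  obtain ⟨t4, q4, e4⟩ := neg_smul_signs c _ hc (hne 3 4 rfl)
  set s : Fin 5 → ZMod 3 := ![1, s1, s1 * t2, s1 * t2 * t3, s1 * t2 * t3 * t4]
  have hs : ∀ i, s i * s i = 1 := by intro i; fin_cases i <;> simp [s] <;> grind
  set w : Fin 5 → (Fin 6 → ZMod 3) := fun i => s i • v i with hwdef
  have hw : ∀ i, Q (w i) = c := fun i => by
    show Q (s i • v i) = c
    rw [QuadraticMap.map_smul, hs, hv, one_smul]
  have hwF : ∀ i, F (w i) = u i := fun i => by
    show F (s i • v i) = u i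
    rcases mul_self_eq_one_iff.1 (hs i) with e | e
    · rw [e, one_smul, hFv]
    · rw [e, neg_one_smul, hF4 _ (hv i), hFv]
  have hwp : ∀ i j, i ≠ j → polar Q (w i) (w j) = if Adj5 i j then c else 0 := by
    intro i j hij
    simp only [hwdef, polar_smul_left, polar_smul_right, smul_eq_mul]
    by_cases hA : Adj5 i j
    · rw [if_pos hA]
      have key : ∀ k l : Fin 5, k.val + 1 = l.val → s k * (s l * polar Q (v k) (v l)) = c := by
        intro k l hkl
        fin_cases k <;> fin_cases l <;> simp at hkl <;> simp [s] <;> grind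
      rcases hA with e | e
      · linear_combination key i j e
      · linear_combination key j i e + (s i * s j) * (polar_comm (⇑Q) (v i) (v j))
    · rw [if_neg hA, (hpol i j hij).2 hA, mul_zero, mul_zero]
  have hwself : ∀ i, polar Q (w i) (w i) = 2 * c := fun i => by rw [polar_self, hw, two_nsmul, two_mul]
  have notpm : ∀ {y : Fin 6 → ZMod 3} (i k : Fin 5), polar Q y (w k) = 0 → polar Q (w i) (w k) ≠ 0 →
      w i ≠ y ∧ w i ≠ -y := fun {y} i k h0 h1 =>
    ⟨fun e => h1 (e ▸ h0), fun e => h1 (by rw [e, polar_neg_left, h0, neg_zero])⟩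
  have hcu : ∀ {y : Fin 6 → ZMod 3}, Q y = c → ∀ i, w i ≠ y → w i ≠ -y →
      (Commute (F y) (u i) ↔ polar Q y (w i) = 0) := fun {y} hy i h1 h2 => by
    rw [← (hF3 y (w i) hy (hw i) h1 h2).2, hwF]
  by_cases hr : rad5 w = 0
  · obtain ⟨z, hz, hzp⟩ := root_perp_four hQ hc w hw hwp
    have hz4 : polar Q z (w 4) = 0 := by
      have e : w 4 = w 0 + w 1 - w 3 := by
        rw [rad5, sub_eq_zero] at hr
        exact hr.symm
      rw [e, polar_sub_right, polar_add_right, hzp 0 (by decide), hzp 1 (by decide), hzp 3 (by decide)]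
      ring
    have hall : ∀ i, polar Q z (w i) = 0 := fun i => by
      by_cases e : i = 4
      · exact e ▸ hz4
      · exact hzp i e
    left
    refine ⟨F z, hF1 z hz, fun i => ?_⟩
    obtain ⟨k, hk⟩ : ∃ k, k ≠ i ∧ Adj5 i k := (by decide : ∀ i : Fin 5, ∃ k, k ≠ i ∧ Adj5 i k) i
    have hik : polar Q (w i) (w k) ≠ 0 := by rw [hwp i k hk.1.symm, if_pos hk.2]; exact hc
    exact (hcu hz i (notpm i k (hall k) hik).1 (notpm i k (hall k) hik).2).2 (hall i)
  right
  -- a sixth root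
  have hind := five_independent hc w hw hwp hr
  obtain ⟨x0, hx0⟩ : ∃ x0, ∀ i, polar Q x0 (w i) = if i = 4 then c else 0 := by
    let Φ : (Fin 6 → ZMod 3) →ₗ[ZMod 3] (Fin 5 → ZMod 3) := LinearMap.pi fun i => (polarBilin Q).flip (w i)
    have hΦ : ∀ x i, Φ x i = polar Q x (w i) := fun x i => by simp [Φ]
    have hsurj : LinearMap.range Φ = ⊤ := by
      by_contra hne'
      obtain ⟨f, hf0, hf⟩ := Submodule.exists_le_ker_of_lt_top _ (lt_top_iff_ne_top.2 hne')
      set a : Fin 5 → ZMod 3 := fun i => f (Pi.single i 1)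
      have hfa : ∀ t, f t = ∑ i, t i * a i := fun t => by
        conv_lhs => rw [pi_eq_sum_univ' t]
        simp [map_sum, map_smul, a]
      have hz : ∑ i, a i • w i = 0 := by
        refine hQ.2 _ fun x => ?_
        have := hf (LinearMap.mem_range_self Φ x)
        rw [LinearMap.mem_ker, hfa] at this
        simp only [hΦ] at this
        rw [map_sum]
        simpa [map_smul, polarBilin_apply_apply, mul_comm] using this
      have ha0 := Fintype.linearIndependent_iff.1 hind a hz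
      exact hf0 (LinearMap.ext fun t => by rw [hfa]; simp [ha0])
    obtain ⟨x0, e⟩ := LinearMap.range_eq_top.1 hsurj fun i => if i = 4 then c else 0
    exact ⟨x0, fun i => (hΦ x0 i).symm.trans (congrFun e i)⟩
  have hr0 : ∀ i, polar Q (rad5 w) (w i) = 0 := by
    intro i
    simp only [rad5, polar_sub_left, polar_add_left]
    have h3 : (3 : ZMod 3) = 0 := rfl
    fin_cases i <;> simp [hwself, hwp, Adj5] <;>
      first | linear_combination c * h3 | linear_combination (-c) * h3 | ring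
  have hQr : Q (rad5 w) = 0 := by
    have e : polar Q (rad5 w) (rad5 w) = 0 := by
      conv_lhs => arg 3; rw [rad5]
      simp only [polar_sub_right, polar_add_right, hr0]
      ring
    rw [polar_self, two_nsmul] at e
    revert e; generalize Q (rad5 w) = a; revert a; decide
  have hxr : polar Q x0 (rad5 w) = -c := by
    simp [rad5, polar_sub_right, polar_add_right, hx0]
  obtain ⟨t, hteq⟩ : ∃ t : ZMod 3, Q x0 + t * (-c) = c :=
    (by decide : ∀ c q : ZMod 3, c ≠ 0 → ∃ t : ZMod 3, q + t * (-c) = c) c _ hc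
  set x := x0 + t • rad5 w with hxdef
  have hxQ : Q x = c := by
    have e : Q x = Q x0 + Q (t • rad5 w) + polar Q x0 (t • rad5 w) := QuadraticMap.map_add _ _ _
    rw [e, QuadraticMap.map_smul, hQr, polar_smul_right, hxr, smul_zero, add_zero, smul_eq_mul, hteq]
  have hxp : ∀ i, polar Q x (w i) = if i = 4 then c else 0 := fun i => by
    rw [hxdef, polar_add_left, polar_smul_left, hr0, smul_zero, add_zero, hx0]
  set v6 : Fin 6 → (Fin 6 → ZMod 3) := ![w 0, w 1, w 2, w 3, w 4, x]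
  have hv6 : ∀ i, Q (v6 i) = c := by intro i; fin_cases i <;> simp [v6, hw, hxQ]
  have hxp' : ∀ i, polar Q (w i) x = if i = 4 then c else 0 := fun i => by rw [polar_comm]; exact hxp i
  have hp6 : ∀ i j : Fin 6, i ≠ j → (polar Q (v6 i) (v6 j) = 0 ↔ ¬ Adj6 i j) := by
    intro i j hij
    fin_cases i <;> fin_cases j <;> simp [v6, hwp, hxp, hxp', Adj5, Adj6, hc] at hij ⊢
  obtain ⟨T, hT, hTv⟩ := chain_frame hc v6 hv6 hp6
  obtain ⟨y, hy, hyp⟩ := chain_both_ends c hc
  have hTy : Q (T y) = c := by rw [hT, chainForm_coe, hy]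
  have e6 : ∀ j, polar Q (T y) (v6 j) = 0 ↔ (j ≠ 0 ∧ j ≠ 5) := fun j => by
    have e : ∀ a b, polar Q (T a) (T b) = polar (chainVal c) a b := fun a b => by
      simp only [polar, ← chainForm_coe, ← map_add T, hT]
    rw [← hyp j, ← e]
    rcases hTv j with q | q <;> rw [q]
    rw [polar_neg_right, neg_eq_zero]
  have hlast : v6 5 = x := rfl
  have hfst : ∀ i : Fin 5, v6 i.castSucc = w i := by intro i; fin_cases i <;> rfl
  have p5 : ∀ i : Fin 5, polar Q (T y) (w i) = 0 ↔ i ≠ 0 := fun i => by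
    rw [← hfst i, e6]
    revert i; decide
  have hyx : polar Q (T y) x ≠ 0 := fun q => ((e6 5).1 (hlast ▸ q)).2 rfl
  have hadj : ∀ i, ∃ k, k ≠ i ∧ Adj5 i k ∧ k ≠ 0 ∨ i = 1 := by decide
  have nTy : ∀ i, w i ≠ T y ∧ w i ≠ -T y := fun i => by
    obtain ⟨k, ⟨hki, hk, hk0⟩ | rfl⟩ := hadj i
    · exact notpm i k ((p5 k).2 hk0) (by rw [hwp i k hki.symm, if_pos hk]; exact hc)
    · exact notpm 1 2 ((p5 2).2 (by decide)) (by rw [hwp 1 2 (by decide), if_pos (by decide)]; exact hc)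
  have hadj' : ∀ i, ∃ k, k ≠ i ∧ Adj5 i k ∧ k ≠ 4 ∨ i = 3 := by decide
  have nx : ∀ i, w i ≠ x ∧ w i ≠ -x := fun i => by
    obtain ⟨k, ⟨hki, hk, hk4⟩ | rfl⟩ := hadj' i
    · exact notpm i k (by rw [hxp, if_neg hk4]) (by rw [hwp i k hki.symm, if_pos hk]; exact hc)
    · exact notpm 3 2 (by rw [hxp, if_neg (by decide)]) (by rw [hwp 3 2 (by decide), if_pos (by decide)]; exact hc)
  refine ⟨F (T y), hF1 _ hTy, F x, hF1 _ hxQ, ?_, fun i => ?_, fun i => ?_⟩
  · have n1 : x ≠ T y ∧ x ≠ -T y :=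
      ⟨fun e => (p5 4).2 (by decide) |> fun q => hc (by rw [← e] at q; rwa [hxp 4, if_pos rfl] at q),
        fun e => (p5 4).2 (by decide) |> fun q => hc (by
          have : T y = -x := by rw [e, neg_neg]
          rw [this, polar_neg_left, neg_eq_zero, hxp 4, if_pos rfl] at q
          exact q)⟩
    rw [(hF3 _ _ hTy hxQ n1.1 n1.2).2]
    exact hyx
  · rw [hcu hTy i (nTy i).1 (nTy i).2]; exact p5 i
  · rw [hcu hxQ i (nx i).1 (nx i).2, hxp]
    by_cases e : i = 4 <;> simp [e, hc]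

/-- Six points of the unitary space are forced. -/
theorem perp_five_unique {F : Type} [Field F] [Finite F] [CharP F 2] (hF : Nat.card F = 2 ^ 2)
    (U : Fin 5 → Fin 6 → F) (C P P' : Fin 6 → F)
    (hU : ∀ i j, Cfsg.hermForm 6 F 2 (U i) (U j) = 0 ↔ ¬ Adj5 i j)
    (hC : Cfsg.hermForm 6 F 2 C C = 0) (hCU : ∀ j, Cfsg.hermForm 6 F 2 C (U j) = 0 ↔ j ≠ 2)
    (hP : ∀ j, Cfsg.hermForm 6 F 2 P (U j) = 0) (hP' : ∀ j, Cfsg.hermForm 6 F 2 P' (U j) = 0)
    (h0 : P ≠ 0) (h0' : P' ≠ 0) : ∃ l : F, l ≠ 0 ∧ P = l • P' := by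
  set W : Fin 6 → (Fin 6 → F) := ![U 0, U 1, U 2, U 3, U 4, C] with hWdef
  have z := fun i j (hA : ¬ Adj5 i j) => (hU i j).2 hA
  have hUC : ∀ j, Cfsg.hermForm 6 F 2 (U j) C = 0 ↔ j ≠ 2 := fun j => by
    rw [SixTwo.hh_comm hF]; exact hCU j
  have hli : LinearIndependent F W := by
    rw [Fintype.linearIndependent_iff]
    intro x hx
    have hk : ∀ y, ∑ i, x i * Cfsg.hermForm 6 F 2 (W i) y = 0 := fun y => by
      have := herm_sum_left hF Finset.univ (fun i => x i • W i) y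
      rw [hx, SixTwo.hh_zero_left hF] at this
      rw [this]
      exact Finset.sum_congr rfl fun i _ => by rw [Unitary.herm_smul_left]
    have k0 := hk (U 0)
    have k1 := hk (U 1)
    have k2 := hk (U 2)
    have k3 := hk (U 3)
    have k4 := hk (U 4)
    have k5 := hk C
    simp [Fin.sum_univ_six, hWdef, hC, (hCU _).2, (hUC _).2, z, Adj5] at k0 k1 k2 k3 k4 k5
    have n01 : Cfsg.hermForm 6 F 2 (U 1) (U 0) ≠ 0 := fun q => (hU 1 0).1 q (by decide)
    have n43 : Cfsg.hermForm 6 F 2 (U 3) (U 4) ≠ 0 := fun q => (hU 3 4).1 q (by decide)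
    have n2C : Cfsg.hermForm 6 F 2 (U 2) C ≠ 0 := fun q => (hUC 2).1 q rfl
    have n12 : Cfsg.hermForm 6 F 2 (U 0) (U 1) ≠ 0 := fun q => (hU 0 1).1 q (by decide)
    have n34 : Cfsg.hermForm 6 F 2 (U 4) (U 3) ≠ 0 := fun q => (hU 4 3).1 q (by decide)
    have nC2 : Cfsg.hermForm 6 F 2 C (U 2) ≠ 0 := fun q => (hCU 2).1 q rfl
    intro i
    fin_cases i <;> simp <;> grind
  have hperp : ∀ X, (∀ i, Cfsg.hermForm 6 F 2 X (W i) = 0) → X = 0 := by
    intro X hX
    refine Unitary.uForm_nondeg hF 6 _ fun y => ?_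
    have hy : y ∈ Submodule.span F (Set.range W) := by
      rw [hli.span_eq_top_of_card_eq_finrank (by simp)]; trivial
    show Cfsg.hermForm 6 F 2 y X = 0
    refine (SixTwo.hh_comm hF).1 ?_
    induction hy using Submodule.span_induction with
    | mem w hw => obtain ⟨j, rfl⟩ := hw; exact hX j
    | zero => exact SixTwo.hh_zero_right hF _
    | add a b _ _ ha hb => rw [Unitary.herm_add_right hF, ha, hb, add_zero]
    | smul a b _ hb => rw [Unitary.herm_smul_right hF, hb, mul_zero]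
  set α := Cfsg.hermForm 6 F 2 P C
  set β := Cfsg.hermForm 6 F 2 P' C
  have nz : ∀ X, X ≠ 0 → (∀ j, Cfsg.hermForm 6 F 2 X (U j) = 0) → Cfsg.hermForm 6 F 2 X C ≠ 0 :=
    fun X hX0 hXU q => hX0 (hperp X fun i => by fin_cases i <;> simp [hWdef, hXU, q])
  have hα : α ≠ 0 := nz P h0 hP
  have hβ : β ≠ 0 := nz P' h0' hP'
  have hX : β • P - α • P' = 0 := hperp _ fun i => by
    rw [Unitary.herm_sub_left hF, Unitary.herm_smul_left, Unitary.herm_smul_left]
    fin_cases i <;> simp [hWdef, hP, hP', α, β, mul_comm]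
  refine ⟨α / β, div_ne_zero hα hβ, ?_⟩
  rw [div_eq_inv_mul, ← smul_smul, ← sub_eq_zero.1 hX, smul_smul, inv_mul_cancel₀ hβ, one_smul]

/-- A chain of five with a middle neighbour extends at one end. -/
theorem extend22 {a b c p : G} (ha : a ∈ D) (hb : b ∈ D) (hab : ¬ Commute a b) {u : Fin 5 → G}
    (hu : ∀ i, u i ∈ tri D a b) (huc : ∀ i j, i ≠ j → (Commute (u i) (u j) ↔ ¬ Adj5 i j))
    (hc : c ∈ nb D a) (hcu : ∀ j, Commute c (u j) ↔ j ≠ 2)
    (hp : p ∈ nb D a) (hpu : ∀ j, Commute p (u j)) (hpb : ¬ Commute p b) :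
    ∃ g ∈ tri D a b, Commute g c ∧ ((∀ i, Commute g (u i) ↔ i ≠ 0) ∨ ∀ i, Commute g (u i) ↔ i ≠ 4) := by
  classical
  obtain ⟨F, _, _, _, hF, φ, hM, -⟩ := exists_pair_model h hprim ht ha (hu 0).1
  choose U hUpt hUr using fun i => hM.rep_exists (hu i).1
  obtain ⟨C, hCpt, hCr⟩ := hM.rep_exists hc
  have hU : ∀ i j, Cfsg.hermForm 6 F 2 (U i) (U j) = 0 ↔ ¬ Adj5 i j := fun i j => by
    by_cases hij : i = j
    · subst hij; simp [(hUpt i).2]
    · rw [← hM.rep_comm (hu i).1 (hu j).1 (hUpt i) (hUpt j) (hUr i) (hUr j)]; exact huc i j hij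
  have hCU : ∀ j, Cfsg.hermForm 6 F 2 C (U j) = 0 ↔ j ≠ 2 := fun j => by
    rw [← hM.rep_comm hc (hu j).1 hCpt (hUpt j) hCr (hUr j)]; exact hcu j
  rcases five_extend h hprim ht ha hb hab hu huc with ⟨p', hp', hp'u⟩ | ⟨g₁, hg₁, g₂, hg₂, h12, h1u, h2u⟩
  · exfalso
    obtain ⟨P, hPpt, hPr⟩ := hM.rep_exists hp
    obtain ⟨P', hP'pt, hP'r⟩ := hM.rep_exists hp'.1
    obtain ⟨l, hl, e⟩ := perp_five_unique h hprim ht hF U C P P' hU hCpt.2 hCU
      (fun j => (hM.rep_comm hp (hu j).1 hPpt (hUpt j) hPr (hUr j)).1 (hpu j))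
      (fun j => (hM.rep_comm hp'.1 (hu j).1 hP'pt (hUpt j) hP'r (hUr j)).1 (hp'u j)) hPpt.1 hP'pt.1
    have : p = p' := hM.rep_inj hp hp'.1 hPr hP'r (by rw [e, SixTwo.tv_smul hF hP'pt.2 hl])
    exact hpb (this ▸ hp'.2)
  -- the chain of six at the first end
  set w : Fin 6 → G := ![g₁, u 0, u 1, u 2, u 3, u 4] with hwdef
  have hwT : ∀ i, w i ∈ tri D a b := by
    intro i
    fin_cases i
    exacts [hg₁, hu 0, hu 1, hu 2, hu 3, hu 4]
  have hwc : ∀ i j, i ≠ j → (Commute (w i) (w j) ↔ ¬ Adj6 i j) := by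
    intro i j hij
    have h1u' : ∀ k, Commute (u k) g₁ ↔ k ≠ 0 := fun k =>
      ⟨fun q => (h1u k).1 q.symm, fun q => ((h1u k).2 q).symm⟩
    fin_cases i <;> fin_cases j <;> simp [hwdef, huc, h1u, h1u', Adj6, Adj5] at hij ⊢
  obtain ⟨v, hv, hvpt, hvr⟩ := normalise hF hM (fun i => (hwT i).1) hwc
  obtain ⟨Y, hYpt, hYr⟩ := hM.rep_exists hg₂.1
  have hsp : ∀ X : Fin 6 → F, ∃ x : Fin 6 → F, X = ∑ i, x i • v i := by
    have hli : LinearIndependent F v := by
      rw [Fintype.linearIndependent_iff]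
      intro x hx
      have hk : ∀ j, ∑ i, x i * Cfsg.hermForm 6 F 2 (v i) (v j) = 0 := fun j => by
        have := herm_sum_left hF Finset.univ (fun i => x i • v i) (v j)
        rw [hx, SixTwo.hh_zero_left hF] at this
        rw [this]
        exact Finset.sum_congr rfl fun i _ => by rw [Unitary.herm_smul_left]
      have k0 := hk 0
      have k1 := hk 1
      have k2 := hk 2
      have k3 := hk 3
      have k4 := hk 4
      have k5 := hk 5
      simp [Fin.sum_univ_six, hv _ _, Adj6] at k0 k1 k2 k3 k4 k5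
      intro i
      fin_cases i <;> simp <;> grind
    intro X
    have : X ∈ Submodule.span F (Set.range v) := by
      rw [hli.span_eq_top_of_card_eq_finrank (by simp)]; trivial
    obtain ⟨x, hx⟩ := (Submodule.mem_span_range_iff_exists_fun F).1 this
    exact ⟨x, hx.symm⟩
  obtain ⟨x, hx⟩ := hsp C
  obtain ⟨y, hy⟩ := hsp Y
  have hL : ∀ (x : Fin 6 → F) (j : Fin 6), Cfsg.hermForm 6 F 2 (∑ i, x i • v i) (v j) =
      ∑ i, x i * (if Adj6 i j then 1 else 0) := fun x j => by
    rw [herm_sum_left hF]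
    exact Finset.sum_congr rfl fun i _ => by rw [Unitary.herm_smul_left, hv i j]
  have hR : ∀ (X : Fin 6 → F) (y : Fin 6 → F), Cfsg.hermForm 6 F 2 X (∑ i, y i • v i) =
      ∑ i, y i ^ 2 * Cfsg.hermForm 6 F 2 X (v i) := fun X y => by
    rw [herm_sum_right hF]
    exact Finset.sum_congr rfl fun i _ => Unitary.herm_smul_right hF _ _ _
  have cj : ∀ j : Fin 6, Commute c (w j) ↔ Cfsg.hermForm 6 F 2 C (v j) = 0 := fun j =>
    hM.rep_comm hc (hwT j).1 hCpt (hvpt j) hCr (hvr j)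
  have yj : ∀ j : Fin 6, Commute g₂ (w j) ↔ Cfsg.hermForm 6 F 2 Y (v j) = 0 := fun j =>
    hM.rep_comm hg₂.1 (hwT j).1 hYpt (hvpt j) hYr (hvr j)
  have a1 := (cj 1).1 ((hcu 0).2 (by decide))
  have a2 := (cj 2).1 ((hcu 1).2 (by decide))
  have a3 : ¬ Cfsg.hermForm 6 F 2 C (v 3) = 0 := fun q => (hcu 2).1 ((cj 3).2 q) rfl
  have a4 := (cj 4).1 ((hcu 3).2 (by decide))
  have a5 := (cj 5).1 ((hcu 4).2 (by decide))
  have b0 : ¬ Cfsg.hermForm 6 F 2 Y (v 0) = 0 := fun q => h12 ((yj 0).2 q).symm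
  have b1 := (yj 1).1 ((h2u 0).2 (by decide))
  have b2 := (yj 2).1 ((h2u 1).2 (by decide))
  have b3 := (yj 3).1 ((h2u 2).2 (by decide))
  have b4 := (yj 4).1 ((h2u 3).2 (by decide))
  have b5 : ¬ Cfsg.hermForm 6 F 2 Y (v 5) = 0 := fun q => (h2u 4).1 ((yj 5).2 q) rfl
  have hXX := hCpt.2
  have hYY := hYpt.2
  have h2 : (2 : F) = 0 := CharTwo.two_eq_zero
  have main : Cfsg.hermForm 6 F 2 C (v 0) = 0 ∨ Cfsg.hermForm 6 F 2 C Y = 0 := by
    rw [hy] at b0 b1 b2 b3 b4 b5 hYY ⊢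
    rw [hx] at a1 a2 a3 a4 a5 hXX ⊢
    simp only [hR, hL] at hXX hYY ⊢
    simp only [hL] at a1 a2 a3 a4 a5 b0 b1 b2 b3 b4 b5
    simp [Fin.sum_univ_six, Adj6] at a1 a2 a3 a4 a5 b0 b1 b2 b3 b4 b5 hXX hYY ⊢
    have e2 : x 2 = x 0 := by grind
    have e3 : x 3 = x 1 := by grind
    have e5 : x 5 = x 1 := by grind
    have f2 : y 2 = y 0 := by grind
    have f3 : y 3 = y 1 := by grind
    have f4 : y 4 = y 0 := by grind
    have f5 : y 5 = y 1 := by grind
    simp only [e2, e3, e5, a5, f2, f3, f4, f5] at a3 b0 b5 hXX hYY ⊢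
    have t1 : x 0 * x 1 * (x 0 + x 1) = 0 := by grind
    have t2 : y 0 * y 1 * (y 0 + y 1) = 0 := by grind
    grind
  rcases main with q | q
  · exact ⟨g₁, hg₁, ((cj 0).2 q).symm, Or.inl h1u⟩
  · exact ⟨g₂, hg₂, ((hM.rep_comm hc hg₂.1 hCpt hYpt hCr hYr).2 q).symm, Or.inr h2u⟩

end CfsgLib.ThreeT.Prod
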