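import Cfsg.Agent.Spor3T.SymFive

/-!
Small facts about the ten transpositions of five points and the five-cycle `(0 1)(1 2)(2 3)(3 4)`.
-/

set_option autoImplicit false
set_option linter.style.haveILetI false

namespace CfsgLib.ThreeT.FiveFacts

open CfsgLib

/-- The product of the four adjacent transpositions. -/
def cyc5 : Equiv.Perm (Fin 5) :=
  CoxeterA.adj 4 0 * CoxeterA.adj 4 1 * CoxeterA.adj 4 2 * CoxeterA.adj 4 3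

set_option maxRecDepth 100000

theorem cyc5_order : cyc5 ^ 5 = 1 ∧ cyc5 ≠ 1 ∧ ∀ x ∈ swaps5, cyc5 * x ≠ x * cyc5 := by decide +kernel

theorem swaps_conj : ∀ τ : Equiv.Perm (Fin 5), ∀ x ∈ swaps5, τ * x * τ⁻¹ ∈ swaps5 := by decide +kernel

theorem adj_mem : CoxeterA.adj 4 0 ∈ swaps5 ∧ CoxeterA.adj 4 1 ∈ swaps5 ∧ CoxeterA.adj 4 2 ∈ swaps5 ∧
    CoxeterA.adj 4 3 ∈ swaps5 := by decide +kernel

theorem pair_conj : ∀ x ∈ swaps5, ∀ z ∈ swaps5, x * z ≠ z * x →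
    ∃ τ : Equiv.Perm (Fin 5), τ * CoxeterA.adj 4 0 * τ⁻¹ = x ∧ τ * CoxeterA.adj 4 1 * τ⁻¹ = z := by
  decide +kernel

theorem separated : ∀ x ∈ swaps5, ∀ z ∈ swaps5, x ≠ z →
    ∃ w ∈ swaps5, (w * x = x * w ∧ w * z ≠ z * w) ∨ (w * x ≠ x * w ∧ w * z = z * w) := by decide +kernel

theorem cent_swaps : ∀ σ : Equiv.Perm (Fin 5), (∀ x ∈ swaps5, σ * x * σ⁻¹ = x) → σ = 1 := by decide +kernel

theorem nb_pair : ∀ x ∈ swaps5, ∃ z ∈ swaps5, ∃ w ∈ swaps5,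
    z * x = x * z ∧ w * x = x * w ∧ z ≠ x ∧ w ≠ x ∧ z * w ≠ w * z := by decide +kernel

theorem tuples : ∀ a ∈ swaps5, ∀ b ∈ swaps5.filter (fun b => a * b ≠ b * a),
    ∀ c ∈ swaps5.filter (fun c => a * c = c * a ∧ b * c ≠ c * b),
    ∀ d ∈ swaps5.filter (fun d => a * d = d * a ∧ b * d = d * b ∧ c * d ≠ d * c),
      ∃ τ : Equiv.Perm (Fin 5),
        τ * CoxeterA.adj 4 0 * τ⁻¹ = a ∧ τ * CoxeterA.adj 4 1 * τ⁻¹ = b ∧
        τ * CoxeterA.adj 4 2 * τ⁻¹ = c ∧ τ * CoxeterA.adj 4 3 * τ⁻¹ = d := by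
  decide +kernel

theorem cent_cyc5 : ∀ σ : Equiv.Perm (Fin 5), σ * cyc5 = cyc5 * σ → ∃ k : Fin 5, σ = cyc5 ^ k.1 := by
  decide +kernel

theorem norm_cyc5_card :
    ((Finset.univ : Finset (Equiv.Perm (Fin 5))).filter fun σ => ∃ k : Fin 5, σ * cyc5 * σ⁻¹ = cyc5 ^ k.1).card = 20 := by
  decide +kernel

end CfsgLib.ThreeT.FiveFacts
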