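import Cfsg.Agent.Spor3T.UnitaryPentad
import Cfsg.Agent.Spor3T.UnitaryCounts

/-!
Paths of four transvections of `PSU₆(2)` together with a pair orthogonal to them.
-/

set_option autoImplicit false
set_option linter.unusedSectionVars false
set_option linter.style.haveILetI false

namespace CfsgLib.ThreeT.SixTwo

open Matrix CfsgLib.Unitary CfsgLib.ThreeT.Prod

variable {F : Type} [Field F] [Finite F] [CharP F 2] (hF : Nat.card F = 2 ^ 2)

local notation "V" => Fin 6 → F
local notation "hh" => Cfsg.hermForm 6 F 2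
local notation "π" => QuotientGroup.mk' (Subgroup.center (Cfsg.SU 6 F 2))

/-- Four isotropic vectors, each orthogonal exactly to its non-neighbours in the chain. -/
structure Chain (e : Fin 4 → V) : Prop where
  pt : ∀ i, IsPt (e i)
  adj : ∀ i j : Fin 4, i.1 + 1 = j.1 → hh (e i) (e j) ≠ 0
  far : ∀ i j : Fin 4, i.1 + 1 < j.1 → hh (e i) (e j) = 0

/-- A chain and a non-orthogonal pair orthogonal to it. -/
structure Frame (e : Fin 4 → V) (p q : V) : Prop extends Chain e where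
  pp : IsPt p
  qq : IsPt q
  ep : ∀ i, hh (e i) p = 0
  eq : ∀ i, hh (e i) q = 0
  pq : hh p q ≠ 0

include hF

theorem Chain.vals {e : Fin 4 → V} (h : Chain e) :
    (hh (e 0) (e 1) ≠ 0 ∧ hh (e 1) (e 0) ≠ 0) ∧ (hh (e 1) (e 2) ≠ 0 ∧ hh (e 2) (e 1) ≠ 0) ∧
      (hh (e 2) (e 3) ≠ 0 ∧ hh (e 3) (e 2) ≠ 0) ∧
      (hh (e 0) (e 2) = 0 ∧ hh (e 2) (e 0) = 0) ∧ (hh (e 0) (e 3) = 0 ∧ hh (e 3) (e 0) = 0) ∧
      (hh (e 1) (e 3) = 0 ∧ hh (e 3) (e 1) = 0) := by
  have s : ∀ i j : Fin 4, i.1 + 1 = j.1 → hh (e i) (e j) ≠ 0 ∧ hh (e j) (e i) ≠ 0 := fun i j hij =>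
    ⟨h.adj i j hij, fun q => h.adj i j hij ((hh_comm hF).1 q)⟩
  have f : ∀ i j : Fin 4, i.1 + 1 < j.1 → hh (e i) (e j) = 0 ∧ hh (e j) (e i) = 0 := fun i j hij =>
    ⟨h.far i j hij, (hh_comm hF).1 (h.far i j hij)⟩
  exact ⟨s 0 1 rfl, s 1 2 rfl, s 2 3 rfl, f 0 2 (by decide), f 0 3 (by decide), f 1 3 (by decide)⟩

/-- The Gram matrix of a chain is regular. -/
theorem Chain.indep {e : Fin 4 → V} (h : Chain e) {c₀ c₁ c₂ c₃ : F} {w : V} (hw : ∀ i, hh w (e i) = 0)
    (h0 : c₀ • e 0 + c₁ • e 1 + c₂ • e 2 + c₃ • e 3 + w = 0) : c₀ = 0 ∧ c₁ = 0 ∧ c₂ = 0 ∧ c₃ = 0 := by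
  obtain ⟨⟨a01, a10⟩, ⟨a12, a21⟩, ⟨a23, a32⟩, ⟨b02, b20⟩, ⟨b03, b30⟩, ⟨b13, b31⟩⟩ := h.vals hF
  have q : ∀ i, c₀ * hh (e 0) (e i) + c₁ * hh (e 1) (e i) + c₂ * hh (e 2) (e i) + c₃ * hh (e 3) (e i) = 0 := by
    intro i
    have := congrArg (fun v => hh v (e i)) h0
    simpa only [herm_add_left, herm_smul_left, hw i, add_zero, hh_zero_left hF] using this
  have e1 := q 0
  rw [(h.pt 0).2, b20, b30] at e1
  simp only [mul_zero, zero_add, add_zero] at e1
  have c1 : c₁ = 0 := (mul_eq_zero.1 e1).resolve_right a10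
  have e2 := q 3
  rw [(h.pt 3).2, b03, b13] at e2
  simp only [mul_zero, zero_add, add_zero] at e2
  have c2 : c₂ = 0 := (mul_eq_zero.1 e2).resolve_right a23
  have e3 := q 2
  rw [(h.pt 2).2, b02, c1] at e3
  simp only [mul_zero, zero_mul, zero_add, add_zero] at e3
  have c3 : c₃ = 0 := (mul_eq_zero.1 e3).resolve_right a32
  have e4 := q 1
  rw [(h.pt 1).2, b31, c2] at e4
  simp only [mul_zero, zero_mul, zero_add, add_zero] at e4
  exact ⟨(mul_eq_zero.1 e4).resolve_right a01, c1, c2, c3⟩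

/-- A point fixed by the product of a chain is orthogonal to all of it. -/
theorem Chain.perp_of_fixed {e : Fin 4 → V} (h : Chain e) {p v : V} (hp : p ≠ 0) (hep : ∀ i, hh (e i) p = 0)
    (hv : IsPt v) (hy5 : (tv hF (e 0) * tv hF (e 1) * tv hF (e 2) * tv hF (e 3)) ^ 5 ∈
      Subgroup.center (Cfsg.SU 6 F 2))
    (hfix : tv hF (suMat (tv hF (e 0) * tv hF (e 1) * tv hF (e 2) * tv hF (e 3)) *ᵥ v) = tv hF v) :
    ∀ i, hh (e i) v = 0 := by
  set Y := tv hF (e 0) * tv hF (e 1) * tv hF (e 2) * tv hF (e 3) with hY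
  have hYp : suMat Y *ᵥ p = p := by
    rw [hY]
    simp only [suMat_mul, ← Matrix.mulVec_mulVec, tv_apply hF (h.pt _).2,
      fun i => (hh_comm hF).1 (hep i), zero_smul, add_zero]
  have hpow : ∀ (x : V) (c : F), suMat Y *ᵥ x = c • x → ∀ n, suMat (Y ^ n) *ᵥ x = c ^ n • x := by
    intro x c hx n
    induction n with
    | zero => simp [suMat_one]
    | succ n ih =>
      rw [pow_succ, suMat_mul, ← Matrix.mulVec_mulVec, hx, Matrix.mulVec_smul, ih, smul_smul, ← pow_succ']
  obtain ⟨a, ha⟩ := (mem_center_SU_iff hF (by norm_num)).1 hy5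
  have hY5 : ∀ x : V, suMat (Y ^ 5) *ᵥ x = a • x := fun x => by
    rw [show suMat (Y ^ 5) = a • (1 : Matrix (Fin 6) (Fin 6) F) from ha, Matrix.smul_mulVec,
      Matrix.one_mulVec]
  have ha1 : a = 1 := by
    have h1 := hpow p 1 (by rw [one_smul, hYp]) 5
    rw [hY5, one_pow, one_smul] at h1
    exact (smul_left_injective F hp) (h1.trans (one_smul F p).symm)
  have hYv0 : IsPt (suMat Y *ᵥ v) := by
    refine ⟨fun q => hv.1 ?_, by rw [su_preserves, hv.2]⟩
    have := congrArg (fun z => suMat Y⁻¹ *ᵥ z) q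
    simpa only [Matrix.mulVec_mulVec, ← suMat_mul, inv_mul_cancel, suMat_one, Matrix.one_mulVec,
      Matrix.mulVec_zero] using this
  obtain ⟨c, hc⟩ := tv_eq_smul hF hYv0 hv hfix
  have hc0 : c ≠ 0 := fun q => hYv0.1 (by rw [hc, q, zero_smul])
  have hc1 : c = 1 := by
    have h1 := hpow v c hc 5
    rw [hY5, ha1] at h1
    have h5 : c ^ 5 = 1 := ((smul_left_injective F hv.1) h1).symm
    have h3 := pow_three hF hc0
    calc c = c ^ 5 * c := by rw [h5, one_mul]
      _ = (c ^ 3) ^ 2 := by ring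
      _ = 1 := by rw [h3, one_pow]
  rw [hc1, one_smul, hY] at hc
  simp only [suMat_mul, ← Matrix.mulVec_mulVec] at hc
  rw [tv_apply hF (h.pt 3).2, tv_apply hF (h.pt 2).2, tv_apply hF (h.pt 1).2, tv_apply hF (h.pt 0).2] at hc
  set b₃ := hh v (e 3) with hb₃
  set b₂ := hh (v + b₃ • e 3) (e 2) with hb₂
  set b₁ := hh (v + b₃ • e 3 + b₂ • e 2) (e 1) with hb₁
  set b₀ := hh (v + b₃ • e 3 + b₂ • e 2 + b₁ • e 1) (e 0) with hb₀
  have h0 : b₀ • e 0 + b₁ • e 1 + b₂ • e 2 + b₃ • e 3 + 0 = 0 := by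
    have : v + (b₀ • e 0 + b₁ • e 1 + b₂ • e 2 + b₃ • e 3) = v + 0 := by
      rw [add_zero]
      refine Eq.trans ?_ hc
      abel
    rw [add_zero]
    exact add_left_cancel this
  obtain ⟨z0, z1, z2, z3⟩ := h.indep hF (fun i => hh_zero_left hF (e i)) h0
  rw [z3] at hb₂
  rw [z3, z2] at hb₁
  rw [z3, z2, z1] at hb₀
  simp only [zero_smul, add_zero] at hb₂ hb₁ hb₀
  intro i
  rw [hh_comm hF]
  fin_cases i
  exacts [hb₀ ▸ z0, hb₁ ▸ z1, hb₂ ▸ z2, hb₃ ▸ z3]

theorem Frame.comb {e : Fin 4 → V} {p q : V} (h : Frame e p q) {c₀ c₁ c₂ c₃ a b : F}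
    (h0 : c₀ • e 0 + c₁ • e 1 + c₂ • e 2 + c₃ • e 3 + (a • p + b • q) = 0) :
    c₀ = 0 ∧ c₁ = 0 ∧ c₂ = 0 ∧ c₃ = 0 ∧ a = 0 ∧ b = 0 := by
  obtain ⟨z0, z1, z2, z3⟩ := h.toChain.indep hF (w := a • p + b • q) (fun i => by
    rw [herm_add_left, herm_smul_left, herm_smul_left, (hh_comm hF).1 (h.ep i), (hh_comm hF).1 (h.eq i),
      mul_zero, mul_zero, add_zero]) h0
  rw [z0, z1, z2, z3] at h0
  simp only [zero_smul, zero_add] at h0
  refine ⟨z0, z1, z2, z3, ?_, ?_⟩
  · have := congrArg (fun v => hh v q) h0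
    simp only [herm_add_left, herm_smul_left, h.qq.2, mul_zero, add_zero, hh_zero_left hF] at this
    exact (mul_eq_zero.1 this).resolve_right h.pq
  · have := congrArg (fun v => hh v p) h0
    simp only [herm_add_left, herm_smul_left, h.pp.2, mul_zero, zero_add, hh_zero_left hF] at this
    exact (mul_eq_zero.1 this).resolve_right fun r => h.pq ((hh_comm hF).1 r)

/-- The six vectors as a family. -/
def six (e : Fin 4 → V) (p q : V) : Fin 6 → V := ![e 0, e 1, e 2, e 3, p, q]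

theorem Frame.linIndep {e : Fin 4 → V} {p q : V} (h : Frame e p q) : LinearIndependent F (six e p q) := by
  rw [Fintype.linearIndependent_iff]
  intro g hg
  simp only [Fin.sum_univ_six, six, Matrix.cons_val] at hg
  obtain ⟨z0, z1, z2, z3, za, zb⟩ := h.comb hF (c₀ := g 0) (c₁ := g 1) (c₂ := g 2) (c₃ := g 3)
    (a := g 4) (b := g 5) (by rw [← hg]; abel)
  intro i
  fin_cases i <;> assumption

/-- A vector orthogonal to a frame is zero. -/
theorem Frame.eq_zero {e : Fin 4 → V} {p q v : V} (h : Frame e p q) (he : ∀ i, hh (e i) v = 0)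
    (hp : hh p v = 0) (hq : hh q v = 0) : v = 0 := by
  have hspan : Submodule.span F (Set.range (six e p q)) = ⊤ :=
    (h.linIndep hF).span_eq_top_of_card_eq_finrank (by rw [Fintype.card_fin, Module.finrank_fin_fun])
  refine uForm_nondeg hF 6 v fun x => ?_
  have hx : x ∈ Submodule.span F (Set.range (six e p q)) := hspan ▸ Submodule.mem_top
  induction hx using Submodule.span_induction with
  | mem y hy =>
    obtain ⟨i, rfl⟩ := hy
    fin_cases i
    exacts [he 0, he 1, he 2, he 3, hp, hq]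
  | zero => exact hh_zero_left hF v
  | add y z _ _ hy hz =>
    show hh (y + z) v = 0
    rw [herm_add_left, show hh y v = 0 from hy, show hh z v = 0 from hz, add_zero]
  | smul c y _ hy =>
    show hh (c • y) v = 0
    rw [herm_smul_left, show hh y v = 0 from hy, mul_zero]

/-- The points orthogonal to the chain of a frame form a line. -/
theorem Frame.line {e : Fin 4 → V} {p q v : V} (h : Frame e p q) (hv : IsPt v)
    (he : ∀ i, hh (e i) v = 0) :
    tv hF v = tv hF p ∨ tv hF v = tv hF q ∨ tv hF v = tv hF p * tv hF q * (tv hF p)⁻¹ := by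
  have hqp : hh q p ≠ 0 := fun r => h.pq ((hh_comm hF).1 r)
  set a := hh v q * (hh p q)⁻¹ with ha
  set b := hh v p * (hh q p)⁻¹ with hb
  have hv' : v = a • p + b • q := by
    rw [← sub_eq_zero]
    refine h.eq_zero hF (fun i => ?_) ?_ ?_ <;> rw [hh_comm hF, sub_eq_add_neg, ← neg_one_smul F (a • p + b • q)]
    · rw [herm_add_left, herm_smul_left, herm_add_left, herm_smul_left, herm_smul_left, (hh_comm hF).1 (he i),
        (hh_comm hF).1 (h.ep i), (hh_comm hF).1 (h.eq i)]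
      ring
    · rw [herm_add_left, herm_smul_left, herm_add_left, herm_smul_left, herm_smul_left, h.pp.2, mul_zero, zero_add,
        hb, inv_mul_cancel_right₀ hqp]
      ring
    · rw [herm_add_left, herm_smul_left, herm_add_left, herm_smul_left, herm_smul_left, h.qq.2, mul_zero, add_zero,
        ha, inv_mul_cancel_right₀ h.pq]
      ring
  clear_value a b
  by_cases ha0 : a = 0
  · have hb0 : b ≠ 0 := fun r => hv.1 (by rw [hv', ha0, r, zero_smul, zero_smul, add_zero])
    exact Or.inr (Or.inl (by rw [hv', ha0, zero_smul, zero_add, tv_smul hF h.qq.2 hb0]))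
  by_cases hb0 : b = 0
  · exact Or.inl (by rw [hv', hb0, zero_smul, add_zero, tv_smul hF h.pp.2 ha0])
  right; right
  set t := a * b⁻¹
  have hv2 : v = b • (t • p + q) := by
    rw [hv', smul_add, smul_smul, show b * t = a by simp only [t]; field_simp]
  have hiso : hh (t • p + q) (t • p + q) = 0 := by
    have := hv.2
    rw [hv2, herm_smul_left, herm_smul_right hF] at this
    simpa [hb0] using this
  have ht0 : t ≠ 0 := mul_ne_zero ha0 (inv_ne_zero hb0)
  have hm : t * hh p q = 1 := by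
    have hmne : t * hh p q ≠ 0 := mul_ne_zero ht0 h.pq
    have e1 := hiso
    rw [herm_add_left, herm_smul_left, hh_add_right hF, hh_add_right hF, herm_smul_right hF,
      herm_smul_right hF, h.pp.2, h.qq.2, herm_swap hF p q] at e1
    have e2 : t * hh p q * (1 + t * hh p q) = 0 := by linear_combination e1
    have e3 := (mul_eq_zero.1 e2).resolve_left hmne
    rw [CharTwo.add_eq_zero] at e3
    exact e3.symm
  have htv : t = hh q p := by
    rw [herm_swap hF p q]
    calc t = t * hh p q ^ 3 := by rw [pow_three hF h.pq, mul_one]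
      _ = (t * hh p q) * hh p q ^ 2 := by ring
      _ = hh p q ^ 2 := by rw [hm, one_mul]
  rw [hv2, tv_smul hF hiso hb0, tv_conj hF _ h.qq.2, tv_apply hF h.pp.2, ← htv, add_comm]

theorem eig_eq {B : Cfsg.SU 6 F 2} {u v : V} {a b : F} (hu : suMat B *ᵥ u = a • u) (hv : suMat B *ᵥ v = b • v)
    (huv : hh u v ≠ 0) : a = b := by
  have e := su_preserves B u v
  rw [hu, hv, herm_smul_left, herm_smul_right hF] at e
  have h1 : a * b ^ 2 = 1 := mul_right_cancel₀ huv (by linear_combination e)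
  have hb : b ≠ 0 := fun r => by rw [r] at h1; simp at h1
  calc a = a * b ^ 3 := by rw [pow_three hF hb, mul_one]
    _ = (a * b ^ 2) * b := by ring
    _ = b := by rw [h1, one_mul]

/-- Only scalars fix the six points of a frame. -/
theorem Frame.scalar {e : Fin 4 → V} {p q : V} (h : Frame e p q) {B : Cfsg.SU 6 F 2}
    (he : ∀ i, tv hF (suMat B *ᵥ e i) = tv hF (e i)) (hp : tv hF (suMat B *ᵥ p) = tv hF p)
    (hq : tv hF (suMat B *ᵥ q) = tv hF q) : B ∈ Subgroup.center (Cfsg.SU 6 F 2) := by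
  have hpt : ∀ {v : V}, IsPt v → IsPt (suMat B *ᵥ v) := fun {v} hv => by
    refine ⟨fun r => hv.1 ?_, by rw [su_preserves, hv.2]⟩
    have := congrArg (fun z => suMat B⁻¹ *ᵥ z) r
    simpa only [Matrix.mulVec_mulVec, ← suMat_mul, inv_mul_cancel, suMat_one, Matrix.one_mulVec,
      Matrix.mulVec_zero] using this
  have heig : ∀ i, ∃ a : F, suMat B *ᵥ e i = a • e i := fun i => tv_eq_smul hF (hpt (h.pt i)) (h.pt i) (he i)
  choose l hl using heig
  obtain ⟨m, hm⟩ := tv_eq_smul hF (hpt h.pp) h.pp hp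
  obtain ⟨m', hm'⟩ := tv_eq_smul hF (hpt h.qq) h.qq hq
  have h01 : l 1 = l 0 := (eig_eq hF (hl 0) (hl 1) (h.adj 0 1 rfl)).symm
  have h12 : l 2 = l 0 := (eig_eq hF (hl 1) (hl 2) (h.adj 1 2 rfl)).symm.trans h01
  have h23 : l 3 = l 0 := (eig_eq hF (hl 2) (hl 3) (h.adj 2 3 rfl)).symm.trans h12
  have hmm : m' = m := (eig_eq hF hm hm' h.pq).symm
  set P : Matrix (Fin 6) (Fin 6) F := (Matrix.of (six e p q))ᵀ with hP
  set d : Fin 6 → F := ![l 0, l 0, l 0, l 0, m, m] with hd
  have hcol : ∀ i, P.col i = six e p q i := fun i => rfl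
  have hBP : suMat B * P = P * Matrix.diagonal d := by
    ext i j
    rw [Matrix.mul_diagonal]
    have key : suMat B *ᵥ six e p q j = d j • six e p q j := by
      fin_cases j
      · exact hl 0
      · show _ = l 0 • e 1; rw [← h01]; exact hl 1
      · show _ = l 0 • e 2; rw [← h12]; exact hl 2
      · show _ = l 0 • e 3; rw [← h23]; exact hl 3
      · exact hm
      · show _ = m • q; rw [← hmm]; exact hm'
    have := congrFun key i
    rw [Pi.smul_apply, smul_eq_mul, mul_comm] at this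
    exact this
  have hdetP : P.det ≠ 0 := by
    rw [← isUnit_iff_ne_zero, ← Matrix.isUnit_iff_isUnit_det, ← Matrix.linearIndependent_cols_iff_isUnit,
      show P.col = six e p q from funext hcol]
    exact h.linIndep hF
  have hdet := congrArg Matrix.det hBP
  rw [Matrix.det_mul, Matrix.det_mul, Matrix.det_diagonal, Fin.prod_univ_six] at hdet
  rw [show (suMat B).det = 1 from B.1.2, one_mul] at hdet
  have hprod : l 0 * l 0 * l 0 * l 0 * m * m = 1 := by
    have := mul_left_cancel₀ hdetP ((mul_one P.det).trans hdet)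
    simpa [hd] using this.symm
  have hl0 : l 0 ≠ 0 := fun r => by rw [r] at hprod; simp at hprod
  have hm0 : m ≠ 0 := fun r => by rw [r] at hprod; simp at hprod
  have h1 : l 0 * m ^ 2 = 1 := by
    linear_combination hprod - l 0 * m ^ 2 * pow_three hF hl0
  have hlm : m = l 0 := by
    calc m = (l 0 * m ^ 2) * m := by rw [h1, one_mul]
      _ = l 0 * m ^ 3 := by ring
      _ = l 0 := by rw [pow_three hF hm0, mul_one]
  rw [mem_center_SU_iff hF (by norm_num)]
  refine ⟨l 0, ?_⟩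
  have hdd : Matrix.diagonal d = l 0 • (1 : Matrix (Fin 6) (Fin 6) F) := by
    rw [Matrix.smul_one_eq_diagonal]
    congr 1
    funext i
    fin_cases i <;> simp [hd, hlm]
  rw [hdd, Matrix.mul_smul, mul_one] at hBP
  have hu : IsUnit P := (Matrix.isUnit_iff_isUnit_det P).2 (isUnit_iff_ne_zero.2 hdetP)
  show suMat B = l 0 • (1 : Matrix (Fin 6) (Fin 6) F)
  exact hu.mul_right_cancel (by rw [hBP, Matrix.smul_mul, one_mul])

/-- A frame. -/
theorem exists_frame_six : ∃ (e : Fin 4 → V) (p q : V), Frame e p q := by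
  obtain ⟨ω, h0, h1, h2⟩ := exists_omega hF
  have e2 : (2 : F) = 0 := CharTwo.two_eq_zero
  have h3 : ω ^ 3 = 1 := pow_three hF h0
  have h1' : (1 : F) + ω ^ 2 ≠ 0 := by
    rw [h2, show (1 : F) + (ω + 1) = ω + 2 by ring, e2, add_zero]; exact h0
  have h1'' : (1 : F) + ω ≠ 0 := fun r => h1 (CharTwo.add_eq_zero.1 r).symm
  refine ⟨![![1, 1, 0, 0, 0, 0], ![1, ω, 1, ω, 0, 0], ![0, 0, 1, 1, 0, 0], ![0, 0, 1, ω, 0, 0]],
    ![0, 0, 0, 0, 1, 1], ![0, 0, 0, 0, 1, ω], ⟨⟨fun i => ⟨?_, ?_⟩, ?_, ?_⟩, ⟨?_, ?_⟩, ⟨?_, ?_⟩, ?_, ?_, ?_⟩⟩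
  · intro r
    fin_cases i <;> simp [funext_iff, Fin.forall_fin_succ] at r
  · fin_cases i <;> simp [Cfsg.hermForm, Fin.sum_univ_six] <;>
      first | linear_combination e2 | linear_combination (1 + ω ^ 3) * e2 | linear_combination e2 + h3
  · intro i j hij
    fin_cases i <;> fin_cases j <;> simp at hij <;> simp [Cfsg.hermForm, Fin.sum_univ_six] <;>
      intro r <;> first | exact h1'' (by linear_combination r) | exact h1' (by linear_combination r)
  · intro i j hij
    fin_cases i <;> fin_cases j <;> simp at hij <;> simp [Cfsg.hermForm, Fin.sum_univ_six] <;>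
      linear_combination e2 + h3
  · intro r; simp [funext_iff, Fin.forall_fin_succ] at r
  · simp [Cfsg.hermForm, Fin.sum_univ_six]; linear_combination e2
  · intro r; simp [funext_iff, Fin.forall_fin_succ] at r
  · simp [Cfsg.hermForm, Fin.sum_univ_six]; linear_combination e2 + h3
  · intro i; fin_cases i <;> simp [Cfsg.hermForm, Fin.sum_univ_six]
  · intro i; fin_cases i <;> simp [Cfsg.hermForm, Fin.sum_univ_six]
  · simp [Cfsg.hermForm, Fin.sum_univ_six]
    intro r
    exact h1' (by linear_combination r)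

end CfsgLib.ThreeT.SixTwo
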