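import Cfsg.Agent.Spor3T.M22Invol
import Cfsg.Agent.Spor3T.M22Order
import Cfsg.Agent.Spor3T.UnitaryPath
import Cfsg.Agent.Spor3T.PermFiveFacts

/-!
Type M(22): two commuting chains of four transpositions and the elements of order five they give.
-/

set_option autoImplicit false
set_option linter.unusedSectionVars false
set_option linter.style.haveILetI false

namespace CfsgLib.ThreeT.Prod

open CfsgLib FiveFacts
open scoped Matrix

variable {G : Type*} [Group G] [Finite G] {D : Set G}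

/-- A chain of four members. -/
structure IsPath (D : Set G) (s : Fin 4 → G) : Prop where
  mem : ∀ i, s i ∈ D
  adj : ∀ i j : Fin 4, i.1 + 1 = j.1 → ¬ Commute (s i) (s j)
  far : ∀ i j : Fin 4, i.1 + 1 < j.1 → Commute (s i) (s j)

/-- The product along a chain. -/
def prodFour (s : Fin 4 → G) : G := s 0 * s 1 * s 2 * s 3

/-- Two chains centralising each other. -/
structure Conf (D : Set G) (s t : Fin 4 → G) : Prop where
  left : IsPath D s
  right : IsPath D t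
  comm : ∀ i j, Commute (s i) (t j)

theorem Conf.symm {s t : Fin 4 → G} (h : Conf D s t) : Conf D t s :=
  ⟨h.right, h.left, fun i j => (h.comm j i).symm⟩

/-- The homomorphism from the symmetric group of a chain. -/
structure PathHom (D : Set G) (s : Fin 4 → G) (φ : Equiv.Perm (Fin 5) →* G) : Prop where
  inj : Function.Injective φ
  gen : ∀ i : Fin 4, φ (CoxeterA.adj 4 i.1) = s i
  cyc : φ cyc5 = prodFour s
  range : φ.range = Subgroup.closure (Set.range s)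
  swap_mem : ∀ x ∈ swaps5, φ x ∈ D

theorem path_hom (hD : TT0 D) {s : Fin 4 → G} (hs : IsPath D s) : ∃ φ, PathHom D s φ := by
  set σ : ℕ → G := fun i => if hi : i < 4 then s ⟨i, hi⟩ else 1 with hσ
  have hval : ∀ i : Fin 4, σ i.1 = s i := fun i => by simp [hσ, i.2]
  have hrel : CoxeterA.Rel σ 4 := by
    refine ⟨fun i hi => ?_, fun i hi => ?_, fun i j hij hj => ?_⟩
    · rw [show σ i = s ⟨i, hi⟩ from hval ⟨i, hi⟩, pow_two]
      exact hD.sq _ (hs.mem _)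
    · rw [show σ i = s ⟨i, by omega⟩ from hval ⟨i, by omega⟩, show σ (i + 1) = s ⟨i + 1, hi⟩ from hval ⟨i + 1, hi⟩]
      rcases hD.pair _ (hs.mem ⟨i, by omega⟩) _ (hs.mem ⟨i + 1, hi⟩) with q | q
      · refine absurd ?_ (hs.adj ⟨i, by omega⟩ ⟨i + 1, hi⟩ rfl)
        rw [pow_two, mul_eq_one_iff_eq_inv, mul_inv_rev, hD.inv (hs.mem _), hD.inv (hs.mem _)] at q
        exact q
      · exact q
    · rw [show σ i = s ⟨i, by omega⟩ from hval ⟨i, by omega⟩, show σ j = s ⟨j, hj⟩ from hval ⟨j, hj⟩]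
      exact hs.far _ _ hij
  obtain ⟨φ, hr, hφ⟩ := CoxeterA.exists_hom (n := 4) σ hrel
  have hgen : ∀ i : Fin 4, φ (CoxeterA.adj 4 i.1) = s i := fun i => (hφ i.1 i.2).trans (hval i)
  refine ⟨φ, ?_, hgen, ?_, ?_, ?_⟩
  · refine CfsgLib.LocalSymThree.hom_perm5_injective φ fun q => ?_
    rw [hφ 0 (by norm_num), hφ 2 (by norm_num), show σ 0 = s 0 from hval 0, show σ 2 = s 2 from hval 2,
      mul_eq_one_iff_eq_inv, hD.inv (hs.mem 2)] at q
    exact hs.adj 2 3 rfl (q ▸ hs.far 0 3 (by decide))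
  · rw [cyc5, map_mul, map_mul, map_mul]
    show _ = s 0 * s 1 * s 2 * s 3
    rw [← hgen 0, ← hgen 1, ← hgen 2, ← hgen 3]
    rfl
  · rw [hr]
    congr 1
    ext x
    constructor
    · rintro ⟨i, hi, rfl⟩; exact ⟨⟨i, hi⟩, (hval ⟨i, hi⟩).symm⟩
    · rintro ⟨i, rfl⟩; exact ⟨i.1, i.2, hval i⟩
  · intro x hx
    obtain ⟨τ, rfl⟩ := swaps5_spec.2 x hx
    rw [map_mul, map_mul, map_inv, show φ (CoxeterA.adj 4 0) = s 0 from hgen 0]
    exact hD.conj _ _ (hs.mem 0)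

theorem IsPath.prod_pow (hD : TT0 D) {s : Fin 4 → G} (hs : IsPath D s) :
    prodFour s ^ 5 = 1 ∧ orderOf (prodFour s) = 5 := by
  obtain ⟨φ, hφ⟩ := path_hom hD hs
  haveI : Fact (5 : ℕ).Prime := ⟨by norm_num⟩
  have h5 : prodFour s ^ 5 = 1 := by rw [← hφ.cyc, ← map_pow, cyc5_order.1, map_one]
  refine ⟨h5, orderOf_eq_prime h5 fun q => cyc5_order.2.1 (hφ.inj ?_)⟩
  rw [hφ.cyc, q, map_one]

theorem IsPath.conj (hD : TT0 D) {s : Fin 4 → G} (hs : IsPath D s) (g : G) :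
    IsPath D fun i => g * s i * g⁻¹ :=
  ⟨fun i => hD.conj g _ (hs.mem i), fun i j hij q => hs.adj i j hij ((commute_conj_iff g _ _).1 q),
    fun i j hij => (commute_conj_iff g _ _).2 (hs.far i j hij)⟩

theorem prodFour_conj (g : G) (s : Fin 4 → G) :
    prodFour (fun i => g * s i * g⁻¹) = g * prodFour s * g⁻¹ := by
  simp only [prodFour]; group

theorem IsPath.exists_not (hD : TT0 D) {s : Fin 4 → G} (hs : IsPath D s) (i : Fin 4) : ∃ j, ¬ Commute (s i) (s j) := by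
  fin_cases i
  exacts [⟨1, hs.adj 0 1 rfl⟩, ⟨0, fun q => hs.adj 0 1 rfl q.symm⟩, ⟨3, hs.adj 2 3 rfl⟩,
    ⟨2, fun q => hs.adj 2 3 rfl q.symm⟩]

theorem commute_prodFour {s : Fin 4 → G} {x : G} (h : ∀ i, Commute (s i) x) : Commute (prodFour s) x :=
  (((h 0).mul_left (h 1)).mul_left (h 2)).mul_left (h 3)

variable (h : Geo22 D) (hprim : Cfsg.IsPrimitiveUnderConj D) (ht : Cfsg.IsOfTypeM22 G D)

include h

/-- The unitary model at a member, packaged. -/
theorem exists_model {d : G} (hd : d ∈ D) {F : Type} [Field F] [Fintype F] [CharP F 2] (hF : Fintype.card F = 4)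
    (hF' : Nat.card F = 2 ^ 2) (e : ↥(hsub D d) ⧸ Subgroup.center ↥(hsub D d) ≃* Cfsg.PSU 6 F 2) :
    ∃ φ : ↥(hsub D d) →* Cfsg.PSU 6 F 2,
      (∀ z ∈ SixTwo.tvSet hF', ∃ x : ↥(hsub D d), (x : G) ∈ nb D d ∧ φ x = z) ∧
      (∀ x : ↥(hsub D d), (x : G) ∈ nb D d → φ x ∈ SixTwo.tvSet hF') ∧
      (∀ x y : ↥(hsub D d), (x : G) ∈ nb D d → (y : G) ∈ nb D d →
        (Commute (φ x) (φ y) ↔ Commute (x : G) (y : G))) ∧
      (∀ x y : ↥(hsub D d), (x : G) ∈ nb D d → (y : G) ∈ nb D d → φ x = φ y → (x : G) = y) ∧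
      ∀ x, φ x = 1 → (x : G) = 1 ∨ (x : G) = d := by
  set H := hsub D d
  set φ : ↥H →* Cfsg.PSU 6 F 2 := e.toMonoidHom.comp (QuotientGroup.mk' (Subgroup.center ↥H)) with hφ
  have hmod := model_image h hd hF e
  refine ⟨φ, fun z hz => ?_, fun x hx => ?_, fun x y hx hy => ⟨fun q => ?_, fun q => ?_⟩, fun x y hx hy q => ?_,
    fun x hx => ?_⟩
  · obtain ⟨y, hy, rfl⟩ := (hmod ▸ hz : z ∈ φ '' {y : ↥H | (y : G) ∈ nb D d})
    exact ⟨y, hy, rfl⟩
  · exact hmod ▸ (⟨x, hx, rfl⟩ : φ x ∈ φ '' {y : ↥H | (y : G) ∈ nb D d})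
  · refine (map_commute_iff h.tt hx hy).1 ?_
    simpa [hφ] using q.map e.symm
  · exact ((map_commute_iff h.tt hx hy).2 q).map e.toMonoidHom
  · by_contra hne
    exact not_central h.tt h.conjD h.twinFree hd (h.ne_one d hd) hx (h.ne_one _ hx.1) fun z hz =>
      central_of_mk_eq h.tt hx hy hne (e.injective q) hz
  · exact cent_nb h hd (commute_hsub x.2).symm fun y hy =>
      commute_of_mem_center ((QuotientGroup.eq_one_iff x).1 (e.injective (hx.trans e.map_one.symm))) hy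

/-- The three local facts at a member carrying the model. -/
theorem local_facts {d : G} (hd : d ∈ D) {F : Type} [Field F] [Fintype F] [CharP F 2] (hF : Fintype.card F = 4)
    (e : ↥(hsub D d) ⧸ Subgroup.center ↥(hsub D d) ≃* Cfsg.PSU 6 F 2) {s : Fin 4 → G} (hs : IsPath D s)
    (hsd : ∀ i, s i ∈ nb D d) {p : G} (hp : p ∈ nb D d) (hsp : ∀ i, Commute (s i) p) :
    (∀ x ∈ nb D d, Commute x (prodFour s) → ∀ i, Commute (s i) x) ∧
      ∀ q ∈ nb D d, ¬ Commute p q → (∀ i, Commute (s i) q) →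
        (∀ x ∈ nb D d, (∀ i, Commute (s i) x) → x = p ∨ x = q ∨ x = p * q * p) ∧
        ∀ g ∈ hsub D d, (∀ i, Commute g (s i)) → Commute g p → Commute g q → g = 1 ∨ g = d := by
  classical
  have hF' : Nat.card F = 2 ^ 2 := by rw [Nat.card_eq_fintype_card, hF]; rfl
  obtain ⟨φ, -, hmem, hcomm, hinj, hker⟩ := exists_model h hd hF hF' e
  have hin : ∀ {x : G}, x ∈ nb D d → x ∈ hsub D d := fun hx => Subgroup.subset_closure hx
  set S : Fin 4 → ↥(hsub D d) := fun i => ⟨s i, hin (hsd i)⟩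
  choose v hv hv' using fun i => hmem (S i) (hsd i)
  obtain ⟨vp, hvp, hvp'⟩ := hmem ⟨p, hin hp⟩ hp
  have hzero : ∀ {x y : G} (hx : x ∈ nb D d) (hy : y ∈ nb D d) {u w : Fin 6 → F}, SixTwo.IsPt u → SixTwo.IsPt w →
      QuotientGroup.mk' _ (SixTwo.tv hF' u) = φ ⟨x, hin hx⟩ →
      QuotientGroup.mk' _ (SixTwo.tv hF' w) = φ ⟨y, hin hy⟩ → (Cfsg.hermForm 6 F 2 u w = 0 ↔ Commute x y) := by
    intro x y hx hy u w hu hw eu ew
    rw [← SixTwo.comm_pi hF' hu hw, eu, ew]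
    exact hcomm ⟨x, hin hx⟩ ⟨y, hin hy⟩ hx hy
  have hchain : SixTwo.Chain v :=
    ⟨hv, fun i j hij q => hs.adj i j hij ((hzero (hsd i) (hsd j) (hv i) (hv j) (hv' i) (hv' j)).1 q),
      fun i j hij => (hzero (hsd i) (hsd j) (hv i) (hv j) (hv' i) (hv' j)).2 (hs.far i j hij)⟩
  have hep : ∀ i, Cfsg.hermForm 6 F 2 (v i) vp = 0 := fun i =>
    (hzero (hsd i) hp (hv i) hvp (hv' i) hvp').2 (hsp i)
  set Y := SixTwo.tv hF' (v 0) * SixTwo.tv hF' (v 1) * SixTwo.tv hF' (v 2) * SixTwo.tv hF' (v 3) with hY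
  have hYπ : QuotientGroup.mk' (Subgroup.center (Cfsg.SU 6 F 2)) Y = φ (S 0 * S 1 * S 2 * S 3) := by
    rw [hY, map_mul, map_mul, map_mul, hv' 0, hv' 1, hv' 2, hv' 3, map_mul, map_mul, map_mul]
  have hyG : ((S 0 * S 1 * S 2 * S 3 : ↥(hsub D d)) : G) = prodFour s := rfl
  have hY5 : Y ^ 5 ∈ Subgroup.center (Cfsg.SU 6 F 2) := by
    refine (QuotientGroup.eq_one_iff _).1 ?_
    show QuotientGroup.mk' _ (Y ^ 5) = 1
    rw [map_pow, hYπ, ← map_pow, show (S 0 * S 1 * S 2 * S 3) ^ 5 = 1 from Subtype.ext (by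
      rw [SubmonoidClass.coe_pow, hyG, (hs.prod_pow h.tt).1]; rfl), map_one]
  have hfixed : ∀ (B : Cfsg.SU 6 F 2) (g : ↥(hsub D d)), QuotientGroup.mk' _ B = φ g →
      ∀ {x : G} (hx : x ∈ nb D d) {u : Fin 6 → F}, SixTwo.IsPt u →
      QuotientGroup.mk' _ (SixTwo.tv hF' u) = φ ⟨x, hin hx⟩ → Commute (g : G) x →
      SixTwo.tv hF' (Unitary.suMat B *ᵥ u) = SixTwo.tv hF' u := by
    intro B g hB x hx u hu eu hgx
    have hu' : Cfsg.hermForm 6 F 2 (Unitary.suMat B *ᵥ u) (Unitary.suMat B *ᵥ u) = 0 := by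
      rw [Unitary.su_preserves, hu.2]
    refine SixTwo.pi_inj hF' (SixTwo.tv_sq hF' hu') (SixTwo.tv_sq hF' hu.2) ?_
    rw [← SixTwo.tv_conj hF' B hu.2, map_mul, map_mul, map_inv, hB, eu, ← map_inv, ← map_mul, ← map_mul]
    congr 1
    exact Subtype.ext (by rw [Subgroup.coe_mul, Subgroup.coe_mul, Subgroup.coe_inv, hgx.eq, mul_inv_cancel_right])
  refine ⟨fun x hx hxy => ?_, fun q hq hpq hsq => ?_⟩
  · obtain ⟨vx, hvx, hvx'⟩ := hmem ⟨x, hin hx⟩ hx
    have hfix := hfixed Y _ hYπ hx hvx hvx' (by rw [hyG]; exact hxy.symm)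
    exact fun i => (hzero (hsd i) hx (hv i) hvx (hv' i) hvx').1
      (hchain.perp_of_fixed hF' hvp.1 hep hvx hY5 hfix i)
  obtain ⟨vq, hvq, hvq'⟩ := hmem ⟨q, hin hq⟩ hq
  have hframe : SixTwo.Frame v vp vq :=
    ⟨hchain, hvp, hvq, hep, fun i => (hzero (hsd i) hq (hv i) hvq (hv' i) hvq').2 (hsq i),
      fun r => hpq ((hzero hp hq hvp hvq hvp' hvq').1 r)⟩
  refine ⟨fun x hx hxs => ?_, fun g hg hgs hgp hgq => ?_⟩
  · obtain ⟨vx, hvx, hvx'⟩ := hmem ⟨x, hin hx⟩ hx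
    rcases hframe.line hF' hvx (fun i => (hzero (hsd i) hx (hv i) hvx (hv' i) hvx').2 (hxs i)) with r | r | r
    · exact Or.inl (hinj ⟨x, hin hx⟩ ⟨p, hin hp⟩ hx hp (by rw [← hvx', ← hvp', r]))
    · exact Or.inr (Or.inl (hinj ⟨x, hin hx⟩ ⟨q, hin hq⟩ hx hq (by rw [← hvx', ← hvq', r])))
    · have hpqp : p * q * p ∈ nb D d := by
        have := nb_conj h.tt hq.1 hq.2.1 hq.2.2 (g := p)
          (show p * d * p⁻¹ = d by rw [hp.2.2.symm.eq, mul_inv_cancel_right])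
        rwa [h.tt.inv hp.1] at this
      refine Or.inr (Or.inr (hinj ⟨x, hin hx⟩ ⟨p * q * p, hin hpqp⟩ hx hpqp ?_))
      rw [← hvx', r, inv_eq_of_mul_eq_one_right (SixTwo.tv_sq hF' hvp.2), map_mul, map_mul, hvp', hvq',
        ← map_mul, ← map_mul]
      rfl
  · obtain ⟨B, hB⟩ := QuotientGroup.mk_surjective (φ ⟨g, hg⟩)
    refine hker ⟨g, hg⟩ ?_
    rw [← hB]
    exact (QuotientGroup.eq_one_iff B).2 (hframe.scalar hF' (fun i => hfixed B _ hB (hsd i) (hv i) (hv' i) (hgs i))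
      (hfixed B _ hB hp hvp hvp' hgp) (hfixed B _ hB hq hvq hvq' hgq))

include hprim ht

/-- The three local facts at any member. -/
theorem local_all {d : G} (hd : d ∈ D) {s : Fin 4 → G} (hs : IsPath D s) (hsd : ∀ i, s i ∈ nb D d) {p : G}
    (hp : p ∈ nb D d) (hsp : ∀ i, Commute (s i) p) :
    (∀ x ∈ nb D d, Commute x (prodFour s) → ∀ i, Commute (s i) x) ∧
      ∀ q ∈ nb D d, ¬ Commute p q → (∀ i, Commute (s i) q) →
        (∀ x ∈ nb D d, (∀ i, Commute (s i) x) → x = p ∨ x = q ∨ x = p * q * p) ∧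
        ∀ g ∈ hsub D d, (∀ i, Commute g (s i)) → Commute g p → Commute g q → g = 1 ∨ g = d := by
  obtain ⟨-, d₀, hd₀, c, -, -, ⟨F, _, _, hF, ⟨e⟩⟩, -⟩ := id ht
  haveI := charP_two hF
  obtain ⟨g, hg⟩ := hprim.1 d hd d₀ hd₀
  have hnb : ∀ {x : G}, x ∈ nb D d → g * x * g⁻¹ ∈ nb D d₀ := fun hx => nb_conj h.tt hx.1 hx.2.1 hx.2.2 hg
  obtain ⟨A, B⟩ := local_facts h hd₀ hF e (hs.conj h.tt g) (fun i => hnb (hsd i)) (hnb hp)
    (fun i => (commute_conj_iff g _ _).2 (hsp i))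
  refine ⟨fun x hx hxy i => ?_, fun q hq hpq hsq => ?_⟩
  · refine (commute_conj_iff g _ _).1 (A _ (hnb hx) ?_ i)
    rw [prodFour_conj]
    exact (commute_conj_iff g _ _).2 hxy
  obtain ⟨B1, B2⟩ := B _ (hnb hq) (fun r => hpq ((commute_conj_iff g _ _).1 r))
    fun i => (commute_conj_iff g _ _).2 (hsq i)
  have inj : Function.Injective fun x => g * x * g⁻¹ := fun x y r => mul_left_cancel (mul_right_cancel r)
  refine ⟨fun x hx hxs => ?_, fun k hk hks hkp hkq => ?_⟩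
  · rcases B1 _ (hnb hx) (fun i => (commute_conj_iff g _ _).2 (hxs i)) with r | r | r
    · exact Or.inl (inj r)
    · exact Or.inr (Or.inl (inj r))
    · exact Or.inr (Or.inr (inj (by dsimp only; rw [r]; group)))
  · have hk' : g * k * g⁻¹ ∈ hsub D d₀ := by
      rw [(centralizer_eq h hd₀).1, Subgroup.mem_centralizer_singleton_iff, ← hg]
      exact ((commute_conj_iff g k d).2 (commute_hsub hk)).eq
    rcases B2 _ hk' (fun i => (commute_conj_iff g _ _).2 (hks i)) ((commute_conj_iff g _ _).2 hkp)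
      ((commute_conj_iff g _ _).2 hkq) with r | r
    · exact Or.inl (conj_eq_one_iff.1 r)
    · exact Or.inr (inj (r.trans hg.symm))

/-- A member with a chain and a non-commuting pair around it. -/
theorem exists_start : ∃ (d : G) (s : Fin 4 → G) (p q : G), d ∈ D ∧ IsPath D s ∧ (∀ i, s i ∈ nb D d) ∧
    p ∈ nb D d ∧ q ∈ nb D d ∧ ¬ Commute p q ∧ (∀ i, Commute (s i) p) ∧ ∀ i, Commute (s i) q := by
  obtain ⟨-, d, hd, c, -, -, ⟨F, _, _, hF, ⟨e⟩⟩, -⟩ := id ht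
  haveI := charP_two hF
  have hF' : Nat.card F = 2 ^ 2 := by rw [Nat.card_eq_fintype_card, hF]; rfl
  obtain ⟨φ, hlift, -, hcomm, -, -⟩ := exists_model h hd hF hF' e
  obtain ⟨v, vp, vq, hfr⟩ := SixTwo.exists_frame_six hF'
  choose S hS hS' using fun i => hlift _ ⟨v i, hfr.pt i, rfl⟩
  obtain ⟨P, hP, hP'⟩ := hlift _ ⟨vp, hfr.pp, rfl⟩
  obtain ⟨Q, hQ, hQ'⟩ := hlift _ ⟨vq, hfr.qq, rfl⟩
  have hz : ∀ {x y : ↥(hsub D d)}, (x : G) ∈ nb D d → (y : G) ∈ nb D d → ∀ {u w}, SixTwo.IsPt u → SixTwo.IsPt w →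
      φ x = QuotientGroup.mk' _ (SixTwo.tv hF' u) → φ y = QuotientGroup.mk' _ (SixTwo.tv hF' w) →
      (Commute (x : G) (y : G) ↔ Cfsg.hermForm 6 F 2 u w = 0) := by
    intro x y hx hy u w hu hw eu ew
    rw [← hcomm x y hx hy, eu, ew]
    exact SixTwo.comm_pi hF' hu hw
  exact ⟨d, fun i => (S i : G), P, Q, hd,
    ⟨fun i => (hS i).1, fun i j hij r => hfr.adj i j hij ((hz (hS i) (hS j) (hfr.pt i) (hfr.pt j) (hS' i) (hS' j)).1 r),
      fun i j hij => (hz (hS i) (hS j) (hfr.pt i) (hfr.pt j) (hS' i) (hS' j)).2 (hfr.far i j hij)⟩,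
    hS, hP, hQ, fun r => hfr.pq ((hz hP hQ hfr.pp hfr.qq hP' hQ').1 r),
    fun i => (hz (hS i) hP (hfr.pt i) hfr.pp (hS' i) hP').2 (hfr.ep i),
    fun i => (hz (hS i) hQ (hfr.pt i) hfr.qq (hS' i) hQ').2 (hfr.eq i)⟩

omit h hprim ht in
/-- Fixed points of an element of order dividing five, modulo five. -/
theorem fixed_count {y : G} (hy : y ^ 5 = 1) {T : Set G} (hT : ∀ x ∈ T, y * x * y⁻¹ ∈ T) :
    {x | x ∈ T ∧ Commute x y}.ncard % 5 = T.ncard % 5 := by
  classical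
  haveI : Fintype ↥T := Fintype.ofFinite _
  haveI : Fact (5 : ℕ).Prime := ⟨by norm_num⟩
  let f : ↥T → ↥T := fun x => ⟨y * x * y⁻¹, hT x x.2⟩
  have hf : Function.Bijective f := Finite.injective_iff_bijective.1 fun a b q =>
    Subtype.ext (mul_left_cancel (mul_right_cancel (congrArg Subtype.val q)))
  let σ : Equiv.Perm ↥T := Equiv.ofBijective f hf
  have hpow : ∀ (n : ℕ) (x : ↥T), ((σ ^ n) x : G) = y ^ n * x * (y ^ n)⁻¹ := by
    intro n
    induction n with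
    | zero => intro x; simp
    | succ n ih =>
      intro x
      rw [pow_succ', Equiv.Perm.mul_apply]
      show y * ((σ ^ n) x : G) * y⁻¹ = _
      rw [ih, pow_succ']; group
  have h5 : σ ^ (5 ^ 1) = 1 := Equiv.ext fun x => Subtype.ext (by rw [hpow]; simp [hy])
  have h1 := Equiv.Perm.card_compl_support_modEq h5
  rw [← Nat.card_eq_fintype_card, Nat.card_coe_set_eq] at h1
  have h2 : {x | x ∈ T ∧ Commute x y} = Subtype.val '' (σ.supportᶜ : Set ↥T) := by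
    ext x
    simp only [Set.mem_image, Set.mem_setOf_eq, Set.mem_compl_iff, Finset.mem_coe, Equiv.Perm.mem_support, not_not]
    constructor
    · rintro ⟨hx, hxy⟩
      exact ⟨⟨x, hx⟩, Subtype.ext (show y * x * y⁻¹ = x by rw [← hxy.eq, mul_inv_cancel_right]), rfl⟩
    · rintro ⟨z, hz, rfl⟩
      refine ⟨z.2, ?_⟩
      have : y * z * y⁻¹ = (z : G) := congrArg Subtype.val hz
      exact (mul_inv_eq_iff_eq_mul.1 this).symm
  rw [h2, Set.ncard_image_of_injective _ Subtype.val_injective, ← Finset.coe_compl, Set.ncard_coe_finset]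
  exact h1

/-- Two chains centralising each other exist. -/
theorem exists_conf : ∃ s t : Fin 4 → G, Conf D s t := by
  classical
  obtain ⟨a, s, p, q, ha, hs, hsa, hp, hq, hpq, hsp, hsq⟩ := exists_start h hprim ht
  set y := prodFour s
  have hy5 := (hs.prod_pow h.tt).1
  have hya : Commute y a := commute_prodFour fun i => (hsa i).2.2.symm
  obtain ⟨A, B⟩ := local_all h hprim ht ha hs hsa hp hsp
  -- a far member fixed by the element
  set T := {x | x ∈ D ∧ ¬ Commute a x}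
  have hT : ∀ x ∈ T, y * x * y⁻¹ ∈ T := fun x hx => ⟨h.tt.conj y x hx.1, fun r => hx.2 ((commute_conj_iff y a x).1
    (by rwa [hya.eq, mul_inv_cancel_right]))⟩
  obtain ⟨x, ⟨hxD, hax⟩, hxy⟩ : {x | x ∈ T ∧ Commute x y}.Nonempty := by
    refine Set.nonempty_of_ncard_ne_zero fun r => ?_
    have := fixed_count hy5 hT
    rw [r, (tri_card h).2 a ha] at this
    norm_num at this
  set L := {z | z ∈ tri D a x ∧ Commute z y}
  have hL : L.ncard % 5 = 1 := by
    rw [fixed_count hy5 (T := tri D a x) fun z hz => ?_, (tri_card h).1 a ha x hxD hax]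
    have := tri_conj h (a := a) (x := x) hya
    rw [hxy.symm.eq, mul_inv_cancel_right] at this
    exact this ▸ ⟨z, hz, rfl⟩
  have hsub : ∀ z ∈ L, z = p ∨ z = q ∨ z = p * q * p := fun z hz =>
    (B q hq hpq hsq).1 z hz.1.1 (A z hz.1.1 hz.2)
  have hq3 : p * q * p ∈ nb D a := by
    have := nb_conj h.tt hq.1 hq.2.1 hq.2.2 (g := p)
      (show p * a * p⁻¹ = a by rw [hp.2.2.symm.eq, mul_inv_cancel_right])
    rwa [h.tt.inv hp.1] at this
  have hs3 : ∀ i, Commute (s i) (p * q * p) := fun i => ((hsp i).mul_right (hsq i)).mul_right (hsp i)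
  have hfix : ∀ z, (∀ i, Commute (s i) z) → Commute z y := fun z hz => (commute_prodFour hz).symm
  have hbr := braid0 h.tt hp.1 hq.1 hpq
  have hp3 : ¬ Commute (p * q * p) p := fun r => hpq (by
    have e := r.eq
    rw [mul_assoc _ p p, h.tt.sq p hp.1, mul_one, ← mul_assoc, ← mul_assoc, h.tt.sq p hp.1, one_mul] at e
    exact e)
  obtain ⟨b1, b2, hb1, hb1s, hb2n, hb2s, hb12, hb1x, hb2x⟩ : ∃ b1 b2, b1 ∈ nb D a ∧ (∀ i, Commute (s i) b1) ∧
      b2 ∈ nb D a ∧ (∀ i, Commute (s i) b2) ∧ ¬ Commute b2 b1 ∧ Commute b1 x ∧ ¬ Commute b2 x := by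
    have hmem : ∀ z, z ∈ nb D a → (∀ i, Commute (s i) z) → Commute z x → z ∈ L := fun z hz hzs hzx =>
      ⟨⟨hz, hzx⟩, hfix z hzs⟩
    by_cases hpx : Commute p x
    · refine ⟨p, q, hp, hsp, hq, hsq, fun r => hpq r.symm, hpx, fun hqx => ?_⟩
      have hall : L = {p, q, p * q * p} := by
        refine Set.Subset.antisymm (fun z hz => hsub z hz) ?_
        rintro z (rfl | rfl | rfl)
        exacts [hmem _ hp hsp hpx, hmem _ hq hsq hqx, hmem _ hq3 hs3 ((hpx.mul_left hqx).mul_left hpx)]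
      have h3 : L.ncard = 3 := Set.ncard_eq_three.2 ⟨p, q, p * q * p, fun r => hpq (r ▸ Commute.refl p),
        fun r => hp3 (by rw [← r]), fun r => hpq (by
          have e : p * q = q * p := by
            conv_rhs => rw [r]
            rw [mul_assoc, h.tt.sq p hp.1, mul_one]
          exact e), hall⟩
      rw [h3] at hL
      norm_num at hL
    · obtain ⟨z, hz⟩ : L.Nonempty := Set.nonempty_of_ncard_ne_zero (by omega)
      rcases hsub z hz with rfl | rfl | rfl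
      · exact absurd hz.1.2 hpx
      · exact ⟨z, p, hq, hsq, hp, hsp, hpq, hz.1.2, hpx⟩
      · exact ⟨_, p, hq3, hs3, hp, hsp, fun r => hp3 r.symm, hz.1.2, hpx⟩
  have hb2 := hb2n
  have hsb : ∀ i, s i ∈ nb D b1 := fun i => ⟨hs.mem i, fun r => by
    obtain ⟨j, hj⟩ := hs.exists_not h.tt i
    exact hj (r ▸ (hb1s j).symm), (hb1s i).symm⟩
  have hab : a ∈ nb D b1 := ⟨ha, fun r => hb1.2.1 r.symm, hb1.2.2.symm⟩
  have hxb : x ∈ nb D b1 := ⟨hxD, fun r => hax (r ▸ hb1.2.2), hb1x⟩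
  have hsx := (local_all h hprim ht hb1.1 hs hsb hab fun i => (hsa i).2.2.symm).1 x hxb hxy
  refine ⟨s, ![a, x, b2, b1], hs, ⟨?_, ?_, ?_⟩, ?_⟩
  · intro i; fin_cases i
    exacts [ha, hxD, hb2.1, hb1.1]
  · intro i j hij
    fin_cases i <;> fin_cases j <;> simp at hij
    exacts [hax, fun r => hb2x r.symm, hb12]
  · intro i j hij
    fin_cases i <;> fin_cases j <;> simp at hij
    exacts [hb2.2.2, hb1.2.2, hb1x.symm]
  · intro i j
    fin_cases j
    exacts [(hsa i).2.2.symm, hsx i, hb2s i, hb1s i]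

end CfsgLib.ThreeT.Prod
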