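import Cfsg.Agent.Spor3T.M22Local
import Cfsg.Agent.Spor3T.ReflQuot
import Cfsg.Agent.Spor3T.TripleSym

/-!
Type M(22): only `⟨a⟩` centralises the neighbours of `a`; the graph parameters `693, 2816, 126, 18`.
-/

set_option autoImplicit false
set_option linter.unusedSectionVars false
set_option linter.style.haveILetI false

namespace CfsgLib.ThreeT.Prod

variable {G : Type*} [Group G] {D : Set G}

/-- Common neighbours of a non-commuting pair. -/
abbrev tri (D : Set G) (a x : G) : Set G := {y : G | y ∈ nb D a ∧ Commute y x}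

/-- All that is needed of type M(22) before counting. -/
structure Geo22 (D : Set G) : Prop extends Setup22 D where
  loc : ∀ a ∈ D, Local D a
  nosol : ∀ N : Subgroup G, N.Normal → Group.IsSolvable N → N = ⊥
  refl : ∃ d ∈ D, ∃ c ∈ D, ¬ Commute d c ∧
    AlmostSimple (↥(Subgroup.closure (tri D d c)) ⧸ Subgroup.center ↥(Subgroup.closure (tri D d c)))

theorem geo22 [Finite G] (hD : Cfsg.IsThreeTranspositionGroup D) (hp : Cfsg.IsPrimitiveUnderConj D)
    (h : Cfsg.IsOfTypeM22 G D) : Geo22 D := by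
  have hS := setup22 hD hp h
  have hloc := local22 hD hp h
  obtain ⟨hZ, d, hd, c, hc, hdc, -, c₃, hc₃, Q, hQn, -, ⟨e⟩⟩ := id h
  have hset : ({y : G | y ∈ D ∧ y ≠ d ∧ Commute d y} ∩ {y : G | y ∈ D ∧ y ≠ c ∧ Commute c y}) = tri D d c := by
    ext y
    exact ⟨fun hy => ⟨hy.1, hy.2.2.2.symm⟩, fun hy => ⟨hy.1, hy.1.1, fun he => hdc (he ▸ hy.1.2.2), hy.2.symm⟩⟩
  have hAS := (almostSimple_refl hQn (by norm_num) hc₃).of_equiv e
  rw [hset] at hAS
  refine { toSetup22 := hS, loc := hloc, nosol := ?_, refl := ⟨d, hd, c, hc, hdc, hAS⟩ }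
  obtain ⟨b, hb⟩ : (nb D d).Nonempty := Set.nonempty_of_ncard_ne_zero (by rw [(hloc d hd).card_nb]; norm_num)
  have hw : ∃ a ∈ D, ∃ b ∈ D, a ≠ b ∧ Commute a b := ⟨d, hd, b, hb.1, fun e => hb.2.1 e.symm, hb.2.2⟩
  have hcores := cores_of_primitive hS.class3 hZ hp hw
  exact solvable_normal_eq_bot hS.class3 hZ hcores.1 hcores.2

variable [Finite G] (h : Geo22 D)

include h

theorem self_mem_hsub {a : G} (ha : a ∈ D) : a ∈ hsub D a := by
  obtain ⟨b, hb⟩ : (nb D a).Nonempty :=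
    Set.nonempty_of_ncard_ne_zero (by rw [(h.loc a ha).card_nb]; norm_num)
  obtain ⟨c, hc⟩ : {y | y ∈ nb D a ∧ y ≠ b ∧ Commute y b}.Nonempty :=
    Set.nonempty_of_ncard_ne_zero (by rw [(h.loc a ha).card_pair b hb]; norm_num)
  obtain ⟨p, q, r, hp, hq, hr, -, -, e, -⟩ :=
    exists_pentad h.toSetup22 ha hb hc.1 (Ne.symm hc.2.1) hc.2.2.symm
  have h5 : b * c * p * q * r ∈ hsub D a := mul_mem (mul_mem (mul_mem (mul_mem (Subgroup.subset_closure hb)
    (Subgroup.subset_closure hc.1)) (Subgroup.subset_closure hp)) (Subgroup.subset_closure hq)) (Subgroup.subset_closure hr)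
  rwa [← e] at h5

theorem closure_commute_le {a : G} (ha : a ∈ D) :
    Subgroup.closure {y : G | y ∈ D ∧ Commute a y} ≤ hsub D a := by
  refine (Subgroup.closure_le _).2 fun y hy => ?_
  by_cases e : y = a
  · rw [e]; exact self_mem_hsub h ha
  · exact Subgroup.subset_closure ⟨hy.1, e, hy.2⟩

theorem far_trans {a c c' : G} (ha : a ∈ D) (hc : c ∈ D) (hc' : c' ∈ D) (hac : ¬ Commute a c)
    (hac' : ¬ Commute a c') : ∃ g ∈ hsub D a, g * c * g⁻¹ = c' := by
  obtain ⟨g, hg, e⟩ := far_transitive h.class3 h.nosol h.conn ha hc hc' hac hac'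
  exact ⟨g, closure_commute_le h ha hg, e⟩

/-- The far members of a neighbour. -/
theorem ncard_far_nb {a b : G} (ha : a ∈ D) (hb : b ∈ nb D a) :
    {x | x ∈ nb D b ∧ ¬ Commute a x}.ncard = 512 := by
  have hb' : a ∈ nb D b := ⟨ha, fun e => hb.2.1 e.symm, hb.2.2.symm⟩
  have h1 := (h.loc b hb.1).card_nb
  have h2 := (h.loc b hb.1).card_pair a hb'
  have hdiff : {x | x ∈ nb D b ∧ ¬ Commute a x} =
      nb D b \ insert a {y | y ∈ nb D b ∧ y ≠ a ∧ Commute y a} := by
    ext x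
    constructor
    · intro hx
      refine ⟨hx.1, fun hmem => ?_⟩
      rcases hmem with e | hmem
      · exact hx.2 (e ▸ Commute.refl a)
      · exact hx.2 hmem.2.2.symm
    · intro hx
      refine ⟨hx.1, fun hc => hx.2 ?_⟩
      by_cases e : x = a
      · exact Or.inl e
      · exact Or.inr ⟨hx.1, e, hc.symm⟩
  rw [hdiff, Set.ncard_sdiff (Set.insert_subset hb' fun y hy => hy.1) (Set.toFinite _),
    Set.ncard_insert_of_notMem (fun h' => h'.2.1 rfl) (Set.toFinite _), h1, h2]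

theorem tri_nonempty {a x : G} (ha : a ∈ D) (hx : x ∈ D) (hax : ¬ Commute a x) : (tri D a x).Nonempty := by
  obtain ⟨b, hb⟩ : (nb D a).Nonempty :=
    Set.nonempty_of_ncard_ne_zero (by rw [(h.loc a ha).card_nb]; norm_num)
  obtain ⟨x₀, hx₀⟩ : {x | x ∈ nb D b ∧ ¬ Commute a x}.Nonempty :=
    Set.nonempty_of_ncard_ne_zero (by rw [ncard_far_nb h ha hb]; norm_num)
  obtain ⟨g, hg, e⟩ := far_trans h ha hx₀.1.1 hx hx₀.2 hax
  refine ⟨g * b * g⁻¹, nb_conj h.tt hb.1 hb.2.1 hb.2.2 ?_, ?_⟩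
  · rw [(commute_hsub hg).eq, mul_inv_cancel_right]
  · rw [← e]; exact (commute_conj_iff g b x₀).2 hx₀.1.2.2

/-- The hyperbolic line of a non-commuting pair. -/
theorem line_eq {a x y : G} (ha : a ∈ D) (hx : x ∈ D) (hy : y ∈ D) (hax : ¬ Commute a x)
    (hay : ¬ Commute a y) (hall : ∀ z ∈ tri D a x, Commute z y) : y = x ∨ y = a * x * a := by
  obtain ⟨b, hb, hbx⟩ := tri_nonempty h ha hx hax
  have hb' : a ∈ nb D b := ⟨ha, fun e => hb.2.1 e.symm, hb.2.2.symm⟩
  have hby := hall b ⟨hb, hbx⟩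
  refine (h.loc b hb.1).line_three a hb' x ⟨hx, fun e => hax (e ▸ hb.2.2), hbx⟩ y
    ⟨hy, fun e => hay (e ▸ hb.2.2), hby⟩ hax hay fun z hz hza hzx => ?_
  exact hall z ⟨⟨hz.1, fun e => hax (e ▸ hzx), hza.symm⟩, hzx⟩

/-- Only `⟨a⟩` centralises all neighbours of `a`. -/
theorem cent_nb {a w : G} (ha : a ∈ D) (haw : Commute a w) (hw : ∀ y ∈ nb D a, Commute y w) :
    w = 1 ∨ w = a := by
  have hfix : ∀ v : G, Commute a v → (∀ y ∈ nb D a, Commute y v) → ∀ x ∈ D, ¬ Commute a x →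
      Commute x v → v = 1 := by
    intro v hav hv x hx hax hxv
    have hall : ∀ y ∈ D, Commute y v := by
      intro y hy
      by_cases hay : Commute a y
      · by_cases e : y = a
        · rw [e]; exact hav
        · exact hv y ⟨hy, e, hay⟩
      · obtain ⟨g, hg, e⟩ := far_trans h ha hx hy hax hay
        have hgv : Commute g v := commute_of_closure hv g hg
        have h2 := (commute_conj_iff g x v).2 hxv
        rwa [e, hgv.eq, mul_inv_cancel_right] at h2
    have hvc : v ∈ Subgroup.center G := Subgroup.mem_center_iff.2 fun g =>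
      (commute_of_closure hall g (h.class3.2.2 ▸ Subgroup.mem_top g)).eq
    rwa [h.center, Subgroup.mem_bot] at hvc
  obtain ⟨b, hb⟩ : (nb D a).Nonempty :=
    Set.nonempty_of_ncard_ne_zero (by rw [(h.loc a ha).card_nb]; norm_num)
  obtain ⟨x, hxb, hax⟩ : {x | x ∈ nb D b ∧ ¬ Commute a x}.Nonempty :=
    Set.nonempty_of_ncard_ne_zero (by rw [ncard_far_nb h ha hb]; norm_num)
  have hfa : w * a * w⁻¹ = a := by rw [haw.symm.eq, mul_inv_cancel_right]
  have hy : w * x * w⁻¹ ∈ D := h.tt.conj w x hxb.1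
  have hay : ¬ Commute a (w * x * w⁻¹) := fun hc => hax (by
    rw [← commute_conj_iff w, hfa]; exact hc)
  rcases line_eq h ha hxb.1 hy hax hay (fun z hz => by
    have := (commute_conj_iff w z x).2 hz.2
    rwa [(hw z hz.1).symm.eq, mul_inv_cancel_right] at this) with e | e
  · exact Or.inl (hfix w haw hw x hxb.1 hax (by
      have := mul_inv_eq_iff_eq_mul.1 e
      exact this.symm))
  · right
    have h1 : a * w = 1 := hfix (a * w) ((Commute.refl a).mul_right haw)
      (fun y hy => hy.2.2.symm.mul_right (hw y hy)) x hxb.1 hax (by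
        show x * (a * w) = a * w * x
        rw [mul_assoc a w x, mul_inv_eq_iff_eq_mul.1 e, ← mul_assoc a (a * x * a) w, mul_assoc (a : G) x a,
          cancel2 h.tt ha, mul_assoc])
    rw [← cancel2 h.tt ha w, h1, mul_one]

/-- The centraliser in `hsub a` of a neighbour. -/
theorem cent_in_hsub {a b g : G} (ha : a ∈ D) (hb : b ∈ nb D a) (hg : g ∈ hsub D a) (hgb : Commute g b) :
    g ∈ Subgroup.closure {y : G | y ∈ D ∧ Commute a y ∧ Commute b y} := by
  obtain ⟨k, hk, hall⟩ := (h.loc a ha).cent b hb g hg hgb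
  have hkm : k ∈ Subgroup.closure {y : G | y ∈ D ∧ Commute a y ∧ Commute b y} :=
    Subgroup.closure_mono (k := {y : G | y ∈ D ∧ Commute a y ∧ Commute b y}) (fun y hy => ⟨hy.1.1, hy.1.2.2, hy.2⟩) hk
  have hka : Commute k a := commute_of_closure (fun y hy => hy.1.2.2.symm) k hk
  rcases cent_nb h ha (hka.symm.inv_right.mul_right (commute_hsub hg).symm) hall with e | e <;>
    rw [inv_mul_eq_iff_eq_mul] at e <;> rw [e]
  · simpa using hkm
  · exact mul_mem hkm (Subgroup.subset_closure ⟨ha, Commute.refl a, hb.2.2.symm⟩)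

theorem tri_conj {a x g : G} (hg : Commute g a) :
    (fun y => g * y * g⁻¹) '' tri D a x = tri D a (g * x * g⁻¹) := by
  have hga : g * a * g⁻¹ = a := by rw [hg.eq, mul_inv_cancel_right]
  ext y
  constructor
  · rintro ⟨z, hz, rfl⟩
    exact ⟨nb_conj h.tt hz.1.1 hz.1.2.1 hz.1.2.2 hga, (commute_conj_iff g z x).2 hz.2⟩
  · intro hy
    refine ⟨g⁻¹ * y * g⁻¹⁻¹, ⟨nb_conj h.tt hy.1.1 hy.1.2.1 hy.1.2.2 ?_, ?_⟩, by group⟩
    · rw [hg.inv_left.eq, mul_inv_cancel_right]
    · rw [← commute_conj_iff g, show g * (g⁻¹ * y * g⁻¹⁻¹) * g⁻¹ = y by group]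
      exact hy.2

theorem tri_inner {a x b : G} (ha : a ∈ D) (hx : x ∈ D) (hax : ¬ Commute a x) (hb : b ∈ tri D a x) :
    {y | y ∈ tri D a x ∧ y ≠ b ∧ Commute y b}.ncard = 45 := by
  have hba : a ∈ nb D b := ⟨ha, fun e => hb.1.2.1 e.symm, hb.1.2.2.symm⟩
  have hbx : x ∈ nb D b := ⟨hx, fun e => hax (e ▸ hb.1.2.2), hb.2⟩
  rw [← (h.loc b hb.1.1).card_line a hba x hbx hax]
  congr 1
  ext y
  exact ⟨fun hy => ⟨⟨hy.1.1.1, hy.2.1, hy.2.2.symm⟩, hy.1.1.2.2.symm, hy.1.2⟩,
    fun hy => ⟨⟨⟨hy.1.1, fun e => hax (e ▸ hy.2.2), hy.2.1.symm⟩, hy.2.2⟩, hy.1.2.1, hy.1.2.2.symm⟩⟩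


theorem tri_inner_two {a x b c : G} (ha : a ∈ D) (hx : x ∈ D) (hax : ¬ Commute a x) (hb : b ∈ tri D a x)
    (hc : c ∈ tri D a x) (hne : c ≠ b) (hcb : Commute c b) :
    {y | y ∈ tri D a x ∧ y ≠ b ∧ y ≠ c ∧ Commute y b ∧ Commute y c}.ncard = 12 := by
  have hba : a ∈ nb D b := ⟨ha, fun e => hb.1.2.1 e.symm, hb.1.2.2.symm⟩
  have hbx : x ∈ nb D b := ⟨hx, fun e => hax (e ▸ hb.1.2.2), hb.2⟩
  rw [← (h.loc b hb.1.1).card_three a hba x hbx c ⟨hc.1.1, hne, hcb.symm⟩ hax hc.1.2.2.symm hc.2]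
  congr 1
  ext y
  exact ⟨fun hy => ⟨⟨hy.1.1.1, hy.2.1, hy.2.2.2.1.symm⟩, hy.2.2.1, hy.1.1.2.2.symm, hy.1.2, hy.2.2.2.2⟩,
    fun hy => ⟨⟨⟨hy.1.1, fun e => hax (e ▸ hy.2.2.2.1), hy.2.2.1.symm⟩, hy.2.2.2.1⟩, hy.1.2.1, hy.2.1,
      hy.1.2.2.symm, hy.2.2.2.2⟩⟩

/-- Every member of `tri` misses 32 neighbours of each neighbour. -/
theorem tri_outer {a x b c : G} (ha : a ∈ D) (hx : x ∈ D) (hax : ¬ Commute a x) (hb : b ∈ tri D a x)
    (hc : c ∈ tri D a x) (hne : c ≠ b) (hcb : Commute c b) :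
    {y | y ∈ tri D a x ∧ y ≠ c ∧ Commute y c ∧ ¬ Commute y b}.ncard = 32 := by
  have h1 := tri_inner h ha hx hax hc
  have h2 := tri_inner_two h ha hx hax hb hc hne hcb
  have e : {y | y ∈ tri D a x ∧ y ≠ c ∧ Commute y c ∧ ¬ Commute y b} =
      {y | y ∈ tri D a x ∧ y ≠ c ∧ Commute y c} \
        insert b {y | y ∈ tri D a x ∧ y ≠ b ∧ y ≠ c ∧ Commute y b ∧ Commute y c} := by
    ext y
    constructor
    · intro hy
      refine ⟨⟨hy.1, hy.2.1, hy.2.2.1⟩, fun hmem => ?_⟩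
      rcases hmem with e | hmem
      · exact hy.2.2.2 (e ▸ Commute.refl b)
      · exact hy.2.2.2 hmem.2.2.2.1
    · intro hy
      refine ⟨hy.1.1, hy.1.2.1, hy.1.2.2, fun hc' => hy.2 ?_⟩
      by_cases e : y = b
      · exact Or.inl e
      · exact Or.inr ⟨hy.1.1, e, hy.1.2.1, hc', hy.1.2.2⟩
  rw [e, Set.ncard_sdiff (Set.insert_subset (t := {y | y ∈ tri D a x ∧ y ≠ c ∧ Commute y c})
      ⟨hb, hne.symm, hcb.symm⟩ fun y hy => ⟨hy.1, hy.2.2.1, hy.2.2.2.2⟩) (Set.toFinite _),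
    Set.ncard_insert_of_notMem (fun h' => h'.2.1 rfl) (Set.toFinite _), h1, h2]

/-- Transitivity inside `tri d c` on the members not commuting with a given one. -/
theorem exists_tri_trans : ∃ d ∈ D, ∃ c ∈ D, ¬ Commute d c ∧ ∀ b ∈ tri D d c, ∀ y ∈ tri D d c, ∀ y' ∈ tri D d c,
    ¬ Commute b y → ¬ Commute b y' → ∃ g : G, Commute g d ∧ g * c * g⁻¹ = c ∧ g * b * g⁻¹ = b ∧
      g * y * g⁻¹ = y' := by
  obtain ⟨d, hd, c, hc, hdc, hAS⟩ := h.refl
  refine ⟨d, hd, c, hc, hdc, ?_⟩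
  set T := tri D d c
  set L := Subgroup.closure T
  have hLd : ∀ g ∈ L, Commute g d := commute_of_closure fun y hy => hy.1.2.2.symm
  have hLc : ∀ g ∈ L, Commute g c := commute_of_closure fun y hy => hy.2
  have hTL : ∀ y ∈ T, y ∈ L := fun y hy => Subgroup.subset_closure hy
  have hLT : ∀ g ∈ L, ∀ y ∈ T, g * y * g⁻¹ ∈ T := fun g hg y hy => by
    have hgc : g * c * g⁻¹ = c := by rw [(hLc g hg).eq, mul_inv_cancel_right]
    have hmem : g * y * g⁻¹ ∈ (fun z => g * z * g⁻¹) '' T := ⟨y, hy, rfl⟩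
    rwa [tri_conj h (hLd g hg), hgc] at hmem
  set π := QuotientGroup.mk' (Subgroup.center ↥L)
  set DQ : Set (↥L ⧸ Subgroup.center ↥L) := π '' {y : ↥L | (y : G) ∈ T}
  -- every member has a non-neighbour
  have hnon : ∀ b ∈ T, ∃ y ∈ T, ¬ Commute y b := by
    intro b hb
    obtain ⟨e, he⟩ : {y | y ∈ T ∧ y ≠ b ∧ Commute y b}.Nonempty :=
      Set.nonempty_of_ncard_ne_zero (by rw [tri_inner h hd hc hdc hb]; norm_num)
    obtain ⟨y, hy⟩ : {y | y ∈ T ∧ y ≠ e ∧ Commute y e ∧ ¬ Commute y b}.Nonempty :=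
      Set.nonempty_of_ncard_ne_zero (by rw [tri_outer h hd hc hdc hb he.1 he.2.1 he.2.2]; norm_num)
    exact ⟨y, hy.1, hy.2.2.2⟩
  have hcz : ∀ z : ↥L, z ∈ Subgroup.center ↥L → ∀ y ∈ T, Commute y (z : G) := fun z hz y hy =>
    congrArg Subtype.val (Subgroup.mem_center_iff.1 hz ⟨y, hTL y hy⟩)
  have hcomm : ∀ {u v : ↥L}, (u : G) ∈ T → (v : G) ∈ T → Commute (π u) (π v) → Commute (u : G) v := by
    intro u v hu hv huv
    by_contra hne
    have hm : (u * v) * (u * v) ∈ Subgroup.center ↥L := by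
      refine (QuotientGroup.eq_one_iff _).1 ?_
      have e2 : ∀ {w : ↥L}, (w : G) ∈ T → π w * π w = 1 := fun {w} hw => by
        rw [← map_mul, show w * w = 1 from Subtype.ext (h.tt.sq _ hw.1.1), map_one]
      show π (u * v * (u * v)) = 1
      rw [map_mul, map_mul, ← pow_two, huv.mul_pow, pow_two, pow_two, e2 hu, e2 hv, one_mul]
    have hc1 := hcz _ hm _ hu
    simp only [Subgroup.coe_mul] at hc1
    have h3 := cube_of_not_commute h.class3.1 hu.1.1 hv.1.1 hne
    have e : (u : G) * v = ((u : G) * v * ((u : G) * v)) * ((u : G) * v * ((u : G) * v)) := by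
      simp only [pow_succ, pow_zero, one_mul] at h3
      rw [← mul_assoc ((u : G) * v * ((u : G) * v)), h3, one_mul]
    have hc2 : Commute (u : G) ((u : G) * v) := by rw [e]; exact hc1.mul_right hc1
    have h2 := (Commute.refl (u : G)).inv_right.mul_right hc2
    rw [inv_mul_cancel_left] at h2
    exact hne h2
  have hinj : ∀ {u v : ↥L}, (u : G) ∈ T → (v : G) ∈ T → π u = π v → (u : G) = v := by
    intro u v hu hv huv
    by_contra hne
    have hcm : Commute (u : G) v := hcomm hu hv (by rw [huv])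
    have hm : u * v ∈ Subgroup.center ↥L := (QuotientGroup.eq_one_iff _).1 (by
      show π (u * v) = 1
      rw [map_mul, huv, ← map_mul, show v * v = 1 from Subtype.ext (h.tt.sq _ hv.1.1), map_one])
    obtain ⟨y, hy, hyu⟩ := hnon u hu
    exact hyu ((commute_mul_iff0 h.tt hu.1.1 hv.1.1 hy.1.1 hcm hne).1 (hcz _ hm y hy).symm).1.symm
  have hconj : ∀ (q : ↥L ⧸ Subgroup.center ↥L), ∀ a ∈ DQ, q * a * q⁻¹ ∈ DQ := by
    rintro q _ ⟨u, hu, rfl⟩
    obtain ⟨g, rfl⟩ := QuotientGroup.mk_surjective q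
    exact ⟨g * u * g⁻¹, hLT g g.2 u hu, by rw [map_mul, map_mul, map_inv]; rfl⟩
  have hgen : Subgroup.closure DQ = ⊤ := by
    rw [show DQ = π '' {y : ↥L | (y : G) ∈ T} from rfl, ← MonoidHom.map_closure,
      show Subgroup.closure {y : ↥L | (y : G) ∈ T} = ⊤ from Subgroup.closure_closure_coe_preimage,
      Subgroup.map_top_of_surjective _ (QuotientGroup.mk'_surjective _)]
  have hset : Cfsg.IsThreeTranspositionSet DQ := by
    refine ⟨?_, ?_⟩
    · rintro _ ⟨u, hu, rfl⟩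
      refine orderOf_eq_prime (by rw [pow_two, ← map_mul, show u * u = 1 from Subtype.ext (h.tt.sq _ hu.1.1), map_one]) fun e => ?_
      obtain ⟨y, hy, hyu⟩ := hnon u hu
      exact hyu (hcz u ((QuotientGroup.eq_one_iff u).1 e) y hy)
    · rintro _ ⟨u, hu, rfl⟩ _ ⟨v, hv, rfl⟩
      rw [← map_mul, ← map_pow, ← map_pow]
      exact (h.tt.pair _ hu.1.1 _ hv.1.1).imp
        (fun e => by rw [show (u * v) ^ 2 = 1 from Subtype.ext (by simpa using e), map_one])
        (fun e => by rw [show (u * v) ^ 3 = 1 from Subtype.ext (by simpa using e), map_one])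
  have hone : ∀ a ∈ DQ, ∀ b ∈ DQ, IsConj a b := by
    intro a ha b hb
    by_contra hne
    set C₁ := {x | x ∈ DQ ∧ IsConj a x}
    set C₂ := {x | x ∈ DQ ∧ ¬ IsConj a x}
    have hn : ∀ C : Set (↥L ⧸ Subgroup.center ↥L), (∀ q, ∀ u ∈ C, q * u * q⁻¹ ∈ C) →
        (Subgroup.closure C).Normal := fun C hC => ⟨fun u hu q => by
      induction hu using Subgroup.closure_induction with
      | mem u hu => exact Subgroup.subset_closure (hC q u hu)
      | one => simp
      | mul u v _ _ hu hv => simpa [mul_assoc] using mul_mem hu hv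
      | inv u _ hu => simpa [mul_assoc] using inv_mem hu⟩
    have hC1 : ∀ q, ∀ u ∈ C₁, q * u * q⁻¹ ∈ C₁ := fun q u hu =>
      ⟨hconj q u hu.1, hu.2.trans (isConj_iff.2 ⟨q, rfl⟩)⟩
    have hC2 : ∀ q, ∀ u ∈ C₂, q * u * q⁻¹ ∈ C₂ := fun q u hu =>
      ⟨hconj q u hu.1, fun e => hu.2 (e.trans (isConj_iff.2 ⟨q, rfl⟩).symm)⟩
    have hc : ⁅Subgroup.closure C₁, Subgroup.closure C₂⁆ = ⊥ := by
      refine Subgroup.commutator_eq_bot_iff_le_centralizer.2 ((Subgroup.closure_le _).2 fun u hu => ?_)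
      rw [SetLike.mem_coe, Subgroup.centralizer_closure, Subgroup.mem_centralizer_iff]
      intro v hv
      by_contra hne'
      have := braid_eq_conj hset hu.1 hv.1 (fun e => hne' e.eq.symm)
      exact hv.2 (hu.2.trans (isConj_iff.2 ⟨u * v, this⟩))
    have hpos : ∀ u ∈ DQ, u ≠ 1 := fun u hu e => by simpa [e] using hset.1 u hu
    rcases hAS.indec _ _ (hn C₁ hC1) (hn C₂ hC2) hc with e | e
    · exact hpos a ha (Subgroup.mem_bot.1 (e ▸ Subgroup.subset_closure ⟨ha, IsConj.refl a⟩))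
    · exact hpos b hb (Subgroup.mem_bot.1 (e ▸ Subgroup.subset_closure ⟨hb, hne⟩))
  intro b hb y hy y' hy' hby hby'
  set B : ↥L := ⟨b, hTL b hb⟩
  set Y : ↥L := ⟨y, hTL y hy⟩
  set Y' : ↥L := ⟨y', hTL y' hy'⟩
  have hBQ : π B ∈ DQ := ⟨B, hb, rfl⟩
  have hcl : Cfsg.IsThreeTranspositionClass DQ := by
    refine ⟨hset, ⟨π B, hBQ, Set.ext fun x => ⟨fun hx => hone _ hBQ x hx, fun hx => ?_⟩⟩, hgen⟩
    obtain ⟨q, rfl⟩ := isConj_iff.1 hx
    exact hconj q _ hBQ
  obtain ⟨q, hq, hqy⟩ := (rank_three_of_connected hcl hAS.nosol (comm_connected hcl hAS.nosol hAS.perfect)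
    ⟨⟨π B, hBQ⟩, ⟨π Y, Y, hy, rfl⟩, fun e => hby (by
      rw [show b = y from hinj (u := B) (v := Y) hb hy (congrArg Subtype.val e)])⟩ hBQ).2.2.2
    _ ⟨Y, hy, rfl⟩ _ ⟨Y', hy', rfl⟩ (fun e => hby (hcomm (u := B) (v := Y) hb hy e))
    (fun e => hby' (hcomm (u := B) (v := Y') hb hy' e))
  obtain ⟨g, rfl⟩ := QuotientGroup.mk_surjective q
  refine ⟨g, hLd g g.2, by rw [(hLc g g.2).eq, mul_inv_cancel_right],
    hinj (u := g * B * g⁻¹) (v := B) (hLT g g.2 b hb) hb ?_,
    hinj (u := g * Y * g⁻¹) (v := Y') (hLT g g.2 y hy) hy' ?_⟩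
  · rw [map_mul, map_mul, map_inv]
    show (g : ↥L ⧸ Subgroup.center ↥L) * π B * (g : ↥L ⧸ Subgroup.center ↥L)⁻¹ = π B
    rw [hq.eq, mul_inv_cancel_right]
  · rw [map_mul, map_mul, map_inv]; exact hqy

omit h in
theorem v_arith : ∀ v < 694, 46 < v → 354816 % v = 0 → 1440 % (v - 46) = 0 → 1440 / (v - 46) ≤ 45 →
    v = 126 := by
  decide +kernel

/-- The counts. -/
theorem tri_card : (∀ a ∈ D, ∀ x ∈ D, ¬ Commute a x → (tri D a x).ncard = 126) ∧
    ∀ a ∈ D, {x | x ∈ D ∧ ¬ Commute a x}.ncard = 2816 := by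
  classical
  haveI := Fintype.ofFinite G
  obtain ⟨d, hd, c, hc, hdc, htr⟩ := exists_tri_trans h
  set v := (tri D d c).ncard with hv
  -- the same at every member not commuting with `d`
  have hconst : ∀ x ∈ D, ¬ Commute d x → (tri D d x).ncard = v := by
    intro x hx hdx
    obtain ⟨g, hg, rfl⟩ := far_trans h hd hc hx hdc hdx
    rw [← tri_conj h (commute_hsub hg), Set.ncard_image_of_injective _ (fun p q e => mul_left_cancel (mul_right_cancel e))]
  set Nb := (nb D d).toFinset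
  set Fr := {x | x ∈ D ∧ ¬ Commute d x}.toFinset
  have hdc2 : ∑ b ∈ Nb, (Fr.filter fun x => Commute b x).card =
      ∑ x ∈ Fr, (Nb.filter fun b => Commute b x).card :=
    Finset.sum_card_bipartiteAbove_eq_sum_card_bipartiteBelow (fun b x => Commute b x)
  have hL : ∀ b ∈ Nb, (Fr.filter fun x => Commute b x).card = 512 := by
    intro b hb
    rw [Set.mem_toFinset] at hb
    rw [← ncard_far_nb h hd hb, Set.ncard_eq_toFinset_card']
    congr 1
    ext x
    simp only [Fr, Finset.mem_filter, Set.mem_toFinset, Set.mem_ofPred_eq]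
    exact ⟨fun hx => ⟨⟨hx.1.1, fun e => hx.1.2 (e ▸ hb.2.2), hx.2⟩, hx.1.2⟩, fun hx => ⟨⟨hx.1.1, hx.2⟩, hx.1.2.2⟩⟩
  have hR : ∀ x ∈ Fr, (Nb.filter fun b => Commute b x).card = v := by
    intro x hx
    simp only [Fr, Set.mem_toFinset, Set.mem_ofPred_eq] at hx
    rw [← hconst x hx.1 hx.2, Set.ncard_eq_toFinset_card']
    congr 1
    ext b
    simp [Nb]
  have hNb : Nb.card = 693 := by rw [← Set.ncard_eq_toFinset_card', (h.loc d hd).card_nb]
  have hprod : 354816 = v * Fr.card := by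
    rw [Finset.sum_congr rfl hL, Finset.sum_congr rfl hR, Finset.sum_const, Finset.sum_const, hNb,
      smul_eq_mul, smul_eq_mul] at hdc2
    linarith
  -- the second count
  obtain ⟨b, hb⟩ := tri_nonempty h hd hc hdc
  set T := (tri D d c).toFinset
  set Ad := T.filter fun y => y ≠ b ∧ Commute y b
  set Fb := T.filter fun y => ¬ Commute y b
  have hAd : Ad.card = 45 := by
    rw [← tri_inner h hd hc hdc hb, Set.ncard_eq_toFinset_card']
    congr 1; ext y; simp only [Ad, T, Finset.mem_filter, Set.mem_toFinset, Set.mem_ofPred_eq]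
  have hsplit : v = 46 + Fb.card := by
    have h1 : v = T.card := Set.ncard_eq_toFinset_card' _
    have h2 : T.filter (fun y => Commute y b) = insert b Ad := by
      ext y
      simp only [Ad, Finset.mem_filter, Finset.mem_insert]
      constructor
      · intro hy
        by_cases e : y = b
        · exact Or.inl e
        · exact Or.inr ⟨hy.1, e, hy.2⟩
      · rintro (rfl | hy)
        · exact ⟨Set.mem_toFinset.2 hb, Commute.refl _⟩
        · exact ⟨hy.1, hy.2.2⟩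
    have h3 : (T.filter fun y => Commute y b).card + Fb.card = T.card :=
      Finset.card_filter_add_card_filter_not _
    rw [h2, Finset.card_insert_of_notMem (by simp [Ad]), hAd] at h3
    omega
  have hdc3 : ∑ e ∈ Ad, (Fb.filter fun y => Commute y e).card =
      ∑ y ∈ Fb, (Ad.filter fun e => Commute y e).card :=
    Finset.sum_card_bipartiteAbove_eq_sum_card_bipartiteBelow (fun e y => Commute y e)
  have hL3 : ∀ e ∈ Ad, (Fb.filter fun y => Commute y e).card = 32 := by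
    intro e he
    simp only [Ad, T, Finset.mem_filter, Set.mem_toFinset] at he
    rw [← tri_outer h hd hc hdc hb he.1 he.2.1 he.2.2, Set.ncard_eq_toFinset_card']
    congr 1
    ext y
    simp only [Fb, T, Finset.mem_filter, Set.mem_toFinset, Set.mem_ofPred_eq]
    exact ⟨fun hy => ⟨hy.1.1, fun e' => hy.1.2 (e' ▸ he.2.2), hy.2, hy.1.2⟩, fun hy => ⟨⟨hy.1, hy.2.2.2⟩, hy.2.2.1⟩⟩
  obtain ⟨y₀, hy₀⟩ : Fb.Nonempty := by
    obtain ⟨e, he⟩ : Ad.Nonempty := Finset.card_pos.1 (by omega)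
    exact (Finset.card_pos.1 (by rw [hL3 e he]; norm_num)).mono (Finset.filter_subset _ _)
  set μ := (Ad.filter fun e => Commute y₀ e).card
  have hR3 : ∀ y ∈ Fb, (Ad.filter fun e => Commute y e).card = μ := by
    intro y hy
    simp only [Fb, T, Finset.mem_filter, Set.mem_toFinset] at hy hy₀
    obtain ⟨g, hgd, hgc, hgb, hgy⟩ := htr b hb y₀ hy₀.1 y hy.1 (fun e => hy₀.2 e.symm) (fun e => hy.2 e.symm)
    symm
    refine Finset.card_bij (fun e _ => g * e * g⁻¹) ?_
      (fun e₁ _ e₂ _ e => mul_left_cancel (mul_right_cancel e)) ?_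
    · intro e he
      simp only [Ad, T, Finset.mem_filter, Set.mem_toFinset] at he ⊢
      have hm : g * e * g⁻¹ ∈ (fun z => g * z * g⁻¹) '' tri D d c := ⟨e, he.1.1, rfl⟩
      rw [tri_conj h hgd, hgc] at hm
      refine ⟨⟨hm, fun e' => he.1.2.1 ?_, ?_⟩, ?_⟩
      · exact mul_left_cancel (mul_right_cancel (e'.trans hgb.symm))
      · have := (commute_conj_iff g e b).2 he.1.2.2; rwa [hgb] at this
      · have := (commute_conj_iff g y₀ e).2 he.2; rwa [hgy] at this
    · intro e he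
      simp only [Ad, T, Finset.mem_filter, Set.mem_toFinset] at he ⊢
      have hm : e ∈ (fun z => g * z * g⁻¹) '' tri D d c := by rw [tri_conj h hgd, hgc]; exact he.1.1
      obtain ⟨z, hz, rfl⟩ := hm
      refine ⟨z, ⟨⟨hz, fun e' => he.1.2.1 (by rw [e']; exact hgb), ?_⟩, ?_⟩, rfl⟩
      · have := he.1.2.2; rw [← hgb] at this; exact (commute_conj_iff g z b).1 this
      · have := he.2; rw [← hgy] at this; exact (commute_conj_iff g y₀ z).1 this
  have hprod3 : 1440 = μ * Fb.card := by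
    rw [Finset.sum_congr rfl hL3, Finset.sum_congr rfl hR3, Finset.sum_const, Finset.sum_const, hAd,
      smul_eq_mul, smul_eq_mul] at hdc3
    linarith
  have hμ : μ ≤ 45 := hAd ▸ Finset.card_filter_le _ _
  have hFpos : 0 < Fb.card := Finset.card_pos.2 ⟨y₀, hy₀⟩
  have hle : v < 694 := by
    have : (tri D d c).ncard ≤ (nb D d).ncard := Set.ncard_le_ncard (fun y hy => hy.1) (Set.toFinite _)
    rw [(h.loc d hd).card_nb] at this
    omega
  have hv126 : v = 126 := by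
    refine v_arith v hle (by omega) (by rw [hprod]; exact Nat.mul_mod_right _ _) ?_ ?_
    · rw [hprod3, show v - 46 = Fb.card by omega]; exact Nat.mul_mod_left _ _
    · rw [hprod3, show v - 46 = Fb.card by omega, Nat.mul_div_cancel _ hFpos]; exact hμ
  have hN : Fr.card = 2816 := by rw [hv126] at hprod; omega
  have hstep : ∀ a ∈ D, ∀ g : G, g * d * g⁻¹ = a →
      (∀ x ∈ D, ¬ Commute a x → (tri D a x).ncard = 126) ∧ {x | x ∈ D ∧ ¬ Commute a x}.ncard = 2816 := by
    intro a ha g hga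
    subst hga
    refine ⟨fun x hx hax => ?_, ?_⟩
    · set x' := g⁻¹ * x * g⁻¹⁻¹
      have hgx : g * x' * g⁻¹ = x := by simp only [x']; group
      have hdx : ¬ Commute d x' := fun e => hax (by rw [← hgx]; exact (commute_conj_iff g d x').2 e)
      rw [← hv126, ← hconst x' (h.tt.conj _ x hx) hdx, ← Set.ncard_image_of_injective (tri D d x') (MulAut.conj g).injective]
      congr 1
      ext y
      obtain ⟨y, rfl⟩ := (MulAut.conj g).surjective y
      rw [(MulAut.conj g).injective.mem_set_image]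
      show MulAut.conj g y ∈ nb D (MulAut.conj g d) ∧ Commute (MulAut.conj g y) x ↔ _
      rw [mem_nb_conj h.tt, ← hgx]
      exact and_congr Iff.rfl (commute_conj_iff g y x')
    · rw [← hN, ← Set.ncard_eq_toFinset_card', ← Set.ncard_image_of_injective {x | x ∈ D ∧ ¬ Commute d x}
        (MulAut.conj g).injective]
      congr 1
      ext y
      obtain ⟨y, rfl⟩ := (MulAut.conj g).surjective y
      rw [(MulAut.conj g).injective.mem_set_image]
      refine and_congr ⟨fun e => ?_, fun e => h.tt.conj g y e⟩ (not_congr (commute_conj_iff g d y))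
      simpa [mul_assoc] using h.tt.conj g⁻¹ _ e
  have hconjd : ∀ a ∈ D, ∃ g : G, g * d * g⁻¹ = a := fun a ha =>
    h.conjD d hd a ha (h.ne_one d hd) (h.ne_one a ha)
  exact ⟨fun a ha => (hstep a ha _ (hconjd a ha).choose_spec).1,
    fun a ha => (hstep a ha _ (hconjd a ha).choose_spec).2⟩

/-- The number of transpositions. -/
theorem ncard_D {d : G} (hd : d ∈ D) : D.ncard = 3510 := by
  have h1 := (h.loc d hd).card_nb
  have h2 := (tri_card h).2 d hd
  have e : D = insert d (nb D d ∪ {x | x ∈ D ∧ ¬ Commute d x}) := by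
    ext x
    constructor
    · intro hx
      by_cases e : x = d
      · exact Or.inl e
      by_cases hc : Commute d x
      · exact Or.inr (Or.inl ⟨hx, e, hc⟩)
      · exact Or.inr (Or.inr ⟨hx, hc⟩)
    · rintro (rfl | hx | hx)
      exacts [hd, hx.1, hx.1]
  rw [e, Set.ncard_insert_of_notMem (by
      rintro (hx | hx)
      exacts [hx.2.1 rfl, hx.2 (Commute.refl d)]) (Set.toFinite _),
    Set.ncard_union_eq (Set.disjoint_left.2 fun x hx hx' => hx'.2 hx.2.2) (Set.toFinite _) (Set.toFinite _),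
    h1, h2]

end CfsgLib.ThreeT.Prod
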