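import Cfsg.Agent.Spor3T.UnitaryPath

/-!
The stabiliser of a point of `PSU₆(2)`: translations, an embedded `SU₄(2)` and one diagonal element.
-/

set_option autoImplicit false
set_option linter.unusedSectionVars false
set_option linter.style.haveILetI false

namespace CfsgLib.ThreeT.SixTwo

open Matrix CfsgLib.Unitary CfsgLib.ThreeT.Prod

variable {F : Type} [Field F] [Finite F] [CharP F 2] (hF : Nat.card F = 2 ^ 2)

local notation "V" => Fin 6 → F
local notation "hh" => Cfsg.hermForm 6 F 2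
local notation "π" => QuotientGroup.mk' (Subgroup.center (Cfsg.SU 6 F 2))

/-- The last hyperbolic pair: first point. -/
def baseP : V := ![0, 0, 0, 0, 1, 1]

/-- The last hyperbolic pair: second point. -/
def baseQ (ω : F) : V := ![0, 0, 0, 0, 1, ω]

/-- A point orthogonal to the pair. -/
def baseX : V := ![1, 1, 0, 0, 0, 0]

include hF

theorem iso_shift {u p : V} (hu : hh u u = 0) (hp : hh p p = 0) (hup : hh u p = 0) (t : F) :
    hh (u + t • p) (u + t • p) = 0 := by
  rw [herm_add_left, hh_add_right hF, hh_add_right hF, herm_smul_left, herm_smul_left, herm_smul_right hF,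
    herm_smul_right hF, hu, hp, hup, (hh_comm hF).1 hup]
  ring

/-- The product of two transvections on the line through a point and a perpendicular point. -/
theorem pair_apply {u p : V} (hu : hh u u = 0) (hp : hh p p = 0) (hup : hh u p = 0) (t : F) (v : V) :
    suMat (tv hF (u + t • p) * tv hF u) *ᵥ v =
      v + (t ^ 2 * hh v p) • u + (t * (hh v u + t ^ 2 * hh v p)) • p := by
  have hu' := iso_shift hF hu hp hup t
  have e : hh (v + hh v u • u) (u + t • p) = hh v u + t ^ 2 * hh v p := by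
    rw [herm_add_left, herm_smul_left, hh_add_right hF, hh_add_right hF, herm_smul_right hF, herm_smul_right hF,
      hu, hup]
    ring
  rw [suMat_mul, ← Matrix.mulVec_mulVec, tv_apply hF hu, tv_apply hF hu', e]
  have h2 : hh v u + hh v u = 0 := CharTwo.add_self_eq_zero _
  calc v + hh v u • u + (hh v u + t ^ 2 * hh v p) • (u + t • p)
      = v + ((hh v u + hh v u) + t ^ 2 * hh v p) • u + (t * (hh v u + t ^ 2 * hh v p)) • p := by module
    _ = _ := by rw [h2, zero_add]

/-- The isotropic vectors on a line through a point off its polar. -/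
theorem line_pair {p q v : V} {δ : F} (hp : hh p p = 0) (hq : hh q q = 0) (hqp : hh q p ≠ 0)
    (hv : v = q + δ • p) (hvv : hh v v = 0) :
    tv hF v = tv hF q ∨ tv hF v = tv hF p * tv hF q * (tv hF p)⁻¹ := by
  by_cases hd : δ = 0
  · left; rw [hv, hd, zero_smul, add_zero]
  right
  have hpq : hh p q ≠ 0 := fun r => hqp ((hh_comm hF).1 r)
  have e : δ * hh p q * (1 + δ * hh p q) = 0 := by
    have e1 := hvv
    rw [hv, herm_add_left, hh_add_right hF, hh_add_right hF, herm_smul_left, herm_smul_left,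
      herm_smul_right hF, herm_smul_right hF, hp, hq, herm_swap hF p q] at e1
    linear_combination e1
  have hm : δ * hh p q = 1 := (CharTwo.add_eq_zero.1
    ((mul_eq_zero.1 e).resolve_left (mul_ne_zero hd hpq))).symm
  have hdv : δ = hh q p := by
    rw [herm_swap hF p q]
    calc δ = δ * hh p q ^ 3 := by rw [pow_three hF hpq, mul_one]
      _ = (δ * hh p q) * hh p q ^ 2 := by ring
      _ = hh p q ^ 2 := by rw [hm, one_mul]
  rw [hv, hdv, tv_conj hF _ hq, tv_apply hF hp]

/-- A vector with the perpendicularity pattern of the first point of a frame. -/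
theorem Frame.first {e : Fin 4 → V} {p q v : V} (h : Frame e p q) (hp : hh v p = 0) (h0 : hh v (e 0) = 0)
    (h2 : hh v (e 2) = 0) (h3 : hh v (e 3) = 0) : ∃ a b : F, v = a • e 0 + b • p := by
  obtain ⟨⟨a01, a10⟩, -, -, ⟨b02, -⟩, ⟨b03, -⟩, -⟩ := h.toChain.vals hF
  set a := hh v (e 1) * (hh (e 0) (e 1))⁻¹ with ha
  set b := hh v q * (hh p q)⁻¹ with hb
  refine ⟨a, b, ?_⟩
  have hep : ∀ i, hh p (e i) = 0 := fun i => (hh_comm hF).1 (h.ep i)
  have hs : ∀ z, hh (v + (-1 : F) • (a • e 0 + b • p)) z = hh v z + (-1) * (a * hh (e 0) z + b * hh p z) := fun z => by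
    rw [herm_add_left, herm_smul_left, herm_add_left, herm_smul_left, herm_smul_left]
  refine sub_eq_zero.1 ?_
  rw [sub_eq_add_neg, ← neg_one_smul F (a • e 0 + b • p)]
  refine h.eq_zero hF (fun i => ?_) ?_ ?_ <;> rw [hh_comm hF, hs]
  · rw [hep i]
    fin_cases i
    · show hh v (e 0) + -1 * (a * hh (e 0) (e 0) + b * 0) = 0
      rw [h0, (h.pt 0).2]; ring
    · show hh v (e 1) + -1 * (a * hh (e 0) (e 1) + b * 0) = 0
      rw [ha, inv_mul_cancel_right₀ a01]; ring
    · show hh v (e 2) + -1 * (a * hh (e 0) (e 2) + b * 0) = 0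
      rw [h2, b02]; ring
    · show hh v (e 3) + -1 * (a * hh (e 0) (e 3) + b * 0) = 0
      rw [h3, b03]; ring
  · rw [hp, h.ep 0, h.pp.2]; ring
  · rw [h.eq 0, hb, inv_mul_cancel_right₀ h.pq]; ring

/-- A frame around the last hyperbolic pair. -/
theorem exists_frame_base : ∃ (ω : F) (e : Fin 4 → V), ω ≠ 0 ∧ ω ≠ 1 ∧
    Frame e (baseP : V) (baseQ ω) ∧ e 0 = baseX := by
  obtain ⟨ω, h0, h1, h2⟩ := exists_omega hF
  have e2 : (2 : F) = 0 := CharTwo.two_eq_zero
  have h3 : ω ^ 3 = 1 := pow_three hF h0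
  have h1' : (1 : F) + ω ^ 2 ≠ 0 := by
    rw [h2, show (1 : F) + (ω + 1) = ω + 2 by ring, e2, add_zero]; exact h0
  have h1'' : (1 : F) + ω ≠ 0 := fun r => h1 (CharTwo.add_eq_zero.1 r).symm
  refine ⟨ω, ![![1, 1, 0, 0, 0, 0], ![1, ω, 1, ω, 0, 0], ![0, 0, 1, 1, 0, 0], ![0, 0, 1, ω, 0, 0]],
    h0, h1, ⟨⟨fun i => ⟨?_, ?_⟩, ?_, ?_⟩, ⟨?_, ?_⟩, ⟨?_, ?_⟩, ?_, ?_, ?_⟩, rfl⟩
  · intro r
    fin_cases i <;> simp [funext_iff, Fin.forall_fin_succ] at r
  · fin_cases i <;> simp [Cfsg.hermForm, Fin.sum_univ_six] <;>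
      first | linear_combination e2 | linear_combination (1 + ω ^ 3) * e2 | linear_combination e2 + h3
  · intro i j hij
    fin_cases i <;> fin_cases j <;> simp at hij <;> simp [Cfsg.hermForm, Fin.sum_univ_six] <;>
      intro r <;> first | exact h1'' (by linear_combination r) | exact h1' (by linear_combination r)
  · intro i j hij
    fin_cases i <;> fin_cases j <;> simp at hij <;> simp [Cfsg.hermForm, Fin.sum_univ_six] <;>
      linear_combination e2 + h3
  · intro r; simp [baseP, funext_iff, Fin.forall_fin_succ] at r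
  · simp [baseP, Cfsg.hermForm, Fin.sum_univ_six]; linear_combination e2
  · intro r; simp [baseQ, funext_iff, Fin.forall_fin_succ] at r
  · simp [baseQ, Cfsg.hermForm, Fin.sum_univ_six]; linear_combination e2 + h3
  · intro i; fin_cases i <;> simp [baseP, Cfsg.hermForm, Fin.sum_univ_six]
  · intro i; fin_cases i <;> simp [baseQ, Cfsg.hermForm, Fin.sum_univ_six]
  · simp [baseP, baseQ, Cfsg.hermForm, Fin.sum_univ_six]
    intro r
    exact h1' (by linear_combination r)

/-- An element of order three with a swapper inverting it. -/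
theorem exists_diag {ω : F} (h0 : ω ≠ 0) (h1 : ω ≠ 1) :
    ∃ A B : Cfsg.SU 6 F 2, A ^ 3 = 1 ∧ A ∉ Subgroup.center (Cfsg.SU 6 F 2) ∧
      suMat A *ᵥ (baseP : V) = baseP ∧ suMat A *ᵥ (baseX : V) = ω • baseX ∧
      suMat B *ᵥ (baseP : V) = baseX ∧ suMat B *ᵥ (baseX : V) = baseP ∧
      B * A * B⁻¹ * A ∈ Subgroup.center (Cfsg.SU 6 F 2) := by
  have h3 : ω ^ 3 = 1 := pow_three hF h0
  set d : Fin 6 → F := ![ω, ω, ω, 1, 1, 1] with hd
  set σ : Fin 6 → Fin 6 := ![4, 5, 3, 2, 0, 1] with hσ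
  set P : Matrix (Fin 6) (Fin 6) F := Matrix.of fun i j => if σ i = j then 1 else 0 with hP
  have hdetA : (Matrix.diagonal d).det = 1 := by
    rw [Matrix.det_diagonal, Fin.prod_univ_six]
    simp [hd]
    linear_combination h3
  have hσinv : ∀ i, σ (σ i) = i := by decide
  let τ : Equiv.Perm (Fin 6) := ⟨σ, σ, hσinv, hσinv⟩
  have hPτ : P = τ.permMatrix F := by
    ext i j
    simp [hP, τ, PEquiv.toMatrix_apply, Equiv.toPEquiv_apply, eq_comm]
  have hdetB : P.det = 1 := by
    rw [hPτ, Matrix.det_permutation]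
    rcases Int.units_eq_one_or (Equiv.Perm.sign τ) with e | e <;> rw [e]
    · simp
    · simp [CharTwo.neg_eq]
  have hPv : ∀ (v : V) i, (P *ᵥ v) i = v (σ i) := fun v i => by
    simp [hP, Matrix.mulVec, dotProduct]
  let A : Cfsg.SU 6 F 2 := ⟨⟨Matrix.diagonal d, hdetA⟩, fun x y => by
    show hh (Matrix.diagonal d *ᵥ x) (Matrix.diagonal d *ᵥ y) = hh x y
    simp only [Cfsg.hermForm, Matrix.mulVec_diagonal]
    refine Finset.sum_congr rfl fun i _ => ?_
    have hi : d i ^ 3 = 1 := by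
      fin_cases i <;> simp [hd, h3]
    linear_combination (x i * y i ^ 2) * hi⟩
  let B : Cfsg.SU 6 F 2 := ⟨⟨P, hdetB⟩, fun x y => by
    show hh (P *ᵥ x) (P *ᵥ y) = hh x y
    simp only [Cfsg.hermForm, hPv]
    exact Equiv.sum_comp τ fun i => x i * y i ^ 2⟩
  have hA : ∀ v i, (suMat A *ᵥ v) i = d i * v i := fun v i => Matrix.mulVec_diagonal d v i
  have hB : ∀ v i, (suMat B *ᵥ v) i = v (σ i) := hPv
  have hApow : A ^ 3 = 1 := su_ext fun v => by
    funext i
    simp only [pow_succ, pow_zero, one_mul, suMat_mul, ← Matrix.mulVec_mulVec, hA, suMat_one, Matrix.one_mulVec]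
    have hi : d i ^ 3 = 1 := by
      fin_cases i <;> simp [hd, h3]
    linear_combination (v i) * hi
  refine ⟨A, B, hApow, fun hc => ?_, ?_, ?_, ?_, ?_, ?_⟩
  · obtain ⟨a, ha⟩ := (mem_center_SU_iff hF (by norm_num)).1 hc
    have e0 := congrFun (congrFun ha 0) 0
    have e5 := congrFun (congrFun ha 5) 5
    simp [A, hd] at e0 e5
    exact h1 (e0.trans e5.symm)
  · funext i; rw [hA]; fin_cases i <;> simp [hd, baseP]
  · funext i; rw [hA]; fin_cases i <;> simp [hd, baseX]
  · funext i; rw [hB]; fin_cases i <;> simp [hσ, baseP, baseX]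
  · funext i; rw [hB]; fin_cases i <;> simp [hσ, baseP, baseX]
  · rw [mem_center_SU_iff hF (by norm_num)]
    refine ⟨ω, Matrix.toLin'.injective (LinearMap.ext fun v => ?_)⟩
    have hBi : B⁻¹ = B := inv_eq_of_mul_eq_one_right (su_ext fun v => by
      funext i
      rw [suMat_mul, ← Matrix.mulVec_mulVec, hB, hB, hσinv, suMat_one, Matrix.one_mulVec])
    show suMat (B * A * B⁻¹ * A) *ᵥ v = (ω • (1 : Matrix (Fin 6) (Fin 6) F)) *ᵥ v
    funext i
    rw [hBi, suMat_mul, suMat_mul, suMat_mul, ← Matrix.mulVec_mulVec, ← Matrix.mulVec_mulVec,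
      ← Matrix.mulVec_mulVec, hB, hA, hB, hσinv, hA, Matrix.smul_mulVec, Matrix.one_mulVec, Pi.smul_apply,
      smul_eq_mul]
    fin_cases i <;> simp [hd, hσ]

/-- Nothing fixing both points inverts the diagonal element. -/
theorem no_invert {ω : F} (h0 : ω ≠ 0) (h1 : ω ≠ 1) {p x : V} (hp : IsPt p) (hx : IsPt x) {A C : Cfsg.SU 6 F 2}
    (hAp : suMat A *ᵥ p = p) (hAx : suMat A *ᵥ x = ω • x) (hCp : tv hF (suMat C *ᵥ p) = tv hF p)
    (hCx : tv hF (suMat C *ᵥ x) = tv hF x) (hinv : C * A * C⁻¹ * A ∈ Subgroup.center (Cfsg.SU 6 F 2)) :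
    False := by
  have hpt : ∀ {v : V}, IsPt v → IsPt (suMat C *ᵥ v) := fun {v} hv => by
    refine ⟨fun r => hv.1 ?_, by rw [su_preserves, hv.2]⟩
    have := congrArg (fun z => suMat C⁻¹ *ᵥ z) r
    simpa only [Matrix.mulVec_mulVec, ← suMat_mul, inv_mul_cancel, suMat_one, Matrix.one_mulVec,
      Matrix.mulVec_zero] using this
  obtain ⟨a, ha⟩ := (mem_center_SU_iff hF (by norm_num)).1 hinv
  have key : ∀ (v : V) (c : F), IsPt v → suMat A *ᵥ v = c • v → tv hF (suMat C *ᵥ v) = tv hF v →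
      c * c = a := by
    intro v c hv hAv hCv
    obtain ⟨μ, hμ⟩ := tv_eq_smul hF (hpt hv) hv hCv
    have hμ0 : μ ≠ 0 := fun r => (hpt hv).1 (by rw [hμ, r, zero_smul])
    have hCi : suMat C⁻¹ *ᵥ v = μ⁻¹ • v := by
      have e : suMat C⁻¹ *ᵥ (suMat C *ᵥ v) = v := by
        rw [Matrix.mulVec_mulVec, ← suMat_mul, inv_mul_cancel, suMat_one, Matrix.one_mulVec]
      rw [hμ, Matrix.mulVec_smul] at e
      conv_rhs => rw [← e]
      rw [smul_smul, inv_mul_cancel₀ hμ0, one_smul]
    have e1 : suMat (C * A * C⁻¹ * A) *ᵥ v = (c * c) • v := by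
      rw [suMat_mul, suMat_mul, suMat_mul, ← Matrix.mulVec_mulVec, ← Matrix.mulVec_mulVec,
        ← Matrix.mulVec_mulVec]
      simp only [hAv, hCi, Matrix.mulVec_smul, hμ, smul_smul]
      congr 1
      field_simp
    rw [show suMat (C * A * C⁻¹ * A) = a • (1 : Matrix (Fin 6) (Fin 6) F) from ha, Matrix.smul_mulVec,
      Matrix.one_mulVec] at e1
    exact (smul_left_injective F hv.1 e1).symm
  have e1 := key p 1 hp (by rw [one_smul, hAp]) hCp
  have e2 := key x ω hx hAx hCx
  apply h1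
  calc ω = ω * (ω * ω) := by rw [e2, ← e1, one_mul, mul_one]
    _ = ω ^ 3 := by ring
    _ = 1 := pow_three hF h0

/-- `SU₄(2)` fixing the last hyperbolic pair pointwise. -/
theorem exists_embed_four : ∃ ι : Cfsg.SU 4 F 2 →* Cfsg.SU 6 F 2,
    (∀ A (v : V), v 0 = 0 → v 1 = 0 → v 2 = 0 → v 3 = 0 → suMat (ι A) *ᵥ v = v) ∧
      ∀ A, ι A ∈ Subgroup.center (Cfsg.SU 6 F 2) → A = 1 := by
  set ee : Fin 4 ⊕ Fin 2 ≃ Fin 6 := finSumFinEquiv with hee
  let blk : Matrix (Fin 4) (Fin 4) F → Matrix (Fin 6) (Fin 6) F := fun M =>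
    Matrix.reindex ee ee (Matrix.fromBlocks M 0 0 1)
  have hmul : ∀ M N, blk (M * N) = blk M * blk N := fun M N => by
    simp only [blk, Matrix.reindex_apply, Matrix.submatrix_mul_equiv, Matrix.fromBlocks_multiply]
    simp
  have hone : blk 1 = 1 := by
    simp only [blk, Matrix.reindex_apply, Matrix.fromBlocks_one, Matrix.submatrix_one_equiv]
  have hdet : ∀ M, (blk M).det = M.det := fun M => by
    simp only [blk, Matrix.det_reindex_self, Matrix.det_fromBlocks_zero₂₁, Matrix.det_one, mul_one]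
  have hvec : ∀ M (v : V), blk M *ᵥ v =
      fun i => Sum.elim (M *ᵥ fun j => v (ee (.inl j))) (fun j => v (ee (.inr j))) (ee.symm i) := fun M v => by
    funext i
    obtain ⟨i, rfl⟩ := ee.surjective i
    simp only [blk, Matrix.reindex_apply, Equiv.symm_apply_apply, Matrix.mulVec, dotProduct,
      Matrix.submatrix_apply]
    rw [← ee.sum_comp, Fintype.sum_sum_type]
    rcases i with i | i
    · simp [Matrix.mulVec, dotProduct]
    · simp [Matrix.one_apply]
  have hform : ∀ x y : V, hh x y = Cfsg.hermForm 4 F 2 (fun j => x (ee (.inl j))) (fun j => y (ee (.inl j))) +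
      ∑ j : Fin 2, x (ee (.inr j)) * y (ee (.inr j)) ^ 2 := fun x y => by
    simp only [Cfsg.hermForm]
    rw [← ee.sum_comp, Fintype.sum_sum_type]
  have hpres : ∀ A : Cfsg.SU 4 F 2, ∀ x y : V, hh (blk (suMat A) *ᵥ x) (blk (suMat A) *ᵥ y) = hh x y :=
    fun A x y => by
      rw [hform, hform, hvec, hvec]
      simp only [Equiv.symm_apply_apply, Sum.elim_inl, Sum.elim_inr]
      rw [su_preserves]
  let ι : Cfsg.SU 4 F 2 →* Cfsg.SU 6 F 2 :=
    { toFun := fun A => ⟨⟨blk (suMat A), by rw [hdet]; exact A.1.2⟩, hpres A⟩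
      map_one' := Subtype.ext (Subtype.ext (by show blk (suMat (1 : Cfsg.SU 4 F 2)) = 1; rw [suMat_one, hone]))
      map_mul' := fun A B => Subtype.ext (Subtype.ext (by
        show blk (suMat (A * B)) = blk (suMat A) * blk (suMat B)
        rw [suMat_mul, hmul])) }
  refine ⟨ι, fun A v v0 v1 v2 v3 => ?_, fun A hA => ?_⟩
  · show blk (suMat A) *ᵥ v = v
    rw [hvec]
    funext i
    obtain ⟨i, rfl⟩ := ee.surjective i
    simp only [Equiv.symm_apply_apply]
    have hz : (fun j : Fin 4 => v (ee (.inl j))) = 0 := by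
      funext j; fin_cases j
      exacts [v0, v1, v2, v3]
    rcases i with i | i
    · rw [Sum.elim_inl, hz, Matrix.mulVec_zero]
      exact (congrFun hz i).symm
    · rw [Sum.elim_inr]
  · obtain ⟨a, ha⟩ := (mem_center_SU_iff hF (by norm_num)).1 hA
    have hb : blk (suMat A) = a • 1 := ha
    have e : ∀ i j, blk (suMat A) i j = (a • (1 : Matrix (Fin 6) (Fin 6) F)) i j := fun i j => by rw [hb]
    have ha1 : a = 1 := by
      have := e (ee (.inr 0)) (ee (.inr 0))
      simpa [blk] using this.symm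
    refine Subtype.ext (Subtype.ext (Matrix.ext fun i j => ?_))
    have := e (ee (.inl i)) (ee (.inl j))
    simp [blk, ha1, Matrix.one_apply] at this
    exact this.trans (by simp [Matrix.one_apply])

end CfsgLib.ThreeT.SixTwo
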