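import Cfsg.Agent.Spor3T.M22FivePath
import Cfsg.Agent.Spor3T.UnitaryStab

/-!
Type M(22): the unitary model at a member, read through vectors.
-/

set_option autoImplicit false
set_option linter.unusedSectionVars false
set_option linter.style.haveILetI false

namespace CfsgLib.ThreeT.Prod

open CfsgLib
open scoped Matrix

variable {G : Type*} [Group G] [Finite G] {D : Set G}

/-- The unitary quotient at a member. -/
structure Model (D : Set G) (a : G) {F : Type} [Field F] [Finite F] [CharP F 2] (hF : Nat.card F = 2 ^ 2)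
    (φ : ↥(hsub D a) →* Cfsg.PSU 6 F 2) : Prop where
  surj : Function.Surjective φ
  lift : ∀ z ∈ SixTwo.tvSet hF, ∃ x : ↥(hsub D a), (x : G) ∈ nb D a ∧ φ x = z
  mem : ∀ x : ↥(hsub D a), (x : G) ∈ nb D a → φ x ∈ SixTwo.tvSet hF
  comm : ∀ x y : ↥(hsub D a), (x : G) ∈ nb D a → (y : G) ∈ nb D a →
    (Commute (φ x) (φ y) ↔ Commute (x : G) (y : G))
  inj : ∀ x y : ↥(hsub D a), (x : G) ∈ nb D a → (y : G) ∈ nb D a → φ x = φ y → (x : G) = y
  ker : ∀ x, φ x = 1 → (x : G) = 1 ∨ (x : G) = a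

variable {a : G} {F : Type} [Field F] [Finite F] [CharP F 2] {hF : Nat.card F = 2 ^ 2}
  {φ : ↥(hsub D a) →* Cfsg.PSU 6 F 2}

/-- A vector representing an element as a transvection. -/
def Rep (hF : Nat.card F = 2 ^ 2) (φ : ↥(hsub D a) →* Cfsg.PSU 6 F 2) (x : G) (v : Fin 6 → F) : Prop :=
  ∃ hx : x ∈ hsub D a, φ ⟨x, hx⟩ = QuotientGroup.mk' _ (SixTwo.tv hF v)

/-- A matrix representing an element. -/
def Lift (φ : ↥(hsub D a) →* Cfsg.PSU 6 F 2) (g : G) (B : Cfsg.SU 6 F 2) : Prop :=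
  ∃ hg : g ∈ hsub D a, φ ⟨g, hg⟩ = QuotientGroup.mk' _ B

theorem Rep.toLift {x : G} {v : Fin 6 → F} (r : Rep hF φ x v) : Lift φ x (SixTwo.tv hF v) := r

theorem Lift.mul {g k : G} {B C : Cfsg.SU 6 F 2} (r : Lift φ g B) (r' : Lift φ k C) :
    Lift φ (g * k) (B * C) := by
  obtain ⟨hg, eg⟩ := r
  obtain ⟨hk, ek⟩ := r'
  refine ⟨mul_mem hg hk, ?_⟩
  rw [map_mul, ← eg, ← ek, ← map_mul]
  rfl

theorem Lift.inv {g : G} {B : Cfsg.SU 6 F 2} (r : Lift φ g B) : Lift φ g⁻¹ B⁻¹ := by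
  obtain ⟨hg, eg⟩ := r
  refine ⟨inv_mem hg, ?_⟩
  rw [map_inv, ← eg, ← map_inv]
  rfl

theorem lift_exists {g : G} (hg : g ∈ hsub D a) : ∃ B, Lift φ g B := by
  obtain ⟨B, hB⟩ := QuotientGroup.mk_surjective (φ ⟨g, hg⟩)
  exact ⟨B, hg, hB.symm⟩

theorem Model.elem (hM : Model D a hF φ) (B : Cfsg.SU 6 F 2) : ∃ g, Lift φ g B := by
  obtain ⟨x, hx⟩ := hM.surj (QuotientGroup.mk' _ B)
  exact ⟨x, x.2, hx⟩

theorem Model.rep_exists (hM : Model D a hF φ) {x : G} (hx : x ∈ nb D a) :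
    ∃ v, SixTwo.IsPt v ∧ Rep hF φ x v := by
  obtain ⟨v, hv, e⟩ := hM.mem ⟨x, Subgroup.subset_closure hx⟩ hx
  exact ⟨v, hv, _, e.symm⟩

theorem Model.rep_lift (hM : Model D a hF φ) {v : Fin 6 → F} (hv : SixTwo.IsPt v) :
    ∃ x ∈ nb D a, Rep hF φ x v := by
  obtain ⟨x, hx, e⟩ := hM.lift _ ⟨v, hv, rfl⟩
  exact ⟨x, hx, x.2, e⟩

theorem Model.rep_comm (hM : Model D a hF φ) {x y : G} {u v : Fin 6 → F} (hx : x ∈ nb D a) (hy : y ∈ nb D a)
    (hu : SixTwo.IsPt u) (hv : SixTwo.IsPt v) (rx : Rep hF φ x u) (ry : Rep hF φ y v) :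
    Commute x y ↔ Cfsg.hermForm 6 F 2 u v = 0 := by
  obtain ⟨hx', ex⟩ := rx
  obtain ⟨hy', ey⟩ := ry
  rw [← SixTwo.comm_pi hF hu hv, ← ex, ← ey]
  exact (hM.comm ⟨x, hx'⟩ ⟨y, hy'⟩ hx hy).symm

theorem Model.rep_inj (hM : Model D a hF φ) {x y : G} {u v : Fin 6 → F} (hx : x ∈ nb D a) (hy : y ∈ nb D a)
    (rx : Rep hF φ x u) (ry : Rep hF φ y v) (e : SixTwo.tv hF u = SixTwo.tv hF v) : x = y := by
  obtain ⟨hx', ex⟩ := rx
  obtain ⟨hy', ey⟩ := ry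
  exact hM.inj ⟨x, hx'⟩ ⟨y, hy'⟩ hx hy (by rw [ex, ey, e])

theorem Rep.same {x : G} {u v : Fin 6 → F} (ru : Rep hF φ x u) (rv : Rep hF φ x v) (hu : SixTwo.IsPt u)
    (hv : SixTwo.IsPt v) : SixTwo.tv hF u = SixTwo.tv hF v :=
  SixTwo.pi_inj hF (SixTwo.tv_sq hF hu.2) (SixTwo.tv_sq hF hv.2) (ru.2.symm.trans rv.2)

theorem Rep.change {x : G} {u v : Fin 6 → F} (r : Rep hF φ x u) (e : SixTwo.tv hF u = SixTwo.tv hF v) :
    Rep hF φ x v := ⟨r.1, r.2.trans (by rw [e])⟩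

theorem isPt_mulVec (B : Cfsg.SU 6 F 2) {v : Fin 6 → F} (hv : SixTwo.IsPt v) :
    SixTwo.IsPt (Unitary.suMat B *ᵥ v) := by
  refine ⟨fun r => hv.1 ?_, by rw [Unitary.su_preserves, hv.2]⟩
  have := congrArg (fun z => Unitary.suMat B⁻¹ *ᵥ z) r
  simpa only [Matrix.mulVec_mulVec, ← Unitary.suMat_mul, inv_mul_cancel, Unitary.suMat_one, Matrix.one_mulVec,
    Matrix.mulVec_zero] using this

theorem Rep.conj {g x : G} {B : Cfsg.SU 6 F 2} {u : Fin 6 → F} (rg : Lift φ g B) (rx : Rep hF φ x u)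
    (hu : SixTwo.IsPt u) : Rep hF φ (g * x * g⁻¹) (Unitary.suMat B *ᵥ u) := by
  have r := (rg.mul rx.toLift).mul rg.inv
  rw [SixTwo.tv_conj hF B hu.2] at r
  exact r

theorem nb_conj_mem (hD : TT0 D) {g x : G} (hg : g ∈ hsub D a) (hx : x ∈ nb D a) : g * x * g⁻¹ ∈ nb D a :=
  nb_conj hD hx.1 hx.2.1 hx.2.2 (by rw [(commute_hsub hg).eq, mul_inv_cancel_right])

theorem Model.fix_iff (hM : Model D a hF φ) (hD : TT0 D) {g x : G} {B : Cfsg.SU 6 F 2} {u : Fin 6 → F}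
    (rg : Lift φ g B) (hx : x ∈ nb D a) (hu : SixTwo.IsPt u) (rx : Rep hF φ x u) :
    Commute g x ↔ SixTwo.tv hF (Unitary.suMat B *ᵥ u) = SixTwo.tv hF u := by
  have r := rx.conj rg hu
  constructor
  · intro e
    rw [e.eq, mul_inv_cancel_right] at r
    exact r.same rx (isPt_mulVec B hu) hu
  · intro e
    exact mul_inv_eq_iff_eq_mul.1 (hM.rep_inj (nb_conj_mem hD rg.1 hx) hx r rx e)

variable (h : Geo22 D) (hprim : Cfsg.IsPrimitiveUnderConj D) (ht : Cfsg.IsOfTypeM22 G D)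

include h hprim ht

omit [Field F] [Finite F] [CharP F 2] in
/-- Every member carries a model in which a given neighbour is the base point. -/
theorem exists_pair_model {a b : G} (ha : a ∈ D) (hb : b ∈ nb D a) :
    ∃ (F : Type) (_ : Field F) (_ : Fintype F) (_ : CharP F 2) (hF : Nat.card F = 2 ^ 2)
      (φ : ↥(hsub D a) →* Cfsg.PSU 6 F 2), Model D a hF φ ∧ Rep hF φ b (SixTwo.baseP : Fin 6 → F) := by
  classical
  obtain ⟨-, d₀, hd₀, c, -, -, ⟨F, _, _, hF4, ⟨e⟩⟩, -⟩ := id ht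
  haveI := charP_two hF4
  have hF : Nat.card F = 2 ^ 2 := by rw [Nat.card_eq_fintype_card, hF4]; rfl
  set φ₁ : ↥(hsub D d₀) →* Cfsg.PSU 6 F 2 :=
    e.toMonoidHom.comp (QuotientGroup.mk' (Subgroup.center ↥(hsub D d₀)))
  obtain ⟨ω, ev, -, -, hfr, -⟩ := SixTwo.exists_frame_base hF
  -- the point over the base vector
  obtain ⟨b₀, hb₀, eb₀⟩ : ∃ x : ↥(hsub D d₀), (x : G) ∈ nb D d₀ ∧
      φ₁ x = QuotientGroup.mk' _ (SixTwo.tv hF (SixTwo.baseP : Fin 6 → F)) := by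
    have hmod := model_image h hd₀ hF4 e
    obtain ⟨y, hy, ey⟩ := hmod.symm.subset (⟨_, hfr.pp, rfl⟩ :
      QuotientGroup.mk' _ (SixTwo.tv hF (SixTwo.baseP : Fin 6 → F)) ∈ SixTwo.tvSet hF)
    exact ⟨y, hy, ey⟩
  obtain ⟨g₁, hg₁⟩ := hprim.1 a ha d₀ hd₀
  have hb₁ := nb_conj h.tt hb.1 hb.2.1 hb.2.2 hg₁
  obtain ⟨g₂, hg₂, e₂⟩ := h.near d₀ hd₀ _ hb₁ (b₀ : G) hb₀
  set g := g₂ * g₁
  have hga : g * a * g⁻¹ = d₀ := by
    rw [show g * a * g⁻¹ = g₂ * (g₁ * a * g₁⁻¹) * g₂⁻¹ by simp only [g]; group, hg₁, (commute_hsub hg₂).eq, mul_inv_cancel_right]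
  have hgb : g * b * g⁻¹ = b₀ := by
    rw [show g * b * g⁻¹ = g₂ * (g₁ * b * g₁⁻¹) * g₂⁻¹ by simp only [g]; group, e₂]
  have hmapH : ∀ x, x ∈ hsub D a ↔ g * x * g⁻¹ ∈ hsub D d₀ := fun x => by
    rw [(centralizer_eq h ha).1, (centralizer_eq h hd₀).1, Subgroup.mem_centralizer_singleton_iff,
      Subgroup.mem_centralizer_singleton_iff]
    conv_rhs => rw [← hga]
    exact (commute_conj_iff g x a).symm
  let c₁ : ↥(hsub D a) →* ↥(hsub D d₀) :=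
    ((MulAut.conj g).toMonoidHom.comp (hsub D a).subtype).codRestrict _ fun x => (hmapH x).1 x.2
  have hc₁ : ∀ x, (c₁ x : G) = g * x * g⁻¹ := fun x => rfl
  have hnb : ∀ x, x ∈ nb D a ↔ g * x * g⁻¹ ∈ nb D d₀ := fun x => by
    rw [← hga]; exact (mem_nb_conj h.tt g).symm
  obtain ⟨φ₂, hlift₂, hmem₂, hcomm₂, hinj₂, hker₂⟩ :
      ∃ φ₂ : ↥(hsub D d₀) →* Cfsg.PSU 6 F 2, φ₂ = φ₁ ∧
        (∀ x : ↥(hsub D d₀), (x : G) ∈ nb D d₀ → φ₂ x ∈ SixTwo.tvSet hF) ∧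
        (∀ x y : ↥(hsub D d₀), (x : G) ∈ nb D d₀ → (y : G) ∈ nb D d₀ →
          (Commute (φ₂ x) (φ₂ y) ↔ Commute (x : G) (y : G))) ∧
        (∀ x y : ↥(hsub D d₀), (x : G) ∈ nb D d₀ → (y : G) ∈ nb D d₀ → φ₂ x = φ₂ y → (x : G) = y) ∧
        ∀ x, φ₂ x = 1 → (x : G) = 1 ∨ (x : G) = d₀ := by
    have hmod := model_image h hd₀ hF4 e
    refine ⟨φ₁, rfl, fun x hx => hmod ▸ (⟨x, hx, rfl⟩ : φ₁ x ∈ φ₁ '' {y : ↥(hsub D d₀) | (y : G) ∈ nb D d₀}),
      fun x y hx hy => ⟨fun q => (map_commute_iff h.tt hx hy).1 (by simpa [φ₁] using q.map e.symm),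
        fun q => ((map_commute_iff h.tt hx hy).2 q).map e.toMonoidHom⟩,
      fun x y hx hy q => ?_, fun x hx => ?_⟩
    · by_contra hne
      exact not_central h.tt h.conjD h.twinFree hd₀ (h.ne_one _ hd₀) hx (h.ne_one _ hx.1) fun z hz =>
        central_of_mk_eq h.tt hx hy hne (e.injective q) hz
    · exact cent_nb h hd₀ (commute_hsub x.2).symm fun y hy =>
        commute_of_mem_center ((QuotientGroup.eq_one_iff x).1 (e.injective (hx.trans e.map_one.symm))) hy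
  subst hlift₂
  have hsurj₁ : Function.Surjective φ₁ := e.surjective.comp (QuotientGroup.mk'_surjective _)
  have hc₁surj : Function.Surjective c₁ := fun y =>
    ⟨⟨g⁻¹ * y * g, (hmapH _).2 (by rw [show g * (g⁻¹ * y * g) * g⁻¹ = (y : G) by group]; exact y.2)⟩,
      Subtype.ext (by rw [hc₁]; show g * (g⁻¹ * y * g) * g⁻¹ = y; group)⟩
  refine ⟨F, inferInstance, inferInstance, inferInstance, hF, φ₁.comp c₁,
    ⟨hsurj₁.comp hc₁surj, ?_, ?_, ?_, ?_, ?_⟩, ⟨Subgroup.subset_closure hb, ?_⟩⟩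
  · intro z hz
    have hmod := model_image h hd₀ hF4 e
    obtain ⟨y, hy, rfl⟩ := (hmod ▸ hz : z ∈ φ₁ '' {y : ↥(hsub D d₀) | (y : G) ∈ nb D d₀})
    obtain ⟨x, rfl⟩ := hc₁surj y
    exact ⟨x, (hnb x).2 hy, rfl⟩
  · exact fun x hx => hmem₂ _ ((hnb x).1 hx)
  · intro x y hx hy
    exact (hcomm₂ (c₁ x) (c₁ y) ((hnb x).1 hx) ((hnb y).1 hy)).trans (commute_conj_iff g _ _)
  · intro x y hx hy q
    have := hinj₂ _ _ ((hnb x).1 hx) ((hnb y).1 hy) q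
    rw [hc₁, hc₁] at this
    exact mul_left_cancel (mul_right_cancel this)
  · intro x hx
    rcases hker₂ _ hx with r | r <;> rw [hc₁] at r
    · exact Or.inl (conj_eq_one_iff.1 r)
    · exact Or.inr (mul_left_cancel (mul_right_cancel (r.trans hga.symm)))
  · rw [MonoidHom.comp_apply, ← eb₀]
    congr 1
    exact Subtype.ext hgb

/-- No member is a square in the group of its neighbours. -/
theorem no_root {a z : G} (ha : a ∈ D) (hz : z ∈ hsub D a) : z * z ≠ a := by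
  classical
  obtain ⟨b, hb⟩ : (nb D a).Nonempty := Set.nonempty_of_ncard_ne_zero (by rw [(h.loc a ha).card_nb]; norm_num)
  obtain ⟨F, _, _, _, hF, φ, hM, -⟩ := exists_pair_model h hprim ht ha hb
  intro hza
  suffices hzz : z * z = 1 from h.ne_one a ha (hza.symm.trans hzz)
  set zH : ↥(hsub D a) := ⟨z, hz⟩
  by_cases h1 : φ zH = 1
  · rcases hM.ker _ h1 with r | r
    · rw [show z = 1 from r, one_mul]
    · rw [show z = a from r, h.tt.sq a ha]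
  have hsq : φ zH * φ zH = 1 := by
    rw [← map_mul, show zH * zH = ⟨a, self_mem_hsub h ha⟩ from Subtype.ext hza]
    obtain ⟨B, hB⟩ := lift_exists (φ := φ) (self_mem_hsub h ha)
    -- the member itself dies in the quotient
    have hcen : ∀ w : Cfsg.PSU 6 F 2, Commute (φ ⟨a, self_mem_hsub h ha⟩) w := fun w => by
      obtain ⟨x, rfl⟩ := hM.surj w
      exact (show Commute (⟨a, self_mem_hsub h ha⟩ : ↥(hsub D a)) x from
        Subtype.ext (commute_hsub x.2).symm.eq).map φ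
    haveI := (psu_facts (F := F) (by rw [← Nat.card_eq_fintype_card, hF]; rfl)).1
    have hc : φ ⟨a, self_mem_hsub h ha⟩ ∈ Subgroup.center (Cfsg.PSU 6 F 2) :=
      Subgroup.mem_center_iff.2 fun w => (hcen w).eq.symm
    rcases (inferInstance : (Subgroup.center (Cfsg.PSU 6 F 2)).Normal).eq_bot_or_eq_top with q | q
    · rwa [q, Subgroup.mem_bot] at hc
    · obtain ⟨x, hx, rx⟩ := hM.rep_exists hb
      exfalso
      obtain ⟨ω, ev, -, -, hfr, -⟩ := SixTwo.exists_frame_base hF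
      obtain ⟨p, hp, rp⟩ := hM.rep_lift hfr.pp
      obtain ⟨q', hq', rq⟩ := hM.rep_lift hfr.qq
      refine (mt (hM.rep_comm hp hq' hfr.pp hfr.qq rp rq).1 hfr.pq) ?_
      exact (hM.comm ⟨p, rp.1⟩ ⟨q', rq.1⟩ hp hq').1
        ((Subgroup.mem_center_iff.1 (q ▸ Subgroup.mem_top (φ ⟨q', rq.1⟩)) (φ ⟨p, rp.1⟩)))
  obtain ⟨l, -, -, -, hl, hlc, hlp⟩ := SixTwo.invol_prod hF hsq h1
  have hlift : ∀ w ∈ l, ∃ x : ↥(hsub D a), (x : G) ∈ nb D a ∧ φ x = w := fun w hw => hM.lift w (hl w hw)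
  choose! σ hσ1 hσ2 using hlift
  set L := l.map σ
  have hsqL : L.prod * L.prod = 1 := by
    refine Subtype.ext ?_
    rw [Subgroup.coe_mul, Subgroup.val_list_prod]
    refine sq_prod h (l := L.map Subtype.val) (fun x hx => ?_) (fun x hx y hy => ?_)
    · obtain ⟨x', hx', rfl⟩ := List.mem_map.1 hx
      obtain ⟨w, hw, rfl⟩ := List.mem_map.1 hx'
      exact (hσ1 w hw).1
    · obtain ⟨x', hx', rfl⟩ := List.mem_map.1 hx
      obtain ⟨w, hw, rfl⟩ := List.mem_map.1 hx'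
      obtain ⟨y', hy', rfl⟩ := List.mem_map.1 hy
      obtain ⟨w', hw', rfl⟩ := List.mem_map.1 hy'
      refine (hM.comm _ _ (hσ1 w hw) (hσ1 w' hw')).1 ?_
      rw [hσ2 w hw, hσ2 w' hw']
      exact hlc w hw w' hw'
  have hφL : φ L.prod = φ zH := by
    rw [map_list_prod, List.map_map, ← hlp]
    congr 1
    conv_rhs => rw [← List.map_id l]
    exact List.map_congr_left fun w hw => hσ2 w hw
  have hk := hM.ker (L.prod⁻¹ * zH) (by rw [map_mul, map_inv, hφL, inv_mul_cancel])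
  have hL2 : ((L.prod : ↥(hsub D a)) : G) * L.prod = 1 := congrArg Subtype.val hsqL
  have hz' : z = (L.prod : G) * ((L.prod⁻¹ * zH : ↥(hsub D a)) : G) := by
    rw [Subgroup.coe_mul, Subgroup.coe_inv, mul_inv_cancel_left]
  rcases hk with r | r <;> rw [r] at hz'
  · rw [hz', mul_one]; exact hL2
  · have hc : Commute (L.prod : G) a := commute_hsub L.prod.2
    calc z * z = (L.prod : G) * (a * (L.prod : G)) * a := by rw [hz']; group
      _ = ((L.prod : G) * L.prod) * (a * a) := by rw [← hc.eq]; group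
      _ = 1 := by rw [hL2, h.tt.sq a ha, one_mul]

end CfsgLib.ThreeT.Prod
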