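import Cfsg.Agent.Spor3T.M22PairModel
import Cfsg.Agent.Spor3T.M22Big

/-!
Type M(22): the subgroup fixing two commuting members and every class of their common neighbours.
-/

set_option autoImplicit false
set_option linter.unusedSectionVars false
set_option linter.style.haveILetI false

namespace CfsgLib.ThreeT.Prod

open CfsgLib
open scoped Matrix

variable {G : Type*} [Group G] [Finite G] {D : Set G}

/-- Common neighbours of a commuting pair. -/
def common (D : Set G) (a b : G) : Set G :=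
  {x | x ∈ D ∧ x ≠ a ∧ x ≠ b ∧ Commute x a ∧ Commute x b}

/-- Two common neighbours with the same pattern of commutation. -/
def Sim (D : Set G) (a b x x' : G) : Prop := ∀ z ∈ common D a b, (Commute z x ↔ Commute z x')

/-- Elements fixing or exchanging the pair. -/
def PairNorm (a b g : G) : Prop :=
  (g * a * g⁻¹ = a ∧ g * b * g⁻¹ = b) ∨ (g * a * g⁻¹ = b ∧ g * b * g⁻¹ = a)

theorem Sim.refl {a b : G} (x : G) : Sim D a b x x := fun _ _ => Iff.rfl

theorem Sim.symm {a b x y : G} (s : Sim D a b x y) : Sim D a b y x := fun z hz => (s z hz).symm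

theorem Sim.trans {a b x y z : G} (s : Sim D a b x y) (t : Sim D a b y z) : Sim D a b x z :=
  fun w hw => (s w hw).trans (t w hw)

theorem fix_of_commute {g x : G} (e : Commute g x) : g * x * g⁻¹ = x := mul_inv_eq_iff_eq_mul.2 e.eq

theorem commute_of_fix {g x : G} (e : g * x * g⁻¹ = x) : Commute g x := mul_inv_eq_iff_eq_mul.1 e

theorem pairNorm_of_fix {a b g : G} (ha : Commute g a) (hb : Commute g b) : PairNorm a b g :=
  Or.inl ⟨fix_of_commute ha, fix_of_commute hb⟩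

theorem PairNorm.inv {a b g : G} (hg : PairNorm a b g) : PairNorm a b g⁻¹ := by
  have key : ∀ u v : G, g * u * g⁻¹ = v → g⁻¹ * v * g⁻¹⁻¹ = u := fun u v e => by rw [← e]; group
  rcases hg with ⟨e1, e2⟩ | ⟨e1, e2⟩
  · exact Or.inl ⟨key _ _ e1, key _ _ e2⟩
  · exact Or.inr ⟨key _ _ e2, key _ _ e1⟩

theorem common_conj (hD : TT0 D) {a b g x : G} (hg : PairNorm a b g) (hx : x ∈ common D a b) :
    g * x * g⁻¹ ∈ common D a b := by
  obtain ⟨h1, h2, h3, h4, h5⟩ := hx
  have hne : ∀ u, x ≠ u → g * x * g⁻¹ ≠ g * u * g⁻¹ := fun u hu q => hu (mul_left_cancel (mul_right_cancel q))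
  have i2 := hne _ h2
  have i3 := hne _ h3
  have i4 := (commute_conj_iff g x a).2 h4
  have i5 := (commute_conj_iff g x b).2 h5
  rcases hg with ⟨e1, e2⟩ | ⟨e1, e2⟩ <;> rw [e1] at i2 i4 <;> rw [e2] at i3 i5
  · exact ⟨hD.conj g x h1, i2, i3, i4, i5⟩
  · exact ⟨hD.conj g x h1, i3, i2, i5, i4⟩

theorem sim_conj (hD : TT0 D) {a b g x y : G} (hg : PairNorm a b g) (s : Sim D a b x y) :
    Sim D a b (g * x * g⁻¹) (g * y * g⁻¹) := fun z hz => by
  have e : g * (g⁻¹ * z * g⁻¹⁻¹) * g⁻¹ = z := by group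
  have := s _ (common_conj hD hg.inv hz)
  rw [← commute_conj_iff g, ← commute_conj_iff g (g⁻¹ * z * g⁻¹⁻¹) y, e] at this
  exact this

/-- The kernel on the classes of common neighbours. -/
def fibreKer (hD : TT0 D) (a b : G) : Subgroup G where
  carrier := {k | Commute k a ∧ Commute k b ∧ ∀ x ∈ common D a b, Sim D a b (k * x * k⁻¹) x}
  one_mem' := ⟨Commute.one_left a, Commute.one_left b, fun x _ => by
    rw [show (1 : G) * x * 1⁻¹ = x by group]; exact Sim.refl x⟩
  mul_mem' := fun {k l} hk hl => ⟨hk.1.mul_left hl.1, hk.2.1.mul_left hl.2.1, fun x hx => by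
    have hx' := common_conj hD (pairNorm_of_fix hl.1 hl.2.1) hx
    rw [show k * l * x * (k * l)⁻¹ = k * (l * x * l⁻¹) * k⁻¹ by group]
    exact (hk.2.2 _ hx').trans (hl.2.2 x hx)⟩
  inv_mem' := fun {k} hk => ⟨hk.1.inv_left, hk.2.1.inv_left, fun x hx => by
    have hx' := common_conj hD (pairNorm_of_fix hk.1.inv_left hk.2.1.inv_left) hx
    have := hk.2.2 _ hx'
    rw [show k * (k⁻¹ * x * k⁻¹⁻¹) * k⁻¹ = x by group] at this
    exact this.symm⟩

theorem mem_fibreKer {hD : TT0 D} {a b k : G} : k ∈ fibreKer hD a b ↔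
    Commute k a ∧ Commute k b ∧ ∀ x ∈ common D a b, Sim D a b (k * x * k⁻¹) x := Iff.rfl

theorem fibreKer_conj {hD : TT0 D} {a b c k : G} (hc : PairNorm a b c) (hk : k ∈ fibreKer hD a b) :
    c * k * c⁻¹ ∈ fibreKer hD a b := by
  obtain ⟨ka, kb, ks⟩ := hk
  have i1 := (commute_conj_iff c k a).2 ka
  have i2 := (commute_conj_iff c k b).2 kb
  have i3 : ∀ x ∈ common D a b, Sim D a b (c * k * c⁻¹ * x * (c * k * c⁻¹)⁻¹) x := by
    intro x hx
    have := sim_conj hD hc (ks _ (common_conj hD hc.inv hx))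
    rw [show c * (k * (c⁻¹ * x * c⁻¹⁻¹) * k⁻¹) * c⁻¹ = c * k * c⁻¹ * x * (c * k * c⁻¹)⁻¹ by group,
      show c * (c⁻¹ * x * c⁻¹⁻¹) * c⁻¹ = x by group] at this
    exact this
  rcases hc with ⟨e1, e2⟩ | ⟨e1, e2⟩ <;> rw [e1] at i1 <;> rw [e2] at i2
  · exact ⟨i1, i2, i3⟩
  · exact ⟨i2, i1, i3⟩

theorem mem_closure_pair {a b : G} (ha : a * a = 1) (hb : b * b = 1) (hab : Commute a b) {x : G}
    (hx : x ∈ Subgroup.closure ({a, b} : Set G)) : x = 1 ∨ x = a ∨ x = b ∨ x = a * b := by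
  have hba : b * a = a * b := hab.eq.symm
  have h1 : ∀ u, a * (a * u) = u := fun u => by rw [← mul_assoc, ha, one_mul]
  have h2 : ∀ u, b * (b * u) = u := fun u => by rw [← mul_assoc, hb, one_mul]
  induction hx using Subgroup.closure_induction with
  | mem v hv => rcases hv with rfl | rfl <;> simp
  | one => simp
  | mul v w _ _ hv hw =>
    have e1 : b * (a * b) = a := by rw [← mul_assoc, hba, mul_assoc, hb, mul_one]
    have e2 : a * b * a = b := by rw [mul_assoc, hba, h1]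
    have e3 : a * b * b = a := by rw [mul_assoc, hb, mul_one]
    have e4 : a * b * (a * b) = 1 := by rw [mul_assoc, e1, ha]
    rcases hv with rfl | rfl | rfl | rfl <;> rcases hw with rfl | rfl | rfl | rfl <;>
      simp [ha, hb, hba, h1, h2, e1, e2, e3, e4]
  | inv v _ hv =>
    rcases hv with rfl | rfl | rfl | rfl <;>
      simp [inv_eq_of_mul_eq_one_right ha, inv_eq_of_mul_eq_one_right hb, hba]

/-- A member, the base point over it, and a frame. -/
structure PairData (D : Set G) (a b : G) {F : Type} [Field F] [Finite F] [CharP F 2] (hF : Nat.card F = 2 ^ 2)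
    (φ : ↥(hsub D a) →* Cfsg.PSU 6 F 2) (e : Fin 4 → Fin 6 → F) (p q : Fin 6 → F) : Prop where
  model : Model D a hF φ
  memA : a ∈ D
  memB : b ∈ nb D a
  rb : Rep hF φ b p
  frame : SixTwo.Frame e p q

variable {a b : G} {F : Type} [Field F] [Finite F] [CharP F 2] {hF : Nat.card F = 2 ^ 2}
  {φ : ↥(hsub D a) →* Cfsg.PSU 6 F 2} {e : Fin 4 → Fin 6 → F} {p q : Fin 6 → F}

local notation "hh" => Cfsg.hermForm 6 F 2

/-- An element moving each vector orthogonal to the base point along it. -/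
def Shift (hF : Nat.card F = 2 ^ 2) (φ : ↥(hsub D a) →* Cfsg.PSU 6 F 2) (p : Fin 6 → F) (g : G) : Prop :=
  ∃ B : Cfsg.SU 6 F 2, Lift φ g B ∧ Unitary.suMat B *ᵥ p = p ∧
    ∀ w, hh w p = 0 → ∃ c : F, Unitary.suMat B *ᵥ w = w + c • p

theorem Shift.mul {g k : G} (s : Shift hF φ p g) (t : Shift hF φ p k) : Shift hF φ p (g * k) := by
  obtain ⟨B, rB, hBp, hBw⟩ := s
  obtain ⟨C, rC, hCp, hCw⟩ := t
  refine ⟨B * C, rB.mul rC, ?_, fun w hw => ?_⟩
  · rw [Unitary.suMat_mul, ← Matrix.mulVec_mulVec, hCp, hBp]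
  · obtain ⟨c, hc⟩ := hCw w hw
    obtain ⟨c', hc'⟩ := hBw w hw
    refine ⟨c' + c, ?_⟩
    rw [Unitary.suMat_mul, ← Matrix.mulVec_mulVec, hc, Matrix.mulVec_add, Matrix.mulVec_smul, hBp, hc', add_smul,
      add_assoc]

theorem Shift.inv {g : G} (s : Shift hF φ p g) : Shift hF φ p g⁻¹ := by
  obtain ⟨B, rB, hBp, hBw⟩ := s
  have hi : ∀ v, Unitary.suMat B⁻¹ *ᵥ (Unitary.suMat B *ᵥ v) = v := fun v => by
    rw [Matrix.mulVec_mulVec, ← Unitary.suMat_mul, inv_mul_cancel, Unitary.suMat_one, Matrix.one_mulVec]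
  have hp' : Unitary.suMat B⁻¹ *ᵥ p = p := by
    conv_lhs => rw [← hBp]
    exact hi p
  refine ⟨B⁻¹, rB.inv, hp', fun w hw => ?_⟩
  obtain ⟨c, hc⟩ := hBw w hw
  refine ⟨-c, ?_⟩
  have e1 := hi w
  rw [hc, Matrix.mulVec_add, Matrix.mulVec_smul, hp'] at e1
  rw [neg_smul, ← sub_eq_add_neg]
  exact eq_sub_of_add_eq e1

variable (h : Geo22 D) (d : PairData D a b hF φ e p q)

include h d

theorem PairData.adj_ab : Commute a b := d.memB.2.2

theorem PairData.mem_hsub_of {g : G} (ga : Commute g a) : g ∈ hsub D a := by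
  rw [(centralizer_eq h d.memA).1]; exact Subgroup.mem_centralizer_singleton_iff.2 ga

theorem common_nb {x : G} (hx : x ∈ common D a b) : x ∈ nb D a := ⟨hx.1, hx.2.1, hx.2.2.2.1.symm⟩

theorem common_rep {x : G} (hx : x ∈ common D a b) : ∃ u, SixTwo.IsPt u ∧ Rep hF φ x u ∧ hh u p = 0 ∧
    SixTwo.tv hF u ≠ SixTwo.tv hF p := by
  obtain ⟨u, hu, ru⟩ := d.model.rep_exists (common_nb h d hx)
  exact ⟨u, hu, ru, (d.model.rep_comm (common_nb h d hx) d.memB hu d.frame.pp ru d.rb).1 hx.2.2.2.2,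
    fun r => hx.2.2.1 (d.model.rep_inj (common_nb h d hx) d.memB ru d.rb r)⟩

theorem common_lift {u : Fin 6 → F} (hu : SixTwo.IsPt u) (hup : hh u p = 0)
    (hne : SixTwo.tv hF u ≠ SixTwo.tv hF p) : ∃ x ∈ common D a b, Rep hF φ x u := by
  obtain ⟨x, hx, rx⟩ := d.model.rep_lift hu
  refine ⟨x, ⟨hx.1, hx.2.1, fun r => hne ?_, hx.2.2.symm,
    (d.model.rep_comm hx d.memB hu d.frame.pp rx d.rb).2 hup⟩, rx⟩
  subst r
  exact rx.same d.rb hu d.frame.pp

theorem frame_ne (i : Fin 4) : SixTwo.tv hF (e i) ≠ SixTwo.tv hF p := by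
  intro r
  obtain ⟨c, hc⟩ := SixTwo.tv_eq_smul hF (d.frame.pt i) d.frame.pp r
  have := d.frame.eq i
  rw [hc, Unitary.herm_smul_left] at this
  rcases mul_eq_zero.1 this with r | r
  · exact (d.frame.pt i).1 (by rw [hc, r, zero_smul])
  · exact d.frame.pq r

theorem frame_elem (i : Fin 4) : ∃ x ∈ common D a b, Rep hF φ x (e i) :=
  common_lift h d (d.frame.pt i) (d.frame.ep i) (frame_ne h d i)

/-- The element opposite to the base point. -/
theorem far_elem : ∃ c ∈ nb D a, ¬ Commute b c ∧ Rep hF φ c q := by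
  obtain ⟨c, hc, rc⟩ := d.model.rep_lift d.frame.qq
  exact ⟨c, hc, mt (d.model.rep_comm d.memB hc d.frame.pp d.frame.qq d.rb rc).1 d.frame.pq, rc⟩

/-- Fixing the six members over a frame means dying in the quotient. -/
theorem frame_ker {g c : G} {B : Cfsg.SU 6 F 2} (rg : Lift φ g B) (hc : c ∈ nb D a) (rc : Rep hF φ c q)
    (he : ∀ i, ∀ x ∈ common D a b, Rep hF φ x (e i) → Commute g x) (hgb : Commute g b) (hgc : Commute g c) :
    φ ⟨g, rg.1⟩ = 1 := by
  have hB := d.frame.scalar hF (B := B) (fun i => by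
    obtain ⟨x, hx, rx⟩ := frame_elem h d i
    exact (d.model.fix_iff h.tt rg (common_nb h d hx) (d.frame.pt i) rx).1 (he i x hx rx))
    ((d.model.fix_iff h.tt rg d.memB d.frame.pp d.rb).1 hgb)
    ((d.model.fix_iff h.tt rg hc d.frame.qq rc).1 hgc)
  rw [rg.2, QuotientGroup.mk'_apply, QuotientGroup.eq_one_iff]
  exact hB

theorem lift_self : Lift φ a (1 : Cfsg.SU 6 F 2) := by
  obtain ⟨B, hB⟩ := lift_exists (φ := φ) (self_mem_hsub h d.memA)
  obtain ⟨c, hc, -, rc⟩ := far_elem h d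
  refine ⟨self_mem_hsub h d.memA, ?_⟩
  rw [map_one]
  exact frame_ker h d hB hc rc (fun _ x hx _ => hx.2.2.2.1.symm) (PairData.adj_ab h d) hc.2.2

/-- Only the pair centralises all common neighbours. -/
theorem cent_common {k : G} (ka : Commute k a) (kb : Commute k b) (hk : ∀ x ∈ common D a b, Commute k x) :
    k ∈ Subgroup.closure ({a, b} : Set G) := by
  have hkH := PairData.mem_hsub_of h d ka
  obtain ⟨B, rk⟩ := lift_exists (φ := φ) hkH
  obtain ⟨c, hc, hbc, rc⟩ := far_elem h d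
  have haV : a ∈ Subgroup.closure ({a, b} : Set G) := Subgroup.subset_closure (by simp)
  have hbV : b ∈ Subgroup.closure ({a, b} : Set G) := Subgroup.subset_closure (by simp)
  have key : ∀ {g : G} {C : Cfsg.SU 6 F 2}, Lift φ g C → Commute g b → Commute g c →
      (∀ x ∈ common D a b, Commute g x) → g ∈ Subgroup.closure ({a, b} : Set G) := by
    intro g C rg gb gc hg
    rcases d.model.ker _ (frame_ker h d rg hc rc (fun _ x hx _ => hg x hx) gb gc) with r | r
    · rw [show g = 1 from r]; exact one_mem _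
    · rw [show g = a from r]; exact haV
  set c' := k * c * k⁻¹
  have hc' : c' ∈ nb D a := nb_conj_mem h.tt hkH hc
  have rc' := rc.conj rk d.frame.qq
  have hq' := isPt_mulVec B d.frame.qq
  have hperp : ∀ i, hh (e i) (Unitary.suMat B *ᵥ q) = 0 := by
    intro i
    obtain ⟨x, hx, rx⟩ := frame_elem h d i
    have hxc : Commute x c := (d.model.rep_comm (common_nb h d hx) hc (d.frame.pt i) d.frame.qq rx rc).2
      (d.frame.eq i)
    have hxc' : Commute x c' := by
      have := (commute_conj_iff k x c).2 hxc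
      rwa [fix_of_commute (hk x hx)] at this
    exact (d.model.rep_comm (common_nb h d hx) hc' (d.frame.pt i) hq' rx rc').1 hxc'
  rcases d.frame.line hF hq' hperp with r | r | r
  · exfalso
    have hcb : c' = b := d.model.rep_inj hc' d.memB rc' d.rb r
    refine hbc ?_
    have e1 : k * c * k⁻¹ = k * b * k⁻¹ := by rw [fix_of_commute kb]; exact hcb
    rw [mul_left_cancel (mul_right_cancel e1)]
  · have hcc : c' = c := d.model.rep_inj hc' hc rc' rc r
    exact key rk kb (commute_of_fix hcc) hk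
  · rw [SixTwo.tv_conj hF _ d.frame.qq.2] at r
    have hbH : b ∈ hsub D a := d.rb.1
    have hcb : c' = b * c * b⁻¹ := d.model.rep_inj hc' (nb_conj_mem h.tt hbH hc) rc'
      (rc.conj d.rb.toLift d.frame.qq) r
    have hbk : Commute (b⁻¹ * k) c := commute_of_fix (by
      rw [show b⁻¹ * k * c * (b⁻¹ * k)⁻¹ = b⁻¹ * c' * b by simp only [c']; group, hcb]
      group)
    have := key (d.rb.toLift.inv.mul rk) ((Commute.refl b).inv_left.mul_left kb) hbk
      fun x hx => hx.2.2.2.2.symm.inv_left.mul_left (hk x hx)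
    rw [show k = b * (b⁻¹ * k) by group]
    exact mul_mem hbV this

variable (hprim : Cfsg.IsPrimitiveUnderConj D) (ht : Cfsg.IsOfTypeM22 G D)

/-- The classes are the lines through the base point. -/
theorem sim_vec {x x' : G} (hx : x ∈ common D a b) (hx' : x' ∈ common D a b) {u u' : Fin 6 → F}
    (hu : SixTwo.IsPt u) (ru : Rep hF φ x u) (hu' : SixTwo.IsPt u') (ru' : Rep hF φ x' u') :
    Sim D a b x' x ↔ ∃ α β : F, u' = α • u + β • p := by
  have perp : ∀ {z : G} {w : Fin 6 → F}, z ∈ common D a b → SixTwo.IsPt w → Rep hF φ z w → hh w p = 0 :=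
    fun hz hw rw' => (d.model.rep_comm (common_nb h d hz) d.memB hw d.frame.pp rw' d.rb).1 hz.2.2.2.2
  constructor
  · intro s
    obtain ⟨x₀, hx₀, rx₀⟩ := frame_elem h d 0
    have hxn := common_nb h d hx
    obtain ⟨g, ga, gb, gx⟩ := triple_conj h d.memA d.memB hxn hx.2.2.1.symm hx.2.2.2.2.symm d.memA d.memB
      (common_nb h d hx₀) hx₀.2.2.1.symm hx₀.2.2.2.2.symm
    have hgH := PairData.mem_hsub_of h d (commute_of_fix ga)
    obtain ⟨B, rg⟩ := lift_exists (φ := φ) hgH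
    have hgn : PairNorm a b g := Or.inl ⟨ga, gb⟩
    set y := g⁻¹ * x' * g⁻¹⁻¹
    have hy : y ∈ common D a b := common_conj h.tt hgn.inv hx'
    have sy : Sim D a b y x₀ := by
      have := sim_conj h.tt hgn.inv s
      rwa [show g⁻¹ * x * g⁻¹⁻¹ = x₀ by rw [← gx]; group] at this
    obtain ⟨v, hv, rv⟩ := d.model.rep_exists (common_nb h d hy)
    have hperp : ∀ i : Fin 4, hh (e i) (e 0) = 0 → hh v (e i) = 0 := by
      intro i hi
      obtain ⟨z, hz, rz⟩ := frame_elem h d i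
      have hzx := (d.model.rep_comm (common_nb h d hz) (common_nb h d hx₀) (d.frame.pt i) (d.frame.pt 0) rz rx₀).2 hi
      exact (SixTwo.hh_comm hF).1
        ((d.model.rep_comm (common_nb h d hz) (common_nb h d hy) (d.frame.pt i) hv rz rv).1 ((sy z hz).2 hzx))
    obtain ⟨-, -, -, ⟨-, b20⟩, ⟨-, b30⟩, -⟩ := d.frame.toChain.vals hF
    obtain ⟨α, β, hvv⟩ := d.frame.first hF (perp hy hv rv) (hperp 0 (d.frame.pt 0).2) (hperp 2 b20) (hperp 3 b30)
    have rgx := rx₀.conj rg (d.frame.pt 0)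
    rw [gx] at rgx
    obtain ⟨c₁, hc₁⟩ := SixTwo.tv_eq_smul hF (isPt_mulVec B (d.frame.pt 0)) hu
      (rgx.same ru (isPt_mulVec B (d.frame.pt 0)) hu)
    have rbB := d.rb.conj rg d.frame.pp
    rw [gb] at rbB
    obtain ⟨μ, hμ⟩ := SixTwo.tv_eq_smul hF (isPt_mulVec B d.frame.pp) d.frame.pp
      (rbB.same d.rb (isPt_mulVec B d.frame.pp) d.frame.pp)
    have rgy := rv.conj rg hv
    rw [show g * y * g⁻¹ = x' by simp only [y]; group] at rgy
    obtain ⟨c₂, hc₂⟩ := SixTwo.tv_eq_smul hF hu' (isPt_mulVec B hv) (ru'.same rgy hu' (isPt_mulVec B hv))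
    refine ⟨c₂ * α * c₁, c₂ * β * μ, ?_⟩
    rw [hc₂, hvv, Matrix.mulVec_add, Matrix.mulVec_smul, Matrix.mulVec_smul, hc₁, hμ]
    module
  · rintro ⟨α, β, huv⟩ z hz
    obtain ⟨w, hw, rw'⟩ := d.model.rep_exists (common_nb h d hz)
    have hα : α ≠ 0 := by
      intro r
      have hβ : β ≠ 0 := fun r' => hu'.1 (by rw [huv, r, r', zero_smul, zero_smul, add_zero])
      refine hx'.2.2.1 (d.model.rep_inj (common_nb h d hx') d.memB ru' d.rb ?_)
      rw [huv, r, zero_smul, zero_add, SixTwo.tv_smul hF d.frame.pp.2 hβ]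
    rw [d.model.rep_comm (common_nb h d hz) (common_nb h d hx') hw hu' rw' ru',
      d.model.rep_comm (common_nb h d hz) (common_nb h d hx) hw hu rw' ru, huv, SixTwo.hh_add_right hF,
      Unitary.herm_smul_right hF, Unitary.herm_smul_right hF, perp hz hw rw', mul_zero, add_zero]
    exact ⟨fun r => (mul_eq_zero.1 r).resolve_left (pow_ne_zero 2 hα), fun r => by rw [r, mul_zero]⟩

theorem Shift.mem_fibreKer {g : G} (s : Shift hF φ p g) : g ∈ fibreKer h.tt a b := by
  obtain ⟨B, rg, hBp, hBw⟩ := s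
  have ga : Commute g a := commute_hsub rg.1
  have gb : Commute g b := (d.model.fix_iff h.tt rg d.memB d.frame.pp d.rb).2 (by rw [hBp])
  refine ⟨ga, gb, fun x hx => ?_⟩
  obtain ⟨u, hu, ru, hup, -⟩ := common_rep h d hx
  obtain ⟨c, hc⟩ := hBw u hup
  exact (sim_vec h d hx (common_conj h.tt (pairNorm_of_fix ga gb) hx) hu ru (isPt_mulVec B hu)
    (ru.conj rg hu)).2 ⟨1, c, by rw [one_smul, hc]⟩

/-- Two common neighbours in one class and their product. -/
theorem translation {u : Fin 6 → F} (hu : SixTwo.IsPt u) (hup : hh u p = 0)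
    (hne : SixTwo.tv hF u ≠ SixTwo.tv hF p) (t : F) :
    ∃ x ∈ common D a b, ∃ x' ∈ common D a b, Rep hF φ x u ∧ Rep hF φ x' (u + t • p) ∧
      Sim D a b x' x ∧ (t ≠ 0 → x' ≠ x) ∧ Commute x' x := by
  obtain ⟨x, hx, rx⟩ := common_lift h d hu hup hne
  have hne0 : ∀ c : F, u ≠ c • p := by
    intro c r
    have hc : c ≠ 0 := fun r' => hu.1 (by rw [r, r', zero_smul])
    exact hne (by rw [r, SixTwo.tv_smul hF d.frame.pp.2 hc])
  have hu' : SixTwo.IsPt (u + t • p) :=
    ⟨fun r => hne0 (-t) (by rw [neg_smul]; exact eq_neg_of_add_eq_zero_left r),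
      SixTwo.iso_shift hF hu.2 d.frame.pp.2 hup t⟩
  obtain ⟨x', hx', rx'⟩ := common_lift h d hu'
    (by rw [Unitary.herm_add_left, Unitary.herm_smul_left, hup, d.frame.pp.2, mul_zero, add_zero]) (by
      intro r
      obtain ⟨c, hc⟩ := SixTwo.tv_eq_smul hF hu' d.frame.pp r
      exact hne0 (c + -t) (by rw [add_smul, neg_smul, ← hc]; module))
  refine ⟨x, hx, x', hx', rx, rx', (sim_vec h d hx hx' hu rx hu' rx').2 ⟨1, t, by rw [one_smul]⟩,
    fun ht0 r => ?_, ?_⟩
  · subst r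
    obtain ⟨c, hc⟩ := SixTwo.tv_eq_smul hF hu' hu (rx'.same rx hu' hu)
    by_cases hc1 : c = 1
    · rw [hc1, one_smul] at hc
      rcases smul_eq_zero.1 (add_left_cancel (hc.trans (add_zero u).symm)) with r | r
      · exact ht0 r
      · exact d.frame.pp.1 r
    · refine hne0 ((c - 1)⁻¹ * t) ?_
      have : (c - 1) • u = t • p := by rw [sub_smul, one_smul, ← hc]; module
      rw [mul_smul, ← this, smul_smul, inv_mul_cancel₀ (sub_ne_zero.2 hc1), one_smul]
  · rw [d.model.rep_comm (common_nb h d hx') (common_nb h d hx) hu' hu rx' rx, Unitary.herm_add_left,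
      Unitary.herm_smul_left, hu.2, (SixTwo.hh_comm hF).1 hup, mul_zero, add_zero]

/-- Products of two in one class, and the pair. -/
def PairGens (D : Set G) (a b : G) : Set G :=
  {g | ∃ x ∈ common D a b, ∃ x' ∈ common D a b, Sim D a b x' x ∧ g = x' * x} ∪ {a, b}

theorem Shift.of_gen {g : G} (hg : g ∈ PairGens D a b) : Shift hF φ p g := by
  rcases hg with ⟨x, hx, x', hx', s, rfl⟩ | rfl | rfl
  · obtain ⟨u, hu, ru, hup, -⟩ := common_rep h d hx
    obtain ⟨u', hu', ru', -, hne'⟩ := common_rep h d hx'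
    obtain ⟨α, β, huv⟩ := (sim_vec h d hx hx' hu ru hu' ru').1 s
    have hα : α ≠ 0 := by
      intro r
      have hβ : β ≠ 0 := fun r' => hu'.1 (by rw [huv, r, r', zero_smul, zero_smul, add_zero])
      exact hne' (by rw [huv, r, zero_smul, zero_add, SixTwo.tv_smul hF d.frame.pp.2 hβ])
    have hiso := SixTwo.iso_shift hF hu.2 d.frame.pp.2 hup (β * α⁻¹)
    have etv : SixTwo.tv hF u' = SixTwo.tv hF (u + (β * α⁻¹) • p) := by
      rw [← SixTwo.tv_smul hF hiso hα, smul_add, smul_smul, mul_comm β, ← mul_assoc, mul_inv_cancel₀ hα, one_mul,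
        ← huv]
    refine ⟨_, (ru'.change etv).toLift.mul ru.toLift, ?_, fun w hw => ⟨(β * α⁻¹) * hh w u, ?_⟩⟩
    · rw [SixTwo.pair_apply hF hu.2 d.frame.pp.2 hup, d.frame.pp.2, (SixTwo.hh_comm hF).1 hup]
      simp
    · rw [SixTwo.pair_apply hF hu.2 d.frame.pp.2 hup, hw]
      simp
  · exact ⟨1, lift_self h d, by rw [Unitary.suMat_one, Matrix.one_mulVec], fun w _ => ⟨0, by
      rw [Unitary.suMat_one, Matrix.one_mulVec, zero_smul, add_zero]⟩⟩
  · refine ⟨_, d.rb.toLift, ?_, fun w hw => ⟨0, ?_⟩⟩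
    · rw [SixTwo.tv_apply hF d.frame.pp.2, d.frame.pp.2, zero_smul, add_zero]
    · rw [SixTwo.tv_apply hF d.frame.pp.2, hw, zero_smul]

theorem Shift.of_closure {g : G} (hg : g ∈ Subgroup.closure (PairGens D a b)) : Shift hF φ p g := by
  induction hg using Subgroup.closure_induction with
  | mem v hv => exact Shift.of_gen h d hv
  | one =>
    refine ⟨1, ⟨one_mem _, by rw [show (⟨(1 : G), one_mem _⟩ : ↥(hsub D a)) = 1 from rfl, map_one, map_one]⟩, ?_,
      fun w _ => ⟨0, ?_⟩⟩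
    · rw [Unitary.suMat_one, Matrix.one_mulVec]
    · rw [Unitary.suMat_one, Matrix.one_mulVec, zero_smul, add_zero]
  | mul v w _ _ hv hw => exact hv.mul hw
  | inv v _ hv => exact hv.inv

/-- A translation moving the opposite point along one frame vector. -/
theorem reach_step (i : Fin 4) (c : F) {v : Fin 6 → F} (hv : hh v p = hh q p) :
    ∃ (g : G) (B : Cfsg.SU 6 F 2), g ∈ Subgroup.closure (PairGens D a b) ∧ Lift φ g B ∧
      Unitary.suMat B *ᵥ p = p ∧ ∃ δ : F, Unitary.suMat B *ᵥ v = v + c • e i + δ • p := by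
  set t := (c * (hh q p)⁻¹) ^ 2
  have hqp : hh q p ≠ 0 := fun r => d.frame.pq ((SixTwo.hh_comm hF).1 r)
  have ht : t ^ 2 * hh q p = c := by
    have h4 : t ^ 2 = c * (hh q p)⁻¹ := by
      show ((c * (hh q p)⁻¹) ^ 2) ^ 2 = _
      by_cases r : c * (hh q p)⁻¹ = 0
      · rw [r]; simp
      · calc ((c * (hh q p)⁻¹) ^ 2) ^ 2 = (c * (hh q p)⁻¹) ^ 3 * (c * (hh q p)⁻¹) := by ring
          _ = _ := by rw [SixTwo.pow_three hF r, one_mul]
    rw [h4, inv_mul_cancel_right₀ hqp]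
  obtain ⟨x, hx, x', hx', rx, rx', s, -, -⟩ := translation h d (d.frame.pt i) (d.frame.ep i) (frame_ne h d i) t
  refine ⟨x' * x, _, Subgroup.subset_closure (Or.inl ⟨x, hx, x', hx', s, rfl⟩), rx'.toLift.mul rx.toLift, ?_,
    t * (hh v (e i) + t ^ 2 * hh v p), ?_⟩
  · rw [SixTwo.pair_apply hF (d.frame.pt i).2 d.frame.pp.2 (d.frame.ep i), d.frame.pp.2,
      (SixTwo.hh_comm hF).1 (d.frame.ep i)]
    simp
  · rw [SixTwo.pair_apply hF (d.frame.pt i).2 d.frame.pp.2 (d.frame.ep i)]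
    rw [hv, ht]

/-- The translations reach every member opposite to the base point. -/
theorem reach {c y : G} (hc : c ∈ nb D a) (rc : Rep hF φ c q) (hy : y ∈ nb D a) (hby : ¬ Commute b y) :
    ∃ g ∈ Subgroup.closure (PairGens D a b), g * c * g⁻¹ = y := by
  obtain ⟨v₀, hv₀, ry₀⟩ := d.model.rep_exists hy
  have hqp : hh q p ≠ 0 := fun r => d.frame.pq ((SixTwo.hh_comm hF).1 r)
  have hvp : hh v₀ p ≠ 0 := fun r => hby ((d.model.rep_comm hy d.memB hv₀ d.frame.pp ry₀ d.rb).2 r).symm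
  set l := hh q p * (hh v₀ p)⁻¹
  have hl : l ≠ 0 := mul_ne_zero hqp (inv_ne_zero hvp)
  set v := l • v₀
  have hv : SixTwo.IsPt v := ⟨fun r => hv₀.1 ((smul_eq_zero.1 r).resolve_left hl), by
    rw [Unitary.herm_smul_left, Unitary.herm_smul_right hF, hv₀.2, mul_zero, mul_zero]⟩
  have ry : Rep hF φ y v := ry₀.change (SixTwo.tv_smul hF hv₀.2 hl).symm
  have hvp' : hh v p = hh q p := by
    rw [Unitary.herm_smul_left]; exact inv_mul_cancel_right₀ hvp _
  -- coordinates
  have hspan : Submodule.span F (Set.range (SixTwo.six e p q)) = ⊤ :=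
    (d.frame.linIndep hF).span_eq_top_of_card_eq_finrank (by rw [Fintype.card_fin, Module.finrank_fin_fun])
  obtain ⟨co, hco⟩ := (Submodule.mem_span_range_iff_exists_fun F).1
    (show v ∈ Submodule.span F (Set.range (SixTwo.six e p q)) from hspan ▸ Submodule.mem_top)
  simp only [Fin.sum_univ_six, SixTwo.six, Matrix.cons_val] at hco
  have hco5 : co 5 = 1 := by
    have := congrArg (fun z => hh z p) hco
    simp only [Unitary.herm_add_left, Unitary.herm_smul_left, d.frame.ep, d.frame.pp.2, hvp', mul_zero,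
      zero_add] at this
    exact mul_right_cancel₀ hqp (this.trans (one_mul _).symm)
  rw [hco5, one_smul] at hco
  have keep : ∀ {B : Cfsg.SU 6 F 2}, Unitary.suMat B *ᵥ p = p → ∀ {z : Fin 6 → F}, hh z p = hh q p →
      hh (Unitary.suMat B *ᵥ z) p = hh q p := fun {B} hB {z} hz => by
    conv_lhs => rw [← hB]
    rw [Unitary.su_preserves, hz]
  obtain ⟨g₀, B₀, m₀, r₀, p₀, δ₀, e₀⟩ := reach_step h d 0 (co 0) (v := q) rfl
  obtain ⟨g₁, B₁, m₁, r₁, p₁, δ₁, e₁⟩ := reach_step h d 1 (co 1) (keep p₀ (rfl : hh q p = hh q p))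
  obtain ⟨g₂, B₂, m₂, r₂, p₂, δ₂, e₂⟩ := reach_step h d 2 (co 2)
    (keep p₁ (keep p₀ (rfl : hh q p = hh q p)))
  obtain ⟨g₃, B₃, m₃, r₃, p₃, δ₃, e₃⟩ := reach_step h d 3 (co 3)
    (keep p₂ (keep p₁ (keep p₀ (rfl : hh q p = hh q p))))
  set g := g₃ * (g₂ * (g₁ * g₀))
  have hg : g ∈ Subgroup.closure (PairGens D a b) := mul_mem m₃ (mul_mem m₂ (mul_mem m₁ m₀))
  have rg : Lift φ g (B₃ * (B₂ * (B₁ * B₀))) := r₃.mul (r₂.mul (r₁.mul r₀))
  set w := Unitary.suMat (B₃ * (B₂ * (B₁ * B₀))) *ᵥ q with hw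
  have hwp : SixTwo.IsPt w := isPt_mulVec _ d.frame.qq
  have hwv : v = w + (co 4 - δ₀ - δ₁ - δ₂ - δ₃) • p := by
    rw [hw, Unitary.suMat_mul, Unitary.suMat_mul, Unitary.suMat_mul, ← Matrix.mulVec_mulVec, ← Matrix.mulVec_mulVec,
      ← Matrix.mulVec_mulVec, e₃, e₂, e₁, e₀, ← hco]
    module
  have hwq : hh w p ≠ 0 := by
    have : hh w p = hh q p := by
      conv_lhs => rw [hw, Unitary.suMat_mul, Unitary.suMat_mul, Unitary.suMat_mul, ← Matrix.mulVec_mulVec,
        ← Matrix.mulVec_mulVec, ← Matrix.mulVec_mulVec]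
      exact keep p₃ (keep p₂ (keep p₁ (keep p₀ rfl)))
    rw [this]; exact hqp
  have rgc := rc.conj rg d.frame.qq
  have hgcn : g * c * g⁻¹ ∈ nb D a := nb_conj_mem h.tt rg.1 hc
  rcases SixTwo.line_pair hF d.frame.pp.2 hwp.2 hwq hwv hv.2 with r | r
  · exact ⟨g, hg, d.model.rep_inj hgcn hy rgc ry r.symm⟩
  · refine ⟨b * g, mul_mem (Subgroup.subset_closure (Or.inr (by simp))) hg, ?_⟩
    rw [SixTwo.tv_conj hF _ hwp.2] at r
    rw [show b * g * c * (b * g)⁻¹ = b * (g * c * g⁻¹) * b⁻¹ by group]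
    exact d.model.rep_inj (nb_conj_mem h.tt d.rb.1 hgcn) hy (rgc.conj d.rb.toLift hwp) ry r.symm

/-- An element of the kernel fixing an opposite member is `1` or `a`. -/
theorem fibre_stab {g c : G} (hc : c ∈ nb D a) (rc : Rep hF φ c q) (hg : g ∈ fibreKer h.tt a b)
    (hgc : Commute g c) : g = 1 ∨ g = a := by
  obtain ⟨ga, gb, gs⟩ := hg
  obtain ⟨B, rg⟩ := lift_exists (φ := φ) (PairData.mem_hsub_of h d ga)
  refine d.model.ker _ (frame_ker h d rg hc rc (fun i x hx rx => ?_) gb hgc)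
  have hgx := common_conj h.tt (pairNorm_of_fix ga gb) hx
  have r' := rx.conj rg (d.frame.pt i)
  obtain ⟨α, β, hv⟩ := (sim_vec h d hx hgx (d.frame.pt i) rx (isPt_mulVec B (d.frame.pt i)) r').1 (gs x hx)
  have hxc : Commute x c := (d.model.rep_comm (common_nb h d hx) hc (d.frame.pt i) d.frame.qq rx rc).2
    (d.frame.eq i)
  have hxc' : Commute (g * x * g⁻¹) c := by
    have := (commute_conj_iff g x c).2 hxc
    rwa [fix_of_commute hgc] at this
  have h0 := (d.model.rep_comm (common_nb h d hgx) hc (isPt_mulVec B (d.frame.pt i)) d.frame.qq r' rc).1 hxc'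
  rw [hv, Unitary.herm_add_left, Unitary.herm_smul_left, Unitary.herm_smul_left, d.frame.eq i, mul_zero,
    zero_add] at h0
  have hβ : β = 0 := (mul_eq_zero.1 h0).resolve_right d.frame.pq
  have hα : α ≠ 0 := fun r => (isPt_mulVec B (d.frame.pt i)).1 (by rw [hv, r, hβ, zero_smul, zero_smul, add_zero])
  refine (d.model.fix_iff h.tt rg (common_nb h d hx) (d.frame.pt i) rx).2 ?_
  rw [hv, hβ, zero_smul, add_zero, SixTwo.tv_smul hF (d.frame.pt i).2 hα]

theorem fibre_gen : Nat.card ↥(fibreKer h.tt a b) = 1024 ∧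
    fibreKer h.tt a b = Subgroup.closure (PairGens D a b) := by
  set E := fibreKer h.tt a b
  set E₀ := Subgroup.closure (PairGens D a b)
  have hle : E₀ ≤ E := fun g hg => Shift.mem_fibreKer h d (Shift.of_closure h d hg)
  obtain ⟨c, hc, hbc, rc⟩ := far_elem h d
  have ha : a ∈ E₀ := Subgroup.subset_closure (Or.inr (by simp))
  have hac : a ∈ Subgroup.centralizer ({c} : Set G) := Subgroup.mem_centralizer_singleton_iff.2 hc.2.2.eq
  have hX : ({x | x ∈ nb D a ∧ ¬ Commute b x} : Set G).ncard = 512 :=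
    ncard_far_nb h d.memB.1 (nb_swap h d.memA d.memB)
  have hstab : ∀ S : Subgroup G, E₀ ≤ S → S ≤ E → Nat.card ↥(Subgroup.centralizer ({c} : Set G) ⊓ S) = 2 := by
    intro S h0 h1
    have e2 : ((Subgroup.centralizer ({c} : Set G) ⊓ S : Subgroup G) : Set G) = {1, a} := by
      ext g
      constructor
      · rintro ⟨g1, g2⟩
        exact fibre_stab h d hc rc (h1 g2) (Subgroup.mem_centralizer_singleton_iff.1 g1)
      · rintro (rfl | rfl)
        exacts [one_mem _, Subgroup.mem_inf.2 ⟨hac, h0 ha⟩]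
    show Nat.card ↥((Subgroup.centralizer ({c} : Set G) ⊓ S : Subgroup G) : Set G) = 2
    rw [Nat.card_coe_set_eq, e2, Set.ncard_pair (h.ne_one a d.memA).symm]
  have horb : ∀ S : Subgroup G, E₀ ≤ S → S ≤ E → Nat.card S = 1024 := by
    intro S h0 h1
    rw [card_orbit_stab S (Subgroup.centralizer ({c} : Set G)) (fun g => g * c * g⁻¹)
      {x | x ∈ nb D a ∧ ¬ Commute b x} (fun g _ g' _ => conj_fib) ?_, hstab S h0 h1, hX]
    ext y
    constructor
    · rintro ⟨g, hg, rfl⟩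
      obtain ⟨ga, gb, -⟩ := h1 hg
      refine ⟨nb_conj_mem h.tt (PairData.mem_hsub_of h d ga) hc, fun r => hbc ?_⟩
      rw [← commute_conj_iff g, fix_of_commute gb]
      exact r
    · rintro ⟨hy, hby⟩
      obtain ⟨g, hg, e'⟩ := reach h d hc rc hy hby
      exact ⟨g, h0 hg, e'⟩
  exact ⟨horb E hle le_rfl, (Subgroup.eq_of_le_of_card_ge hle
    (by rw [horb E hle le_rfl, horb E₀ le_rfl hle])).symm⟩

/-- Squares of the kernel lie in the pair. -/
theorem fibre_sq {g : G} (hg : g ∈ fibreKer h.tt a b) : g * g ∈ Subgroup.closure ({a, b} : Set G) := by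
  obtain ⟨B, rg, hBp, hBw⟩ := Shift.of_closure h d ((fibre_gen h d).2.le hg)
  obtain ⟨ga, gb, -⟩ := hg
  refine cent_common h d (ga.mul_left ga) (gb.mul_left gb) fun x hx => ?_
  obtain ⟨u, hu, ru, hup, -⟩ := common_rep h d hx
  refine (d.model.fix_iff h.tt (rg.mul rg) (common_nb h d hx) hu ru).2 ?_
  obtain ⟨c, hc⟩ := hBw u hup
  rw [Unitary.suMat_mul, ← Matrix.mulVec_mulVec, hc, Matrix.mulVec_add, Matrix.mulVec_smul, hBp, hc, add_assoc,
    ← add_smul, CharTwo.add_self_eq_zero, zero_smul, add_zero]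

end CfsgLib.ThreeT.Prod
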