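import Cfsg.Agent.Spor3T.TriRefl
import Cfsg.Agent.Spor3T.M22PairModel
import Cfsg.Agent.Coset.Checker

/-!
Type M(22): a chain of six common neighbours of a far pair has a unique seventh companion of shape
`E₇` at either end; the seven pairwise commuting members spanned by it have product one.
-/

set_option autoImplicit false
set_option linter.unusedSectionVars false
set_option linter.style.haveILetI false

namespace CfsgLib.ThreeT.Prod

open CfsgLib
open CfsgLib.Coset (ev fl ev_cons ev_nil ev_append)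
open scoped Matrix

/-! ### Coordinates over two elements -/

/-- The alternating form of the chain. -/
def bil (x y : Fin 6 → ZMod 2) : ZMod 2 :=
  x 0 * y 1 + x 1 * y 0 + (x 1 * y 2 + x 2 * y 1) + (x 2 * y 3 + x 3 * y 2) + (x 3 * y 4 + x 4 * y 3) +
    (x 4 * y 5 + x 5 * y 4)

/-- The vector of a letter. -/
def letV : ℕ → (Fin 6 → ZMod 2)
  | 0 => ![1, 0, 0, 0, 0, 0]
  | 1 => ![0, 1, 0, 0, 0, 0]
  | 2 => ![0, 0, 1, 0, 0, 0]
  | 3 => ![0, 0, 0, 1, 0, 0]
  | 4 => ![1, 0, 1, 0, 0, 0]
  | 7 => ![0, 0, 0, 0, 1, 0]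
  | 8 => ![0, 0, 0, 0, 0, 1]
  | _ => 0

/-- The vector of a conjugate of a letter. -/
def conjV : List ℕ → ℕ → (Fin 6 → ZMod 2)
  | [], m => letV m
  | s :: p, m => conjV p m + bil (conjV p m) (letV s) • letV s

/-- A conjugate of a letter. -/
def conjE {G : Type*} [Group G] (L : List G) : List ℕ → ℕ → G
  | [], m => fl L m
  | s :: p, m => fl L s * conjE L p m * fl L s

theorem ev_conjE {G : Type*} [Group G] (L : List G) :
    ∀ (p : List ℕ) (m : ℕ), ev L (p ++ m :: p.reverse) = conjE L p m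
  | [], m => by simp [conjE]
  | s :: p, m => by
    rw [List.reverse_cons, List.cons_append, ev_cons, ← List.cons_append, ← List.append_assoc, ev_append,
      ev_conjE L p m, conjE, ev_cons, ev_nil, mul_one, mul_assoc]

/-- The letters used. -/
def sevenLetters : List ℕ := [0, 1, 2, 3, 4, 7, 8]

/-- Path to the sum of the chain's first, third and fifth member. -/
def pR : List ℕ := [8, 7, 3, 4, 2, 3, 7, 1, 2, 3, 4, 8, 7, 3, 2, 1]

/-- Path to the sum of the first and fifth. -/
def pU : List ℕ := [3, 4, 7, 3]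

/-- Path to the sum of the third and fifth. -/
def pV : List ℕ := [1, 2, 3, 4, 7, 3, 2, 1]

/-- The seven-point relator. -/
def sevenW : List ℕ := [0, 2, 4, 7] ++ ((pR ++ 0 :: pR.reverse) ++ ((pU ++ 2 :: pU.reverse) ++ (pV ++ 0 :: pV.reverse)))

theorem sevenW_eq : sevenW = [0, 2, 4, 7, 8, 7, 3, 4, 2, 3, 7, 1, 2, 3, 4, 8, 7, 3, 2, 1, 0, 1, 2, 3, 7, 8, 4,
    3, 2, 1, 7, 3, 2, 4, 3, 7, 8, 3, 4, 7, 3, 2, 3, 7, 4, 3, 1, 2, 3, 4, 7, 3, 2, 1, 0, 1, 2, 3, 7, 4, 3, 2, 1] := by
  decide

theorem conjV_vals : conjV pR 0 = ![1, 0, 1, 0, 1, 0] ∧ conjV pU 2 = ![1, 0, 0, 0, 1, 0] ∧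
    conjV pV 0 = ![0, 0, 1, 0, 1, 0] := by decide +kernel

theorem bil_self : ∀ x, bil x x = 0 := by decide +kernel

theorem bil_nondeg : ∀ x, (∀ i : Fin 6, bil x (Pi.single i 1) = 0) → x = 0 := by decide +kernel

theorem letV_ne : ∀ m ∈ sevenLetters, letV m ≠ 0 := by decide +kernel

theorem conjV_step : ∀ x s : Fin 6 → ZMod 2, x ≠ 0 → x + bil x s • s ≠ 0 := by
  intro x s hx e
  have hxs : x = bil x s • s := by
    have := eq_neg_of_add_eq_zero_left e
    rwa [ZModModule.neg_eq_self] at this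
  have h0 : bil x s = 0 := by
    rcases (show bil x s = 0 ∨ bil x s = 1 by revert x; exact fun x _ _ _ => by generalize bil x s = b; revert b; decide) with h | h
    · exact h
    · rw [h, one_smul] at hxs; rw [hxs, bil_self] at h; exact absurd h (by decide)
  rw [h0, zero_smul] at hxs
  exact hx hxs

theorem conjV_ne : ∀ (p : List ℕ) (m : ℕ), m ∈ sevenLetters → conjV p m ≠ 0
  | [], m, hm => letV_ne m hm
  | s :: p, m, hm => conjV_step _ _ (conjV_ne p m hm)

theorem adj_bil : ∀ i j : Fin 6, bil (Pi.single i 1) (Pi.single j 1) = if Adj6 i j then 1 else 0 := by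
  decide +kernel

theorem letV_single : letV 0 = Pi.single 0 1 ∧ letV 1 = Pi.single 1 1 ∧ letV 2 = Pi.single 2 1 ∧
    letV 3 = Pi.single 3 1 ∧ letV 7 = Pi.single 4 1 ∧ letV 8 = Pi.single 5 1 := by decide +kernel

/-! ### Vectors over four elements -/

variable {F : Type} [Field F] [Finite F] [CharP F 2] (hF : Nat.card F = 2 ^ 2)

local notation "hh" => Cfsg.hermForm 6 F 2

/-- Scalars from two elements. -/
noncomputable def cst : ZMod 2 →+* F := ZMod.castHom dvd_rfl F

/-- A combination of the chain. -/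
noncomputable def sv (v : Fin 6 → Fin 6 → F) (x : Fin 6 → ZMod 2) : Fin 6 → F :=
  ∑ i, (cst (F := F) (x i)) • v i

theorem sv_add (v : Fin 6 → Fin 6 → F) (x y : Fin 6 → ZMod 2) : sv v (x + y) = sv v x + sv v y := by
  simp [sv, add_smul, Finset.sum_add_distrib]

theorem sv_smul (v : Fin 6 → Fin 6 → F) (b : ZMod 2) (x : Fin 6 → ZMod 2) : sv v (b • x) = (cst (F := F) b) • sv v x := by
  simp [sv, Finset.smul_sum, smul_smul]

theorem sv_single (v : Fin 6 → Fin 6 → F) (i : Fin 6) : sv v (Pi.single i 1) = v i := by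
  rw [sv, Finset.sum_eq_single i (fun j _ hj => by simp [Pi.single_eq_of_ne hj]) (by simp)]
  simp

/-- Gram data of a normalised chain. -/
abbrev NormChain (v : Fin 6 → Fin 6 → F) : Prop :=
  ∀ i j, hh (v i) (v j) = if Adj6 i j then 1 else 0

include hF

theorem herm_sum_left {ι : Type} (s : Finset ι) (f : ι → (Fin 6 → F)) (w : Fin 6 → F) :
    hh (∑ i ∈ s, f i) w = ∑ i ∈ s, hh (f i) w := by
  classical
  induction s using Finset.induction_on with
  | empty => simp [SixTwo.hh_zero_left hF]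
  | insert a s ha ih => rw [Finset.sum_insert ha, Finset.sum_insert ha, Unitary.herm_add_left, ih]

theorem herm_sum_right {ι : Type} (s : Finset ι) (f : ι → (Fin 6 → F)) (w : Fin 6 → F) :
    hh w (∑ i ∈ s, f i) = ∑ i ∈ s, hh w (f i) := by
  classical
  induction s using Finset.induction_on with
  | empty => simp [SixTwo.hh_zero_right hF]
  | insert a s ha ih => rw [Finset.sum_insert ha, Finset.sum_insert ha, Unitary.herm_add_right hF, ih]

theorem hh_sv {v : Fin 6 → Fin 6 → F} (hv : NormChain v) (x y : Fin 6 → ZMod 2) :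
    hh (sv v x) (sv v y) = cst (bil x y) := by
  have hsq : ∀ b : ZMod 2, (cst b : F) ^ 2 = cst b := fun b => by
    rw [← map_pow]; congr 1; revert b; decide
  rw [sv, herm_sum_left hF]
  simp only [sv, herm_sum_right hF, Unitary.herm_smul_left, Unitary.herm_smul_right hF, hsq]
  simp only [Fin.sum_univ_six, hv, bil, map_add, map_mul]
  simp [Adj6]
  ring

theorem sv_isPt {v : Fin 6 → Fin 6 → F} (hv : NormChain v) {x : Fin 6 → ZMod 2} (hx : x ≠ 0) :
    SixTwo.IsPt (sv v x) := by
  refine ⟨fun e => hx (bil_nondeg x fun i => ?_), by rw [hh_sv hF hv, bil_self, map_zero]⟩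
  have := hh_sv hF hv x (Pi.single i 1)
  rw [e, SixTwo.hh_zero_left hF] at this
  exact ((map_eq_zero_iff _ (RingHom.injective cst)).1 this.symm)

/-- A list of pairwise orthogonal isotropic vectors: the product of their transvections. -/
theorem tv_list_apply : ∀ (l : List (Fin 6 → F)), (∀ a ∈ l, hh a a = 0) → (∀ a ∈ l, ∀ b ∈ l, hh a b = 0) →
    ∀ x, Unitary.suMat (l.map (SixTwo.tv hF)).prod *ᵥ x = x + (l.map fun a => hh x a • a).sum
  | [], _, _, x => by simp [Unitary.suMat_one]
  | a :: l, h1, h2, x => by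
    have ih := tv_list_apply l (fun b hb => h1 b (List.mem_cons_of_mem _ hb))
      (fun b hb c hc => h2 b (List.mem_cons_of_mem _ hb) c (List.mem_cons_of_mem _ hc)) x
    rw [List.map_cons, List.prod_cons, Unitary.suMat_mul, ← Matrix.mulVec_mulVec, ih,
      SixTwo.tv_apply hF (h1 a (by simp))]
    have hz : hh ((l.map fun b => hh x b • b).sum) a = 0 := by
      clear ih
      induction l with
      | nil => simp [SixTwo.hh_zero_left hF]
      | cons b l ihl =>
        rw [List.map_cons, List.sum_cons, Unitary.herm_add_left, Unitary.herm_smul_left, h2 b (by simp) a (by simp),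
          mul_zero, zero_add]
        exact ihl (fun c hc => h1 c (by simp only [List.mem_cons] at hc ⊢; tauto))
          (fun c hc d hd => h2 c (by simp only [List.mem_cons] at hc ⊢; tauto) d (by simp only [List.mem_cons] at hd ⊢; tauto))
    rw [Unitary.herm_add_left, hz, add_zero, List.map_cons, List.sum_cons]
    abel

theorem exists_omega : ∃ w : F, w ^ 2 + w + 1 = 0 := by
  haveI := Fintype.ofFinite F
  obtain ⟨w, hw0, hw1⟩ : ∃ w : F, w ≠ 0 ∧ w ≠ 1 := by
    by_contra hno
    push Not at hno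
    classical
    have : (Finset.univ : Finset F) ⊆ {0, 1} := fun x _ => by
      by_cases hx : x = 0
      · simp [hx]
      · simp [hno x hx]
    have h2 := (Finset.card_le_card this).trans Finset.card_le_two
    rw [Finset.card_univ, ← Nat.card_eq_fintype_card, hF] at h2
    omega
  refine ⟨w, ?_⟩
  have h3 := SixTwo.pow_three hF hw0
  have : (w - 1) * (w ^ 2 + w + 1) = 0 := by
    rw [show (w - 1) * (w ^ 2 + w + 1) = w ^ 3 - 1 by ring, h3, sub_self]
  exact (mul_eq_zero.1 this).resolve_left (sub_ne_zero.2 hw1)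

/-- Seven points of a plane over two elements. -/
theorem plane_seven (a c h : Fin 6 → F) (hac : hh a c = 0) (hah : hh a h = 0) (hch : hh c h = 0)
    (haa : hh a a = 0) (hcc : hh c c = 0) (hhh : hh h h = 0) :
    ([a, c, a + c, h, a + c + h, a + h, c + h].map (SixTwo.tv hF)).prod = 1 := by
  have hca : hh c a = 0 := (SixTwo.hh_comm hF).1 hac
  have hha : hh h a = 0 := (SixTwo.hh_comm hF).1 hah
  have hhc : hh h c = 0 := (SixTwo.hh_comm hF).1 hch
  refine Unitary.su_ext fun x => ?_
  rw [tv_list_apply hF]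
  · have h2 : (2 : F) = 0 := CharTwo.two_eq_zero
    rw [Unitary.suMat_one, Matrix.one_mulVec]
    simp only [List.map_cons, List.map_nil, List.sum_cons, List.sum_nil, Unitary.herm_add_right hF]
    funext i
    simp only [Pi.add_apply, Pi.smul_apply, smul_eq_mul, Pi.zero_apply]
    linear_combination (2 * hh x a * a i + 2 * hh x c * c i + 2 * hh x h * h i + hh x a * c i + hh x c * a i +
      hh x a * h i + hh x h * a i + hh x c * h i + hh x h * c i) * h2
  · intro u hu
    simp only [List.mem_cons, List.not_mem_nil, or_false] at hu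
    rcases hu with rfl | rfl | rfl | rfl | rfl | rfl | rfl <;>
      simp [Unitary.herm_add_right hF, Unitary.herm_add_left, haa, hcc, hhh, hac, hah, hch, hca, hha, hhc]
  · intro u hu v hv
    simp only [List.mem_cons, List.not_mem_nil, or_false] at hu hv
    rcases hu with rfl | rfl | rfl | rfl | rfl | rfl | rfl <;>
      rcases hv with rfl | rfl | rfl | rfl | rfl | rfl | rfl <;>
      simp [Unitary.herm_add_right hF, Unitary.herm_add_left, haa, hcc, hhh, hac, hah, hch, hca, hha, hhc]

/-- Five points of a line over four elements. -/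
theorem line_five (e u : Fin 6 → F) (w : F) (hw : w ^ 2 + w + 1 = 0) (heu : hh e u = 0)
    (hee : hh e e = 0) (huu : hh u u = 0) :
    ([e, u, e + u, e + w • u, e + w ^ 2 • u].map (SixTwo.tv hF)).prod = 1 := by
  have hue : hh u e = 0 := (SixTwo.hh_comm hF).1 heu
  refine Unitary.su_ext fun x => ?_
  rw [tv_list_apply hF]
  · have h2 : (2 : F) = 0 := CharTwo.two_eq_zero
    rw [Unitary.suMat_one, Matrix.one_mulVec]
    simp only [List.map_cons, List.map_nil, List.sum_cons, List.sum_nil, Unitary.herm_add_right hF,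
      Unitary.herm_smul_right hF]
    funext i
    simp only [Pi.add_apply, Pi.smul_apply, smul_eq_mul, Pi.zero_apply]
    linear_combination (2 * hh x e * e i + 2 * hh x u * u i) * h2 + (hh x u * (w ^ 2 - w + 1) * e i) * hw +
      (hh x e * u i) * hw + (hh x u * u i) * ((w - 1) * (w ^ 3 + 2)) * hw
  · intro a ha
    simp only [List.mem_cons, List.not_mem_nil, or_false] at ha
    rcases ha with rfl | rfl | rfl | rfl | rfl <;>
      simp [Unitary.herm_add_right hF, Unitary.herm_add_left, Unitary.herm_smul_left, Unitary.herm_smul_right hF,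
        hee, huu, heu, hue]
  · intro a ha b hb
    simp only [List.mem_cons, List.not_mem_nil, or_false] at ha hb
    rcases ha with rfl | rfl | rfl | rfl | rfl <;> rcases hb with rfl | rfl | rfl | rfl | rfl <;>
      simp [Unitary.herm_add_right hF, Unitary.herm_add_left, Unitary.herm_smul_left, Unitary.herm_smul_right hF,
        hee, huu, heu, hue]

omit hF

/-! ### The configuration -/

variable {G : Type*} [Group G] {D : Set G}

/-- A chain of six with a seventh member. -/
structure Seven (D : Set G) (g f : G) (w : Fin 6 → G) (x : G) : Prop where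
  far : ¬ Commute g f
  hg : g ∈ D
  hf : f ∈ D
  mem : ∀ i, w i ∈ tri D g f
  chain : ∀ i j, i ≠ j → (Commute (w i) (w j) ↔ ¬ Adj6 i j)
  nbx : x ∈ nb D g
  comm : ∀ j, j ≠ 3 → Commute x (w j)
  adj : ¬ Commute x (w 3)

/-- The letters as elements. -/
def sevenList (w : Fin 6 → G) (x : G) : List G := [w 0, w 1, w 2, w 3, x, 1, 1, w 4, w 5]

variable [Finite G] {g : G} {φ : ↥(hsub D g) →* Cfsg.PSU 6 F 2}

include hF

theorem normalise (hM : Model D g hF φ) {w : Fin 6 → G} (hw : ∀ i, w i ∈ nb D g)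
    (hc : ∀ i j, i ≠ j → (Commute (w i) (w j) ↔ ¬ Adj6 i j)) :
    ∃ v : Fin 6 → Fin 6 → F, NormChain v ∧ (∀ i, SixTwo.IsPt (v i)) ∧ ∀ i, Rep hF φ (w i) (v i) := by
  choose u hu hru using fun i => hM.rep_exists (hw i)
  have hne : ∀ i j, i ≠ j → (hh (u i) (u j) = 0 ↔ ¬ Adj6 i j) := fun i j hij =>
    (hM.rep_comm (hw i) (hw j) (hu i) (hu j) (hru i) (hru j)).symm.trans (hc i j hij)
  have hn : ∀ i j : Fin 6, i.val + 1 = j.val → hh (u i) (u j) ≠ 0 := fun i j e q =>
    (hne i j (fun e' => by rw [e'] at e; omega)).1 q (Or.inl e)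
  -- scalars along the chain
  set a1 : F := hh (u 0) (u 1)
  set a2 : F := hh (u 1) (u 2)
  set a3 : F := hh (u 2) (u 3)
  set a4 : F := hh (u 3) (u 4)
  set a5 : F := hh (u 4) (u 5)
  have h1 : a1 ≠ 0 := hn 0 1 rfl
  have h2 : a2 ≠ 0 := hn 1 2 rfl
  have h3 : a3 ≠ 0 := hn 2 3 rfl
  have h4 : a4 ≠ 0 := hn 3 4 rfl
  have h5 : a5 ≠ 0 := hn 4 5 rfl
  have p3 := fun {a : F} (ha : a ≠ 0) => SixTwo.pow_three hF ha
  set s : Fin 6 → F := ![1, a1, a1 * a2, a1 * a2 * a3, a1 * a2 * a3 * a4, a1 * a2 * a3 * a4 * a5]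
  have hs : ∀ i, s i ≠ 0 := by
    intro i; fin_cases i <;> simp [s, h1, h2, h3, h4, h5]
  have hstep : ∀ k l : Fin 6, k.val + 1 = l.val → hh (s k • u k) (s l • u l) = 1 := by
    intro k l hkl
    rw [Unitary.herm_smul_left, Unitary.herm_smul_right hF]
    fin_cases k <;> fin_cases l <;> simp at hkl <;> simp [s]
    · show a1 ^ 2 * a1 = 1
      linear_combination p3 h1
    · show a1 * ((a1 * a2) ^ 2 * a2) = 1
      linear_combination a2 ^ 3 * p3 h1 + p3 h2
    · show a1 * a2 * ((a1 * a2 * a3) ^ 2 * a3) = 1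
      linear_combination a2 ^ 3 * a3 ^ 3 * p3 h1 + a3 ^ 3 * p3 h2 + p3 h3
    · show a1 * a2 * a3 * ((a1 * a2 * a3 * a4) ^ 2 * a4) = 1
      linear_combination a2 ^ 3 * a3 ^ 3 * a4 ^ 3 * p3 h1 + a3 ^ 3 * a4 ^ 3 * p3 h2 + a4 ^ 3 * p3 h3 + p3 h4
    · show a1 * a2 * a3 * a4 * ((a1 * a2 * a3 * a4 * a5) ^ 2 * a5) = 1
      linear_combination a2 ^ 3 * a3 ^ 3 * a4 ^ 3 * a5 ^ 3 * p3 h1 + a3 ^ 3 * a4 ^ 3 * a5 ^ 3 * p3 h2 +
        a4 ^ 3 * a5 ^ 3 * p3 h3 + a5 ^ 3 * p3 h4 + p3 h5
  refine ⟨fun i => s i • u i, fun i j => ?_, fun i => ?_, fun i => (hru i).change (SixTwo.tv_smul hF (hu i).2 (hs i)).symm⟩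
  · by_cases ha : Adj6 i j
    · rw [if_pos ha]
      rcases ha with e | e
      · exact hstep i j e
      · rw [Unitary.herm_swap hF, hstep j i e, one_pow]
    · rw [if_neg ha]
      by_cases hij : i = j
      · subst hij
        simp [Unitary.herm_smul_left, Unitary.herm_smul_right hF, (hu i).2]
      · simp [Unitary.herm_smul_left, Unitary.herm_smul_right hF, (hne i j hij).2 ha]
  · exact ⟨smul_ne_zero (hs i) (hu i).1, by simp [Unitary.herm_smul_left, Unitary.herm_smul_right hF, (hu i).2]⟩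

theorem exists_seventh (hM : Model D g hF φ) {f : G} (hg : g ∈ D) (hf : f ∈ D) (hgf : ¬ Commute g f)
    {w : Fin 6 → G} (hw : ∀ i, w i ∈ tri D g f) (hc : ∀ i j, i ≠ j → (Commute (w i) (w j) ↔ ¬ Adj6 i j)) :
    ∃ x, Seven D g f w x := by
  obtain ⟨v, hv, hpt, hr⟩ := normalise hF hM (fun i => (hw i).1) hc
  have hp := sv_isPt hF hv (letV_ne 4 (by decide))
  obtain ⟨x, hx, rx⟩ := hM.rep_lift hp
  have key : ∀ j, Commute x (w j) ↔ bil (letV 4) (Pi.single j 1) = 0 := fun j => by
    rw [hM.rep_comm hx (hw j).1 hp (hpt j) rx (hr j), ← sv_single v j, hh_sv hF hv]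
    exact map_eq_zero_iff _ (RingHom.injective cst)
  refine ⟨x, hgf, hg, hf, hw, hc, hx, fun j hj => (key j).2 ?_, fun q => ?_⟩
  · revert hj; revert j; decide
  · exact absurd ((key 3).1 q) (by decide)

theorem rep_conjE (hM : Model D g hF φ) (hD : TT0 D) {v : Fin 6 → Fin 6 → F} (hv : NormChain v) {L : List G}
    (hL : ∀ m ∈ sevenLetters, fl L m ∈ nb D g ∧ Rep hF φ (fl L m) (sv v (letV m))) :
    ∀ (p : List ℕ) (m : ℕ), (∀ s ∈ p, s ∈ sevenLetters) → m ∈ sevenLetters →
      conjE L p m ∈ nb D g ∧ Rep hF φ (conjE L p m) (sv v (conjV p m))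
  | [], m, _, hm => hL m hm
  | s :: p, m, hp, hm => by
    obtain ⟨h1, h2⟩ := rep_conjE hM hD hv hL p m (fun t ht => hp t (List.mem_cons_of_mem _ ht)) hm
    obtain ⟨s1, s2⟩ := hL s (hp s (by simp))
    have hx := sv_isPt hF hv (conjV_ne p m hm)
    have hs := sv_isPt hF hv (letV_ne s (hp s (by simp)))
    have e : fl L s * conjE L p m * fl L s = fl L s * conjE L p m * (fl L s)⁻¹ := by rw [hD.inv s1.1]
    refine ⟨?_, ?_⟩
    · show fl L s * conjE L p m * fl L s ∈ _
      rw [e]
      exact nb_conj_mem hD (Subgroup.subset_closure s1) h1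
    · have r := h2.conj s2.toLift hx
      rw [SixTwo.tv_apply hF hs.2, hh_sv hF hv, ← sv_smul, ← sv_add] at r
      show Rep hF φ (fl L s * conjE L p m * fl L s) _
      rw [e]
      exact r

end CfsgLib.ThreeT.Prod

namespace CfsgLib.ThreeT.Prod

open CfsgLib
open CfsgLib.Coset (ev fl ev_cons ev_nil ev_append)

variable {G : Type*} [Group G] [Finite G] {D : Set G} (h : Geo22 D) (hprim : Cfsg.IsPrimitiveUnderConj D)
  (ht : Cfsg.IsOfTypeM22 G D)

include h hprim ht

theorem Seven.not_commute {g f : G} {w : Fin 6 → G} {x : G} (hS : Seven D g f w x) : ¬ Commute x f := fun e =>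
  no_seventh h hprim ht hS.hg hS.hf hS.far hS.mem hS.chain (Or.inl rfl) ⟨hS.nbx, e⟩ hS.comm hS.adj

/-- The seven pairwise commuting members of the plane have product one. -/
theorem Seven.relation {g f : G} {w : Fin 6 → G} {x : G} (hS : Seven D g f w x) :
    ev (sevenList w x) sevenW = 1 := by
  classical
  obtain ⟨F, _, _, _, hF, φ, hM, -⟩ := exists_pair_model h hprim ht hS.hg (hS.mem 0).1
  obtain ⟨v, hv, hpt, hr⟩ := normalise hF hM (fun i => (hS.mem i).1) hS.chain
  have hD := h.tt
  -- the seventh member sits over its vector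
  have rx : Rep hF φ x (sv v (letV 4)) := by
    obtain ⟨u, hu, ru⟩ := hM.rep_exists hS.nbx
    have hp := sv_isPt hF hv (letV_ne 4 (by decide))
    have hj : ∀ j, j ≠ 3 → Cfsg.hermForm 6 F 2 u (v j) = 0 := fun j hj =>
      (hM.rep_comm hS.nbx (hS.mem j).1 hu (hpt j) ru (hr j)).1 (hS.comm j hj)
    have h3 : Cfsg.hermForm 6 F 2 u (v 3) ≠ 0 := fun q =>
      hS.adj ((hM.rep_comm hS.nbx (hS.mem 3).1 hu (hpt 3) ru (hr 3)).2 q)
    set lam := Cfsg.hermForm 6 F 2 u (v 3) with hlam
    have hz : u - lam • sv v (letV 4) = 0 := by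
      refine Unitary.uForm_nondeg hF 6 _ fun y => ?_
      -- the six vectors form a basis
      have hli : LinearIndependent F v := by
        rw [Fintype.linearIndependent_iff]
        intro c hc
        have hk : ∀ j, Cfsg.hermForm 6 F 2 (∑ i, c i • v i) (v j) = ∑ i, c i * (if Adj6 i j then 1 else 0) := by
          intro j
          rw [herm_sum_left hF]
          exact Finset.sum_congr rfl fun i _ => by rw [Unitary.herm_smul_left, hv i j]
        simp only [hc, SixTwo.hh_zero_left hF, Fin.sum_univ_six] at hk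
        have k0 := hk 0
        have k1 := hk 1
        have k2 := hk 2
        have k3 := hk 3
        have k4 := hk 4
        have k5 := hk 5
        simp [Adj6] at k0 k1 k2 k3 k4 k5
        intro i
        fin_cases i <;> simp <;> grind
      have hy : y ∈ Submodule.span F (Set.range v) := by
        rw [hli.span_eq_top_of_card_eq_finrank (by simp)]; trivial
      show Cfsg.hermForm 6 F 2 y (u - lam • sv v (letV 4)) = 0
      refine (SixTwo.hh_comm hF).1 ?_
      induction hy using Submodule.span_induction with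
      | mem z hz =>
        obtain ⟨j, rfl⟩ := hz
        rw [Unitary.herm_sub_left hF, Unitary.herm_smul_left, ← sv_single v j, hh_sv hF hv,
          sv_single v j]
        by_cases hj3 : j = 3
        · subst hj3
          rw [show bil (letV 4) (Pi.single (3 : Fin 6) 1) = 1 by decide +kernel, map_one, mul_one, hlam, sub_self]
        · rw [hj j hj3, show bil (letV 4) (Pi.single j 1) = 0 by revert hj3; revert j; decide +kernel, map_zero,
            mul_zero, sub_zero]
      | zero => exact SixTwo.hh_zero_right hF _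
      | add a b _ _ ha hb => rw [Unitary.herm_add_right hF, ha, hb, add_zero]
      | smul a b _ hb => rw [Unitary.herm_smul_right hF, hb, mul_zero]
    have hu' : u = lam • sv v (letV 4) := sub_eq_zero.1 hz
    exact ru.change (by rw [hu', SixTwo.tv_smul hF hp.2 h3])
  set L := sevenList w x with hL
  obtain ⟨l0, l1, l2, l3, l7, l8⟩ := letV_single
  have hLrep : ∀ m ∈ sevenLetters, fl L m ∈ nb D g ∧ Rep hF φ (fl L m) (sv v (letV m)) := by
    intro m hm
    simp only [sevenLetters, List.mem_cons, List.not_mem_nil, or_false] at hm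
    rcases hm with rfl | rfl | rfl | rfl | rfl | rfl | rfl
    · exact ⟨(hS.mem 0).1, by rw [l0, sv_single]; exact hr 0⟩
    · exact ⟨(hS.mem 1).1, by rw [l1, sv_single]; exact hr 1⟩
    · exact ⟨(hS.mem 2).1, by rw [l2, sv_single]; exact hr 2⟩
    · exact ⟨(hS.mem 3).1, by rw [l3, sv_single]; exact hr 3⟩
    · exact ⟨hS.nbx, rx⟩
    · exact ⟨(hS.mem 4).1, by rw [l7, sv_single]; exact hr 4⟩
    · exact ⟨(hS.mem 5).1, by rw [l8, sv_single]; exact hr 5⟩
  -- the seven elements
  obtain ⟨vR, vU, vV⟩ := conjV_vals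
  set r := conjE L pR 0
  set u' := conjE L pU 2
  set v' := conjE L pV 0
  obtain ⟨nr, rr⟩ := rep_conjE hF hM hD hv hLrep pR 0 (by decide) (by decide)
  obtain ⟨nu, ru⟩ := rep_conjE hF hM hD hv hLrep pU 2 (by decide) (by decide)
  obtain ⟨nv, rv⟩ := rep_conjE hF hM hD hv hLrep pV 0 (by decide) (by decide)
  rw [vR] at rr
  rw [vU] at ru
  rw [vV] at rv
  set A := v 0
  set C := v 2
  set H := v 4
  have sva : ∀ x : Fin 6 → ZMod 2, sv v x = sv v x := fun _ => rfl
  have eR : sv v ![1, 0, 1, 0, 1, 0] = A + C + H := by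
    simp [sv, Fin.sum_univ_six, A, C, H]
  have eU : sv v ![1, 0, 0, 0, 1, 0] = A + H := by simp [sv, Fin.sum_univ_six, A, H]
  have eV : sv v ![0, 0, 1, 0, 1, 0] = C + H := by simp [sv, Fin.sum_univ_six, C, H]
  have eE : sv v (letV 4) = A + C := by simp [sv, letV, Fin.sum_univ_six, A, C]
  rw [eR] at rr
  rw [eU] at ru
  rw [eV] at rv
  rw [eE] at rx
  have hAC : Cfsg.hermForm 6 F 2 A C = 0 := by rw [hv]; simp [Adj6]
  have hAH : Cfsg.hermForm 6 F 2 A H = 0 := by rw [hv]; simp [Adj6]
  have hCH : Cfsg.hermForm 6 F 2 C H = 0 := by rw [hv]; simp [Adj6]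
  -- orthogonality inside the plane
  have hprod : ∀ {a b : G} {s t : Fin 6 → F}, a ∈ nb D g → b ∈ nb D g → SixTwo.IsPt s → SixTwo.IsPt t →
      Rep hF φ a s → Rep hF φ b t → Cfsg.hermForm 6 F 2 s t = 0 → Commute a b :=
    fun ha hb hs ht' ra rb e => (hM.rep_comm ha hb hs ht' ra rb).2 e
  have ptE : SixTwo.IsPt (A + C) := eE ▸ sv_isPt hF hv (letV_ne 4 (by decide))
  have ptR : SixTwo.IsPt (A + C + H) := eR ▸ sv_isPt hF hv (by decide)
  have ptU : SixTwo.IsPt (A + H) := eU ▸ sv_isPt hF hv (by decide)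
  have ptV : SixTwo.IsPt (C + H) := eV ▸ sv_isPt hF hv (by decide)
  obtain ⟨om, hom⟩ := exists_omega hF
  have hCA := (SixTwo.hh_comm hF).1 hAC
  have hHA := (SixTwo.hh_comm hF).1 hAH
  have hHC := (SixTwo.hh_comm hF).1 hCH
  have hEU : Cfsg.hermForm 6 F 2 (A + C) (A + H) = 0 := by
    simp [Unitary.herm_add_right hF, Unitary.herm_add_left, (hpt 0).2, hAH, hCA, hCH, A, C, H] at *
  -- the two further points of the line
  have ptP : ∀ l : F, l ≠ 0 → SixTwo.IsPt ((A + C) + l • (A + H)) := by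
    intro l hl
    have hline2 : ∀ e u : Fin 6 → F, Cfsg.hermForm 6 F 2 e e = 0 → Cfsg.hermForm 6 F 2 u u = 0 →
        Cfsg.hermForm 6 F 2 e u = 0 → Cfsg.hermForm 6 F 2 (e + l • u) (e + l • u) = 0 := fun e u h1 h2 h3 => by
      simp [Unitary.herm_add_right hF, Unitary.herm_add_left, Unitary.herm_smul_left, Unitary.herm_smul_right hF,
        h1, h2, h3, (SixTwo.hh_comm hF).1 h3]
    refine ⟨fun e => ?_, hline2 _ _ ptE.2 ptU.2 hEU⟩
    have := congrArg (fun z => Cfsg.hermForm 6 F 2 z (v 5)) e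
    simp only [Unitary.herm_add_left, Unitary.herm_smul_left, SixTwo.hh_zero_left hF] at this
    simp [A, C, H, hv, Adj6] at this
    exact hl this
  have hom0 : om ≠ 0 := fun e => by simp [e] at hom
  have hom1 : om ≠ 1 := fun e => by
    rw [e] at hom
    simp [CharTwo.add_self_eq_zero] at hom
  obtain ⟨p, np, rp⟩ := hM.rep_lift (ptP om hom0)
  obtain ⟨q, nq, rq⟩ := hM.rep_lift (ptP (om ^ 2) (pow_ne_zero _ hom0))
  have ptA : SixTwo.IsPt A := hpt 0
  have ptC : SixTwo.IsPt C := hpt 2
  have ptH : SixTwo.IsPt H := hpt 4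
  set a := w 0
  set c := w 2
  set hh' := w 4
  have na := (hS.mem 0).1
  have nc := (hS.mem 2).1
  have nh := (hS.mem 4).1
  have rA := hr 0
  have rC := hr 2
  have rH := hr 4
  -- all ten points commute pairwise
  let pts : List (G × (Fin 6 → F)) := [(a, A), (c, C), (x, A + C), (hh', H), (r, A + C + H), (u', A + H),
    (v', C + H), (p, (A + C) + om • (A + H)), (q, (A + C) + om ^ 2 • (A + H))]
  have hpts : ∀ z ∈ pts, z.1 ∈ nb D g ∧ SixTwo.IsPt z.2 ∧ Rep hF φ z.1 z.2 := by
    intro z hz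
    simp only [pts, List.mem_cons, List.not_mem_nil, or_false] at hz
    rcases hz with rfl | rfl | rfl | rfl | rfl | rfl | rfl | rfl | rfl
    exacts [⟨na, ptA, rA⟩, ⟨nc, ptC, rC⟩, ⟨hS.nbx, ptE, rx⟩, ⟨nh, ptH, rH⟩, ⟨nr, ptR, rr⟩, ⟨nu, ptU, ru⟩,
      ⟨nv, ptV, rv⟩, ⟨np, ptP om hom0, rp⟩, ⟨nq, ptP _ (pow_ne_zero _ hom0), rq⟩]
  have hcomm : ∀ z ∈ pts, ∀ z' ∈ pts, Commute z.1 z'.1 := by
    intro z hz z' hz'
    obtain ⟨a1, a2, a3⟩ := hpts z hz
    obtain ⟨b1, b2, b3⟩ := hpts z' hz'
    refine hprod a1 b1 a2 b2 a3 b3 ?_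
    have hspan : ∀ z ∈ pts, ∃ l m n : F, z.2 = l • A + m • C + n • H := by
      intro z hz
      simp only [pts, List.mem_cons, List.not_mem_nil, or_false] at hz
      rcases hz with rfl | rfl | rfl | rfl | rfl | rfl | rfl | rfl | rfl
      exacts [⟨1, 0, 0, by simp⟩, ⟨0, 1, 0, by simp⟩, ⟨1, 1, 0, by simp⟩, ⟨0, 0, 1, by simp⟩, ⟨1, 1, 1, by simp⟩,
        ⟨1, 0, 1, by simp⟩, ⟨0, 1, 1, by simp⟩,
        ⟨1 + om, 1, om, by simp only [smul_add, add_smul, one_smul]; abel⟩,
        ⟨1 + om ^ 2, 1, om ^ 2, by simp only [smul_add, add_smul, one_smul]; abel⟩]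
    obtain ⟨l, m, n, e⟩ := hspan z hz
    obtain ⟨l', m', n', e'⟩ := hspan z' hz'
    rw [e, e']
    simp [Unitary.herm_add_right hF, Unitary.herm_add_left, Unitary.herm_smul_left, Unitary.herm_smul_right hF,
      ptA.2, ptC.2, ptH.2, hAC, hCA, hAH, hHA, hCH, hHC]
  have hker : ∀ l : List (G × (Fin 6 → F)), (∀ z ∈ l, z ∈ pts) →
      (l.map fun z => SixTwo.tv hF z.2).prod = 1 → (l.map Prod.fst).prod = 1 ∨ (l.map Prod.fst).prod = g := by
    intro l hl e
    have hlift : ∀ l : List (G × (Fin 6 → F)), (∀ z ∈ l, z ∈ pts) →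
        Lift φ (l.map Prod.fst).prod (l.map fun z => SixTwo.tv hF z.2).prod := by
      intro l
      induction l with
      | nil => intro _; exact ⟨one_mem _, by simp only [List.map_nil, List.prod_nil]; exact map_one φ⟩
      | cons z l ih =>
        intro hl'
        simp only [List.map_cons, List.prod_cons]
        exact ((hpts z (hl' z (by simp))).2.2.toLift).mul (ih fun y hy => hl' y (List.mem_cons_of_mem _ hy))
    obtain ⟨hm, em⟩ := hlift l hl
    rw [e, map_one] at em
    exact hM.ker _ em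
  -- distinctness, read off at the chain
  have hsep : ∀ z ∈ pts, ∀ z' ∈ pts, ∀ j, Cfsg.hermForm 6 F 2 z.2 (v j) = 0 →
      Cfsg.hermForm 6 F 2 z'.2 (v j) ≠ 0 → z.1 ≠ z'.1 := by
    intro z hz z' hz' j e e' he
    obtain ⟨a1, a2, a3⟩ := hpts z hz
    obtain ⟨b1, b2, b3⟩ := hpts z' hz'
    exact e' ((hM.rep_comm b1 (hS.mem j).1 b2 (hpt j) b3 (hr j)).1
      (he ▸ (hM.rep_comm a1 (hS.mem j).1 a2 (hpt j) a3 (hr j)).2 e))
  have nxu : x ≠ u' := by
    refine hsep (x, A + C) (by simp [pts]) (u', A + H) (by simp [pts]) 5 ?_ ?_ <;>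
      simp [Unitary.herm_add_left, A, C, H, hv, Adj6]
  have nxv : x ≠ v' := by
    refine hsep (x, A + C) (by simp [pts]) (v', C + H) (by simp [pts]) 5 ?_ ?_ <;>
      simp [Unitary.herm_add_left, A, C, H, hv, Adj6]
  have nvu : v' ≠ u' := by
    refine hsep (v', C + H) (by simp [pts]) (u', A + H) (by simp [pts]) 3 ?_ ?_ <;>
      simp [Unitary.herm_add_left, A, C, H, hv, Adj6, CharTwo.add_self_eq_zero]
  have nrp : r ≠ p := by
    refine hsep (r, A + C + H) (by simp [pts]) (p, (A + C) + om • (A + H)) (by simp [pts]) 1 ?_ ?_ <;>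
      simp [Unitary.herm_add_left, Unitary.herm_smul_left, A, C, H, hv, Adj6, CharTwo.add_self_eq_zero, hom0]
  have nrq : r ≠ q := by
    refine hsep (r, A + C + H) (by simp [pts]) (q, (A + C) + om ^ 2 • (A + H)) (by simp [pts]) 1 ?_ ?_ <;>
      simp [Unitary.herm_add_left, Unitary.herm_smul_left, A, C, H, hv, Adj6, CharTwo.add_self_eq_zero, hom0]
  have npq : p ≠ q := by
    intro e
    have e' := (e ▸ rp).same rq (ptP om hom0) (ptP _ (pow_ne_zero _ hom0))
    obtain ⟨l, hl⟩ := SixTwo.tv_eq_smul hF (ptP om hom0) (ptP _ (pow_ne_zero _ hom0)) e'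
    have c5 := congrArg (fun z => Cfsg.hermForm 6 F 2 z (v 5)) hl
    have c3 := congrArg (fun z => Cfsg.hermForm 6 F 2 z (v 3)) hl
    simp only [Unitary.herm_add_left, Unitary.herm_smul_left] at c5 c3
    simp [A, C, H, hv, Adj6] at c5 c3
    have h2 : (2 : F) = 0 := CharTwo.two_eq_zero
    have : om * (om - 1) = 0 := by grind
    rcases mul_eq_zero.1 this with q' | q'
    · exact hom0 q'
    · exact hom1 (sub_eq_zero.1 q')
  have nra : ∀ {y : G} {Y : Fin 6 → F}, (y, Y) ∈ pts → Cfsg.hermForm 6 F 2 Y (v 5) = 0 → r ≠ y := fun {y Y} hy e q =>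
    hsep (y, Y) hy (r, A + C + H) (by simp [pts]) 5 e (by simp [Unitary.herm_add_left, A, C, H, hv, Adj6]) q.symm
  have nra' : r ≠ a := nra (y := a) (Y := A) (by simp [pts]) (by simp [A, hv, Adj6])
  have nrc : r ≠ c := nra (y := c) (Y := C) (by simp [pts]) (by simp [C, hv, Adj6])
  have nrh : r ≠ hh' := by
    refine hsep (r, A + C + H) (by simp [pts]) (hh', H) (by simp [pts]) 3 ?_ ?_ <;>
      simp [Unitary.herm_add_left, A, C, H, hv, Adj6, CharTwo.add_self_eq_zero]
  have cm : ∀ y ∈ pts.map Prod.fst, ∀ y' ∈ pts.map Prod.fst, Commute y y' := by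
    intro y hy y' hy'
    obtain ⟨z, hz, rfl⟩ := List.mem_map.1 hy
    obtain ⟨z', hz', rfl⟩ := List.mem_map.1 hy'
    exact hcomm z hz z' hz'
  have sq : ∀ y ∈ pts.map Prod.fst, y * y = 1 := by
    intro y hy
    obtain ⟨z, hz, rfl⟩ := List.mem_map.1 hy
    exact hD.sq _ (hpts z hz).1.1
  have inD : ∀ y ∈ pts.map Prod.fst, y ∈ D := by
    intro y hy
    obtain ⟨z, hz, rfl⟩ := List.mem_map.1 hy
    exact (hpts z hz).1.1
  -- the line
  have hline : x * u' * v' * p * q = g := by
    have e1 : ([(x, A + C), (u', A + H), (v', C + H), (p, (A + C) + om • (A + H)),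
        (q, (A + C) + om ^ 2 • (A + H))].map fun z => SixTwo.tv hF z.2).prod = 1 := by
      have e := line_five hF (A + C) (A + H) om hom hEU ptE.2 ptU.2
      have eVv : C + H = (A + C) + (A + H) := by
        rw [show (A + C) + (A + H) = (A + A) + (C + H) by abel, CharTwo.add_self_eq_zero, zero_add]
      simpa [eVv] using e
    rcases hker _ (by simp [pts]) e1 with e | e
    · exfalso
      simp only [List.map_cons, List.map_nil, List.prod_cons, List.prod_nil, mul_one] at e
      have hcpq : Commute p q := cm p (by simp [pts]) q (by simp [pts])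
      have e3 : x * (u' * v') = p * q := by
        calc x * (u' * v') = x * (u' * (v' * (p * q))) * (p * q) := by
              rw [show x * (u' * (v' * (p * q))) * (p * q) = x * (u' * v') * ((p * q) * (p * q)) by group]
              rw [show p * q * (p * q) = p * (q * p) * q by group, ← hcpq.eq,
                show p * (p * q) * q = (p * p) * (q * q) by group, hD.sq p np.1, hD.sq q nq.1, one_mul, mul_one]
          _ = p * q := by rw [e, one_mul]
      have f3 : Facs D 3 (p * q) := by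
        refine ⟨[x, u', v'], ?_, rfl, fun z hz => inD z ?_, fun z hz z' hz' => cm z ?_ z' ?_, by simp [e3]⟩
        · simp [nxu, nxv, nvu.symm]
        · simp [pts] at hz ⊢; tauto
        · simp [pts] at hz ⊢; tauto
        · simp [pts] at hz' ⊢; tauto
      have f2 : Facs D 2 (p * q) := by
        refine ⟨[p, q], by simp [npq], rfl, fun z hz => inD z ?_, fun z hz z' hz' => cm z ?_ z' ?_, by simp⟩
        · simp [pts] at hz ⊢; tauto
        · simp [pts] at hz ⊢; tauto
        · simp [pts] at hz' ⊢; tauto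
      exact absurd (facs_unique h hprim ht (by norm_num) le_rfl (by norm_num) (by norm_num) f3 f2) (by norm_num)
    · simpa [mul_assoc] using e
  -- the plane
  have hev : ev L sevenW = a * (c * (x * (hh' * (r * (u' * v'))))) := by
    rw [sevenW, ev_append _ [0, 2, 4, 7], ev_append _ (pR ++ 0 :: pR.reverse),
      ev_append _ (pU ++ 2 :: pU.reverse), ev_conjE, ev_conjE, ev_conjE, ev_cons, ev_cons, ev_cons,
      ev_cons, ev_nil, mul_one]
    simp only [mul_assoc]
    rfl
  have e7 : ([(a, A), (c, C), (x, A + C), (hh', H), (r, A + C + H), (u', A + H), (v', C + H)].map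
      fun z => SixTwo.tv hF z.2).prod = 1 :=
    plane_seven hF A C H hAC hAH hCH ptA.2 ptC.2 ptH.2
  rcases hker _ (by simp [pts]) e7 with e | e
  · rw [hev]; simpa using e
  exfalso
  simp only [List.map_cons, List.map_nil, List.prod_cons, List.prod_nil, mul_one] at e
  have mA : a ∈ pts.map Prod.fst := by simp [pts]
  have mC : c ∈ pts.map Prod.fst := by simp [pts]
  have mX : x ∈ pts.map Prod.fst := by simp [pts]
  have mH : hh' ∈ pts.map Prod.fst := by simp [pts]
  have mR : r ∈ pts.map Prod.fst := by simp [pts]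
  have mU : u' ∈ pts.map Prod.fst := by simp [pts]
  have mV : v' ∈ pts.map Prod.fst := by simp [pts]
  have mP : p ∈ pts.map Prod.fst := by simp [pts]
  have mQ : q ∈ pts.map Prod.fst := by simp [pts]
  have hkey : a * c * hh' = r * (p * q) := by
    have cxh : Commute x hh' := cm x mX hh' mH
    have cxr : Commute x r := cm x mX r mR
    have e' : a * c * hh' * r * (x * u' * v') = g := by
      rw [← e]
      calc a * c * hh' * r * (x * u' * v') = a * c * (hh' * r * x) * (u' * v') := by group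
        _ = a * c * (x * (hh' * r)) * (u' * v') := by rw [((cxh.mul_right cxr).eq).symm]
        _ = _ := by group
    rw [show x * u' * v' = g * (q * p) by
      rw [← hline, show x * u' * v' * p * q * (q * p) = x * u' * v' * (p * (q * q) * p) by group, hD.sq q nq.1,
        mul_one, hD.sq p np.1, mul_one]] at e'
    have hgP : Commute g (a * c * hh' * r) :=
      (((na.2.2.mul_right nc.2.2).mul_right nh.2.2).mul_right nr.2.2)
    have e2 : a * c * hh' * r * (q * p) = 1 := by
      refine mul_left_cancel (a := g) ?_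
      rw [mul_one]
      calc g * (a * c * hh' * r * (q * p)) = (g * (a * c * hh' * r)) * (q * p) := by group
        _ = a * c * hh' * r * (g * (q * p)) := by rw [hgP.eq]; group
        _ = g := e'
    calc a * c * hh' = a * c * hh' * r * (q * p) * (p * q) * r := by
          rw [show a * c * hh' * r * (q * p) * (p * q) * r = a * c * hh' * r * (q * (p * p) * q) * r by group,
            hD.sq p np.1, mul_one, hD.sq q nq.1, mul_one, mul_assoc _ r r, hD.sq r nr.1, mul_one]
      _ = p * q * r := by rw [e2, one_mul]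
      _ = r * (p * q) := ((cm r mR p mP).mul_right (cm r mR q mQ)).eq.symm
  have l1 : Triple D [a, c, hh'] := by
    refine ⟨?_, rfl, fun z hz => inD z ?_, fun z hz z' hz' => cm z ?_ z' ?_⟩
    · have : ∀ i j : Fin 6, i ≠ j → w i ≠ w j := by
        intro i j hij e'
        rcases adj_separate i j hij with hk | ⟨k, hki, hkj, ⟨h1, h2⟩ | ⟨h1, h2⟩⟩
        · exact (hS.chain i j hij).1 (e' ▸ Commute.refl (w i)) hk
        · exact (hS.chain i k hki.symm).1 (e' ▸ (hS.chain j k hkj.symm).2 h2) h1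
        · exact (hS.chain j k hkj.symm).1 (e' ▸ (hS.chain i k hki.symm).2 h2) h1
      simp [a, c, hh', this 0 2 (by decide), this 0 4 (by decide), this 2 4 (by decide)]
    · simp [pts] at hz ⊢; tauto
    · simp [pts] at hz ⊢; tauto
    · simp [pts] at hz' ⊢; tauto
  have l2 : Triple D [r, p, q] := by
    refine ⟨by simp [nrp, nrq, npq], rfl, fun z hz => inD z ?_, fun z hz z' hz' => cm z ?_ z' ?_⟩
    · simp [pts] at hz ⊢; tauto
    · simp [pts] at hz ⊢; tauto
    · simp [pts] at hz' ⊢; tauto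
  have hp2 : [r, p, q].prod = [a, c, hh'].prod := by
    simp only [List.prod_cons, List.prod_nil, mul_one]
    rw [← mul_assoc a c, hkey]
  -- conjugation by the far member
  have hfix : ∀ i, f * w i * f = w i := fun i => by
    rw [((hS.mem i).2).symm.eq, mul_assoc, hD.sq f hS.hf, mul_one]
  have hfr : Commute f r := by
    refine commute_of_conj h hS.hf nr.1 ?_
    set l3 := [r, p, q].map fun y => f * y * f
    have hl3 : Triple D l3 := by
      refine ⟨l2.1.map fun y z e' => mul_left_cancel (mul_right_cancel e'), rfl, fun y hy => ?_, fun y hy y' hy' => ?_⟩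
      · obtain ⟨y, hy', rfl⟩ := List.mem_map.1 hy
        have := hD.conj f y (l2.2.2.1 y hy')
        rwa [hD.inv hS.hf] at this
      · obtain ⟨y, hy1, rfl⟩ := List.mem_map.1 hy
        obtain ⟨y', hy2, rfl⟩ := List.mem_map.1 hy'
        have := (commute_conj_iff f y y').2 (l2.2.2.2 y hy1 y' hy2)
        rwa [hD.inv hS.hf] at this
    have hl3p : l3.prod = [r, p, q].prod :=
      (conj_list h hS.hf (by
        rw [hp2]
        simp only [List.prod_cons, List.prod_nil, mul_one]
        calc f * (a * (c * hh')) * f = (f * a * f) * ((f * c * f) * (f * hh' * f)) := by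
              rw [show (f * a * f) * ((f * c * f) * (f * hh' * f)) =
                f * a * (f * f) * c * (f * f) * hh' * f by group, hD.sq f hS.hf, mul_one, mul_one]
              group
          _ = a * (c * hh') := by rw [hfix 0, hfix 2, hfix 4]) rfl)
    have hmem : f * r * f ∈ l3 := List.mem_map.2 ⟨r, by simp, rfl⟩
    obtain ⟨u1, u2, hu1, hu2, -, hall⟩ := two_triples h.toSetup22 l1
    rcases triple_eq_or_disjoint hD h.twinFree h.ne_one hl3 l2 hl3p with e3 | e3
    · exact l2.2.2.2 _ ((e3 _).1 hmem) r (by simp)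
    · exact e3.2 _ hmem r (by simp)
  have hrT : r ∈ tri D g f := ⟨nr, hfr.symm⟩
  refine no_seventh h hprim ht hS.hg hS.hf hS.far hS.mem hS.chain (J := 5) (Or.inr rfl) hrT ?_ ?_
  · intro j hj
    refine (hM.rep_comm nr (hS.mem j).1 ptR (hpt j) rr (hr j)).2 ?_
    simp only [Unitary.herm_add_left, A, C, H, hv]
    fin_cases j <;> simp [Adj6, CharTwo.add_self_eq_zero] at hj ⊢
  · intro q'
    have := (hM.rep_comm nr (hS.mem 5).1 ptR (hpt 5) rr (hr 5)).1 q'
    simp [Unitary.herm_add_left, A, C, H, hv, Adj6] at this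

end CfsgLib.ThreeT.Prod
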