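import Cfsg.Agent.Spor3T.M23Big
import Cfsg.Agent.Spor3T.ReflOrderSeven

/-!
Type M(23): the joint centraliser of a non-commuting pair is `O₇(3)`.
-/

set_option autoImplicit false
set_option linter.unusedSectionVars false
set_option linter.style.haveILetI false

namespace CfsgLib.ThreeT.Prod

variable {G : Type*} [Group G] [Finite G] {D : Set G} {d : G} (P : Point23 D d)

include P

theorem far_pair_conj23 {a e a' e' : G} (ha : a ∈ D) (he : e ∈ D) (hae : ¬ Commute a e) (ha' : a' ∈ D)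
    (he' : e' ∈ D) (hae' : ¬ Commute a' e') : ∃ g : G, g * a * g⁻¹ = a' ∧ g * e * g⁻¹ = e' := by
  obtain ⟨g, hg⟩ := P.base.conjD a ha a' ha' (P.base.ne_one a ha) (P.base.ne_one a' ha')
  have hfar : ¬ Commute a' (g * e * g⁻¹) := fun q => hae ((commute_conj_iff g a e).1 (by rwa [hg]))
  obtain ⟨k, hk, q⟩ := far_trans23 P ha' (P.base.tt.conj g e he) he' hfar hae'
  refine ⟨k * g, ?_, ?_⟩
  · rw [show k * g * a * (k * g)⁻¹ = k * (g * a * g⁻¹) * k⁻¹ by group, hg, (commute_hsub hk).eq,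
      mul_inv_cancel_right]
  · rw [show k * g * e * (k * g)⁻¹ = k * (g * e * g⁻¹) * k⁻¹ by group, q]

/-- The joint centraliser of a non-commuting pair is a projective reflection group in seven dimensions. -/
theorem far_iso23 (h : Cfsg.IsOfTypeM23 G D) {a e : G} (ha : a ∈ D) (he : e ∈ D) (hae : ¬ Commute a e) :
    ∃ (Q : QuadraticForm (ZMod 3) (Fin 7 → ZMod 3)) (c : ZMod 3),
      (QuadraticMap.polarBilin Q).Nondegenerate ∧ c ≠ 0 ∧
      Nonempty (↥(Subgroup.centralizer ({e} : Set G) ⊓ hsub D a) ≃*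
        ↥(Cfsg.reflectionSubgroup (⇑Q) c) ⧸ Subgroup.center ↥(Cfsg.reflectionSubgroup (⇑Q) c)) := by
  obtain ⟨-, d₀, hd₀, c₀, hc₀, hdc, -, c₃, hc₃, Q, hQ, -, ⟨ε⟩⟩ := id h
  obtain ⟨g, hga, hge⟩ := far_pair_conj23 P hd₀ hc₀ hdc ha he hae
  set K₀ := Subgroup.closure ({y : G | y ∈ D ∧ y ≠ d₀ ∧ Commute d₀ y} ∩ {y : G | y ∈ D ∧ y ≠ c₀ ∧ Commute c₀ y})
    with hK₀
  set L := Subgroup.centralizer ({e} : Set G) ⊓ hsub D a
  have hle : K₀.map (MulAut.conj g).toMonoidHom ≤ L := by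
    rw [hK₀, MonoidHom.map_closure, Subgroup.closure_le]
    rintro _ ⟨y, hy, rfl⟩
    refine ⟨Subgroup.mem_centralizer_singleton_iff.2 ?_, (mem_hsub23 P ha).2 ?_⟩
    · rw [← hge]; exact ((commute_conj_iff g y c₀).2 hy.2.2.2.symm).eq
    · rw [← hga]; exact (commute_conj_iff g y d₀).2 hy.1.2.2.symm
  set iK : ↥K₀ ≃* ↥(K₀.map (MulAut.conj g).toMonoidHom) :=
    Subgroup.equivMapOfInjective _ _ (MulAut.conj g).injective
  have hR := CfsgLib.ReflThree.card_proj_seven hQ hc₃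
  rw [← Nat.card_congr ε.toEquiv] at hR
  have hL : Nat.card ↥L = 4585351680 := card_far_cent23 P ha he hae
  have hle' : Nat.card ↥K₀ ≤ 4585351680 := by
    rw [← hL, Nat.card_congr iK.toEquiv]
    exact Nat.card_le_card_of_injective _ (Subgroup.inclusion_injective hle)
  have hK0 := Subgroup.card_eq_card_quotient_mul_card_subgroup (Subgroup.center ↥K₀)
  have hpos : 0 < Nat.card ↥(Subgroup.center ↥K₀) := Nat.card_pos
  have hR' : 4585351680 ≤ Nat.card (↥K₀ ⧸ Subgroup.center ↥K₀) := hR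
  have hone : Nat.card ↥(Subgroup.center ↥K₀) = 1 := by
    by_contra hne
    have h2 : 4585351680 * 2 ≤ Nat.card ↥K₀ := hK0.symm ▸ Nat.mul_le_mul hR' (by omega)
    omega
  have hbot : Subgroup.center ↥K₀ = ⊥ := Subgroup.card_eq_one.1 hone
  rw [hone, mul_one] at hK0
  have heq : K₀.map (MulAut.conj g).toMonoidHom = L := Subgroup.eq_of_le_of_card_ge hle (by
    rw [hL, ← Nat.card_congr iK.toEquiv]; omega)
  exact ⟨Q, c₃, hQ, hc₃, ⟨((iK.trans (MulEquiv.subgroupCongr heq)).symm.trans ((QuotientGroup.quotientBot.symm.trans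
      (QuotientGroup.quotientMulEquivOfEq hbot.symm)).trans ε))⟩⟩

/-- In the joint centraliser of a non-commuting pair an element of order 13 centralises no element of order 3
or 5. -/
theorem far_isolated23 (h : Cfsg.IsOfTypeM23 G D) {a e : G} (ha : a ∈ D) (he : e ∈ D) (hae : ¬ Commute a e)
    {y z : G} (hy : y ∈ Subgroup.centralizer ({e} : Set G) ⊓ hsub D a)
    (hz : z ∈ Subgroup.centralizer ({e} : Set G) ⊓ hsub D a) {r : ℕ} (hr : r = 3 ∨ r = 5)
    (hy13 : orderOf y = 13) (hzr : orderOf z = r) : ¬ Commute z y := by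
  intro hc
  obtain ⟨Q, c, hQ, hc0, ⟨ε⟩⟩ := far_iso23 P h ha he hae
  refine CfsgLib.ReflThree.thirteen_isolated hQ hc0 (y := ε ⟨y, hy⟩) (z := ε ⟨z, hz⟩) hr ?_ ?_
    ((show Commute (⟨z, hz⟩ : ↥(Subgroup.centralizer ({e} : Set G) ⊓ hsub D a)) ⟨y, hy⟩ from Subtype.ext hc.eq).map ε)
  · rw [MulEquiv.orderOf_eq, ← Subgroup.orderOf_coe]; exact hy13
  · rw [MulEquiv.orderOf_eq, ← Subgroup.orderOf_coe]; exact hzr

end CfsgLib.ThreeT.Prod
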