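import Cfsg.Agent.Spor3T.Level
import Cfsg.Agent.Spor3T.M22Invol

/-!
Type M(23): the neighbourhood of a transposition modulo its centre is a group of type M(22) to which the
counts apply, so the group is one level of the chain with data `3510, 693, 180, 126, 45`.
-/

set_option autoImplicit false
set_option linter.unusedSectionVars false
set_option linter.style.haveILetI false

namespace CfsgLib.ThreeT

open scoped commutatorElement

/-- The projective reflection groups are non-abelian. -/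
theorem refl_not_abelian {n : ℕ} {Q : QuadraticForm (ZMod 3) (Fin n → ZMod 3)}
    (hQ : (QuadraticMap.polarBilin Q).Nondegenerate) (hn : 5 ≤ n) {c : ZMod 3} (hc : c ≠ 0) :
    ∃ u v : ↥(Cfsg.reflectionSubgroup (⇑Q) c) ⧸ Subgroup.center ↥(Cfsg.reflectionSubgroup (⇑Q) c),
      u * v ≠ v * u := by
  by_contra hno
  push Not at hno
  have hqs := (CfsgLib.ReflThree.structure_refl hQ hn hc).1
  haveI := hqs.2
  set P := commutator ↥(Cfsg.reflectionSubgroup (⇑Q) c)
  have hle : P ≤ Subgroup.center _ := by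
    rw [show P = commutator ↥(Cfsg.reflectionSubgroup (⇑Q) c) from rfl, commutator_def, Subgroup.commutator_le]
    intro a _ b _
    refine (QuotientGroup.eq_one_iff _).1 ?_
    show QuotientGroup.mk' _ ⁅a, b⁆ = 1
    rw [map_commutatorElement]
    exact commutatorElement_eq_one_iff_commute.2 (hno _ _)
  obtain ⟨x, hx⟩ := exists_ne (1 : ↥P ⧸ Subgroup.center ↥P)
  obtain ⟨y, rfl⟩ := QuotientGroup.mk_surjective x
  refine hx ((QuotientGroup.eq_one_iff y).2 (Subgroup.mem_center_iff.2 fun z => Subtype.ext ?_))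
  exact Subgroup.mem_center_iff.1 (hle y.2) z

namespace Prod

variable {G : Type*} [Group G] [Finite G] {D : Set G}

theorem nb_nonempty23 (hT : TT0 D) (h : Cfsg.IsOfTypeM23 G D) : ∃ d ∈ D, (nb D d).Nonempty := by
  obtain ⟨-, d, hd, c, -, hdc, h22, -⟩ := h
  refine ⟨d, hd, ?_⟩
  by_contra hno
  rw [Set.not_nonempty_iff_eq_empty] at hno
  have hK := facts22 (img_tt0 (d := d) hT) img_gen h22
  have h3 := hK.card.trans (Subgroup.card_quotient_dvd_card (Subgroup.center ↥(hsub D d)))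
  rw [show Nat.card ↥(hsub D d) = 1 by rw [hsub, hno, Subgroup.closure_empty]; exact Subgroup.card_bot] at h3
  norm_num at h3

/-- The far pair of the definition. -/
theorem refl23 (h : Cfsg.IsOfTypeM23 G D) : Level.Refl D := by
  obtain ⟨-, d, hd, c, hc, hdc, -, c₃, hc₃, Q, hQn, -, ⟨e⟩⟩ := h
  refine ⟨d, hd, c, hc, hdc, ?_⟩
  have hset : ({y : G | y ∈ D ∧ y ≠ d ∧ Commute d y} ∩ {y : G | y ∈ D ∧ y ≠ c ∧ Commute c y}) = tri D d c := by
    ext y
    exact ⟨fun hy => ⟨hy.1, hy.2.2.2.symm⟩, fun hy => ⟨hy.1, hy.1.1, fun he => hdc (he ▸ hy.1.2.2), hy.2.symm⟩⟩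
  have hAS := (almostSimple_refl hQn (by norm_num) hc₃).of_equiv e
  obtain ⟨u, v, huv⟩ := refl_not_abelian hQn (by norm_num) hc₃
  have hnc : ∃ u v, u * v ≠ v * u := ⟨e.symm u, e.symm v, fun q => huv (by
    simpa using congrArg e q)⟩
  revert hAS hnc
  clear e u v huv
  rw [hset]
  exact fun a b => ⟨a, b⟩

/-- What holds in type M(23) before counting. -/
theorem base23 (hD : Cfsg.IsThreeTranspositionGroup D) (hp : Cfsg.IsPrimitiveUnderConj D)
    (h : Cfsg.IsOfTypeM23 G D) : Level.Base D := by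
  have hT := tt0_of_group hD
  have h1 : ∀ a ∈ D, a ≠ 1 := fun a ha e => by simpa [e] using hD.1.1 a ha
  have hcl : Cfsg.IsThreeTranspositionClass D := by
    obtain ⟨a, ha, -⟩ := hp.2.1
    refine ⟨hD.1, ⟨a, ha, Set.ext fun x => ⟨fun hx => isConj_iff.2 (hp.1 a ha x hx), fun hx => ?_⟩⟩, hD.2.2⟩
    obtain ⟨g, rfl⟩ := isConj_iff.1 hx
    exact hD.2.1 g a ha
  obtain ⟨d₀, hd₀, b, hb⟩ := nb_nonempty23 hT h
  have hw : ∃ a ∈ D, ∃ b ∈ D, a ≠ b ∧ Commute a b := ⟨d₀, hd₀, b, hb.1, fun e => hb.2.1 e.symm, hb.2.2⟩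
  have hZ := h.1
  have hcores := cores_of_primitive hcl hZ hp hw
  have hsol := solvable_normal_eq_bot hcl hZ hcores.1 hcores.2
  have hC := connected_of_primitive hcl hp hw
  refine ⟨hcl, hT, h1, hZ, fun a ha b hb _ _ => hp.1 a ha b hb, twinFree_of_primitive hT hD.2.2 hZ hp, hC, ?_,
    hsol, ?_⟩
  · intro a ha b₁ hb₁ b₂ hb₂
    exact (rank_three_of_connected hcl hsol hC ⟨⟨d₀, hd₀⟩, ⟨b, hb.1⟩, fun e => hb.2.1
      (congrArg Subtype.val e).symm⟩ ha).2.2.1 b₁ hb₁.1 b₂ hb₂.1 hb₁.2.1 hb₂.2.1 hb₁.2.2 hb₂.2.2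
  · exact (refl23 h).not_solvable

/-- The neighbourhood modulo its centre: primitive of type M(22). -/
theorem img_prim (hB : Level.Base D) (h : Cfsg.IsOfTypeM23 G D) : ∃ d ∈ D,
    Cfsg.IsThreeTranspositionGroup (img D d) ∧ Cfsg.IsPrimitiveUnderConj (img D d) ∧
      Cfsg.IsOfTypeM22 (↥(hsub D d) ⧸ Subgroup.center ↥(hsub D d)) (img D d) := by
  obtain ⟨-, d, hd, c₀, -, -, h22, -⟩ := h
  have hT := hB.tt
  have hI := img_tt0 (d := d) hT
  have hK := facts22 hI img_gen h22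
  have hd1 := hB.ne_one d hd
  have h1E : ∀ a ∈ img D d, a ≠ 1 := by
    rintro _ ⟨x, hx, rfl⟩ e
    exact not_central hT hB.conjD hB.twinFree hd hd1 hx (hB.ne_one _ hx.1) fun z hz =>
      central_of_mk_eq_one e hz
  have hset : Cfsg.IsThreeTranspositionSet (img D d) :=
    ⟨fun a ha => orderOf_eq_prime (by rw [pow_two]; exact hI.sq a ha) (h1E a ha), hI.pair⟩
  obtain ⟨-, d', hd', c', hc', hdc', ⟨F, _, _, hF4, ⟨e'⟩⟩, -⟩ := id h22
  have hcl : Cfsg.IsThreeTranspositionClass (img D d) := by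
    refine ⟨hset, ⟨d', hd', Set.ext fun x => ⟨fun hx => isConj_iff.2
      (hK.conjD d' hd' x hx (h1E _ hd') (h1E _ hx)), fun hx => ?_⟩⟩, img_gen⟩
    obtain ⟨g, rfl⟩ := isConj_iff.1 hx
    exact hI.conj g d' hd'
  have hne' : (nb (img D d) d').Nonempty := by
    by_contra hno
    rw [Set.not_nonempty_iff_eq_empty] at hno
    have hbot : hsub (img D d) d' = ⊥ := by
      show Subgroup.closure (nb (img D d) d') = ⊥
      rw [hno, Subgroup.closure_empty]
    obtain ⟨-, hcard⟩ := psu_facts hF4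
    have h3 := Subgroup.card_quotient_dvd_card (Subgroup.center ↥(hsub (img D d) d'))
    rw [Nat.card_congr e'.toEquiv, hcard,
      show Nat.card ↥(hsub (img D d) d') = 1 by rw [hbot]; exact Subgroup.card_bot] at h3
    norm_num at h3
  have hloc : ∀ a ∈ img D d, Local (img D d) a := fun a ha => by
    obtain ⟨g, rfl⟩ := hK.conjD d' hd' a ha (h1E _ hd') (h1E _ ha)
    exact (local_of_iso hI hK.conjD hK.twinFree h1E hd' hne' hF4 e').conj hI g
  -- common neighbours of a non-commuting pair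
  have hcommon : ∀ x ∈ img D d, ∀ y ∈ img D d, ¬ Commute x y → ∃ z ∈ img D d, Commute x z ∧ Commute z y := by
    rintro _ ⟨x, hx, rfl⟩ _ ⟨y, hy, rfl⟩ hxy
    have hxy' : ¬ Commute (x : G) y := fun e => hxy ((map_commute_iff hT hx hy).2 e)
    obtain ⟨z, hz, hzd, hcz⟩ := Level.exists_partner hB hx.1 hy.1 hxy'
      (z := d) ⟨⟨hd, fun e => hx.2.1 e.symm, hx.2.2.symm⟩, hy.2.2⟩
    have hzn : z ∈ nb D d := ⟨hz.1.1, hzd, hcz.symm⟩
    refine ⟨_, ⟨⟨z, Subgroup.subset_closure hzn⟩, hzn, rfl⟩, ?_, ?_⟩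
    · exact (map_commute_iff hT hx (y := ⟨z, Subgroup.subset_closure hzn⟩) hzn).2 hz.1.2.2
    · exact (map_commute_iff hT (x := ⟨z, Subgroup.subset_closure hzn⟩) hzn hy).2 hz.2
  have hC : ∀ p q : img D d, Relation.ReflTransGen
      (fun p q : img D d => Commute (p : ↥(hsub D d) ⧸ Subgroup.center ↥(hsub D d)) q) p q := by
    intro p q
    by_cases hc : Commute (p : ↥(hsub D d) ⧸ Subgroup.center ↥(hsub D d)) q
    · exact Relation.ReflTransGen.single hc
    · obtain ⟨z, hz, h1, h2⟩ := hcommon p p.2 q q.2 hc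
      exact (Relation.ReflTransGen.single (b := ⟨z, hz⟩) h1).tail h2
  have h2 : Cfsg.pCore 2 (↥(hsub D d) ⧸ Subgroup.center ↥(hsub D d)) = ⊥ := by
    by_contra hne
    obtain ⟨v, hv, hvd, hq⟩ := exists_twin hcl 2 (by rw [hK.center]; exact fun hle => hne (le_bot_iff.1 hle)) hd'
    exact hvd (hK.twinFree d' hd' v hv (h1E _ hd') (h1E _ hv) fun x hx =>
      ⟨fun hh => ((same_commuting_of_mem_two_core hcl hd' hv hq x hx).2 hh.symm).symm,
        fun hh => ((same_commuting_of_mem_two_core hcl hd' hv hq x hx).1 hh.symm).symm⟩).symm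
  have h3 : Cfsg.pCore 3 (↥(hsub D d) ⧸ Subgroup.center ↥(hsub D d)) = ⊥ := by
    by_contra hne
    obtain ⟨v, hv, hvd, hq⟩ := exists_twin hcl 3 (by rw [hK.center]; exact fun hle => hne (le_bot_iff.1 hle)) hd'
    have hsame := same_others_of_mem_three_core hcl hd' hv hq
    have hdv : ¬ Commute d' v := fun hh => (hsame.subset (show v ∈
      {y | y ∈ img D d ∧ y ≠ d' ∧ Commute d' y} from ⟨hv, hvd, hh⟩)).2.1 rfl
    obtain ⟨e, he, hde, hev⟩ := hcommon d' hd' v hv hdv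
    have hne1 : e ≠ d' := fun q => hdv (q ▸ hev)
    have hL := hloc e he
    have hdn : d' ∈ nb (img D d) e := ⟨hd', fun q => hne1 q.symm, hde.symm⟩
    have hvn : v ∈ nb (img D d) e := ⟨hv, fun q => hdv (q ▸ hde), hev⟩
    have hsub' : {y | y ∈ nb (img D d) e ∧ y ≠ d' ∧ Commute y d'} ⊆
        {y | y ∈ nb (img D d) e ∧ Commute y d' ∧ Commute y v} := fun y hy =>
      ⟨hy.1, hy.2.2, (hsame.subset (show y ∈ {y | y ∈ img D d ∧ y ≠ d' ∧ Commute d' y} from
        ⟨hy.1.1, hy.2.1, hy.2.2.symm⟩)).2.2.symm⟩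
    have := Set.ncard_le_ncard hsub' (Set.toFinite _)
    rw [hL.card_pair d' hdn, hL.card_line d' hdn v hvn hdv] at this
    omega
  have hsol := solvable_normal_eq_bot hcl hK.center h2 h3
  refine ⟨d, hd, ⟨hset, hI.conj, img_gen⟩, primitive_of_connected hcl hsol hC
    ⟨d', hd', c', hc', fun q => hdc' (q ▸ Commute.refl d')⟩, h22⟩

end Prod

end CfsgLib.ThreeT
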