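import Cfsg.Agent.Spor3T.M23Big
import Cfsg.Agent.Spor3T.M24Level

/-!
Type M(24): the centraliser of a transposition and the subgroups of odd prime order fixing one.
-/

set_option autoImplicit false
set_option linter.unusedSectionVars false
set_option linter.style.haveILetI false

open scoped Pointwise

namespace CfsgLib.ThreeT.Prod

variable {G : Type*} [Group G] [Finite G] {D : Set G}

/-- What the image at the point says about a subgroup of the centraliser of a transposition. -/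
def Local24 (D : Set G) (a : G) (X : Subgroup G) (N C F : ℕ) (cc : Prop → Prop) : Prop :=
  Nat.card ↥(Subgroup.normalizer (X : Set G) ⊓ hsub D a) = N ∧
    Nat.card ↥(Subgroup.centralizer (X : Set G) ⊓ hsub D a) ∣ C ∧
    (nb D a ∩ (Subgroup.centralizer (X : Set G) : Set G)).ncard = F ∧
    ∀ u ∈ nb D a ∩ (Subgroup.centralizer (X : Set G) : Set G),
      ∀ v ∈ nb D a ∩ (Subgroup.centralizer (X : Set G) : Set G), u ≠ v → cc (Commute u v)

variable {d : G} (P : Point24 D d)

include P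

theorem card_G24 : Nat.card G = 2510411418381323442585600 := by rw [order24 P]

theorem hsub_eq24 {a : G} (ha : a ∈ D) : hsub D a = Subgroup.centralizer ({a} : Set G) :=
  (Level.centralizer_eq (geo24 P) arith24 (self24 P) ha).1

theorem mem_hsub24 {a g : G} (ha : a ∈ D) : g ∈ hsub D a ↔ Commute g a := by
  rw [hsub_eq24 P ha, Subgroup.mem_centralizer_singleton_iff]; rfl

theorem card_hsub24 {a : G} (ha : a ∈ D) : Nat.card ↥(hsub D a) = 8178940946586009600 := by
  have h := Subgroup.card_eq_card_quotient_mul_card_subgroup (hsub D a)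
  rw [(Level.centralizer_eq (geo24 P) arith24 (self24 P) ha).2, ncard24 P, order24 P] at h
  omega

/-- Subgroups of prime order dividing the order only once are conjugate, and centralise a transposition if the
prime divides the order of its centraliser. -/
theorem conj24 {p : ℕ} [hp : Fact p.Prime] (hp2 : ¬ p * p ∣ 2510411418381323442585600) :
    (∀ X Y : Subgroup G, Nat.card X = p → Nat.card Y = p → ∃ g : G, X.map (MulAut.conj g).toMonoidHom = Y) ∧
      (p ∣ 8178940946586009600 → ∀ X : Subgroup G, Nat.card X = p → ∀ a ∈ D, ∃ g : G,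
        X.map (MulAut.conj g).toMonoidHom ≤ hsub D a) := by
  have hp2' : ¬ p * p ∣ Nat.card (⊤ : Subgroup G) := by rw [Subgroup.card_top, card_G24 P]; exact hp2
  have hconj : ∀ X Y : Subgroup G, Nat.card X = p → Nat.card Y = p →
      ∃ g : G, X.map (MulAut.conj g).toMonoidHom = Y := fun X Y hX hY => by
    obtain ⟨g, -, hg⟩ := sylow_conj (le_top : X ≤ ⊤) le_top hX hY hp2'
    exact ⟨g, hg⟩
  refine ⟨hconj, fun hpH X hX a ha => ?_⟩
  obtain ⟨y, hy⟩ := exists_prime_orderOf_dvd_card' (G := ↥(hsub D a)) p (by rw [card_hsub24 P ha]; exact hpH)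
  rw [← Subgroup.orderOf_coe] at hy
  obtain ⟨g, hg⟩ := hconj X (Subgroup.zpowers (y : G)) hX (by rw [Nat.card_zpowers, hy])
  exact ⟨g, hg ▸ Subgroup.zpowers_le.2 y.2⟩

theorem exists_point_cent24 {p : ℕ} [hp : Fact p.Prime] (hp2 : ¬ p * p ∣ 2510411418381323442585600)
    (hpH : p ∣ 8178940946586009600) {X : Subgroup G} (hX : Nat.card X = p) : ∃ a ∈ D, X ≤ hsub D a := by
  obtain ⟨g, hg⟩ := (conj24 P hp2).2 hpH X hX d P.mem
  refine ⟨g⁻¹ * d * g, P.base.tt.conj g⁻¹ d P.mem |> fun q => by rwa [inv_inv] at q, fun x hx => ?_⟩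
  have hm := (mem_hsub24 P P.mem).1 (hg ⟨x, hx, rfl⟩)
  have hd' : g⁻¹ * d * g ∈ D := P.base.tt.conj g⁻¹ d P.mem |> fun q => by rwa [inv_inv] at q
  rw [mem_hsub24 P hd']
  have := (commute_conj_iff g⁻¹ (g * x * g⁻¹) d).2 hm
  rwa [show g⁻¹ * (g * x * g⁻¹) * g⁻¹⁻¹ = x by group, inv_inv] at this

/-- Subgroups of the point correspond to subgroups of the image: preimages of normalisers and centralisers. -/
theorem lift_odd24 {p : ℕ} [hp : Fact p.Prime] (hp2 : p ≠ 2) {u v : ↥(hsub D d)} (hu : u ^ p = 1) (hv : v ^ p = 1)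
    (e : (u : ↥(hsub D d) ⧸ Subgroup.center ↥(hsub D d)) = v) : u = v := by
  have hz : v⁻¹ * u ∈ Subgroup.center ↥(hsub D d) := QuotientGroup.eq.1 e.symm
  set z := v⁻¹ * u
  have huv : u = v * z := (mul_inv_cancel_left v u).symm
  have hz2 : z * z = 1 := by
    refine Subtype.ext ?_
    rcases Level.center_pair (geo24 P) arith24 P.mem hz with q | q
    · simp [q]
    · simp [q, P.base.tt.sq d P.mem]
  have hzp : z ^ p = 1 := by
    have := huv ▸ hu
    rwa [(show Commute v z from Subgroup.mem_center_iff.1 hz v).mul_pow, hv, one_mul] at this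
  obtain ⟨k, hk⟩ := hp.out.odd_of_ne_two hp2
  rw [hk, pow_succ, pow_mul, pow_two, hz2, one_pow, one_mul] at hzp
  rw [huv, hzp, mul_one]

/-- The image of a subgroup of odd prime order in the point, and the orders of its centraliser and normaliser. -/
theorem img_sub24 {p : ℕ} [hp : Fact p.Prime] (hp2 : p ≠ 2) {X : Subgroup G} (hX : Nat.card X = p)
    (hXd : X ≤ hsub D d) :
    Nat.card ↥(imgSub D d X) = p ∧
      (∀ g : ↥(hsub D d), (g : G) ∈ Subgroup.centralizer (X : Set G) ↔ (g : ↥(hsub D d) ⧸ Subgroup.center ↥(hsub D d)) ∈ Subgroup.centralizer ((imgSub D d X : Subgroup (↥(hsub D d) ⧸ Subgroup.center ↥(hsub D d))) : Set (↥(hsub D d) ⧸ Subgroup.center ↥(hsub D d)))) ∧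
      Nat.card ↥(Subgroup.centralizer (X : Set G) ⊓ hsub D d) = 2 * Nat.card ↥(Subgroup.centralizer ((imgSub D d X : Subgroup (↥(hsub D d) ⧸ Subgroup.center ↥(hsub D d))) : Set (↥(hsub D d) ⧸ Subgroup.center ↥(hsub D d)))) ∧
      Nat.card ↥(Subgroup.normalizer (X : Set G) ⊓ hsub D d) = 2 * Nat.card ↥(Subgroup.normalizer ((imgSub D d X : Subgroup (↥(hsub D d) ⧸ Subgroup.center ↥(hsub D d))) : Set (↥(hsub D d) ⧸ Subgroup.center ↥(hsub D d)))) := by
  classical
  set π := QuotientGroup.mk' (Subgroup.center ↥(hsub D d))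
  have hmemX : ∀ z, z ∈ imgSub D d X ↔ ∃ x ∈ X.subgroupOf (hsub D d), π x = z := fun z => Subgroup.mem_map
  set X₀ := X.subgroupOf (hsub D d)
  have hX₀ : Nat.card X₀ = p := by rw [Nat.card_congr (Subgroup.subgroupOfEquivOfLe hXd).toEquiv, hX]
  have hpow : ∀ x ∈ X₀, x ^ p = 1 := fun x hx => by
    have : (⟨x, hx⟩ : ↥X₀) ^ p = 1 := by rw [← hX₀]; exact pow_card_eq_one'
    exact congrArg Subtype.val this
  have hinj : Function.Injective (π.subgroupMap X₀) := fun x y e =>
    Subtype.ext (lift_odd24 P hp2 (hpow x x.2) (hpow y y.2) ((congrArg Subtype.val e : π (x : ↥(hsub D d)) = π y)))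
  have hX' : Nat.card (imgSub D d X) = p := by
    rw [← hX₀]
    exact (Nat.card_eq_of_bijective _ ⟨hinj, π.subgroupMap_surjective X₀⟩).symm
  have hC : ∀ g : ↥(hsub D d), (g : G) ∈ Subgroup.centralizer (X : Set G) ↔ π g ∈ Subgroup.centralizer ((imgSub D d X) : Set (↥(hsub D d) ⧸ Subgroup.center ↥(hsub D d))) := by
    intro g
    constructor
    · intro hg
      intro z hz
      obtain ⟨x, hx, rfl⟩ := (hmemX z).1 hz
      show π x * π g = π g * π x
      rw [← map_mul, ← map_mul]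
      exact congrArg π (Subtype.ext (hg (x : G) hx))
    · intro hg x hx
      have hgx := hg (π ⟨x, hXd hx⟩) ((hmemX _).2 ⟨⟨x, hXd hx⟩, hx, rfl⟩)
      set x₀ : ↥(hsub D d) := ⟨x, hXd hx⟩
      have hp' := hpow x₀ hx
      have e := lift_odd24 P hp2 (u := g * x₀ * g⁻¹) (v := x₀) (by rw [conj_pow, hp']; group) hp' (by
        show π (g * x₀ * g⁻¹) = π x₀
        rw [map_mul, map_mul, map_inv]
        exact mul_inv_eq_iff_eq_mul.2 hgx.symm)
      exact (mul_inv_eq_iff_eq_mul.1 (congrArg Subtype.val e : (g : G) * x * (g : G)⁻¹ = x)).symm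
  have hN : ∀ g : ↥(hsub D d), (g : G) ∈ Subgroup.normalizer (X : Set G) ↔ π g ∈ Subgroup.normalizer ((imgSub D d X) : Set (↥(hsub D d) ⧸ Subgroup.center ↥(hsub D d))) := by
    intro g
    have key : ∀ x : ↥(hsub D d), x ∈ X₀ → ((g : G) * x * (g : G)⁻¹ ∈ X ↔ π g * π x * (π g)⁻¹ ∈ (imgSub D d X)) := by
      intro x hx
      constructor
      · intro q
        exact (hmemX _).2 ⟨g * x * g⁻¹, q, by rw [map_mul, map_mul, map_inv]⟩
      · intro q
        obtain ⟨y, hy, e⟩ := (hmemX _).1 q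
        have e' := lift_odd24 P hp2 (u := y) (v := g * x * g⁻¹) (hpow y hy) (by rw [conj_pow, hpow x hx]; group)
          (by show π y = π (g * x * g⁻¹); rw [map_mul, map_mul, map_inv]; exact e)
        have := congrArg Subtype.val e'
        simp only [Subgroup.coe_mul, Subgroup.coe_inv] at this
        rw [← this]; exact hy
    rw [Subgroup.mem_normalizer_iff, Subgroup.mem_normalizer_iff]
    constructor
    · intro q
      have hmap : (imgSub D d X).map (MulAut.conj (π g)).toMonoidHom = (imgSub D d X) := by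
        refine Subgroup.eq_of_le_of_card_ge ?_ (by rw [Subgroup.card_map_of_injective (MulAut.conj (π g)).injective])
        rintro _ ⟨w, hw, rfl⟩
        obtain ⟨x, hx, rfl⟩ := (hmemX w).1 hw
        exact (key x hx).1 ((q x).1 hx)
      intro z
      constructor
      · intro hz
        rw [← hmap]; exact ⟨z, hz, rfl⟩
      · intro hz
        rw [← hmap] at hz
        obtain ⟨w, hw, e⟩ := hz
        rwa [(MulAut.conj (π g)).injective e] at hw
    · intro q
      have hmap : X.map (MulAut.conj (g : G)).toMonoidHom = X := by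
        refine Subgroup.eq_of_le_of_card_ge ?_
          (by rw [Subgroup.card_map_of_injective (MulAut.conj (g : G)).injective])
        rintro _ ⟨x, hx, rfl⟩
        exact (key ⟨x, hXd hx⟩ hx).2 ((q (π ⟨x, hXd hx⟩)).1 ((hmemX _).2 ⟨⟨x, hXd hx⟩, hx, rfl⟩))
      intro z
      constructor
      · intro hz
        rw [← hmap]; exact ⟨z, hz, rfl⟩
      · intro hz
        rw [← hmap] at hz
        obtain ⟨w, hw, e⟩ := hz
        rwa [(MulAut.conj (g : G)).injective e] at hw
  have hcard : ∀ (K : Subgroup G) (K' : Subgroup (↥(hsub D d) ⧸ Subgroup.center ↥(hsub D d))),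
      (∀ g : ↥(hsub D d), (g : G) ∈ K ↔ π g ∈ K') → Nat.card ↥(K ⊓ (hsub D d)) = 2 * Nat.card K' := by
    intro K K' hK
    have e : (K ⊓ (hsub D d)).subgroupOf (hsub D d) = K'.comap π := by
      ext g
      rw [Subgroup.mem_subgroupOf, Subgroup.mem_inf, Subgroup.mem_comap, ← hK g]
      exact and_iff_left g.2
    rw [← Nat.card_congr (Subgroup.subgroupOfEquivOfLe (inf_le_right : K ⊓ (hsub D d) ≤ (hsub D d))).toEquiv, e]
    have h1 := Subgroup.card_mul_index (K'.comap π)
    rw [Subgroup.index_comap_of_surjective K' (QuotientGroup.mk'_surjective _),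
      Subgroup.card_eq_card_quotient_mul_card_subgroup (Subgroup.center ↥(hsub D d)),
      Level.card_center (geo24 P) arith24 (self24 P) P.mem, ← Subgroup.card_mul_index K'] at h1
    have hi : 0 < K'.index := Nat.pos_of_ne_zero Subgroup.index_ne_zero_of_finite
    refine Nat.eq_of_mul_eq_mul_right hi ?_
    rw [h1]; ring
  exact ⟨hX', hC, hcard _ _ hC, hcard _ _ hN⟩

/-- The members of a neighbourhood fixed by a subgroup correspond to those of the image. -/
theorem nb_fixed24 {p : ℕ} [hp : Fact p.Prime] (hp2 : p ≠ 2) {X : Subgroup G} (hX : Nat.card X = p)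
    (hXd : X ≤ hsub D d) :
    (nb D d ∩ (Subgroup.centralizer (X : Set G) : Set G)).ncard =
        (img D d ∩ (Subgroup.centralizer ((imgSub D d X : Subgroup (↥(hsub D d) ⧸ Subgroup.center ↥(hsub D d))) : Set (↥(hsub D d) ⧸ Subgroup.center ↥(hsub D d))) : Set _)).ncard ∧
      ∀ cc : Prop → Prop, (∀ u ∈ img D d ∩ (Subgroup.centralizer ((imgSub D d X : Subgroup (↥(hsub D d) ⧸ Subgroup.center ↥(hsub D d))) : Set (↥(hsub D d) ⧸ Subgroup.center ↥(hsub D d))) : Set _),
          ∀ v ∈ img D d ∩ (Subgroup.centralizer ((imgSub D d X : Subgroup (↥(hsub D d) ⧸ Subgroup.center ↥(hsub D d))) : Set (↥(hsub D d) ⧸ Subgroup.center ↥(hsub D d))) : Set _), u ≠ v → cc (Commute u v)) →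
        ∀ a ∈ nb D d ∩ (Subgroup.centralizer (X : Set G) : Set G),
          ∀ b ∈ nb D d ∩ (Subgroup.centralizer (X : Set G) : Set G), a ≠ b → cc (Commute a b) := by
  classical
  set π := QuotientGroup.mk' (Subgroup.center ↥(hsub D d))
  have hmemX : ∀ z, z ∈ imgSub D d X ↔ ∃ x ∈ X.subgroupOf (hsub D d), π x = z := fun z => Subgroup.mem_map
  obtain ⟨-, hC, -, -⟩ := img_sub24 P hp2 hX hXd
  set A := nb D d ∩ (Subgroup.centralizer (X : Set G) : Set G)
  set B := img D d ∩ (Subgroup.centralizer ((imgSub D d X) : Set (↥(hsub D d) ⧸ Subgroup.center ↥(hsub D d))) : Set _)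
  set A' : Set ↥(hsub D d) := {x | (x : G) ∈ A}
  have hA : ((↑) : ↥(hsub D d) → G) '' A' = A :=
    (Subtype.image_preimage_coe _ _).trans (Set.inter_eq_right.2 fun x hx => Subgroup.subset_closure hx.1)
  have hB : π '' A' = B := by
    ext z
    constructor
    · rintro ⟨x, hx, rfl⟩
      exact ⟨⟨x, hx.1, rfl⟩, (hC x).1 hx.2⟩
    · rintro ⟨⟨x, hx, rfl⟩, hz⟩
      exact ⟨x, ⟨hx, (hC x).2 hz⟩, rfl⟩
  refine ⟨?_, fun cc hnc a ha b hb hne => ?_⟩
  · rw [← hA, ← hB, Set.ncard_image_of_injective _ Subtype.val_injective,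
      Set.InjOn.ncard_image (f := π) (s := A') fun x (hx : (x : G) ∈ A) y (hy : (y : G) ∈ A) q =>
        Subtype.ext (mk_inj24 P hx.1 hy.1 q)]
  · set a' : ↥(hsub D d) := ⟨a, Subgroup.subset_closure ha.1⟩
    set b' : ↥(hsub D d) := ⟨b, Subgroup.subset_closure hb.1⟩
    have h := hnc (π a') (hB ▸ ⟨a', ha, rfl⟩) (π b') (hB ▸ ⟨b', hb, rfl⟩) fun q =>
      hne (mk_inj24 P (x := a') (y := b') ha.1 hb.1 q)
    exact (propext (map_commute_iff P.base.tt (x := a') (y := b') ha.1 hb.1)) ▸ h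

theorem map_conj_hsub24 (g : G) {a : G} (ha : a ∈ D) :
    (hsub D a).map (MulAut.conj g).toMonoidHom = hsub D (g * a * g⁻¹) := by
  ext y
  obtain ⟨y, rfl⟩ := (MulAut.conj g).surjective y
  rw [show MulAut.conj g y = (MulAut.conj g).toMonoidHom y from rfl,
    Subgroup.mem_map_iff_mem (MulAut.conj g).injective, mem_hsub24 P ha,
    mem_hsub24 P (P.base.tt.conj g a ha)]
  exact (commute_conj_iff g y a).symm

/-- All members centralised are conjugate under the normaliser, and count it. -/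
theorem fixed_trans24 {p : ℕ} [hp : Fact p.Prime] (hp2 : ¬ p * p ∣ 8178940946586009600) {X : Subgroup G}
    (hX : Nat.card X = p) {a : G} (ha : a ∈ D) (hXa : X ≤ hsub D a) :
    Nat.card ↥(Subgroup.normalizer (X : Set G)) =
      (D ∩ (Subgroup.centralizer (X : Set G) : Set G)).ncard *
        Nat.card ↥(Subgroup.normalizer (X : Set G) ⊓ hsub D a) := by
  rw [inf_comm, hsub_eq24 P ha]
  refine card_orbit_stab _ _ (fun g => g * a * g⁻¹) _ (fun g _ g' _ => conj_fib) ?_
  ext z
  constructor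
  · rintro ⟨g, hg, rfl⟩
    refine ⟨P.base.tt.conj g a ha, fun x hx => ?_⟩
    have h1 := (mem_hsub24 P ha).1 (hXa ((Subgroup.mem_normalizer_iff''.1 hg x).1 hx))
    have h2 := (commute_conj_iff g (g⁻¹ * x * g) a).2 h1
    rw [show g * (g⁻¹ * x * g) * g⁻¹ = x by group] at h2
    exact h2.eq
  · rintro ⟨hzD, hzc⟩
    obtain ⟨g, hg⟩ := P.base.conjD z hzD a ha (P.base.ne_one z hzD) (P.base.ne_one a ha)
    have hX1 : X.map (MulAut.conj g).toMonoidHom ≤ hsub D a := by
      rintro _ ⟨x, hx, rfl⟩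
      rw [mem_hsub24 P ha, ← hg]
      exact (commute_conj_iff g x z).2 (hzc x hx)
    obtain ⟨k, hk, e⟩ := sylow_conj hX1 hXa
      (by rw [Subgroup.card_map_of_injective (MulAut.conj g).injective, hX]) hX
      (by rw [card_hsub24 P ha]; exact hp2)
    refine ⟨(k * g)⁻¹, ?_, ?_⟩
    · refine inv_mem (Subgroup.mem_normalizer_iff.2 fun w => ?_)
      have hmap : X.map (MulAut.conj (k * g)).toMonoidHom = X := by
        conv_rhs => rw [← e, Subgroup.map_map]
        congr 1
        ext v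
        simp [mul_assoc]
      constructor
      · intro hw
        rw [← hmap]; exact ⟨w, hw, rfl⟩
      · intro hw
        rw [← hmap] at hw
        obtain ⟨u, hu, hu'⟩ := hw
        rwa [(MulAut.conj (k * g)).injective hu'] at hu
    · show (k * g)⁻¹ * a * (k * g)⁻¹⁻¹ = z
      calc (k * g)⁻¹ * a * (k * g)⁻¹⁻¹ = g⁻¹ * (k⁻¹ * a * k) * g := by group
        _ = g⁻¹ * a * g := by
          rw [show k⁻¹ * a * k = k⁻¹ * (a * k) by group, ← (commute_hsub hk).eq, inv_mul_cancel_left]
        _ = z := by rw [← hg]; group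

theorem nb_count24 {a : G} (ha : a ∈ D) : (nb D a).ncard = 31671 := ((geo24 P).loc a ha).card_nb

theorem card_nb_cent24 {a b : G} (ha : a ∈ D) (hb : b ∈ nb D a) :
    Nat.card ↥(Subgroup.centralizer ({b} : Set G) ⊓ hsub D a) = 258247006617600 := by
  have e := card_orbit_stab (hsub D a) (Subgroup.centralizer ({b} : Set G)) (fun g => g * b * g⁻¹) (nb D a)
    (fun g _ g' _ => conj_fib) ?_
  · rw [card_hsub24 P ha, nb_count24 P ha] at e
    omega
  ext z
  constructor
  · rintro ⟨g, hg, rfl⟩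
    exact nb_conj P.base.tt hb.1 hb.2.1 hb.2.2 (by rw [(commute_hsub hg).eq, mul_inv_cancel_right])
  · intro hz
    obtain ⟨g, hg, e⟩ := P.base.near a ha b hb z hz
    exact ⟨g, hg, e⟩

theorem card_far_cent24 {a e : G} (ha : a ∈ D) (he : e ∈ D) (hae : ¬ Commute a e) :
    Nat.card ↥(Subgroup.centralizer ({e} : Set G) ⊓ hsub D a) = 29713078886400 := by
  have q := card_orbit_stab (hsub D a) (Subgroup.centralizer ({e} : Set G)) (fun g => g * e * g⁻¹)
    {x | x ∈ D ∧ ¬ Commute a x} (fun g _ g' _ => conj_fib) ?_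
  · rw [card_hsub24 P ha, (Level.tri_card (geo24 P) arith24).2 a ha] at q
    omega
  ext z
  constructor
  · rintro ⟨g, hg, rfl⟩
    refine ⟨P.base.tt.conj g e he, fun q => hae ((commute_conj_iff g a e).1 ?_)⟩
    rwa [(commute_hsub hg).eq, mul_inv_cancel_right]
  · intro hz
    obtain ⟨g, hg, e'⟩ := Level.far_trans P.base ha he hz.1 hae hz.2
    exact ⟨g, (mem_hsub24 P ha).2 (Level.commute_of_far P.base hg), e'⟩

/-- The neighbours centralised are conjugate under the normaliser of the pair. -/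
theorem nb_trans24 {p : ℕ} [hp : Fact p.Prime] (hp2 : ¬ p * p ∣ 258247006617600) {X : Subgroup G}
    (hX : Nat.card X = p) {a b z : G} (ha : a ∈ D) (hXa : X ≤ hsub D a)
    (hb : b ∈ nb D a ∩ (Subgroup.centralizer (X : Set G) : Set G))
    (hz : z ∈ nb D a ∩ (Subgroup.centralizer (X : Set G) : Set G)) :
    ∃ g ∈ Subgroup.normalizer (X : Set G) ⊓ hsub D a, g * b * g⁻¹ = z := by
  obtain ⟨g, hg, hgz⟩ := P.base.near a ha z hz.1 b hb.1
  have hX1 : X.map (MulAut.conj g).toMonoidHom ≤ Subgroup.centralizer ({b} : Set G) ⊓ hsub D a := by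
    rintro _ ⟨x, hx, rfl⟩
    refine ⟨Subgroup.mem_centralizer_singleton_iff.2 ?_, (hsub D a).mul_mem ((hsub D a).mul_mem hg (hXa hx)) ((hsub D a).inv_mem hg)⟩
    rw [← hgz]
    exact ((commute_conj_iff g x z).2 (hz.2 x hx)).eq
  have hXb : X ≤ Subgroup.centralizer ({b} : Set G) ⊓ hsub D a :=
    le_inf (fun x hx => Subgroup.mem_centralizer_singleton_iff.2 (hb.2 x hx)) hXa
  obtain ⟨k, ⟨hkb, hka⟩, e⟩ := sylow_conj hX1 hXb
    (by rw [Subgroup.card_map_of_injective (MulAut.conj g).injective, hX]) hX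
    (by rw [card_nb_cent24 P ha hb.1]; exact hp2)
  refine ⟨(k * g)⁻¹, ⟨?_, (hsub D a).inv_mem ((hsub D a).mul_mem hka hg)⟩, ?_⟩
  · refine (Subgroup.normalizer (X : Set G)).inv_mem (Subgroup.mem_normalizer_iff.2 fun w => ?_)
    have hmap : X.map (MulAut.conj (k * g)).toMonoidHom = X := by
      conv_rhs => rw [← e, Subgroup.map_map]
      congr 1
      ext v
      simp [mul_assoc]
    constructor
    · intro hw
      rw [← hmap]; exact ⟨w, hw, rfl⟩
    · intro hw
      rw [← hmap] at hw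
      obtain ⟨u, hu, hu'⟩ := hw
      rwa [(MulAut.conj (k * g)).injective hu'] at hu
  · calc (k * g)⁻¹ * b * (k * g)⁻¹⁻¹ = g⁻¹ * (k⁻¹ * (b * k)) * g := by group
      _ = g⁻¹ * b * g := by
        rw [← (Subgroup.mem_centralizer_singleton_iff.1 hkb : k * b = b * k), inv_mul_cancel_left]
      _ = z := by rw [← hgz]; group

theorem local_conj24 {a : G} {X : Subgroup G} {N C F : ℕ} {cc : Prop → Prop} (ha : a ∈ D) (g : G) (h : Local24 D a X N C F cc) :
    Local24 D (g * a * g⁻¹) (X.map (MulAut.conj g).toMonoidHom) N C F cc := by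
  obtain ⟨h1, h2, h3, h4⟩ := h
  have hnb : MulAut.conj g '' (nb D a ∩ (Subgroup.centralizer (X : Set G) : Set G)) =
      nb D (g * a * g⁻¹) ∩ (Subgroup.centralizer ((X.map (MulAut.conj g).toMonoidHom : Subgroup G) : Set G) : Set G) := by
    ext y
    obtain ⟨y, rfl⟩ := (MulAut.conj g).surjective y
    rw [(MulAut.conj g).injective.mem_set_image, ← map_conj_cent g X]
    show y ∈ nb D a ∧ y ∈ Subgroup.centralizer (X : Set G) ↔ MulAut.conj g y ∈ nb D (MulAut.conj g a) ∧
      (MulAut.conj g).toMonoidHom y ∈ (Subgroup.centralizer (X : Set G)).map (MulAut.conj g).toMonoidHom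
    rw [mem_nb_conj P.base.tt, Subgroup.mem_map_iff_mem (MulAut.conj g).injective]
  refine ⟨?_, ?_, ?_, ?_⟩
  · rw [← map_conj_norm, ← map_conj_hsub24 P g ha, ← Subgroup.map_inf _ _ _ (MulAut.conj g).injective,
      Subgroup.card_map_of_injective (MulAut.conj g).injective, h1]
  · rw [← map_conj_cent, ← map_conj_hsub24 P g ha, ← Subgroup.map_inf _ _ _ (MulAut.conj g).injective,
      Subgroup.card_map_of_injective (MulAut.conj g).injective]; exact h2
  · rw [← hnb, Set.ncard_image_of_injective _ (MulAut.conj g).injective, h3]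
  · rw [← hnb]
    rintro _ ⟨u, hu, rfl⟩ _ ⟨v, hv, rfl⟩ hne
    have := h4 u hu v hv fun q => hne (congrArg _ q)
    rwa [← propext (commute_conj_iff g u v)] at this

theorem local_at_point24 {p : ℕ} [hp : Fact p.Prime] (hp2 : p ≠ 2) {N C F : ℕ} {cc : Prop → Prop}
    (hQ : ∀ {X' : Subgroup (↥(hsub D d) ⧸ Subgroup.center ↥(hsub D d))}, Nat.card X' = p →
      Nat.card ↥(Subgroup.normalizer (X' : Set (↥(hsub D d) ⧸ Subgroup.center ↥(hsub D d)))) = N ∧
      Nat.card ↥(Subgroup.centralizer (X' : Set (↥(hsub D d) ⧸ Subgroup.center ↥(hsub D d)))) ∣ C ∧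
      (img D d ∩ (Subgroup.centralizer (X' : Set (↥(hsub D d) ⧸ Subgroup.center ↥(hsub D d))) : Set _)).ncard = F ∧
      ∀ u ∈ img D d ∩ (Subgroup.centralizer (X' : Set (↥(hsub D d) ⧸ Subgroup.center ↥(hsub D d))) : Set _),
        ∀ v ∈ img D d ∩ (Subgroup.centralizer (X' : Set (↥(hsub D d) ⧸ Subgroup.center ↥(hsub D d))) : Set _),
          u ≠ v → cc (Commute u v))
    {a : G} (ha : a ∈ D) {X : Subgroup G} (hX : Nat.card X = p) (hXa : X ≤ hsub D a) :
    Local24 D a X (2 * N) (2 * C) F cc := by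
  obtain ⟨g, hg⟩ := P.base.conjD a ha d P.mem (P.base.ne_one a ha) (P.base.ne_one d P.mem)
  set X₀ := X.map (MulAut.conj g).toMonoidHom
  have hX₀ : Nat.card X₀ = p := by rw [Subgroup.card_map_of_injective (MulAut.conj g).injective, hX]
  have hXd : X₀ ≤ hsub D d := by
    rw [← hg, ← map_conj_hsub24 P g ha]; exact Subgroup.map_mono hXa
  obtain ⟨h1, -, h2, h3⟩ := img_sub24 P hp2 hX₀ hXd
  obtain ⟨q1, q2, q3, q4⟩ := hQ h1
  obtain ⟨h4, h5⟩ := nb_fixed24 P hp2 hX₀ hXd
  have key : Local24 D d X₀ (2 * N) (2 * C) F cc :=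
    ⟨by rw [h3, q1], by rw [h2]; exact Nat.mul_dvd_mul_left 2 q2, by rw [h4, q3], h5 cc q4⟩
  have := local_conj24 P P.mem g⁻¹ key
  have e1 : g⁻¹ * d * g⁻¹⁻¹ = a := by rw [← hg]; group
  have e2 : X₀.map (MulAut.conj g⁻¹).toMonoidHom = X := by
    rw [Subgroup.map_map]
    convert Subgroup.map_id X
    ext z
    simp [mul_assoc]
  rwa [e1, e2] at this

end CfsgLib.ThreeT.Prod
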