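import Cfsg.Agent.Spor3T.M23Frame
import Cfsg.Agent.Spor3T.M24Parity
import Cfsg.Agent.Spor3T.M24Big

/-!
Type M(24): the members at a point commuting with a far pair at it as the seven dimensional vectors of norm
one, with products taken inside the even part.
-/

set_option autoImplicit false
set_option linter.unusedSectionVars false
set_option linter.style.haveILetI false

namespace CfsgLib.ThreeT.Prod

open CfsgLib.ThreeT.Parity
open scoped Matrix

local notation "V" => Fin 7 → ZMod 3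

theorem rmul_dot {v : V} (hv : v ⬝ᵥ v = 1) (x y : V) : rmul v x ⬝ᵥ rmul v y = x ⬝ᵥ y := by
  simp only [rmul, add_dotProduct, dotProduct_add, smul_dotProduct, dotProduct_smul, smul_eq_mul, hv]
  rw [dotProduct_comm v y]
  have key : ∀ p q r : ZMod 3, r + p * q + q * (p + p * 1) = r := by decide
  exact key _ _ _

theorem rmul_rmul {v : V} (hv : v ⬝ᵥ v = 1) (x : V) : rmul v (rmul v x) = x := by
  simp only [rmul, add_dotProduct, smul_dotProduct, smul_eq_mul, hv]
  funext i
  have key : ∀ p q r : ZMod 3, r + p * q + (p + p * 1) * q = r := by decide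
  simpa using key (x ⬝ᵥ v) (v i) (x i)

theorem rmul_neg (v x : V) : rmul (-v) x = rmul v x := by
  simp only [rmul, dotProduct_neg, neg_smul_neg]

theorem rmul_add (v x y : V) : rmul v (x + y) = rmul v x + rmul v y := by
  simp only [rmul, add_dotProduct, add_smul]; abel

theorem rmul_smul (v : V) (a : ZMod 3) (x : V) : rmul v (a • x) = a • rmul v x := by
  simp only [rmul, smul_dotProduct, smul_eq_mul, mul_smul, smul_add]

theorem fold_dot {l : List V} (hl : ∀ v ∈ l, v ⬝ᵥ v = 1) (x y : V) : l.foldr rmul x ⬝ᵥ l.foldr rmul y = x ⬝ᵥ y := by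
  induction l with
  | nil => rfl
  | cons v l ih =>
    rw [List.foldr_cons, List.foldr_cons, rmul_dot (hl v List.mem_cons_self),
      ih fun u hu => hl u (List.mem_cons_of_mem _ hu)]

theorem fold_rev {l : List V} (hl : ∀ v ∈ l, v ⬝ᵥ v = 1) (x : V) : l.foldr rmul (l.reverse.foldr rmul x) = x := by
  induction l generalizing x with
  | nil => rfl
  | cons v l ih =>
    rw [List.reverse_cons, List.foldr_append, List.foldr_cons, List.foldr_cons, List.foldr_nil,
      ih (fun u hu => hl u (List.mem_cons_of_mem _ hu)), rmul_rmul (hl v List.mem_cons_self)]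

theorem fold_smul (l : List V) (a : ZMod 3) (x : V) : l.foldr rmul (a • x) = a • l.foldr rmul x := by
  induction l with
  | nil => rfl
  | cons v l ih => rw [List.foldr_cons, List.foldr_cons, ih, rmul_smul]

theorem fold_add (l : List V) (x y : V) : l.foldr rmul (x + y) = l.foldr rmul x + l.foldr rmul y := by
  induction l with
  | nil => rfl
  | cons v l ih => simp only [List.foldr_cons, ih, rmul_add]

variable {G : Type*} [Group G] [Finite G] {D : Set G}

/-- The even partner of a member. -/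
abbrev evm (b : G) (ψ : V → G) (v : V) : G := b * ψ v

/-- A coordinatisation of the members at `b` commuting with `a` and `e`. -/
structure Coords (D : Set G) (a e b : G) (ψ : V → G) : Prop where
  ha : a ∈ nb D b
  he : e ∈ nb D b
  far : ¬ Commute a e
  mem : ∀ v, v ⬝ᵥ v = 1 → ψ v ∈ tri D a e ∧ ψ v ∈ nb D b
  comm : ∀ u v, u ⬝ᵥ u = 1 → v ⬝ᵥ v = 1 → u ≠ v → u ≠ -v → (Commute (ψ u) (ψ v) ↔ u ⬝ᵥ v = 0)
  inj : ∀ u v, u ⬝ᵥ u = 1 → v ⬝ᵥ v = 1 → ψ u = ψ v → u = v ∨ u = -v
  surj : ∀ y ∈ tri D a e, y ∈ nb D b → ∃ v, v ⬝ᵥ v = 1 ∧ ψ v = y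
  rel : ∀ l : List V, (∀ v ∈ l, v ⬝ᵥ v = 1) →
    (∃ s : ZMod 3, (s = 1 ∨ s = -1) ∧ ∀ x, l.foldr rmul x = s • x) → (l.map (evm b ψ)).prod = 1
  gen : ∀ g : G, Commute g a → Commute g e → Commute g b → ∃ l : List V, (∀ v ∈ l, v ⬝ᵥ v = 1) ∧
    (g = (l.map (evm b ψ)).prod ∨ g = b * (l.map (evm b ψ)).prod)

namespace Coords

variable {a e b : G} {ψ : V → G} (h : Coords D a e b ψ) (hT : TT0 D)

include h hT

theorem bD : ∀ v, v ⬝ᵥ v = 1 → Commute b (ψ v) := fun v hv => (h.mem v hv).2.2.2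

theorem prod_comm {l : List V} (hl : ∀ v ∈ l, v ⬝ᵥ v = 1) :
    Commute (l.map (evm b ψ)).prod a ∧ Commute (l.map (evm b ψ)).prod e ∧ Commute (l.map (evm b ψ)).prod b := by
  induction l with
  | nil => exact ⟨Commute.one_left _, Commute.one_left _, Commute.one_left _⟩
  | cons v l ih =>
    obtain ⟨i1, i2, i3⟩ := ih fun u hu => hl u (List.mem_cons_of_mem _ hu)
    obtain ⟨h1, h2⟩ := h.mem v (hl v List.mem_cons_self)
    rw [List.map_cons, List.prod_cons]
    exact ⟨(h.ha.2.2.mul_left h1.1.2.2.symm).mul_left i1, (h.he.2.2.mul_left h1.2).mul_left i2,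
      ((Commute.refl b).mul_left h2.2.2.symm).mul_left i3⟩

theorem evm_sq (hb : b * b = 1) {v : V} (hv : v ⬝ᵥ v = 1) : evm b ψ v * evm b ψ v = 1 := by
  show b * ψ v * (b * ψ v) = 1
  rw [mul_assoc b, ← mul_assoc (ψ v), ← (h.bD hT v hv).eq, mul_assoc b (ψ v), hT.sq _ (h.mem v hv).2.1, mul_one, hb]

theorem rev_prod (hb : b * b = 1) {l : List V} (hl : ∀ v ∈ l, v ⬝ᵥ v = 1) :
    (l.reverse.map (evm b ψ)).prod = (l.map (evm b ψ)).prod⁻¹ := by
  induction l with
  | nil => simp
  | cons v l ih =>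
    rw [List.reverse_cons, List.map_append, List.prod_append, ih fun u hu => hl u (List.mem_cons_of_mem _ hu),
      List.map_cons, List.map_nil, List.prod_singleton, List.map_cons, List.prod_cons, mul_inv_rev,
      inv_eq_of_mul_eq_one_right (h.evm_sq hT hb (hl v List.mem_cons_self))]

/-- Products of the same transformation up to sign are equal. -/
theorem eq_of_fold (hb : b * b = 1) {l m : List V} (hl : ∀ v ∈ l, v ⬝ᵥ v = 1) (hm : ∀ v ∈ m, v ⬝ᵥ v = 1)
    (hs : ∃ s : ZMod 3, (s = 1 ∨ s = -1) ∧ ∀ x, l.foldr rmul x = s • m.foldr rmul x) :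
    (l.map (evm b ψ)).prod = (m.map (evm b ψ)).prod := by
  obtain ⟨s, hs, hx⟩ := hs
  have := h.rel (l ++ m.reverse) (fun v hv => (List.mem_append.1 hv).elim (hl v) fun q => hm v (List.mem_reverse.1 q))
    ⟨s, hs, fun x => by rw [List.foldr_append, hx, fold_rev hm]⟩
  rw [List.map_append, List.prod_append, h.rev_prod hT hb hm] at this
  exact mul_inv_eq_one.1 this

theorem neg_eq (hb : b * b = 1) {v : V} (hv : v ⬝ᵥ v = 1) : ψ (-v) = ψ v := by
  have hv' : (-v) ⬝ᵥ (-v) = 1 := by rwa [neg_dotProduct_neg]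
  have := h.eq_of_fold hT hb (l := [-v]) (m := [v]) (by simpa using hv') (by simpa using hv)
    ⟨1, Or.inl rfl, fun x => by simp [rmul_neg]⟩
  simpa using this

/-- Conjugation by products is the product of reflections. -/
theorem conj_evm (hb : b * b = 1) {l : List V} (hl : ∀ v ∈ l, v ⬝ᵥ v = 1) {y : V} (hy : y ⬝ᵥ y = 1) :
    (l.map (evm b ψ)).prod * evm b ψ y * (l.map (evm b ψ)).prod⁻¹ = evm b ψ (l.foldr rmul y) := by
  have hz : l.foldr rmul y ⬝ᵥ l.foldr rmul y = 1 := by rw [fold_dot hl, hy]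
  have hn : ∀ v ∈ l ++ [y] ++ l.reverse, v ⬝ᵥ v = 1 := by
    intro v hv
    simp only [List.mem_append, List.mem_singleton, List.mem_reverse] at hv
    rcases hv with (hv | rfl) | hv
    exacts [hl v hv, hy, hl v hv]
  have := h.eq_of_fold hT hb hn (m := [l.foldr rmul y]) (by simpa using hz) ⟨1, Or.inl rfl, fun x => by
    rw [one_smul, List.foldr_append, List.foldr_append]
    simp only [List.foldr_cons, List.foldr_nil]
    have e1 : x = l.foldr rmul (l.reverse.foldr rmul x) := (fold_rev hl x).symm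
    conv_rhs => rw [e1]
    simp only [rmul]
    rw [fold_add, fold_smul, fold_dot hl]⟩
  rw [List.map_append, List.map_append, List.prod_append, List.prod_append, h.rev_prod hT hb hl] at this
  simpa using this

theorem conj_mem (hb : b * b = 1) {l : List V} (hl : ∀ v ∈ l, v ⬝ᵥ v = 1) {y : V} (hy : y ⬝ᵥ y = 1) :
    (l.map (evm b ψ)).prod * ψ y * (l.map (evm b ψ)).prod⁻¹ = ψ (l.foldr rmul y) := by
  have h1 := h.conj_evm hT hb hl hy
  have h2 := (h.prod_comm hT hl).2.2
  set p := (l.map (evm b ψ)).prod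
  refine mul_left_cancel (a := b) ?_
  calc b * (p * ψ y * p⁻¹) = (b * p) * ψ y * p⁻¹ := by group
    _ = (p * b) * ψ y * p⁻¹ := by rw [h2.eq]
    _ = p * (b * ψ y) * p⁻¹ := by group
    _ = b * ψ (l.foldr rmul y) := h1

/-- A change of coordinates by an isometry. -/
theorem comp (g : V →ₗ[ZMod 3] V) (hg : ∀ x y, g x ⬝ᵥ g y = x ⬝ᵥ y) : Coords D a e b (fun v => ψ (g v)) := by
  have hinj : Function.Injective g := by
    intro x y q
    rw [← sub_eq_zero]
    funext i
    have h1 := hg (x - y) (Pi.single i 1)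
    rw [map_sub, q, sub_self, zero_dotProduct, dotProduct_single, mul_one] at h1
    exact h1.symm
  have hsurj : Function.Surjective g := Finite.injective_iff_surjective.1 hinj
  have hn : ∀ {v}, v ⬝ᵥ v = 1 → g v ⬝ᵥ g v = 1 := fun hv => by rw [hg, hv]
  refine ⟨h.ha, h.he, h.far, fun v hv => h.mem _ (hn hv), fun u v hu hv h1 h2 => ?_, fun u v hu hv q => ?_,
    fun y hy hy' => ?_, fun l hl hs => ?_, fun x h1 h2 h3 => ?_⟩
  · rw [h.comm _ _ (hn hu) (hn hv) (fun q => h1 (hinj q)) (fun q => h2 (hinj (by rw [q, map_neg]))), hg]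
  · rcases h.inj _ _ (hn hu) (hn hv) q with q | q
    · exact Or.inl (hinj q)
    · exact Or.inr (hinj (by rw [q, map_neg]))
  · obtain ⟨v, hv, e'⟩ := h.surj y hy hy'
    obtain ⟨u, rfl⟩ := hsurj v
    exact ⟨u, by rwa [hg] at hv, e'⟩
  · obtain ⟨s, hs, hx⟩ := hs
    have hfold : ∀ (m : List V) x, (m.map g).foldr rmul (g x) = g (m.foldr rmul x) := fun m x => by
      induction m with
      | nil => rfl
      | cons v m ih => simp only [List.map_cons, List.foldr_cons, ih, rmul, hg, map_add, map_smul]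
    have := h.rel (l.map g) (fun v hv => by
      obtain ⟨u, hu, rfl⟩ := List.mem_map.1 hv
      exact hn (hl u hu)) ⟨s, hs, fun x => by
        obtain ⟨x, rfl⟩ := hsurj x
        rw [hfold, hx, map_smul]⟩
    rwa [List.map_map] at this
  · obtain ⟨l, hl, hx⟩ := h.gen x h1 h2 h3
    obtain ⟨m, rfl⟩ : ∃ m : List V, m.map g = l := List.map_surjective_iff.2 hsurj l
    refine ⟨m, fun v hv => ?_, ?_⟩
    · rw [← hg]; exact hl _ (List.mem_map_of_mem hv)
    · rwa [List.map_map] at hx

end Coords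

variable {d : G} (P : Point24 D d)

include P

/-- Coordinates exist for every far pair at the point. -/
theorem exists_coords24 {a e : G} (ha : a ∈ nb D d) (he : e ∈ nb D d) (hae : ¬ Commute a e) :
    ∃ ψ, Coords D a e d ψ := by
  classical
  obtain ⟨ε, P'⟩ := P.below
  have hT := P.base.tt
  set H := hsub D d
  set π := QuotientGroup.mk' (Subgroup.center ↥H)
  set A : ↥H := ⟨a, Subgroup.subset_closure ha⟩
  set J : ↥H := ⟨e, Subgroup.subset_closure he⟩
  have hA : (A : G) ∈ nb D d := ha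
  have hJ : (J : G) ∈ nb D d := he
  have ht : π A ∈ img D d := ⟨A, ha, rfl⟩
  have hj : π J ∈ img D d := ⟨J, he, rfl⟩
  have htj : ¬ Commute (π A) (π J) := fun q => hae ((map_commute_iff hT hA hJ).1 q)
  obtain ⟨χ, hχ⟩ := frame7 P' P.type ht hj htj
  have hlift : ∀ v : V, ∃ y : ↥H, v ⬝ᵥ v = 1 → (y : G) ∈ nb D d ∧ π y = χ v := by
    intro v
    by_cases hv : v ⬝ᵥ v = 1
    · obtain ⟨y, hy, e⟩ := (hχ.mem v hv).1.1
      exact ⟨y, fun _ => ⟨hy, e⟩⟩
    · exact ⟨1, fun q => absurd q hv⟩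
  have hex : ∀ z ∈ tri (img D d) (π A) (π J), ∃ v, v ⬝ᵥ v = 1 ∧ χ v = z := by
    intro z hz
    have hsub : χ '' {v | v ⬝ᵥ v = 1} ⊆ tri (img D d) (π A) (π J) := by
      rintro _ ⟨v, hv, rfl⟩; exact hχ.mem v hv
    have h702 : {v : V | v ⬝ᵥ v = 1}.ncard = 702 := by rw [← Nat.card_coe_set_eq]; exact card_norm_one
    set S : Finset V := Finset.univ.filter fun v => v ⬝ᵥ v = 1 with hS
    have hSset : (S : Set V) = {v : V | v ⬝ᵥ v = 1} := by ext v; simp [S]
    have h2 := Finset.card_le_mul_card_image (f := χ) S 2 fun z hz => by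
      obtain ⟨u, hu, rfl⟩ := Finset.mem_image.1 hz
      refine (Finset.card_le_card (t := {u, -u}) fun v hv => ?_).trans Finset.card_le_two
      obtain ⟨hv, hvu⟩ := Finset.mem_filter.1 hv
      rcases hχ.inj v u (Finset.mem_filter.1 hv).2 (Finset.mem_filter.1 hu).2 hvu with q | q <;> simp [q]
    have hcard : 351 ≤ (χ '' {v | v ⬝ᵥ v = 1}).ncard := by
      rw [← hSset, ← Finset.coe_image, Set.ncard_coe_finset]
      rw [← hSset, Set.ncard_coe_finset] at h702
      omega
    obtain ⟨v, hv, e⟩ := (Set.eq_of_subset_of_ncard_le hsub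
      (((Level.tri_card (geo23 P') arith23).1 _ ht _ hj htj).trans_le hcard) (Set.toFinite _)).symm.subset hz
    exact ⟨v, hv, e⟩
  choose Y hY using hlift
  have hne : ∀ {y z : ↥H}, (y : G) ∈ nb D d → π y ≠ π z → (y : G) ≠ z := fun _ h q => h (congrArg π (Subtype.ext q))
  refine ⟨fun v => (Y v : G), ha, he, hae, fun v hv => ?_, fun u v hu hv h1 h2 => ?_,
    fun u v hu hv q => ?_, fun y hy hyd => ?_, fun l hl hs => ?_, fun g hga hge hgd => ?_⟩
  · obtain ⟨hy, e⟩ := hY v hv
    obtain ⟨⟨-, n1, c1⟩, c2⟩ := hχ.mem v hv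
    rw [← e] at n1 c1 c2
    exact ⟨⟨⟨hy.1, hne hy n1, (map_commute_iff hT hA hy).1 c1⟩, (map_commute_iff hT hy hJ).1 c2⟩, hy⟩
  · rw [← map_commute_iff hT (hY u hu).1 (hY v hv).1,
      show ((Y u : ↥H) : ↥H ⧸ Subgroup.center ↥H) = χ u from (hY u hu).2,
      show ((Y v : ↥H) : ↥H ⧸ Subgroup.center ↥H) = χ v from (hY v hv).2]
    exact hχ.comm u v hu hv h1 h2
  · refine hχ.inj u v hu hv ?_
    rw [← (hY u hu).2, ← (hY v hv).2, Subtype.ext q]
  · -- all of them are named
    set Y' : ↥H := ⟨y, Subgroup.subset_closure hyd⟩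
    have hT' : π Y' ∈ tri (img D d) (π A) (π J) := by
      refine ⟨⟨⟨Y', hyd, rfl⟩, fun q => hy.1.2.1 (mk_inj24 P hyd hA q), (map_commute_iff hT hA hyd).2 hy.1.2.2⟩, ?_⟩
      exact (map_commute_iff hT hyd hJ).2 hy.2
    obtain ⟨v, hv, e⟩ := hex _ hT'
    exact ⟨v, hv, mk_inj24 P (hY v hv).1 hyd ((hY v hv).2.trans e)⟩
  · -- the parity removes the sign
    obtain ⟨s, hs, hx⟩ := hs
    have hπ : π (l.map Y).prod = 1 := by
      rw [map_list_prod, List.map_map, show l.map (⇑π ∘ Y) = l.map χ from List.map_congr_left fun v hv => (hY v (hl v hv)).2]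
      exact hχ.rel l hl ⟨s, hs, hx⟩
    have hd2 : d * d = 1 := hT.sq d P.mem
    have key : ∀ m : List V, (∀ v ∈ m, v ⬝ᵥ v = 1) →
        (m.map (evm d fun v => (Y v : G))).prod = d ^ m.length * ((m.map Y).prod : ↥H) := by
      intro m hm
      induction m with
      | nil => simp
      | cons v m ih =>
        have hc : Commute d (Y v : G) := (hY v (hm v List.mem_cons_self)).1.2.2
        rw [List.map_cons, List.prod_cons, ih fun u hu => hm u (List.mem_cons_of_mem _ hu), List.length_cons,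
          List.map_cons, List.prod_cons, Subgroup.coe_mul]
        calc d * (Y v : G) * (d ^ m.length * ((m.map Y).prod : ↥H))
            = d * ((Y v : G) * d ^ m.length) * ((m.map Y).prod : ↥H) := by group
          _ = _ := by rw [← (hc.pow_left m.length).eq, pow_succ']; group
    have hsD : ∀ w ∈ l.map fun v => (Y v : G), w ∈ D := fun w hw => by
      obtain ⟨v, hv, rfl⟩ := List.mem_map.1 hw
      exact (hY v (hl v hv)).1.1
    have hco : (l.map fun v => (Y v : G)).prod = ((l.map Y).prod : ↥H) := by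
      rw [← Subgroup.coe_subtype, map_list_prod, List.map_map]; rfl
    rw [key l hl]
    rcases mk_one24 P hπ with q | q
    · have hpar := even24 P (l.length : ZMod 2) ⟨_, hsD, hco.trans q, by rw [List.length_map]⟩
      obtain ⟨k, hk⟩ := (ZMod.natCast_eq_zero_iff_even).1 hpar
      rw [q, mul_one, hk, ← two_mul, pow_mul, pow_two, hd2, one_pow]
    · have hpar := even24 P ((d :: l.map fun v => (Y v : G)).length : ZMod 2)
        ⟨_, List.forall_mem_cons.2 ⟨P.mem, hsD⟩, by rw [List.prod_cons, hco, q, hd2], rfl⟩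
      obtain ⟨k, hk⟩ := (ZMod.natCast_eq_zero_iff_even).1 hpar
      rw [List.length_cons, List.length_map] at hk
      rw [q, ← pow_succ, hk, ← two_mul, pow_mul, pow_two, hd2, one_pow]
  · -- all of the centraliser
    set g' : ↥H := ⟨g, (mem_hsub24 P P.mem).2 hgd⟩
    obtain ⟨hKC, -, -⟩ := pair_centralizer23 P' P.type ht hj htj
    have hmem : π g' ∈ Subgroup.closure (tri (img D d) (π A) (π J)) := by
      rw [show Subgroup.closure (tri (img D d) (π A) (π J)) = Subgroup.centralizer {π A, π J} from hKC,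
        CfsgLib.ThreeT.Prod.mem_pair_centralizer]
      exact ⟨(show Commute g' A from Subtype.ext hga.eq).map π, (show Commute g' J from Subtype.ext hge.eq).map π⟩
    obtain ⟨p, hp⟩ := Wd.of_closure (fun z hz => (geo23 P').tt.sq z hz.1.1) hmem
    obtain ⟨l₀, hl₀, hprod, -⟩ := hp
    have hex' : ∀ m : List (↥H ⧸ Subgroup.center ↥H), (∀ z ∈ m, z ∈ tri (img D d) (π A) (π J)) →
        ∃ l : List V, (∀ v ∈ l, v ⬝ᵥ v = 1) ∧ l.map χ = m := by
      intro m hm
      induction m with
      | nil => exact ⟨[], by simp, rfl⟩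
      | cons z m ih =>
        obtain ⟨l, hl, e⟩ := ih fun w hw => hm w (List.mem_cons_of_mem _ hw)
        obtain ⟨v, hv, ev⟩ := hex z (hm z List.mem_cons_self)
        exact ⟨v :: l, List.forall_mem_cons.2 ⟨hv, hl⟩, by rw [List.map_cons, ev, e]⟩
    obtain ⟨l, hl, hlm⟩ := hex' l₀ hl₀
    refine ⟨l, hl, ?_⟩
    have hπ : π ((l.map Y).prod⁻¹ * g') = 1 := by
      rw [map_mul, map_inv, map_list_prod, List.map_map,
        show l.map (⇑π ∘ Y) = l.map χ from List.map_congr_left fun v hv => (hY v (hl v hv)).2,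
        hlm, hprod, inv_mul_cancel]
    have hd2 : d * d = 1 := hT.sq d P.mem
    have key : ∀ m : List V, (∀ v ∈ m, v ⬝ᵥ v = 1) → ∃ z : G, (z = 1 ∨ z = d) ∧
        (m.map (evm d fun v => (Y v : G))).prod = z * ((m.map Y).prod : ↥H) := by
      intro m hm
      induction m with
      | nil => exact ⟨1, Or.inl rfl, by simp⟩
      | cons v m ih =>
        obtain ⟨z, hz, e⟩ := ih fun u hu => hm u (List.mem_cons_of_mem _ hu)
        have hc : Commute d (Y v : G) := (hY v (hm v List.mem_cons_self)).1.2.2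
        rw [List.map_cons, List.prod_cons, e, List.map_cons, List.prod_cons, Subgroup.coe_mul]
        rcases hz with rfl | rfl
        · exact ⟨d, Or.inr rfl, by group⟩
        · refine ⟨1, Or.inl rfl, ?_⟩
          show z * (Y v : G) * (z * ((m.map Y).prod : ↥H)) = _
          rw [hc.eq, one_mul, mul_assoc (Y v : G) z, ← mul_assoc z z, hd2, one_mul]
    obtain ⟨z, hz, e⟩ := key l hl
    have hcd := commute_hsub (D := D) (d := d) ((l.map Y).prod).2
    rcases mk_one24 P hπ with q | q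
    all_goals
      rw [Subgroup.coe_mul, Subgroup.coe_inv, inv_mul_eq_iff_eq_mul] at q
      change g = _ at q
      rw [e, q]
      rcases hz with rfl | rfl
    · exact Or.inl (by rw [mul_one, one_mul])
    · exact Or.inr (by rw [mul_one, ← mul_assoc, hd2, one_mul])
    · exact Or.inr (by rw [one_mul, hcd.eq])
    · exact Or.inl (by rw [hcd.eq])

end CfsgLib.ThreeT.Prod
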