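import Cfsg.Agent.Spor3T.M24LineData

/-!
Checking derivations of lines on the norm one vectors of seven squares over three elements.
-/

set_option autoImplicit false
set_option maxRecDepth 100000

namespace CfsgLib.ThreeT.LineCheck

open scoped Matrix

local notation "V" => Fin 7 → ZMod 3

/-- The reflection of the sum of squares in a vector of norm one. -/
def refl (v x : V) : V := x + (x ⬝ᵥ v) • v

/-- A digit. -/
def dig (n k : Nat) : Nat := n / 3 ^ k % 3

/-- The vector with a given number. -/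
def dec (n : Nat) : V := fun i => (dig n i.val : ZMod 3)

/-- A number from seven digits. -/
def pack (f : Nat → Nat) : Nat :=
  f 0 % 3 + 3 * (f 1 % 3) + 9 * (f 2 % 3) + 27 * (f 3 % 3) + 81 * (f 4 % 3) + 243 * (f 5 % 3) + 729 * (f 6 % 3)

theorem pack_lt (f : Nat → Nat) : pack f < 2187 := by unfold pack; omega

theorem dec_pack (f : Nat → Nat) : dec (pack f) = fun i => (f i.val : ZMod 3) := by
  funext i
  show ((dig (pack f) i.val : Nat) : ZMod 3) = _
  have : dig (pack f) i.val = f i.val % 3 := by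
    unfold dig pack
    fin_cases i <;> simp only [] <;> omega
  rw [this, ZMod.natCast_mod]

/-- The scalar product. -/
def dotN (a b : Nat) : Nat :=
  (dig a 0 * dig b 0 + dig a 1 * dig b 1 + dig a 2 * dig b 2 + dig a 3 * dig b 3 + dig a 4 * dig b 4 +
    dig a 5 * dig b 5 + dig a 6 * dig b 6) % 3

theorem dotN_cast (a b : Nat) : ((dotN a b : Nat) : ZMod 3) = dec a ⬝ᵥ dec b := by
  simp [dotN, dotProduct, dec, Fin.sum_univ_seven, ZMod.natCast_mod]

theorem dotN_lt (a b : Nat) : dotN a b < 3 := Nat.mod_lt _ (by norm_num)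

theorem dotN_eq {a b k : Nat} (hk : k < 3) : dotN a b = k ↔ dec a ⬝ᵥ dec b = (k : ZMod 3) := by
  rw [← dotN_cast, ZMod.natCast_eq_natCast_iff', Nat.mod_eq_of_lt (dotN_lt a b), Nat.mod_eq_of_lt hk]

/-- The number of the negative. -/
def negN (a : Nat) : Nat := pack fun k => 2 * dig a k

theorem dec_negN (a : Nat) : dec (negN a) = -dec a := by
  rw [negN, dec_pack]
  funext i
  show ((2 * dig a i.val : Nat) : ZMod 3) = -((dig a i.val : Nat) : ZMod 3)
  push_cast
  have key : ∀ z : ZMod 3, 2 * z = -z := by decide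
  exact key _

/-- The image under a reflection. -/
def rmN (v x : Nat) : Nat := (fun d => pack fun k => dig x k + d * dig v k) (dotN x v)

theorem dec_rmN (v x : Nat) : dec (rmN v x) = refl (dec v) (dec x) := by
  rw [rmN, dec_pack]
  funext i
  simp only [refl, Pi.add_apply, Pi.smul_apply, smul_eq_mul, ← dotN_cast, Nat.cast_add, Nat.cast_mul]
  rfl

/-- Evaluate a number before passing it on. -/
def force {α : Type} : Nat → (Nat → α) → α
  | 0, f => f 0
  | n + 1, f => f (n + 1)

theorem force_eq {α : Type} (x : Nat) (f : Nat → α) : force x f = f x := by cases x <;> rfl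

/-- The image under a product of reflections. -/
def foldN : List Nat → Nat → Nat
  | [], x => x
  | v :: l, x => force (foldN l x) (rmN v)

theorem dec_foldN (l : List Nat) (x : Nat) : dec (foldN l x) = (l.map dec).foldr refl (dec x) := by
  induction l with
  | nil => rfl
  | cons v l ih => rw [foldN, force_eq, dec_rmN, ih]; rfl

/-- Equality of vectors. -/
def eqN (a b : Nat) : Bool :=
  Nat.beq (dig a 0) (dig b 0) && Nat.beq (dig a 1) (dig b 1) && Nat.beq (dig a 2) (dig b 2) &&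
    Nat.beq (dig a 3) (dig b 3) && Nat.beq (dig a 4) (dig b 4) && Nat.beq (dig a 5) (dig b 5) &&
    Nat.beq (dig a 6) (dig b 6)

theorem eqN_iff {a b : Nat} : eqN a b = true ↔ dec a = dec b := by
  have h : ∀ i : Fin 7, dec a i = dec b i ↔ dig a i.val = dig b i.val := fun i => by
    show ((dig a i.val : Nat) : ZMod 3) = ((dig b i.val : Nat) : ZMod 3) ↔ _
    rw [ZMod.natCast_eq_natCast_iff']
    simp only [dig, Nat.mod_mod]
  simp only [eqN, Bool.and_eq_true, Nat.beq_eq]
  constructor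
  · rintro ⟨⟨⟨⟨⟨⟨h0, h1⟩, h2⟩, h3⟩, h4⟩, h5⟩, h6⟩
    funext i
    rw [h]
    fin_cases i <;> assumption
  · intro e
    exact ⟨⟨⟨⟨⟨⟨(h 0).1 (congrFun e 0), (h 1).1 (congrFun e 1)⟩, (h 2).1 (congrFun e 2)⟩, (h 3).1 (congrFun e 3)⟩,
      (h 4).1 (congrFun e 4)⟩, (h 5).1 (congrFun e 5)⟩, (h 6).1 (congrFun e 6)⟩

/-- Equality up to sign. -/
def eqpm (a b : Nat) : Bool := eqN a b || eqN a (negN b)

theorem eqpm_iff {a b : Nat} : eqpm a b = true ↔ dec a = dec b ∨ dec a = -dec b := by
  rw [eqpm, Bool.or_eq_true, eqN_iff, eqN_iff, dec_negN]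

/-- Every vector has a number. -/
theorem exists_code (v : V) : ∃ n < 2187, dec n = v := by
  refine ⟨pack fun k => if h : k < 7 then (v ⟨k, h⟩).val else 0, pack_lt _, ?_⟩
  rw [dec_pack]
  funext i
  show ((if h : i.val < 7 then (v ⟨i.val, h⟩).val else 0 : Nat) : ZMod 3) = v i
  rw [dif_pos i.isLt, ZMod.natCast_val, ZMod.cast_id]

/-- Three vectors. -/
abbrev T3 : Type := Nat × Nat × Nat

/-- The six orders of a triple. -/
def perms : T3 → List T3
  | (a, b, c) => [(a, b, c), (b, a, c), (a, c, b), (b, c, a), (c, a, b), (c, b, a)]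

/-- The triple covers three given vectors. -/
def hit (t s : T3) : Bool :=
  (perms t).any fun p => eqpm p.1 s.1 && eqpm p.2.1 s.2.1 && eqpm p.2.2 s.2.2

/-- Two triples share two vectors and differ in the third. -/
def clash (t s : T3) : Bool :=
  (perms t).any fun p => (perms s).any fun q => eqpm p.1 q.1 && eqpm p.2.1 q.2.1 && !eqpm p.2.2 q.2.2

/-- One step of a derivation. -/
def okStep (xw : List Nat) (tab : List T3) (s : T3 × T3) : Bool :=
  match s with
  | ((p, q, r), (k, i, j)) => Nat.blt i tab.length && Nat.blt j tab.length &&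
      match tab.getD i (0, 0, 0), tab.getD j (0, 0, 0) with
      | (a, b, c), (a', b', c') =>
        cond (Nat.beq k 0) (eqN p (foldN xw a) && eqN q (foldN xw b) && eqN r (foldN xw c))
          (eqN p (foldN [a, b, c] a') && eqN q (foldN [a, b, c] b') && eqN r (foldN [a, b, c] c'))

/-- A derivation. -/
def okRun (xw : List Nat) : List T3 → List (T3 × T3) → Bool
  | _, [] => true
  | tab, s :: r => okStep xw tab s && okRun xw (tab ++ [s.1]) r

/-- The axioms on lines. -/
structure Lines (L : V → V → V → Prop) (g₀ : V → V) : Prop where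
  norm : ∀ u v w, L u v w → u ⬝ᵥ u = 1 ∧ v ⬝ᵥ v = 1 ∧ w ⬝ᵥ w = 1 ∧ u ⬝ᵥ v = 0 ∧ u ⬝ᵥ w = 0 ∧ v ⬝ᵥ w = 0
  swap₁ : ∀ u v w, L u v w → L v u w
  swap₂ : ∀ u v w, L u v w → L u w v
  sgn : ∀ u v w, L u v w → L (-u) v w
  uniq : ∀ u v w w', L u v w → L u v w' → w' = w ∨ w' = -w
  ex : ∀ u v, u ⬝ᵥ u = 1 → v ⬝ᵥ v = 1 → u ⬝ᵥ v = 0 → ∃ w, L u v w
  map : ∀ u v w, L u v w → L (g₀ u) (g₀ v) (g₀ w)
  sigma : ∀ u v w p q r, L u v w → L p q r →
    L ([u, v, w].foldr refl p) ([u, v, w].foldr refl q) ([u, v, w].foldr refl r)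

/-- A line given by numbers. -/
def LN (L : V → V → V → Prop) : T3 → Prop
  | (a, b, c) => L (dec a) (dec b) (dec c)

variable {L : V → V → V → Prop} {xw : List Nat}

theorem Lines.perm (h : Lines L ((xw.map dec).foldr refl)) {t p : T3} (ht : LN L t) (hp : p ∈ perms t) : LN L p := by
  obtain ⟨a, b, c⟩ := t
  simp only [perms, List.mem_cons, List.not_mem_nil, or_false] at hp
  rcases hp with rfl | rfl | rfl | rfl | rfl | rfl
  · exact ht
  · exact h.swap₁ _ _ _ ht
  · exact h.swap₂ _ _ _ ht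
  · exact h.swap₂ _ _ _ (h.swap₁ _ _ _ ht)
  · exact h.swap₁ _ _ _ (h.swap₂ _ _ _ ht)
  · exact h.swap₂ _ _ _ (h.swap₁ _ _ _ (h.swap₂ _ _ _ ht))

theorem Lines.sgn₂ (h : Lines L ((xw.map dec).foldr refl)) {u v w : V} (hl : L u v w) : L u (-v) w :=
  h.swap₁ _ _ _ (h.sgn _ _ _ (h.swap₁ _ _ _ hl))

theorem Lines.sgn₃ (h : Lines L ((xw.map dec).foldr refl)) {u v w : V} (hl : L u v w) : L u v (-w) :=
  h.swap₂ _ _ _ (h.sgn₂ (h.swap₂ _ _ _ hl))

theorem Lines.eqpm₃ (h : Lines L ((xw.map dec).foldr refl)) {p q : T3} (hp : LN L p)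
    (h1 : eqpm p.1 q.1 = true) (h2 : eqpm p.2.1 q.2.1 = true) (h3 : eqpm p.2.2 q.2.2 = true) : LN L q := by
  obtain ⟨a, b, c⟩ := p
  obtain ⟨a', b', c'⟩ := q
  simp only [eqpm_iff] at h1 h2 h3
  simp only [LN] at hp ⊢
  have e1 : L (dec a') (dec b) (dec c) := by
    rcases h1 with e | e
    · rw [← e]; exact hp
    · have := h.sgn _ _ _ hp; rwa [e, neg_neg] at this
  have e2 : L (dec a') (dec b') (dec c) := by
    rcases h2 with e | e
    · rw [← e]; exact e1
    · have := h.sgn₂ e1; rwa [e, neg_neg] at this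
  rcases h3 with e | e
  · rw [← e]; exact e2
  · have := h.sgn₃ e2; rwa [e, neg_neg] at this

theorem Lines.of_hit (h : Lines L ((xw.map dec).foldr refl)) {t s : T3} (ht : LN L t) (hh : hit t s = true) :
    LN L s := by
  simp only [hit, List.any_eq_true, Bool.and_eq_true] at hh
  obtain ⟨p, hp, ⟨h1, h2⟩, h3⟩ := hh
  exact h.eqpm₃ (h.perm ht hp) h1 h2 h3

theorem Lines.no_clash (h : Lines L ((xw.map dec).foldr refl)) {t s : T3} (ht : LN L t) (hs : LN L s) :
    clash t s = false := by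
  rw [Bool.eq_false_iff]
  intro hh
  simp only [clash, List.any_eq_true, Bool.and_eq_true] at hh
  obtain ⟨p, hp, q, hq, ⟨h1, h2⟩, h3⟩ := hh
  obtain ⟨a, b, c⟩ := q
  obtain ⟨a', b', c'⟩ := p
  have hp' : LN L (a, b, c') := h.eqpm₃ (q := (a, b, c')) (h.perm ht hp) h1 h2 (eqpm_iff.2 (Or.inl rfl))
  have hu := h.uniq _ _ _ _ (show L (dec a) (dec b) (dec c) from h.perm hs hq) hp'
  rw [eqpm_iff.2 hu] at h3
  exact Bool.noConfusion h3

theorem Lines.run (h : Lines L ((xw.map dec).foldr refl)) :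
    ∀ {r : List (T3 × T3)} {tab : List T3}, okRun xw tab r = true → (∀ t ∈ tab, LN L t) →
      ∀ n, n < (tab ++ r.map Prod.fst).length → LN L ((tab ++ r.map Prod.fst).getD n (0, 0, 0)) := by
  intro r
  induction r with
  | nil =>
    intro tab _ ht n hn
    simp only [List.map_nil, List.append_nil] at hn ⊢
    rw [List.getD_eq_getElem _ _ hn]
    exact ht _ (List.getElem_mem hn)
  | cons s r ih =>
    intro tab hr ht n hn
    simp only [okRun, Bool.and_eq_true] at hr
    rw [List.map_cons, List.append_cons] at hn ⊢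
    refine ih hr.2 (fun t htm => ?_) n hn
    rcases List.mem_append.1 htm with htm | htm
    · exact ht t htm
    rw [List.mem_singleton.1 htm]
    obtain ⟨⟨p, q, w⟩, k, i, j⟩ := s
    have hs := hr.1
    simp only [okStep, Bool.and_eq_true, Nat.blt_eq] at hs
    obtain ⟨⟨hi, hj⟩, hs⟩ := hs
    have hti : LN L (tab.getD i (0, 0, 0)) := by rw [List.getD_eq_getElem _ _ hi]; exact ht _ (List.getElem_mem hi)
    have htj : LN L (tab.getD j (0, 0, 0)) := by rw [List.getD_eq_getElem _ _ hj]; exact ht _ (List.getElem_mem hj)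
    generalize tab.getD i (0, 0, 0) = A at hs hti
    generalize tab.getD j (0, 0, 0) = B at hs htj
    obtain ⟨a, b, c⟩ := A
    obtain ⟨a', b', c'⟩ := B
    show L (dec p) (dec q) (dec w)
    cases hk : Nat.beq k 0 <;> simp only [hk, cond_true, cond_false, Bool.and_eq_true, eqN_iff, dec_foldN] at hs
    · rw [hs.1.1, hs.1.2, hs.2]
      exact h.sigma _ _ _ _ _ _ hti htj
    · rw [hs.1.1, hs.1.2, hs.2]
      exact h.map _ _ _ hti

/-- A derivation leading to a contradiction. -/
def okBad (xw : List Nat) (seeds : List T3) (r : List (T3 × T3)) (i j : Nat) : Bool :=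
  okRun xw seeds r && Nat.blt i (seeds ++ r.map Prod.fst).length && Nat.blt j (seeds ++ r.map Prod.fst).length &&
    clash ((seeds ++ r.map Prod.fst).getD i (0, 0, 0)) ((seeds ++ r.map Prod.fst).getD j (0, 0, 0))

theorem Lines.bad (h : Lines L ((xw.map dec).foldr refl)) {seeds : List T3} {r : List (T3 × T3)} {i j : Nat}
    (hb : okBad xw seeds r i j = true) (hs : ∀ t ∈ seeds, LN L t) : False := by
  simp only [okBad, Bool.and_eq_true, Nat.blt_eq] at hb
  obtain ⟨⟨⟨h1, h2⟩, h3⟩, h4⟩ := hb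
  rw [h.no_clash (h.run h1 hs i h2) (h.run h1 hs j h3)] at h4
  exact Bool.noConfusion h4

/-- A derivation reaching a triple. -/
def okHit (xw : List Nat) (seeds : List T3) (r : List (T3 × T3)) (i : Nat) (s : T3) : Bool :=
  okRun xw seeds r && Nat.blt i (seeds ++ r.map Prod.fst).length && hit ((seeds ++ r.map Prod.fst).getD i (0, 0, 0)) s

theorem Lines.reach (h : Lines L ((xw.map dec).foldr refl)) {seeds : List T3} {r : List (T3 × T3)} {i : Nat} {s : T3}
    (hb : okHit xw seeds r i s = true) (hs : ∀ t ∈ seeds, LN L t) : LN L s := by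
  simp only [okHit, Bool.and_eq_true, Nat.blt_eq] at hb
  exact h.of_hit (h.run hb.1.1 hs i hb.1.2) hb.2

/-- The completions of a pair are settled: each is among the good ones or leads to a contradiction. -/
def okPair (xw : List Nat) (pre : List T3) (u v : Nat) (good : List Nat)
    (cert : List (Nat × List (T3 × T3) × Nat × Nat)) : Bool :=
  (List.range 2187).all fun w => cond (Nat.beq (dotN w w) 1 && Nat.beq (dotN u w) 0 && Nat.beq (dotN v w) 0)
    (good.any (eqpm w) || cert.any fun c => eqpm w c.1 && okBad xw (pre ++ [(u, v, c.1)]) c.2.1 c.2.2.1 c.2.2.2)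
    true

theorem Lines.pair (h : Lines L ((xw.map dec).foldr refl)) {pre : List T3} {u v : Nat} {good : List Nat}
    {cert : List (Nat × List (T3 × T3) × Nat × Nat)} (hb : okPair xw pre u v good cert = true)
    (huv : dec u ⬝ᵥ dec u = 1 ∧ dec v ⬝ᵥ dec v = 1 ∧ dec u ⬝ᵥ dec v = 0) (hs : ∀ t ∈ pre, LN L t) :
    ∃ g ∈ good, LN L (u, v, g) := by
  obtain ⟨w, hw⟩ := h.ex _ _ huv.1 huv.2.1 huv.2.2
  obtain ⟨-, -, hn, -, h5, h6⟩ := h.norm _ _ _ hw
  obtain ⟨n, hn', rfl⟩ := exists_code w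
  have hb' := List.all_eq_true.1 hb n (List.mem_range.2 hn')
  have c1 : dotN n n = 1 := (dotN_eq (by norm_num)).2 (by rw [hn]; rfl)
  have c2 : dotN u n = 0 := (dotN_eq (by norm_num)).2 (by rw [h5]; rfl)
  have c3 : dotN v n = 0 := (dotN_eq (by norm_num)).2 (by rw [h6]; rfl)
  rw [c1, c2, c3] at hb'
  simp only [Nat.beq, Bool.and_self, cond_true, Bool.or_eq_true, List.any_eq_true, Bool.and_eq_true] at hb'
  have move : ∀ c, eqpm n c = true → LN L (u, v, c) := fun c hc =>
    h.eqpm₃ (p := (u, v, n)) hw (eqpm_iff.2 (Or.inl rfl)) (eqpm_iff.2 (Or.inl rfl)) hc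
  rcases hb' with ⟨g, hg, he⟩ | ⟨c, -, he, hbad⟩
  · exact ⟨g, hg, move g he⟩
  · refine (h.bad hbad fun t ht => ?_).elim
    rcases List.mem_append.1 ht with ht | ht
    · exact hs t ht
    · rw [List.mem_singleton.1 ht]; exact move _ he

end CfsgLib.ThreeT.LineCheck
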