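import Mathlib

/-!
Data for the certificates about the lines on the norm one vectors of seven squares over three elements.
-/

set_option autoImplicit false
set_option maxRecDepth 100000

namespace CfsgLib.ThreeT.LineData

/-- The vectors of the eight letters. -/
def rvL : List Nat :=
  [1471, 1219, 520, 1175, 1008, 196, 1223, 1475]

/-- The vectors of the element of order 13. -/
def xw : List Nat :=
  [1219, 1471, 1175, 1223, 1475, 520, 1223, 1008, 196, 1219, 520]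

/-- The first vector. -/
def u0 : Nat :=
  1471

/-- The second vector. -/
def v0 : Nat :=
  1475

/-- The third vector. -/
def w0 : Nat :=
  655

/-- The vector of the second line. -/
def v1 : Nat :=
  520

/-- Its first completion. -/
def wG : Nat :=
  2156

/-- Its second completion. -/
def wB : Nat :=
  140

/-- Contradictory completions. -/
def cert1 : List (Nat × List ((Nat × Nat × Nat) × Nat × Nat × Nat) × Nat × Nat) :=
  [
    (520, [((2177, 2173, 2052), (0, 0, 0)), ((652, 656, 54), (0, 1, 0)), ((1475, 1471, 142), (1, 2, 0))], 3, 0),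
    (574, [((2177, 2173, 1890), (0, 0, 0)), ((652, 656, 1152), (0, 1, 0)), ((656, 652, 1474), (1, 0, 2))], 3, 2),
    (1942, [((2177, 2173, 1836), (0, 0, 0)), ((652, 656, 1314), (0, 1, 0)), ((656, 652, 790), (1, 0, 2))], 3, 2),
    (2156, [((2177, 2173, 1989), (0, 0, 0)), ((652, 656, 574), (0, 1, 0)), ((1475, 1471, 1665), (1, 2, 0))], 3, 0),
    (1175, [((2177, 2173, 1611), (0, 0, 0)), ((652, 656, 2095), (0, 1, 0)), ((656, 652, 1458), (1, 0, 2))], 3, 2),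
    (194, [((2177, 2173, 1881), (0, 0, 0)), ((652, 656, 1348), (0, 1, 0)), ((993, 992, 52), (0, 2, 0)),
    ((1453, 1457, 1832), (1, 0, 1)), ((460, 465, 603), (1, 3, 4)), ((597, 596, 882), (1, 2, 0))], 5, 6),
    (140, [((2177, 2173, 2043), (0, 0, 0)), ((652, 656, 412), (0, 1, 0)), ((1475, 1471, 545), (1, 2, 0))], 3, 0),
    (2102, [((2177, 2173, 1665), (0, 0, 0)), ((652, 656, 1933), (0, 1, 0)), ((656, 652, 1213), (1, 0, 2))], 3, 2),
    (1121, [((2177, 2173, 1773), (0, 0, 0)), ((652, 656, 1186), (0, 1, 0)), ((993, 992, 1204), (0, 2, 0)),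
    ((793, 798, 1906), (1, 0, 2)), ((924, 919, 936), (1, 3, 4)), ((924, 919, 1989), (1, 0, 3))], 5, 6),
    (954, [((2177, 2173, 1395), (0, 0, 0)), ((652, 656, 2068), (0, 1, 0)), ((1853, 1849, 1008), (1, 1, 0)),
    ((992, 993, 927), (1, 2, 3)), ((993, 992, 1123), (0, 2, 0))], 4, 5),
    (1746, [((2177, 2173, 963), (0, 0, 0)), ((652, 656, 754), (0, 1, 0)), ((993, 992, 1809), (0, 2, 0)),
    ((794, 795, 1103), (0, 3, 0)), ((795, 794, 104), (1, 0, 4))], 5, 4),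
    (1800, [((2177, 2173, 1287), (0, 0, 0)), ((652, 656, 1906), (0, 1, 0)), ((993, 992, 1951), (0, 2, 0)),
    ((794, 795, 1420), (0, 3, 0)), ((2001, 2000, 511), (0, 4, 0)), ((67, 71, 477), (1, 0, 1)),
    ((2096, 2092, 1989), (1, 6, 0)), ((2000, 2001, 2077), (1, 7, 3))], 5, 8),
    (412, [((2177, 2173, 639), (0, 0, 0)), ((652, 656, 1375), (0, 1, 0)), ((656, 652, 2095), (1, 0, 2))], 3, 2),
    (304, [((2177, 2173, 477), (0, 0, 0)), ((980, 976, 97), (1, 1, 0)), ((1453, 1457, 1625), (1, 0, 1)),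
    ((289, 294, 1917), (1, 3, 0)), ((1509, 1504, 1859), (1, 2, 4)), ((652, 656, 1474), (0, 1, 0)),
    ((993, 992, 720), (0, 6, 0)), ((794, 795, 1427), (0, 7, 0))], 5, 8),
    (1339, [((2177, 2173, 693), (0, 0, 0)), ((652, 656, 1213), (0, 1, 0)), ((656, 652, 1323), (1, 0, 2))], 3, 2),
    (1008, [((2177, 2173, 196), (0, 0, 0)), ((652, 656, 1143), (0, 1, 0)), ((1475, 1471, 927), (1, 2, 0))], 3, 0),
    (27, [((2177, 2173, 304), (0, 0, 0)), ((652, 656, 477), (0, 1, 0)), ((656, 652, 1890), (1, 0, 2))], 3, 2),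
    (1989, [((2177, 2173, 574), (0, 0, 0)), ((652, 656, 1890), (0, 1, 0)), ((993, 992, 1152), (0, 2, 0)),
    ((1453, 1457, 1834), (1, 0, 1)), ((512, 508, 268), (1, 2, 4)), ((508, 512, 1305), (1, 3, 5))], 6, 5),
    (81, [((2177, 2173, 142), (0, 0, 0)), ((652, 656, 1305), (0, 1, 0)), ((1475, 1471, 1062), (1, 2, 0))], 3, 0),
    (2043, [((2177, 2173, 412), (0, 0, 0)), ((652, 656, 639), (0, 1, 0)), ((656, 652, 2079), (1, 0, 2))], 3, 2),
    (1062, [((2177, 2173, 520), (0, 0, 0)), ((652, 656, 2052), (0, 1, 0)), ((993, 992, 54), (0, 2, 0)),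
    ((746, 742, 1737), (1, 0, 2)), ((742, 746, 547), (1, 3, 4))], 5, 4),
    (547, [((2177, 2173, 1546), (0, 0, 0)), ((652, 656, 450), (0, 1, 0)), ((993, 992, 1980), (0, 2, 0)),
    ((1271, 1272, 2124), (1, 2, 3)), ((915, 910, 369), (1, 0, 1)), ((1272, 1271, 1625), (1, 5, 0))], 4, 6),
    (1834, [((2177, 2173, 1492), (0, 0, 0)), ((652, 656, 612), (0, 1, 0)), ((993, 992, 1071), (0, 2, 0)),
    ((1129, 1133, 450), (1, 3, 1)), ((1453, 1457, 1850), (1, 0, 1)), ((1133, 1129, 1706), (1, 2, 5))], 4, 6),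
    (1418, [((2177, 2173, 1222), (0, 0, 0)), ((652, 656, 18), (0, 1, 0)), ((1533, 1532, 1132), (1, 0, 2)),
    ((825, 820, 639), (1, 1, 3)), ((1788, 1783, 502), (1, 0, 1)), ((820, 825, 257), (1, 5, 2))], 4, 6),
    (1481, [((2177, 2173, 790), (0, 0, 0)), ((652, 656, 1917), (0, 1, 0)), ((656, 652, 1931), (1, 0, 2))], 3, 2),
    (1364, [((2177, 2173, 898), (0, 0, 0)), ((652, 656, 2079), (0, 1, 0)), ((656, 652, 1474), (1, 0, 2))], 3, 2),
    (221, [((2177, 2173, 2185), (0, 0, 0)), ((652, 656, 745), (0, 1, 0)), ((1475, 1471, 1035), (1, 2, 0))], 3, 0),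
    (2183, [((2177, 2173, 1483), (0, 0, 0)), ((1457, 1453, 2183), (1, 1, 0)), ((1453, 1457, 1483), (1, 0, 1))], 2, 3),
    (1202, [((2177, 2173, 1834), (0, 0, 0)), ((652, 656, 1492), (0, 1, 0)), ((656, 652, 2093), (1, 0, 2))], 3, 2),
    (846, [((2177, 2173, 1132), (0, 0, 0)), ((652, 656, 1366), (0, 1, 0)), ((1475, 1471, 221), (1, 2, 0))], 3, 0),
    (1881, [((2177, 2173, 1348), (0, 0, 0)), ((652, 656, 52), (0, 1, 0)), ((656, 652, 1186), (1, 0, 2))], 3, 2),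
    (1773, [((2177, 2173, 1186), (0, 0, 0)), ((652, 656, 1204), (0, 1, 0)), ((1475, 1471, 1692), (1, 2, 0))], 3, 0),
    (1366, [((2177, 2173, 187), (0, 0, 0)), ((652, 656, 1339), (0, 1, 0)), ((656, 652, 54), (1, 0, 2))], 3, 2),
    (1420, [((2177, 2173, 511), (0, 0, 0)), ((652, 656, 1519), (0, 1, 0)), ((993, 992, 106), (0, 2, 0)),
    ((794, 795, 1278), (0, 3, 0)), ((795, 794, 1096), (1, 2, 0))], 4, 5),
    (1483, [((2177, 2173, 79), (0, 0, 0)), ((652, 656, 1177), (0, 1, 0)), ((993, 992, 873), (0, 2, 0)),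
    ((794, 795, 1346), (0, 3, 0)), ((1453, 1457, 1519), (1, 0, 1)), ((1504, 1509, 1420), (1, 1, 5))], 4, 6),
    (1204, [((2177, 2173, 1096), (0, 0, 0)), ((1568, 1569, 1096), (1, 0, 1)), ((652, 656, 743), (0, 1, 0)),
    ((1849, 1853, 1420), (1, 3, 1)), ((1376, 1372, 2034), (1, 2, 4)), ((669, 668, 743), (1, 1, 3)),
    ((1907, 1903, 761), (1, 6, 2))], 5, 7),
    (223, [((2177, 2173, 1447), (0, 0, 0)), ((1239, 1234, 1337), (1, 0, 1)), ((993, 992, 1323), (1, 2, 0)),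
    ((652, 656, 77), (0, 1, 0)), ((993, 992, 1915), (0, 4, 0))], 3, 5),
    (2185, [((2177, 2173, 745), (0, 0, 0)), ((1457, 1453, 2185), (1, 1, 0)), ((1453, 1457, 745), (1, 0, 1))], 2, 3),
    (545, [((2177, 2173, 97), (0, 0, 0)), ((652, 656, 1202), (0, 1, 0)), ((1475, 1471, 2124), (1, 2, 0))], 3, 0),
    (1832, [((2177, 2173, 43), (0, 0, 0)), ((652, 656, 1364), (0, 1, 0)), ((1475, 1471, 873), (1, 2, 0))], 3, 0),
    (653, [((2177, 2173, 259), (0, 0, 0)), ((652, 656, 50), (0, 1, 0)), ((993, 992, 1692), (0, 2, 0)),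
    ((742, 746, 1103), (1, 1, 3)), ((803, 804, 979), (1, 0, 1)), ((746, 742, 936), (1, 2, 5))], 4, 6),
    (243, [((2177, 2173, 2149), (0, 0, 0)), ((652, 656, 1175), (0, 1, 0)), ((1475, 1471, 1094), (1, 2, 0))], 3, 0),
    (1611, [((2177, 2173, 2095), (0, 0, 0)), ((652, 656, 1337), (0, 1, 0)), ((1475, 1471, 329), (1, 2, 0))], 3, 0),
    (1665, [((2177, 2173, 1933), (0, 0, 0)), ((1711, 1716, 1665), (1, 1, 0)), ((652, 656, 1517), (0, 1, 0)),
    ((993, 992, 817), (0, 3, 0)), ((992, 993, 52), (1, 2, 4))], 5, 4)]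

/-- Contradictory completions. -/
def cert2 : List (Nat × List ((Nat × Nat × Nat) × Nat × Nat × Nat) × Nat × Nat) :=
  [
    (1543, [((755, 520, 424), (1, 0, 1))], 2, 1),
    (574, [((755, 520, 162), (1, 0, 1))], 2, 1),
    (1054, [((755, 520, 659), (1, 0, 1))], 2, 1),
    (235, [((755, 520, 1757), (1, 0, 1))], 2, 1),
    (1453, [((755, 520, 1522), (1, 0, 1))], 2, 1),
    (1942, [((755, 520, 2016), (1, 0, 1))], 2, 1),
    (1475, [], 1, 0),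
    (1680, [((755, 520, 318), (1, 0, 1))], 2, 1),
    (1746, [((755, 520, 2075), (1, 0, 1))], 2, 1),
    (339, [((755, 520, 1380), (1, 0, 1))], 2, 1),
    (175, [((755, 520, 1299), (1, 0, 1))], 2, 1),
    (304, [((755, 520, 221), (1, 0, 1))], 2, 1),
    (1102, [((755, 520, 1497), (1, 0, 1))], 2, 1),
    (528, [((755, 520, 840), (1, 0, 1))], 2, 1),
    (1008, [((755, 520, 1337), (1, 0, 1))], 2, 1),
    (1497, [((755, 520, 1102), (1, 0, 1))], 2, 1),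
    (1299, [((755, 520, 175), (1, 0, 1))], 2, 1),
    (1788, [((755, 520, 669), (1, 0, 1))], 2, 1),
    (81, [((755, 520, 410), (1, 0, 1))], 2, 1),
    (655, [], 1, 0),
    (1135, [((755, 520, 94), (1, 0, 1))], 2, 1),
    (1624, [((755, 520, 588), (1, 0, 1))], 2, 1),
    (1418, [((2177, 2173, 1708), (0, 0, 0)), ((237, 236, 1364), (1, 2, 0)), ((2177, 2052, 1222), (0, 1, 0)),
    ((380, 2174, 1454), (1, 3, 4)), ((807, 802, 185), (1, 0, 2)), ((681, 1454, 2174), (1, 6, 4))], 5, 7),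
    (1907, [((755, 520, 1183), (1, 0, 1))], 2, 1),
    (200, [((755, 520, 921), (1, 0, 1))], 2, 1),
    (578, [((755, 520, 899), (1, 0, 1))], 2, 1),
    (221, [((755, 520, 304), (1, 0, 1))], 2, 1),
    (776, [((755, 520, 1826), (1, 0, 1))], 2, 1),
    (129, [((755, 520, 1977), (1, 0, 1))], 2, 1),
    (420, [((755, 520, 818), (1, 0, 1))], 2, 1),
    (1029, [((755, 520, 231), (1, 0, 1))], 2, 1),
    (865, [((755, 520, 150), (1, 0, 1))], 2, 1),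
    (1183, [((755, 520, 1907), (1, 0, 1))], 2, 1),
    (1711, [((755, 520, 996), (1, 0, 1))], 2, 1),
    (1243, [((755, 520, 119), (1, 0, 1))], 2, 1),
    (343, [((755, 520, 2108), (1, 0, 1))], 2, 1),
    (1204, [((755, 520, 1278), (1, 0, 1))], 2, 1),
    (308, [((755, 520, 946), (1, 0, 1))], 2, 1),
    (1568, [((755, 520, 532), (1, 0, 1))], 2, 1),
    (188, [((755, 520, 2027), (1, 0, 1))], 2, 1),
    (996, [((755, 520, 1711), (1, 0, 1))], 2, 1),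
    (150, [((755, 520, 865), (1, 0, 1))], 2, 1),
    (921, [((755, 520, 200), (1, 0, 1))], 2, 1)]

/-- The derivation of the two translated lines. -/
def gSteps : List ((Nat × Nat × Nat) × Nat × Nat × Nat) :=
  [((2177, 2173, 1708), (0, 0, 0)), ((652, 656, 1458), (0, 2, 0)), ((1, 6, 18), (1, 0, 3)),
    ((2177, 2052, 2043), (0, 1, 0)), ((652, 54, 412), (0, 5, 0)), ((656, 54, 410), (1, 4, 6))]

/-- Their places. -/
def gAt : Nat × Nat :=
  (3, 7)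

/-- The images of the unit vectors under the change of coordinates. -/
def gCols : List Nat :=
  [775, 1524, 259, 603, 1881, 2104, 178]

/-- The derivation of the seven lines. -/
def fSteps : List ((Nat × Nat × Nat) × Nat × Nat × Nat) :=
  [((2177, 2173, 1708), (0, 0, 0)), ((652, 656, 1458), (0, 2, 0)), ((1, 6, 18), (1, 0, 3)),
    ((2177, 2052, 1989), (0, 1, 0)), ((652, 54, 574), (0, 5, 0)), ((1, 54, 162), (1, 0, 6)),
    ((237, 1490, 1764), (1, 2, 1)), ((1965, 1445, 508), (1, 5, 8)), ((807, 802, 185), (1, 0, 2)),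
    ((236, 1575, 360), (1, 10, 8)), ((729, 1, 243), (1, 9, 11)), ((746, 742, 331), (1, 3, 0)),
    ((3, 54, 243), (1, 13, 6)), ((237, 236, 1364), (1, 2, 0)), ((3, 729, 162), (1, 9, 15)),
    ((1054, 334, 704), (1, 1, 2)), ((659, 1379, 379), (1, 1, 10)), ((18, 1458, 27), (1, 17, 18)),
    ((243, 162, 18), (1, 6, 4))]

/-- The seven lines and their places. -/
def fLines : List ((Nat × Nat × Nat) × Nat) :=
  [((0, 1, 2), 4), ((0, 3, 4), 7), ((0, 6, 5), 12), ((1, 3, 5), 14), ((1, 4, 6), 16), ((3, 2, 6), 19),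
    ((4, 2, 5), 20)]

/-- The orbits, the derivations of five orthogonal vectors and their places. -/
def orbL : List (List Nat × List (Nat × Nat × Nat × Nat) × List Nat) :=
  [
    ([1471, 2177, 652, 993, 794, 2001, 1201, 354, 76, 435, 128, 768, 1705], [(2177, (0, 0, 0)), (652, (0, 1, 0)), (993, (0, 2, 0)), (794, (0, 3, 0)), (2068, (1, 1, 3)),
    (591, (1, 4, 5)), (2001, (0, 4, 0)), (1201, (0, 7, 0)), (1375, (1, 6, 8)), (1123, (1, 2, 4)),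
    (118, (1, 7, 10)), (1712, (1, 0, 3)), (316, (1, 4, 12)), (1547, (1, 5, 13)), (1395, (1, 0, 2)),
    (1632, (1, 3, 15)), (1756, (1, 16, 8))], [9, 2, 11, 14, 17]),
    ([1219, 1475, 2173, 656, 992, 795, 2000, 1205, 353, 80, 434, 129, 767], [(1475, (0, 0, 0)), (2173, (0, 1, 0)), (656, (0, 2, 0)), (992, (0, 3, 0)), (1395, (1, 1, 3)),
    (1631, (1, 4, 5)), (795, (0, 4, 0)), (2000, (0, 7, 0)), (639, (1, 6, 8)), (2068, (1, 2, 4)),
    (586, (1, 7, 10)), (1624, (1, 0, 3)), (426, (1, 4, 12)), (822, (1, 5, 13)), (954, (1, 0, 2)),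
    (1367, (1, 3, 15)), (912, (1, 16, 8))], [9, 2, 11, 14, 17]),
    ([265, 1826, 1426, 1549, 1244, 318, 159, 1720, 663, 577, 524, 1650, 564], [(1826, (0, 0, 0)), (1426, (0, 1, 0)), (1549, (0, 2, 0)), (1244, (0, 3, 0)), (318, (0, 4, 0)),
    (2027, (1, 1, 5)), (54, (1, 1, 2)), (97, (1, 2, 4)), (545, (1, 1, 3)), (976, (1, 4, 9)),
    (1161, (1, 0, 2)), (280, (1, 3, 11)), (1955, (1, 4, 12))], [6, 7, 8, 10, 13]),
    ([502, 2160, 329, 1220, 729, 1429, 104, 2016, 140, 2043, 412, 639, 1375], [(2160, (0, 0, 0)), (329, (0, 1, 0)), (1220, (0, 2, 0)), (729, (0, 3, 0)), (817, (1, 2, 3)),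
    (1546, (1, 4, 5)), (1429, (0, 4, 0)), (754, (1, 0, 3)), (1071, (1, 2, 8))], [6, 1, 3, 7, 9]),
    ([754, 1809, 1103, 1800, 1287, 1906, 1951, 1420, 511, 1519, 106, 1278, 1575], [(1809, (0, 0, 0)), (1103, (0, 1, 0)), (1800, (0, 2, 0)), (1094, (1, 0, 1)), (18, (1, 2, 4)),
    (1791, (1, 3, 5)), (1287, (0, 3, 0)), (1906, (0, 7, 0)), (115, (1, 6, 8)), (1481, (1, 1, 2)),
    (653, (1, 3, 10)), (545, (1, 0, 7)), (1456, (1, 7, 8))], [9, 2, 11, 12, 13]),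
    ([982, 2182, 3, 742, 775, 578, 1974, 906, 228, 798, 552, 1869, 199], [(2182, (0, 0, 0)), (3, (0, 1, 0)), (742, (0, 2, 0)), (775, (0, 3, 0)), (578, (0, 4, 0)),
    (1974, (0, 5, 0)), (40, (1, 0, 6)), (221, (1, 0, 1)), (224, (1, 2, 8)), (954, (1, 3, 9)),
    (1730, (1, 0, 4)), (282, (1, 3, 11)), (906, (0, 6, 0))], [7, 10, 5, 12, 13]),
    ([1, 1480, 1524, 429, 1027, 1559, 127, 1505, 289, 1298, 156, 987, 2186], [(1480, (0, 0, 0)), (1524, (0, 1, 0)), (429, (0, 2, 0)), (1027, (0, 3, 0)), (1559, (0, 4, 0)),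
    (127, (0, 5, 0)), (128, (1, 0, 6)), (1481, (1, 0, 1)), (791, (1, 2, 8)), (1211, (1, 3, 9)),
    (1028, (1, 0, 4)), (1457, (1, 3, 11)), (1505, (0, 6, 0))], [7, 10, 5, 12, 13]),
    ([1963, 1831, 777, 2027, 1225, 1055, 1178, 139, 575, 1183, 462, 348, 1137], [(1831, (0, 0, 0)), (777, (0, 1, 0)), (2027, (0, 2, 0)), (1367, (1, 2, 3)), (1225, (0, 3, 0)),
    (1055, (0, 5, 0)), (534, (1, 4, 6)), (597, (1, 0, 1)), (2034, (1, 2, 8)), (1093, (1, 8, 5)),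
    (1071, (1, 0, 3)), (384, (1, 2, 11)), (578, (1, 5, 11))], [7, 9, 10, 12, 13]),
    ([520, 2052, 54, 518, 603, 752, 360, 1852, 1627, 268, 369, 2174, 2124], [(2052, (0, 0, 0)), (54, (0, 1, 0)), (518, (0, 2, 0)), (603, (0, 3, 0)), (97, (1, 3, 4)),
    (896, (1, 1, 3)), (275, (1, 0, 2)), (486, (1, 3, 7)), (752, (0, 4, 0))], [5, 2, 6, 8, 9]),
    ([1454, 1107, 221, 2185, 745, 1490, 1323, 1823, 684, 882, 936, 1260, 1683], [(1107, (0, 0, 0)), (221, (0, 1, 0)), (2185, (0, 2, 0)), (52, (1, 1, 3)), (745, (0, 3, 0)),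
    (1490, (0, 5, 0)), (1474, (1, 4, 6)), (1348, (1, 0, 2)), (761, (1, 5, 4)), (257, (1, 3, 8)),
    (1708, (1, 5, 10)), (1627, (1, 2, 6))], [7, 8, 9, 11, 12]),
    ([2034, 81, 142, 1305, 1931, 68, 1584, 1791, 1211, 2156, 1989, 574, 1890], [(81, (0, 0, 0)), (142, (0, 1, 0)), (1305, (0, 2, 0)), (1386, (1, 1, 3)), (1931, (0, 3, 0)),
    (68, (0, 5, 0)), (1454, (1, 4, 6)), (2115, (1, 0, 1)), (2176, (1, 0, 2)), (855, (1, 9, 5)),
    (2102, (1, 0, 6)), (1915, (1, 5, 6))], [7, 8, 10, 11, 12]),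
    ([1943, 1129, 624, 1680, 764, 915, 307, 1271, 532, 285, 980, 384, 1002], [(1129, (0, 0, 0)), (624, (0, 1, 0)), (1680, (0, 2, 0)), (289, (1, 1, 3)), (764, (0, 3, 0)),
    (915, (0, 5, 0)), (1177, (1, 4, 6)), (1628, (1, 0, 1)), (1505, (1, 0, 2)), (79, (1, 9, 5)),
    (1972, (1, 0, 6)), (235, (1, 5, 6))], [7, 8, 10, 11, 12]),
    ([336, 103, 548, 830, 1866, 1653, 1270, 1248, 1029, 821, 1547, 1903, 1236], [(103, (0, 0, 0)), (548, (0, 1, 0)), (830, (0, 2, 0)), (1866, (0, 3, 0)), (1959, (1, 0, 4)),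
    (575, (1, 3, 5)), (146, (1, 0, 2)), (79, (1, 1, 7)), (1676, (1, 2, 4)), (639, (1, 1, 2)),
    (903, (1, 1, 3)), (1272, (1, 10, 11)), (412, (1, 0, 1)), (996, (1, 13, 3)), (1560, (1, 4, 14))], [6, 8, 9, 12, 15]),
    ([1489, 2069, 380, 291, 587, 1567, 1379, 208, 1563, 838, 67, 116, 357], [(2069, (0, 0, 0)), (380, (0, 1, 0)), (291, (0, 2, 0)), (587, (0, 3, 0)), (1375, (1, 0, 4)),
    (1496, (1, 1, 5)), (235, (1, 2, 4)), (1567, (0, 4, 0)), (1379, (0, 8, 0)), (266, (1, 1, 8)),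
    (1785, (1, 0, 2)), (520, (1, 11, 8))], [6, 7, 9, 10, 12]),
    ([236, 1124, 301, 1934, 807, 145, 1640, 188, 596, 2109, 1363, 1632, 591], [(1124, (0, 0, 0)), (301, (0, 1, 0)), (1934, (0, 2, 0)), (807, (0, 3, 0)), (145, (0, 4, 0)),
    (1949, (1, 1, 5)), (1729, (1, 2, 6)), (658, (1, 1, 4)), (560, (1, 5, 8)), (1725, (1, 0, 3)),
    (309, (1, 4, 10)), (410, (1, 5, 11)), (1640, (0, 5, 0)), (1711, (1, 8, 13)), (2150, (1, 11, 13))], [7, 9, 12, 14, 15]),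
    ([825, 98, 465, 1054, 1912, 829, 416, 237, 1120, 305, 1930, 802, 150], [(98, (0, 0, 0)), (465, (0, 1, 0)), (1054, (0, 2, 0)), (1912, (0, 3, 0)), (829, (0, 4, 0)),
    (743, (1, 1, 5)), (1340, (1, 2, 6)), (1826, (1, 1, 4)), (438, (1, 5, 8)), (265, (1, 0, 3)),
    (2150, (1, 4, 10)), (1348, (1, 5, 11)), (416, (0, 5, 0)), (867, (1, 8, 13)), (1272, (1, 11, 13))], [7, 9, 12, 14, 15]),
    ([1001, 1340, 2146, 433, 839, 1520, 1550, 534, 1734, 309, 560, 1952, 677], [(1340, (0, 0, 0)), (2146, (0, 1, 0)), (433, (0, 2, 0)), (798, (1, 1, 3)), (839, (0, 3, 0)),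
    (1520, (0, 5, 0)), (41, (1, 4, 6)), (339, (1, 0, 1)), (228, (1, 0, 2)), (743, (1, 9, 5)),
    (1248, (1, 0, 6)), (924, (1, 5, 6))], [7, 8, 10, 11, 12]),
    ([1543, 1907, 1235, 667, 175, 278, 1635, 1297, 866, 1731, 1757, 1972, 1644], [(1907, (0, 0, 0)), (1235, (0, 1, 0)), (667, (0, 2, 0)), (175, (0, 3, 0)), (1475, (1, 0, 4)),
    (2112, (1, 3, 5)), (588, (1, 0, 2)), (1204, (1, 1, 7)), (1380, (1, 2, 4)), (196, (1, 1, 2)),
    (1572, (1, 1, 3)), (1516, (1, 10, 11)), (1008, (1, 0, 1)), (919, (1, 13, 3)), (780, (1, 4, 14))], [6, 8, 9, 12, 15]),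
    ([1677, 49, 224, 704, 1493, 2065, 381, 290, 588, 1572, 1380, 213, 1558], [(49, (0, 0, 0)), (224, (0, 1, 0)), (704, (0, 2, 0)), (1493, (0, 3, 0)), (140, (1, 0, 4)),
    (118, (1, 1, 5)), (1624, (1, 2, 4)), (2065, (0, 4, 0)), (381, (0, 8, 0)), (2043, (1, 1, 8)),
    (1568, (1, 0, 2)), (500, (1, 11, 8))], [6, 7, 9, 10, 12]),
    ([235, 1858, 991, 1532, 512, 803, 1594, 951, 334, 814, 1234, 1383, 919], [(1858, (0, 0, 0)), (991, (0, 1, 0)), (1080, (1, 0, 2)), (1532, (0, 2, 0)), (512, (0, 4, 0)),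
    (1602, (1, 1, 5)), (1251, (1, 3, 6)), (1248, (1, 4, 5)), (1653, (1, 1, 2)), (2156, (1, 9, 5)),
    (1656, (1, 0, 4)), (433, (1, 2, 11)), (1866, (1, 0, 1)), (528, (1, 13, 11))], [7, 8, 10, 12, 14]),
    ([771, 260, 1500, 921, 1568, 669, 1624, 1713, 1784, 1596, 240, 1862, 996], [(260, (0, 0, 0)), (1500, (0, 1, 0)), (729, (1, 0, 2)), (921, (0, 2, 0)), (1568, (0, 4, 0)),
    (1825, (1, 1, 5)), (1096, (1, 3, 6)), (899, (1, 4, 5)), (1972, (1, 1, 2)), (1350, (1, 9, 5)),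
    (1683, (1, 0, 4)), (915, (1, 2, 11)), (1757, (1, 0, 1)), (658, (1, 13, 11))], [7, 8, 10, 12, 14]),
    ([1980, 243, 2149, 1175, 1611, 2095, 1337, 1404, 1872, 1017, 275, 896, 630], [(243, (0, 0, 0)), (1287, (1, 0, 1)), (2149, (0, 1, 0)), (1175, (0, 3, 0)), (1625, (1, 2, 4)),
    (1611, (0, 4, 0)), (2095, (0, 6, 0)), (1278, (1, 5, 7)), (412, (1, 3, 2)), (2183, (1, 9, 6)),
    (1852, (1, 1, 7)), (511, (1, 6, 7))], [8, 0, 10, 11, 12]),
    ([1544, 1161, 545, 97, 1202, 1834, 1492, 612, 1071, 113, 1832, 43, 1364], [(1161, (0, 0, 0)), (275, (1, 0, 1)), (545, (0, 1, 0)), (97, (0, 3, 0)), (360, (1, 2, 4)),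
    (1202, (0, 4, 0)), (1834, (0, 6, 0)), (1474, (1, 5, 7)), (927, (1, 2, 6)), (1431, (1, 0, 3)),
    (1373, (1, 4, 10)), (1492, (1, 6, 11)), (486, (1, 6, 7)), (630, (1, 3, 4)), (1627, (1, 14, 7))], [8, 9, 12, 13, 15]),
    ([1222, 18, 653, 259, 50, 1692, 2147, 1913, 95, 1940, 387, 2066, 1861], [(18, (0, 0, 0)), (653, (0, 1, 0)), (259, (0, 2, 0)), (50, (0, 3, 0)), (1692, (0, 4, 0)),
    (2102, (1, 2, 5)), (743, (1, 0, 3)), (1260, (1, 0, 4)), (41, (1, 1, 4)), (1683, (1, 1, 5))], [6, 7, 8, 9, 10]),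
    ([269, 1822, 1430, 1554, 1245, 317, 154, 1725, 658, 582, 525, 1649, 559], [(1822, (0, 0, 0)), (1430, (0, 1, 0)), (1554, (0, 2, 0)), (1245, (0, 3, 0)), (317, (0, 4, 0)),
    (2028, (1, 1, 5)), (54, (1, 1, 2)), (97, (1, 2, 4)), (545, (1, 1, 3)), (980, (1, 4, 9)),
    (1161, (1, 0, 2)), (285, (1, 3, 11)), (1956, (1, 4, 12))], [6, 7, 8, 10, 13]),
    ([1174, 143, 571, 1187, 461, 343, 1136, 984, 1444, 1522, 1140, 1722, 2112], [(143, (0, 0, 0)), (571, (0, 1, 0)), (1187, (0, 2, 0)), (1345, (1, 2, 3)), (461, (0, 3, 0)),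
    (343, (0, 5, 0)), (2004, (1, 4, 6)), (2155, (1, 0, 1)), (1584, (1, 2, 8)), (1560, (1, 8, 5)),
    (2079, (1, 0, 3)), (1520, (1, 2, 11)), (1864, (1, 5, 11))], [7, 9, 10, 12, 13]),
    ([2102, 1665, 1933, 1517, 817, 1949, 2158, 1251, 2093, 2075, 2183, 1483, 79], [(1665, (0, 0, 0)), (1933, (0, 1, 0)), (1517, (0, 2, 0)), (817, (0, 3, 0)), (1949, (0, 4, 0)),
    (2158, (0, 5, 0)), (1132, (1, 0, 5)), (2133, (1, 6, 7)), (52, (1, 1, 4)), (1989, (1, 5, 9)),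
    (720, (1, 0, 4)), (1519, (1, 11, 6))], [8, 1, 3, 10, 12])]

/-- The root words in the chosen generators. -/
def rootG : List (List Nat) :=
  [[0, 3, 1, 1, 3, 0, 0, 2, 1, 1, 1, 2, 1, 1, 3], [2, 3, 0, 3, 1, 2, 0, 2, 1, 1, 1, 3, 1, 3, 2],
    [0, 0, 3, 1, 2, 0, 3, 0, 0, 0, 2, 0, 3, 2], [1, 3, 1, 2, 3, 1, 2, 1, 2, 0, 3, 1, 3, 1, 1, 3],
    [3, 0, 0, 2, 0, 0, 3, 0, 3, 2, 0, 3, 1, 1, 1], [3, 0, 2, 0, 2, 1, 2, 0, 2, 1, 1, 3],
    [0, 0, 2, 1, 2, 0, 2, 1, 2, 1], [1, 2, 1, 1, 3, 0, 0, 3, 1, 2, 0, 3, 2, 0],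
    [0, 0, 3, 0, 3, 1, 2, 0, 2, 0, 3, 2, 0, 3, 0, 3], [2, 1, 2, 1, 1, 1, 3, 1, 2, 0, 3, 1, 1, 3],
    [2, 0, 3, 0, 0, 0, 2, 1, 2, 0, 3, 1, 2], [0, 0, 2, 0, 0, 0, 2, 1, 1, 3, 0, 0, 3, 1, 3]]

end CfsgLib.ThreeT.LineData
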