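import Cfsg.Agent.Spor3T.M24LineCheck
import Cfsg.Agent.Coset.G23.EmbData
import Cfsg.Agent.Coset.O73.Data

/-!
The evaluated certificates: lines closed under an element of order 13 and their reflections generate
`G₂` over three elements.
-/

set_option autoImplicit false
set_option maxRecDepth 100000
set_option Elab.async false

namespace CfsgLib.ThreeT.LineFacts

open LineCheck LineData
open scoped Matrix

local notation "V" => Fin 7 → ZMod 3

/-- The same scalar on the unit vectors. -/
def scal (l : List Nat) : Bool :=
  (List.range 7).all (fun k => eqN (foldN l (3 ^ k)) (3 ^ k)) ||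
    (List.range 7).all fun k => eqN (foldN l (3 ^ k)) (negN (3 ^ k))

/-- Two products of reflections differing by a scalar. -/
def same (a b : List Nat) : Bool := scal (a ++ b.reverse)

/-- All of norm one. -/
def normed (l : List Nat) : Bool := l.all fun v => Nat.beq (dotN v v) 1

/-- The letters of a word. -/
def letters (w : List Nat) : List Nat := w.map fun l => rvL.getD l 0

/-- Letters in range. -/
def inRange (w : List Nat) : Bool := w.all fun l => Nat.blt l 8

/-- The lists of the chosen generators. -/
def gens (good : Nat) : List (List Nat) := [xw, xw.reverse, [u0, v0, w0], [u0, v1, good]]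

/-- The change of coordinates. -/
def gN (x : Nat) : Nat :=
  pack fun k => dig x 0 * dig (gCols.getD 0 0) k + dig x 1 * dig (gCols.getD 1 0) k +
    dig x 2 * dig (gCols.getD 2 0) k + dig x 3 * dig (gCols.getD 3 0) k + dig x 4 * dig (gCols.getD 4 0) k +
    dig x 5 * dig (gCols.getD 5 0) k + dig x 6 * dig (gCols.getD 6 0) k

theorem letters_norm : normed rvL && Nat.beq rvL.length 8 = true := by decide +kernel

theorem xw_norm : normed xw = true := by decide +kernel

theorem rels_scal :
    (CfsgLib.Coset.O73.rels.all fun w => inRange w && scal (letters w)) = true := by decide +kernel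

theorem xw_thirteen : scal (List.replicate 13 xw).flatten = true := by decide +kernel

theorem xw_moves : ((List.range 7).any fun k => !eqpm (foldN xw (3 ^ k)) (3 ^ k)) = true := by decide +kernel

theorem root_words : ((List.range 12).all fun r => inRange (CfsgLib.Coset.G23.rootW.getD r []) &&
    (rootG.getD r []).all (fun g => Nat.blt g 4) &&
    same (letters (CfsgLib.Coset.G23.rootW.getD r []))
      ((rootG.getD r []).map fun g => (gens wG).getD g []).flatten) = true := by decide +kernel

theorem root_moves : ((List.range 7).any fun k =>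
    !eqpm (foldN (letters (CfsgLib.Coset.G23.rootW.getD 11 [])) (3 ^ k)) (3 ^ k)) = true := by decide +kernel

theorem seeds_ok : (Nat.beq (dotN u0 u0) 1 && Nat.beq (dotN v0 v0) 1 && Nat.beq (dotN u0 v0) 0 &&
    Nat.beq (dotN v1 v1) 1 && Nat.beq (dotN u0 v1) 0) = true := by decide +kernel

theorem pair1_ok : okPair xw [] u0 v0 [w0] cert1 = true := by decide +kernel

theorem pair2_ok : okPair xw [(u0, v0, w0)] u0 v1 [wG, wB] cert2 = true := by decide +kernel

theorem g_base : okHit xw [(u0, v0, w0), (u0, v1, wB)] gSteps gAt.1 (gN u0, gN v0, gN w0) = true := by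
  decide +kernel

theorem g_second : okHit xw [(u0, v0, w0), (u0, v1, wB)] gSteps gAt.2 (gN u0, gN v1, gN wG) = true := by
  decide +kernel

theorem g_cols : ((List.range 7).all fun i => (List.range 7).all fun j =>
    Nat.beq (dotN (gCols.getD i 0) (gCols.getD j 0)) (if i = j then 1 else 0)) = true := by decide +kernel

theorem g_same : same (xw.map gN) xw = true := by decide +kernel

theorem lines_ok : (fLines.all fun c => okHit xw [(u0, v0, w0), (u0, v1, wG)] fSteps c.2
    (3 ^ c.1.1, 3 ^ c.1.2.1, 3 ^ c.1.2.2)) = true := by decide +kernel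

/-- One orbit, with its five orthogonal vectors. -/
def okOrbit (e : List Nat × List (Nat × T3) × List Nat) : Bool :=
  match e with
  | (o, r, t) => okVec [o.getD 0 0] r t && okCyc (o.getD 0 0) o
where
  /-- One derivation on vectors. -/
  okVec : List Nat → List (Nat × T3) → List Nat → Bool
  | tab, [], t => Nat.beq t.length 5 && t.all (fun i => Nat.blt i tab.length) &&
      (List.range 5).all fun i => (List.range 5).all fun j =>
        Nat.beq (dotN (tab.getD (t.getD i 0) 0) (tab.getD (t.getD j 0) 0)) (if i = j then 1 else 0)
  | tab, (v, k, i, j) :: r, t => Nat.blt i tab.length && Nat.blt j tab.length &&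
      cond (Nat.beq k 0) (eqN v (foldN xw (tab.getD i 0))) (eqN v (rmN (tab.getD i 0) (tab.getD j 0))) &&
      okVec (tab ++ [v]) r t
  /-- A closed orbit. -/
  okCyc : Nat → List Nat → Bool
  | _, [] => true
  | s, [a] => eqpm (foldN xw a) s
  | s, a :: b :: l => eqpm (foldN xw a) b && okCyc s (b :: l)

theorem orbits_ok : orbL.all okOrbit = true := by decide +kernel

theorem orbits_cover : ((List.range 2187).all fun w => cond (Nat.beq (dotN w w) 1)
    (orbL.any fun e => e.1.any (Nat.beq w) || e.1.any (Nat.beq (negN w))) true) = true := by decide +kernel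

/-- Representatives up to sign of the norm one vectors orthogonal to given unit vectors. -/
def reps (fix : List Nat) : List Nat :=
  (List.range 2187).filter fun w => Nat.ble w (negN w) && Nat.beq (dotN w w) 1 &&
    fix.all fun k => Nat.beq (dotN (3 ^ k) w) 0

theorem reps_le : (Nat.ble (reps []).length 351 && Nat.ble (reps [0]).length 126 &&
    Nat.ble (reps [0, 1, 2]).length 12) = true := by decide +kernel

/-- The seven lines as lists of unit vectors. -/
def lineVecs (i : Nat) : List Nat :=
  match fLines.getD i ((0, 0, 0), 0) with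
  | ((a, b, c), _) => [3 ^ a, 3 ^ b, 3 ^ c]

/-- Eight elements of the code of the lines. -/
def codeWords : List (List Nat) :=
  [] :: (List.range 7).map lineVecs

theorem code_ok : ((List.range 128).all fun s =>
    codeWords.any fun c => (([] : List Nat) :: (List.range 7).map fun i => [3 ^ i]).any fun x =>
      same (((List.range 7).filter fun i => Nat.beq (s / 2 ^ i % 2) 1).map fun i => 3 ^ i) (c ++ x)) = true := by
  decide +kernel

theorem fLines_ok : (Nat.beq fLines.length 7 && fLines.all (fun c => Nat.blt c.1.1 7 && Nat.blt c.1.2.1 7 &&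
    Nat.blt c.1.2.2 7) && ([((0, 1, 2) : T3), (0, 3, 4), (1, 3, 5), (2, 3, 6)].all fun t =>
      fLines.any fun c => hit (3 ^ c.1.1, 3 ^ c.1.2.1, 3 ^ c.1.2.2) (3 ^ t.1, 3 ^ t.2.1, 3 ^ t.2.2))) = true := by
  decide +kernel

theorem scal_spec {l : List Nat} (h : scal l = true) :
    ∃ a : ZMod 3, (a = 1 ∨ a = -1) ∧ ∀ x : V, (l.map dec).foldr refl x = a • x := by
  have hlin : ∀ (m : List V) (a : ZMod 3), (∀ k : Fin 7, m.foldr refl (Pi.single k 1) = a • Pi.single k 1) →
      ∀ x : V, m.foldr refl x = a • x := by
    intro m a hm
    have hadd : ∀ x y : V, m.foldr refl (x + y) = m.foldr refl x + m.foldr refl y := fun x y => by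
      clear hm
      induction m with
      | nil => rfl
      | cons v m ih => simp only [List.foldr_cons, ih, LineCheck.refl, add_dotProduct, add_smul]; abel
    have hsm : ∀ (c : ZMod 3) (x : V), m.foldr refl (c • x) = c • m.foldr refl x := fun c x => by
      clear hm hadd
      induction m with
      | nil => rfl
      | cons v m ih => simp only [List.foldr_cons, ih, LineCheck.refl, smul_dotProduct, smul_eq_mul, mul_smul, smul_add]
    let f : V →ₗ[ZMod 3] V := { toFun := m.foldr refl, map_add' := hadd, map_smul' := hsm }
    have e : f = a • LinearMap.id := (Pi.basisFun (ZMod 3) (Fin 7)).ext fun k => by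
      rw [Pi.basisFun_apply]
      exact hm k
    exact fun x => congrFun (congrArg DFunLike.coe e) x
  have hb : ∀ k : Fin 7, dec (3 ^ k.val) = Pi.single k 1 := by decide +kernel
  simp only [scal, Bool.or_eq_true, List.all_eq_true, List.mem_range, eqN_iff] at h
  rcases h with h | h
  · refine ⟨1, Or.inl rfl, hlin _ _ fun k => ?_⟩
    have := h k.val k.isLt
    rw [one_smul]
    rwa [dec_foldN, hb] at this
  · refine ⟨-1, Or.inr rfl, hlin _ _ fun k => ?_⟩
    have := h k.val k.isLt
    rwa [dec_foldN, dec_negN, hb, ← neg_one_smul (ZMod 3)] at this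

end CfsgLib.ThreeT.LineFacts
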