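import Cfsg.Agent.Spor3T.M24Coords
import Cfsg.Agent.Spor3T.M24LineFacts
import Cfsg.Agent.Spor3T.NoPath

/-!
Type M(24): the lines of a member commuting with a far pair and with an element of order 13.
-/

set_option autoImplicit false
set_option linter.unusedSectionVars false
set_option linter.style.haveILetI false

namespace CfsgLib.ThreeT.Prod

open scoped Matrix
open LineCheck LineData LineFacts

local notation "V" => Fin 7 → ZMod 3

local instance : Fact (Nat.Prime 3) := ⟨Nat.prime_three⟩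

/-- No isotropic vector is orthogonal to five orthogonal vectors of norm one. -/
theorem no_five_isotropic (w : Fin 5 → V) (hw : ∀ i j, w i ⬝ᵥ w j = if i = j then 1 else 0) {δ : V}
    (hδ : δ ⬝ᵥ δ = 0) (hwδ : ∀ i, w i ⬝ᵥ δ = 0) : δ = 0 := by
  by_contra hne
  obtain ⟨k, hk⟩ : ∃ k, δ k ≠ 0 := by
    by_contra hno
    push Not at hno
    exact hne (funext hno)
  set ρ₀ : V := Pi.single k (δ k)
  have h0 : δ ⬝ᵥ ρ₀ = 1 := by
    rw [dotProduct_single]
    have key : ∀ z : ZMod 3, z ≠ 0 → z * z = 1 := by decide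
    exact key _ hk
  set ρ₁ : V := ρ₀ - ∑ i, (w i ⬝ᵥ ρ₀) • w i
  have h1 : δ ⬝ᵥ ρ₁ = 1 := by
    rw [dotProduct_sub, h0, dotProduct_sum, Finset.sum_eq_zero (fun i _ => by
      rw [dotProduct_smul, dotProduct_comm δ (w i), hwδ, smul_zero]), sub_zero]
  have hwρ : ∀ i, w i ⬝ᵥ ρ₁ = 0 := fun i => by
    rw [dotProduct_sub, dotProduct_sum]
    simp [dotProduct_smul, hw]
  set ρ := ρ₁ + (ρ₁ ⬝ᵥ ρ₁) • δ
  have h2 : δ ⬝ᵥ ρ = 1 := by rw [dotProduct_add, h1, dotProduct_smul, hδ, smul_zero, add_zero]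
  have h3 : ρ ⬝ᵥ ρ = 0 := by
    simp only [ρ, add_dotProduct, dotProduct_add, smul_dotProduct, dotProduct_smul, smul_eq_mul, hδ, h1,
      dotProduct_comm ρ₁ δ]
    have key : ∀ q : ZMod 3, q + q * 1 + q * (1 + q * 0) = 0 := by decide
    exact key _
  have hwρ' : ∀ i, w i ⬝ᵥ ρ = 0 := fun i => by
    rw [dotProduct_add, hwρ, dotProduct_smul, hwδ, smul_zero, add_zero]
  clear_value ρ
  let M : Matrix (Fin 7) (Fin 7) (ZMod 3) := Matrix.of ![w 0, w 1, w 2, w 3, w 4, δ - ρ, δ + ρ]
  have hM : M * Mᵀ = Matrix.diagonal ![1, 1, 1, 1, 1, 1, -1] := by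
    have e : ∀ i, δ ⬝ᵥ w i = 0 := fun i => by rw [dotProduct_comm, hwδ]
    have e' : ∀ i, ρ ⬝ᵥ w i = 0 := fun i => by rw [dotProduct_comm, hwρ']
    have h2' : ρ ⬝ᵥ δ = 1 := by rw [dotProduct_comm, h2]
    ext i j
    rw [Matrix.mul_apply', show (fun l => Mᵀ l j) = M j from rfl]
    show ![w 0, w 1, w 2, w 3, w 4, δ - ρ, δ + ρ] i ⬝ᵥ ![w 0, w 1, w 2, w 3, w 4, δ - ρ, δ + ρ] j = _
    fin_cases i <;> fin_cases j <;>
      simp [hw, hwδ, hwρ', e, e', h2, h2', h3, hδ, add_dotProduct, dotProduct_add, sub_dotProduct,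
        dotProduct_sub, Matrix.diagonal] <;> decide
  have h := congrArg Matrix.det hM
  rw [Matrix.det_mul, Matrix.det_transpose, Matrix.det_diagonal] at h
  have key : ∀ z : ZMod 3, z * z ≠ -1 := by decide
  exact key _ (h.trans (by decide))

variable {G : Type*} [Group G] [Finite G] {D : Set G}

/-- A member conjugated by three commuting ones that do not commute with it. -/
theorem far_of_triple (hT : TT0 D) {b p q y : G} (hb : b ∈ D) (hp : p ∈ D) (hq : q ∈ D) (hy : y ∈ D)
    (cbp : Commute b p) (cbq : Commute b q) (cpq : Commute p q) (nb : ¬ Commute b y) (np : ¬ Commute p y)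
    (nq : ¬ Commute q y) : ¬ Commute y (b * p * q * y * (b * p * q)) := by
  intro h
  set y' := b * (p * y * p) * b
  have hy'D : y' ∈ D := hT.conj' (hT.conj' hy hp) hb
  have hyy' : Commute y y' := by
    have h5 := (commute_conj_iff b _ _).2 (CfsgLib.ThreeT.NoPath.conj_pair_commute hT hb hp hy cbp nb np)
    rwa [hT.inv hb, show b * (b * y * b) * b = (b * b) * y * (b * b) by group, hT.sq b hb, one_mul, mul_one] at h5
  have h1 : b * p * q = q * (b * p) := ((cbq.symm.mul_right cpq.symm).eq).symm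
  have hbp : b * p * (b * p) = 1 := by
    rw [show b * p * (b * p) = b * (p * b) * p by group, ← cbp.eq, ← mul_assoc b b p, hT.sq b hb, one_mul, hT.sq p hp]
  have hq' : b * p * q * (b * p) = q := by rw [h1, mul_assoc, hbp, mul_one]
  have hbpy : b * p * y * (b * p) = y' := by
    calc b * p * y * (b * p) = b * p * y * (p * b) := by rw [cbp.eq]
      _ = y' := by simp only [y']; group
  have hy'q : ¬ Commute q y' := by
    intro c
    refine nq ((commute_conj_iff (b * p) q y).1 ?_)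
    rwa [inv_eq_of_mul_eq_one_right hbp, hq', hbpy]
  have e : b * p * q * y * (b * p * q) = y' * q * y' := by
    rw [← braid0 hT hq hy'D hy'q, ← hbpy]
    calc b * p * q * y * (b * p * q) = q * (b * p) * y * (b * p * q) := by rw [h1]
      _ = _ := by group
  rw [e] at h
  have h5 := (commute_conj_iff y' _ _).2 h
  rw [hT.inv hy'D, hyy'.symm.eq, mul_assoc y y' y', hT.sq y' hy'D, mul_one,
    show y' * (y' * q * y') * y' = (y' * y') * q * (y' * y') by group, hT.sq y' hy'D, one_mul, mul_one] at h5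
  exact nq h5.symm

/-- The element of order 13. -/
abbrev x13 (b : G) (ψ : V → G) : G := ((xw.map dec).map (evm b ψ)).prod

theorem dec_norm {l : List Nat} (h : normed l = true) : ∀ v ∈ l.map dec, v ⬝ᵥ v = 1 := by
  intro v hv
  obtain ⟨n, hn, rfl⟩ := List.mem_map.1 hv
  exact (dotN_eq (by norm_num)).1 (Nat.eq_of_beq_eq_true (List.all_eq_true.1 h n hn))

theorem same_spec {l m : List Nat} (hm : ∀ v ∈ m.map dec, v ⬝ᵥ v = 1) (h : same l m = true) :
    ∃ s : ZMod 3, (s = 1 ∨ s = -1) ∧ ∀ x, (l.map dec).foldr rmul x = s • (m.map dec).foldr rmul x := by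
  obtain ⟨s, hs, hx⟩ := scal_spec h
  refine ⟨s, hs, fun x => ?_⟩
  have h1 := hx ((m.map dec).foldr rmul x)
  rw [List.map_append, List.foldr_append, List.map_reverse] at h1
  have h2 : (m.map dec).reverse.foldr rmul ((m.map dec).foldr rmul x) = x := by
    have := fold_rev (l := (m.map dec).reverse) (fun v hv => hm v (List.mem_reverse.1 hv)) x
    rwa [List.reverse_reverse] at this
  exact (congrArg ((l.map dec).foldr rmul) h2).symm.trans h1

/-- The coordinates with a fixed member off the point. -/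
structure Setup (D : Set G) (a e b c : G) (ψ : V → G) : Prop where
  co : Coords D a e b ψ
  hb : b ∈ D
  hc : c ∈ tri D a e
  far : ¬ Commute b c
  fixed : Commute c (x13 b ψ)

/-- Three orthogonal vectors whose product fixes `c`. -/
def Line (b c : G) (ψ : V → G) (u v w : V) : Prop :=
  (u ⬝ᵥ u = 1 ∧ v ⬝ᵥ v = 1 ∧ w ⬝ᵥ w = 1 ∧ u ⬝ᵥ v = 0 ∧ u ⬝ᵥ w = 0 ∧ v ⬝ᵥ w = 0) ∧
    Commute c (([u, v, w].map (evm b ψ)).prod)

theorem ne_of_orth {u v : V} (hu : u ⬝ᵥ u = 1) (huv : u ⬝ᵥ v = 0) : u ≠ v ∧ u ≠ -v := by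
  constructor <;> rintro rfl
  · rw [hu] at huv; exact one_ne_zero huv
  · rw [neg_dotProduct] at huv
    rw [neg_dotProduct_neg] at hu
    rw [hu] at huv
    exact neg_ne_zero.2 one_ne_zero huv

variable {d : G} (P : Point24 D d)

include P

/-- None of the named members commutes with `c`. -/
theorem Setup.no_common {a e b c : G} {ψ : V → G} (S : Setup D a e b c ψ) :
    ∀ v : V, v ⬝ᵥ v = 1 → ¬ Commute c (ψ v) := by
  classical
  have hT := P.base.tt
  have hb2 := hT.sq b S.hb
  -- five mutually commuting ones are impossible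
  have hfive : ∀ p : Fin 5 → V, (∀ i, Commute c (ψ (p i))) → (∀ i j, p i ⬝ᵥ p j = if i = j then 1 else 0) → False := by
    intro p hp horth
    have hn : ∀ i, p i ⬝ᵥ p i = 1 := fun i => by rw [horth, if_pos rfl]
    have hne : ∀ i j, i ≠ j → ψ (p i) ≠ ψ (p j) := fun i j hij q => by
      obtain ⟨h1, h2⟩ := ne_of_orth (hn i) (by rw [horth, if_neg hij])
      exact (S.co.inj _ _ (hn i) (hn j) q).elim h1 h2
    have hco : ∀ i j, i ≠ j → Commute (ψ (p i)) (ψ (p j)) := fun i j hij => by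
      obtain ⟨h1, h2⟩ := ne_of_orth (hn i) (by rw [horth, if_neg hij])
      exact (S.co.comm _ _ (hn i) (hn j) h1 h2).2 (by rw [horth, if_neg hij])
    set s := ψ (p 0) with hsdef
    obtain ⟨⟨hsa, hse⟩, hsb⟩ := S.co.mem _ (hn 0)
    obtain ⟨g, hg⟩ := P.base.conjD s hsb.1 d P.mem (P.base.ne_one s hsb.1) (P.base.ne_one d P.mem)
    have hmove : ∀ {y}, y ∈ nb D s → g * y * g⁻¹ ∈ nb D d := fun hy => nb_conj hT hy.1 hy.2.1 hy.2.2 hg
    have has : a ∈ nb D s := ⟨S.co.ha.1, fun q => hsa.2.1 q.symm, hsa.2.2.symm⟩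
    have hes : e ∈ nb D s := ⟨S.co.he.1, fun q => S.co.far (by rw [q]; exact hsa.2.2), hse⟩
    obtain ⟨χ, hχ⟩ := exists_coords24 P (hmove has) (hmove hes) fun q => S.co.far ((commute_conj_iff g a e).1 q)
    have hname : ∀ y, y ∈ tri D a e → y ∈ nb D s → ∃ v, v ⬝ᵥ v = 1 ∧ χ v = g * y * g⁻¹ := fun y hy hys =>
      hχ.surj _ ((Pair.tri_image hT g).subset ⟨y, hy, rfl⟩) (hmove hys)
    obtain ⟨β, hβ, eβ⟩ := hname b
      ⟨⟨S.hb, fun q => S.co.ha.2.1 q.symm, S.co.ha.2.2.symm⟩, S.co.he.2.2⟩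
      ⟨S.hb, fun q => S.far (q ▸ (hp 0).symm), hsb.2.2.symm⟩
    obtain ⟨γ, hγ, eγ⟩ := hname c S.hc ⟨S.hc.1.1, fun q => S.far (q ▸ hsb.2.2), (hp 0).symm⟩
    have hw : ∀ i : Fin 4, ∃ v, v ⬝ᵥ v = 1 ∧ χ v = g * ψ (p i.succ) * g⁻¹ := fun i => by
      obtain ⟨h1, h2⟩ := S.co.mem _ (hn i.succ)
      exact hname _ h1 ⟨h1.1.1, hne _ _ (Fin.succ_ne_zero i), hco _ _ (Fin.succ_ne_zero i).symm⟩
    choose w hw1 hw2 using hw
    have hdot : ∀ {u v : V} {y z : G}, u ⬝ᵥ u = 1 → v ⬝ᵥ v = 1 → χ u = g * y * g⁻¹ → χ v = g * z * g⁻¹ →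
        y ≠ z → (Commute y z ↔ u ⬝ᵥ v = 0) := by
      intro u v y z hu hv eu ev hyz
      have hne' : χ u ≠ χ v := by
        rw [eu, ev]
        exact fun q => hyz (mul_left_cancel (mul_right_cancel q))
      rw [← commute_conj_iff g, ← eu, ← ev]
      refine hχ.comm u v hu hv (fun q => hne' (by rw [q])) fun q => hne' ?_
      rw [q, hχ.neg_eq hT (hT.sq d P.mem) hv]
    have hβγ : β ⬝ᵥ γ ≠ 0 := fun q =>
      S.far ((hdot hβ hγ eβ eγ fun q' => S.far (q' ▸ Commute.refl b)).2 q)
    have hwb : ∀ i, w i ⬝ᵥ β = 0 := fun i => (hdot (hw1 i) hβ (hw2 i) eβ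
      (S.co.mem _ (hn i.succ)).2.2.1).1 (S.co.mem _ (hn i.succ)).2.2.2.symm
    have hwc : ∀ i, w i ⬝ᵥ γ = 0 := fun i => (hdot (hw1 i) hγ (hw2 i) eγ
      fun q => S.far (q ▸ (S.co.mem _ (hn i.succ)).2.2.2)).1 (hp i.succ).symm
    have hww : ∀ i j, i ≠ j → w i ⬝ᵥ w j = 0 := fun i j hij => (hdot (hw1 i) (hw1 j) (hw2 i) (hw2 j)
      (hne _ _ fun q => hij (Fin.succ_inj.1 q))).1 (hco _ _ fun q => hij (Fin.succ_inj.1 q))
    set F : Fin 5 → V := Fin.cases β w
    have hF : ∀ i j, F i ⬝ᵥ F j = if i = j then 1 else 0 := by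
      intro i j
      induction i using Fin.cases with
      | zero =>
        induction j using Fin.cases with
        | zero => simpa [F] using hβ
        | succ j => simpa [F, (Fin.succ_ne_zero j).symm, dotProduct_comm β] using hwb j
      | succ i =>
        induction j using Fin.cases with
        | zero => simpa [F, Fin.succ_ne_zero i] using hwb i
        | succ j =>
          by_cases hij : i = j
          · subst hij; simpa [F] using hw1 i
          · simpa [F, hij] using hww i j hij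
    set δ := γ - (β ⬝ᵥ γ) • β
    have hδ : δ ⬝ᵥ δ = 0 := by
      simp only [δ, sub_dotProduct, dotProduct_sub, smul_dotProduct, dotProduct_smul, smul_eq_mul, hγ, hβ,
        dotProduct_comm γ β]
      have key : ∀ z : ZMod 3, z ≠ 0 → 1 - z * z - z * (z - z * 1) = 0 := by decide
      exact key _ hβγ
    have hFδ : ∀ i, F i ⬝ᵥ δ = 0 := by
      intro i
      induction i using Fin.cases with
      | zero => simp [F, δ, dotProduct_sub, dotProduct_smul, hβ]
      | succ i => simp [F, δ, dotProduct_sub, dotProduct_smul, hwb, hwc]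
    have hsign : β ⬝ᵥ γ = 1 ∨ β ⬝ᵥ γ = -1 := by
      revert hβγ; generalize β ⬝ᵥ γ = z; revert z; decide
    have h0 := sub_eq_zero.1 (no_five_isotropic F hF hδ hFδ)
    have hbc : g * b * g⁻¹ = g * c * g⁻¹ := by
      rw [← eβ, ← eγ]
      rcases hsign with q | q <;> rw [q] at h0
      · rw [h0, one_smul]
      · rw [h0, neg_one_smul, hχ.neg_eq hT (hT.sq d P.mem) hβ]
    exact S.far (mul_left_cancel (mul_right_cancel hbc) ▸ Commute.refl b)
  -- the certificates
  have hxn := dec_norm xw_norm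
  have hA1 : ∀ n m, eqpm n m = true → dec n ⬝ᵥ dec n = 1 → Commute c (ψ (dec n)) → Commute c (ψ (dec m)) := by
    intro n m h hn hA
    rcases eqpm_iff.1 h with q | q
    · rwa [← q]
    · have hm : dec m ⬝ᵥ dec m = 1 := by rw [q, neg_dotProduct_neg] at hn; exact hn
      rw [q, S.co.neg_eq hT hb2 hm] at hA
      exact hA
  let Good : Nat → Prop := fun n => dec n ⬝ᵥ dec n = 1 ∧ Commute c (ψ (dec n))
  have hstepX : ∀ n, Good n → Good (foldN xw n) := by
    rintro n ⟨hn, hA⟩
    have hd : dec (foldN xw n) = (xw.map dec).foldr rmul (dec n) := dec_foldN xw n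
    refine ⟨by rw [hd, fold_dot hxn, hn], ?_⟩
    rw [hd, ← S.co.conj_mem hT hb2 hxn hn]
    exact (S.fixed.mul_right hA).mul_right S.fixed.inv_right
  have hstepR : ∀ m n, Good m → Good n → Good (rmN m n) := by
    rintro m n ⟨hm, hA⟩ ⟨hn, hB⟩
    have hd : dec (rmN m n) = [dec m].foldr rmul (dec n) := dec_rmN m n
    have h1 : ∀ v ∈ [dec m], v ⬝ᵥ v = 1 := by simpa using hm
    refine ⟨by rw [hd, fold_dot h1, hn], ?_⟩
    rw [hd, ← S.co.conj_mem hT hb2 h1 hn]
    have hbn : Commute b (ψ (dec n)) := S.co.bD hT _ hn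
    simp only [List.map_cons, List.map_nil, List.prod_cons, List.prod_nil, mul_one]
    have e1 : evm b ψ (dec m) * ψ (dec n) * (evm b ψ (dec m))⁻¹ = ψ (dec m) * ψ (dec n) * ψ (dec m) := by
      show b * ψ (dec m) * ψ (dec n) * (b * ψ (dec m))⁻¹ = _
      have hc : Commute b (ψ (dec m) * ψ (dec n) * ψ (dec m)) :=
        ((S.co.bD hT _ hm).mul_right hbn).mul_right (S.co.bD hT _ hm)
      calc b * ψ (dec m) * ψ (dec n) * (b * ψ (dec m))⁻¹ = b * (ψ (dec m) * ψ (dec n) * (ψ (dec m))⁻¹) * b⁻¹ := by group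
        _ = b * (ψ (dec m) * ψ (dec n) * ψ (dec m)) * b⁻¹ := by rw [hT.inv (S.co.mem _ hm).2.1]
        _ = _ := by rw [hc.eq, mul_inv_cancel_right]
    rw [e1]
    exact (hA.mul_right hB).mul_right hA
  have hvec : ∀ {r : List (Nat × T3)} {tab t : List Nat}, okOrbit.okVec tab r t = true → (∀ n ∈ tab, Good n) → False := by
    intro r
    induction r with
    | nil =>
      intro tab t h ht
      simp only [okOrbit.okVec, Bool.and_eq_true, List.all_eq_true, List.mem_range, Nat.blt_eq, Nat.beq_eq] at h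
      obtain ⟨⟨h5, hlt⟩, ho⟩ := h
      have hi : ∀ i : Fin 5, t.getD i.val 0 < tab.length := fun i => by
        rw [List.getD_eq_getElem _ _ (by omega)]; exact hlt _ (List.getElem_mem _)
      refine hfive (fun i => dec (tab.getD (t.getD i.val 0) 0)) (fun i => ?_) fun i j => ?_
      · rw [List.getD_eq_getElem _ _ (hi i)]
        exact (ht _ (List.getElem_mem _)).2
      · rw [(dotN_eq (k := if i.val = j.val then 1 else 0) (by split <;> norm_num)).1 (ho i.val i.isLt j.val j.isLt)]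
        by_cases hij : i = j
        · subst hij; simp
        · rw [if_neg hij, if_neg fun q => hij (Fin.ext q)]; rfl
    | cons s r ih =>
      intro tab t h ht
      obtain ⟨v, k, i, j⟩ := s
      simp only [okOrbit.okVec, Bool.and_eq_true, Nat.blt_eq] at h
      obtain ⟨⟨⟨hi, hj⟩, hv⟩, hr⟩ := h
      refine ih hr fun n hn => ?_
      rcases List.mem_append.1 hn with hn | hn
      · exact ht n hn
      rw [List.mem_singleton.1 hn]
      have hti : Good (tab.getD i 0) := by rw [List.getD_eq_getElem _ _ hi]; exact ht _ (List.getElem_mem hi)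
      have htj : Good (tab.getD j 0) := by rw [List.getD_eq_getElem _ _ hj]; exact ht _ (List.getElem_mem hj)
      cases hk : Nat.beq k 0 <;> simp only [hk, cond_true, cond_false, eqN_iff] at hv
      · obtain ⟨h1, h2⟩ := hstepR _ _ hti htj
        exact ⟨by rw [hv]; exact h1, by rw [hv]; exact h2⟩
      · obtain ⟨h1, h2⟩ := hstepX _ hti
        exact ⟨by rw [hv]; exact h1, by rw [hv]; exact h2⟩
  have hcyc : ∀ {o : List Nat} {s : Nat}, okOrbit.okCyc s o = true → ∀ n ∈ o, Good n → Good s := by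
    have hstep : ∀ n m, eqpm (foldN xw n) m = true → Good n → Good m := fun n m h hG => by
      obtain ⟨h1, h2⟩ := hstepX n hG
      refine ⟨?_, hA1 _ _ h h1 h2⟩
      rcases eqpm_iff.1 h with q | q <;> rw [q] at h1
      · exact h1
      · rwa [neg_dotProduct_neg] at h1
    intro o
    induction o with
    | nil => intro s _ n hn; simp at hn
    | cons x o ih =>
      intro s h n hn hG
      cases o with
      | nil =>
        rw [List.mem_singleton.1 hn] at hG
        exact hstep x s (by simpa [okOrbit.okCyc] using h) hG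
      | cons y l =>
        simp only [okOrbit.okCyc, Bool.and_eq_true] at h
        rcases List.mem_cons.1 hn with rfl | hn
        · exact ih h.2 y List.mem_cons_self (hstep n y h.1 hG)
        · exact ih h.2 n hn hG
  intro v hv hA
  obtain ⟨n, hn, rfl⟩ := exists_code v
  have h := List.all_eq_true.1 orbits_cover n (List.mem_range.2 hn)
  rw [(dotN_eq (k := 1) (by norm_num)).2 (by rw [hv]; rfl)] at h
  simp only [Nat.beq, cond_true, List.any_eq_true, Bool.or_eq_true] at h
  obtain ⟨⟨o, r, t⟩, he, hmem⟩ := h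
  have hok := List.all_eq_true.1 orbits_ok _ he
  simp only [okOrbit, Bool.and_eq_true] at hok
  have hgo : ∀ m ∈ o, Good m → False := fun m hm hG =>
    hvec hok.1 fun k hk => by rw [List.mem_singleton.1 hk]; exact hcyc hok.2 m hm hG
  rcases hmem with ⟨m, hm, q⟩ | ⟨m, hm, q⟩
  · rw [← Nat.eq_of_beq_eq_true q] at hm
    exact hgo n hm ⟨hv, hA⟩
  · rw [← Nat.eq_of_beq_eq_true q] at hm
    refine hgo _ hm ⟨?_, ?_⟩
    · rw [dec_negN, neg_dotProduct_neg, hv]
    · rw [dec_negN, S.co.neg_eq hT hb2 hv]; exact hA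

/-- The axioms of lines hold. -/
theorem Setup.lines {a e b c : G} {ψ : V → G} (S : Setup D a e b c ψ) :
    Lines (Line b c ψ) ((xw.map dec).foldr LineCheck.refl) := by
  classical
  have hT := P.base.tt
  have hb2 := hT.sq b S.hb
  have hA := S.no_common P
  have hnc : ∀ {u v : V}, u ⬝ᵥ u = 1 → v ⬝ᵥ v = 1 → u ⬝ᵥ v = 0 → Commute (ψ u) (ψ v) ∧ ψ u ≠ ψ v := by
    intro u v hu hv huv
    obtain ⟨h1, h2⟩ := ne_of_orth hu huv
    exact ⟨(S.co.comm u v hu hv h1 h2).2 huv, fun q => (S.co.inj u v hu hv q).elim h1 h2⟩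
  have hevc : ∀ {u v : V}, u ⬝ᵥ u = 1 → v ⬝ᵥ v = 1 → u ⬝ᵥ v = 0 → Commute (evm b ψ u) (evm b ψ v) :=
    fun hu hv huv => ((Commute.refl b).mul_right (S.co.bD hT _ hv)).mul_left
      ((S.co.bD hT _ hu).symm.mul_right (hnc hu hv huv).1)
  have hmove : ∀ l : List V, (∀ v ∈ l, v ⬝ᵥ v = 1) → Commute c (l.map (evm b ψ)).prod → ∀ p q r, Line b c ψ p q r →
      Line b c ψ (l.foldr rmul p) (l.foldr rmul q) (l.foldr rmul r) := by
    rintro l hl hcl p q r ⟨⟨hp, hq, hr, h1, h2, h3⟩, hc⟩
    refine ⟨⟨by rw [fold_dot hl, hp], by rw [fold_dot hl, hq], by rw [fold_dot hl, hr], by rw [fold_dot hl, h1],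
      by rw [fold_dot hl, h2], by rw [fold_dot hl, h3]⟩, ?_⟩
    simp only [List.map_cons, List.map_nil, List.prod_cons, List.prod_nil, mul_one] at hc ⊢
    rw [← S.co.conj_evm hT hb2 hl hp, ← S.co.conj_evm hT hb2 hl hq, ← S.co.conj_evm hT hb2 hl hr]
    have key : ∀ L X Y Z : G, L * X * L⁻¹ * (L * Y * L⁻¹ * (L * Z * L⁻¹)) = L * (X * (Y * Z)) * L⁻¹ := fun L X Y Z => by
      group
    rw [key]
    exact (hcl.mul_right hc).mul_right hcl.inv_right
  refine ⟨fun u v w h => h.1, ?_, ?_, ?_, ?_, ?_, ?_, ?_⟩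
  · rintro u v w ⟨⟨hu, hv, hw, h1, h2, h3⟩, hc⟩
    refine ⟨⟨hv, hu, hw, by rw [dotProduct_comm, h1], h3, h2⟩, ?_⟩
    simp only [List.map_cons, List.map_nil, List.prod_cons, List.prod_nil, mul_one] at hc ⊢
    rwa [← mul_assoc, ← (hevc hu hv h1).eq, mul_assoc]
  · rintro u v w ⟨⟨hu, hv, hw, h1, h2, h3⟩, hc⟩
    refine ⟨⟨hu, hw, hv, h2, h1, by rw [dotProduct_comm, h3]⟩, ?_⟩
    simp only [List.map_cons, List.map_nil, List.prod_cons, List.prod_nil, mul_one] at hc ⊢
    rwa [← (hevc hv hw h3).eq]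
  · rintro u v w ⟨⟨hu, hv, hw, h1, h2, h3⟩, hc⟩
    refine ⟨⟨by rw [neg_dotProduct_neg, hu], hv, hw, by rw [neg_dotProduct, h1, neg_zero],
      by rw [neg_dotProduct, h2, neg_zero], h3⟩, ?_⟩
    have e1 : evm b ψ (-u) = evm b ψ u := by show b * ψ (-u) = b * ψ u; rw [S.co.neg_eq hT hb2 hu]
    simpa [e1] using hc
  · -- uniqueness
    rintro u v w w' ⟨⟨hu, hv, hw, h1, h2, h3⟩, hc⟩ ⟨⟨-, -, hw', -, h5, h6⟩, hc'⟩
    simp only [List.map_cons, List.map_nil, List.prod_cons, List.prod_nil, mul_one] at hc hc'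
    have h := hc.inv_right.mul_right hc'
    rw [show (evm b ψ u * (evm b ψ v * evm b ψ w))⁻¹ * (evm b ψ u * (evm b ψ v * evm b ψ w')) =
      (evm b ψ w)⁻¹ * evm b ψ w' by group, inv_eq_of_mul_eq_one_right (S.co.evm_sq hT hb2 hw)] at h
    have hp := S.co.bD hT _ hw
    have e1 : evm b ψ w * evm b ψ w' = ψ w * ψ w' := by
      show b * ψ w * (b * ψ w') = _
      rw [hp.eq, mul_assoc (ψ w) b, ← mul_assoc b b, hb2, one_mul]
    rw [e1] at h
    have hD := (S.co.mem _ hw).2.1
    have hD' := (S.co.mem _ hw').2.1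
    have h7 : ψ w' * c * ψ w' = ψ w * c * ψ w := by
      calc ψ w' * c * ψ w' = ψ w * (ψ w * ψ w' * c) * ψ w' := by
            rw [show ψ w * (ψ w * ψ w' * c) * ψ w' = (ψ w * ψ w) * (ψ w' * c * ψ w') by group, hT.sq _ hD, one_mul]
        _ = ψ w * (c * (ψ w * ψ w')) * ψ w' := by rw [h.eq]
        _ = ψ w * c * ψ w * (ψ w' * ψ w') := by group
        _ = _ := by rw [hT.sq _ hD', mul_one]
    rw [braid0 hT hD' S.hc.1.1 (fun q => hA w' hw' q.symm), braid0 hT hD S.hc.1.1 (fun q => hA w hw q.symm)] at h7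
    exact S.co.inj w' w hw' hw (mul_left_cancel (mul_right_cancel h7))
  · -- existence
    intro u v hu hv huv
    obtain ⟨⟨hua, hue⟩, hub⟩ := S.co.mem u hu
    obtain ⟨⟨hva, hve⟩, hvb⟩ := S.co.mem v hv
    obtain ⟨cuv, nuv⟩ := hnc hu hv huv
    have hcD := S.hc.1.1
    have nu : ¬ Commute (ψ u) c := fun q => hA u hu q.symm
    have nv : ¬ Commute (ψ v) c := fun q => hA v hv q.symm
    set t := b * ψ u * ψ v with ht
    set y' := t * c * t with hy'
    have htt : t * t = 1 := by
      rw [ht, show b * ψ u * ψ v * (b * ψ u * ψ v) = b * ((ψ u * ψ v) * b) * (ψ u * ψ v) by group,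
        ← ((S.co.bD hT _ hu).mul_right (S.co.bD hT _ hv)).eq, ← mul_assoc b b, hb2, one_mul,
        show ψ u * ψ v * (ψ u * ψ v) = ψ u * (ψ v * ψ u) * ψ v by group, ← cuv.eq, ← mul_assoc (ψ u) (ψ u),
        hT.sq _ hub.1, one_mul, hT.sq _ hvb.1]
    have hfar : ¬ Commute c y' := far_of_triple hT S.hb hub.1 hvb.1 hcD hub.2.2 hvb.2.2 cuv S.far nu nv
    have hy'D : y' ∈ D := by
      have := hT.conj t c hcD
      rwa [inv_eq_of_mul_eq_one_right htt] at this
    set z := c * y' * c with hz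
    have hzD : z ∈ D := hT.conj' hy'D hcD
    have hzt : Commute t z := by
      show t * z = z * t
      have h1 : t * z * t = z := by
        calc t * z * t = t * c * (t * t) * y' * (t * t) * c * t := by rw [htt]; simp only [hz]; group
          _ = y' * (t * y' * t) * y' := by simp only [hy']; group
          _ = y' * c * y' := by
            rw [show t * y' * t = (t * t) * c * (t * t) by simp only [hy']; group, htt, one_mul, mul_one]
          _ = z := (braid0 hT hcD hy'D hfar).symm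
      calc t * z = t * z * (t * t) := by rw [htt, mul_one]
        _ = z * t := by rw [← mul_assoc, h1]
    obtain ⟨zb, zu, zv⟩ := (commute_triple_iff hT S.hb hub.1 hvb.1 hzD hub.2.2 hvb.2.2 cuv
      (fun q => hub.2.1 q.symm) (fun q => hvb.2.1 q.symm) nuv).1 hzt
    have hcomm_t : ∀ x, Commute b x → Commute (ψ u) x → Commute (ψ v) x → Commute c x → Commute z x :=
      fun x h1 h2 h3 h4 => by
        have ht' : Commute t x := (h1.mul_left h2).mul_left h3
        exact (h4.mul_left ((ht'.mul_left h4).mul_left ht')).mul_left h4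
    have hza : Commute z a := hcomm_t a S.co.ha.2.2 hua.2.2.symm hva.2.2.symm S.hc.1.2.2.symm
    have hze : Commute z e := hcomm_t e S.co.he.2.2 hue hve S.hc.2
    -- the new member differs from the three
    have hnew : ∀ p q r : G, p ∈ D → q ∈ D → r ∈ D → Commute p q → Commute p r → Commute q r → q ≠ r → t = p * q * r →
        ¬ Commute p c → ¬ Commute q c → z ≠ p := by
      intro p q r hp hq hr cpq cpr cqr nqr htp npc nqc hzp
      have h1 : y' = p * c * p := by
        calc y' = c * z * c := by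
              rw [hz, show c * (c * y' * c) * c = (c * c) * y' * (c * c) by group, hT.sq c hcD, one_mul, mul_one]
          _ = c * p * c := by rw [hzp]
          _ = p * c * p := (braid0 hT hp hcD npc).symm
      have hpt : p * t = q * r := by rw [htp, mul_assoc p q r, cancel2 hT hp]
      have h2 : Commute (q * r) c := by
        show q * r * c = c * (q * r)
        have htp' : t * p = q * r := by rw [htp, mul_assoc p q r, (cpq.mul_right cpr).eq, mul_assoc _ p p, hT.sq p hp, mul_one]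
        have : (q * r) * c * (t * p) = c := by
          rw [← hpt, show p * t * c * (t * p) = p * y' * p by simp only [hy']; group, h1,
            show p * (p * c * p) * p = (p * p) * c * (p * p) by group, hT.sq p hp, one_mul, mul_one]
        rw [htp'] at this
        have h22 : (q * r) * (q * r) = 1 := by
          rw [show q * r * (q * r) = q * (r * q) * r by group, ← cqr.eq, ← mul_assoc q q, hT.sq q hq, one_mul, hT.sq r hr]
        calc q * r * c = q * r * c * ((q * r) * (q * r)) := by rw [h22, mul_one]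
          _ = _ := by rw [← mul_assoc, this]
      exact nqc ((commute_mul_iff0 hT hq hr hcD cqr nqr).1 h2).1
    have nzb : z ≠ b := hnew b (ψ u) (ψ v) S.hb hub.1 hvb.1 hub.2.2 hvb.2.2 cuv nuv ht S.far nu
    have nzu : z ≠ ψ u := hnew (ψ u) b (ψ v) hub.1 S.hb hvb.1 hub.2.2.symm cuv hvb.2.2 (fun q => hvb.2.1 q.symm)
      (by rw [ht, hub.2.2.eq]) nu S.far
    have nzv : z ≠ ψ v := hnew (ψ v) b (ψ u) hvb.1 S.hb hub.1 hvb.2.2.symm cuv.symm hub.2.2 (fun q => hub.2.1 q.symm)
      (by rw [ht, mul_assoc b, cuv.eq, ← mul_assoc, hvb.2.2.eq]) nv S.far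
    have hzane : z ≠ a := by
      intro q
      have h1 : y' = a := by
        calc y' = c * z * c := by
              rw [hz, show c * (c * y' * c) * c = (c * c) * y' * (c * c) by group, hT.sq c hcD, one_mul, mul_one]
          _ = a := by rw [q, ← S.hc.1.2.2.eq, mul_assoc, hT.sq c hcD, mul_one]
      have hta : Commute t a := (S.co.ha.2.2.mul_left hua.2.2.symm).mul_left hva.2.2.symm
      refine S.hc.1.2.1 ?_
      calc c = (t * t) * c * (t * t) := by rw [htt, one_mul, mul_one]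
        _ = t * y' * t := by simp only [hy']; group
        _ = a := by rw [h1, hta.eq, mul_assoc, htt, mul_one]
    obtain ⟨w, hw, ew⟩ := S.co.surj z ⟨⟨hzD, hzane, hza.symm⟩, hze⟩ ⟨hzD, nzb, zb⟩
    have huw : u ⬝ᵥ w = 0 := by
      refine (S.co.comm u w hu hw ?_ ?_).1 (by rw [ew]; exact zu)
      · intro q; exact nzu (by rw [← ew, q])
      · intro q; exact nzu (by rw [← ew, q, S.co.neg_eq hT hb2 hw])
    have hvw : v ⬝ᵥ w = 0 := by
      refine (S.co.comm v w hv hw ?_ ?_).1 (by rw [ew]; exact zv)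
      · intro q; exact nzv (by rw [← ew, q])
      · intro q; exact nzv (by rw [← ew, q, S.co.neg_eq hT hb2 hw])
    refine ⟨w, ⟨hu, hv, hw, huv, huw, hvw⟩, ?_⟩
    have hev : ([u, v, w].map (evm b ψ)).prod = t * z := by
      simp only [List.map_cons, List.map_nil, List.prod_cons, List.prod_nil, mul_one]
      show b * ψ u * (b * ψ v * (b * ψ w)) = t * z
      rw [ew, (S.co.bD hT _ hv).eq, show ψ v * b * (b * z) = ψ v * (b * b) * z by group, hb2, mul_one, ← mul_assoc]
    rw [hev]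
    have hzc : ¬ Commute z c := fun q => hA w hw (by rw [ew]; exact q.symm)
    have h1 : z * c * z = t * c * t := by
      rw [braid0 hT hzD hcD hzc, hz, show c * (c * y' * c) * c = (c * c) * y' * (c * c) by group, hT.sq c hcD,
        one_mul, mul_one]
    symm
    show t * z * c = c * (t * z)
    calc t * z * c = t * z * c * (z * z) := by rw [hT.sq z hzD, mul_one]
      _ = t * (z * c * z) * z := by group
      _ = (t * t) * c * (t * z) := by rw [h1]; group
      _ = _ := by rw [htt, one_mul]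
  · exact fun u v w h => hmove _ (dec_norm xw_norm) S.fixed u v w h
  · rintro u v w p q r ⟨⟨hu, hv, hw, -⟩, hc⟩ h
    exact hmove [u, v, w] (by simp [hu, hv, hw]) hc p q r h

end CfsgLib.ThreeT.Prod
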