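import Cfsg.Agent.Spor3T.M22Pentad

/-!
A parity criterion for sets of transpositions: if no product of an odd number of members commuting with `d`
is trivial, then, when the transversal of the class of `d` built from words of even length is consistent, no
product of an odd number of members is trivial at all.
-/

set_option autoImplicit false
set_option linter.unusedSectionVars false
set_option linter.style.haveILetI false

namespace CfsgLib.ThreeT.Parity

variable {G : Type*} [Group G]

/-- `g` is a product of members of `S`, their number having parity `p`. -/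
def Wd (S : Set G) (g : G) (p : ZMod 2) : Prop :=
  ∃ l : List G, (∀ s ∈ l, s ∈ S) ∧ l.prod = g ∧ (l.length : ZMod 2) = p

/-- Only products of evenly many members are trivial. -/
def Even2 (S : Set G) : Prop := ∀ p : ZMod 2, Wd S 1 p → p = 0

/-- The members commuting with `d`. -/
def At (S : Set G) (d : G) : Set G := {s | s ∈ S ∧ Commute d s}

theorem Wd.mono {S T : Set G} (h : S ⊆ T) {g : G} {p : ZMod 2} (hg : Wd S g p) : Wd T g p := by
  obtain ⟨l, hl, e, hp⟩ := hg
  exact ⟨l, fun s hs => h (hl s hs), e, hp⟩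

theorem Wd.one (S : Set G) : Wd S (1 : G) 0 := ⟨[], by simp, rfl, rfl⟩

theorem Wd.single {S : Set G} {s : G} (hs : s ∈ S) : Wd S s 1 := ⟨[s], by simpa using hs, by simp, by simp⟩

theorem Wd.mul {S : Set G} {g g' : G} {p q : ZMod 2} (h : Wd S g p) (h' : Wd S g' q) :
    Wd S (g * g') (p + q) := by
  obtain ⟨l, hl, rfl, rfl⟩ := h
  obtain ⟨l', hl', rfl, rfl⟩ := h'
  exact ⟨l ++ l', fun s hs => (List.mem_append.1 hs).elim (hl s) (hl' s), List.prod_append,
    by rw [List.length_append, Nat.cast_add]⟩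

theorem Wd.inv {S : Set G} (hS : ∀ s ∈ S, s * s = 1) {g : G} {p : ZMod 2} (h : Wd S g p) : Wd S g⁻¹ p := by
  obtain ⟨l, hl, rfl, rfl⟩ := h
  induction l with
  | nil => simpa using Wd.one S
  | cons s l ih =>
    have hs := hl s List.mem_cons_self
    rw [List.prod_cons, mul_inv_rev, inv_eq_of_mul_eq_one_right (hS s hs), List.length_cons, Nat.cast_succ]
    exact (ih fun t ht => hl t (List.mem_cons_of_mem _ ht)).mul (Wd.single hs)

theorem Wd.eq {S : Set G} (hS : ∀ s ∈ S, s * s = 1) (hE : Even2 S) {g : G} {p q : ZMod 2} (h : Wd S g p)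
    (h' : Wd S g q) : p = q := by
  have h1 := (Wd.inv hS h).mul h'
  rw [inv_mul_cancel] at h1
  have := hE _ h1
  clear h h' h1
  revert this; revert p q; decide

theorem Wd.of_closure {S : Set G} (hS : ∀ s ∈ S, s * s = 1) {g : G} (hg : g ∈ Subgroup.closure S) :
    ∃ p, Wd S g p := by
  induction hg using Subgroup.closure_induction with
  | mem s hs => exact ⟨1, Wd.single hs⟩
  | one => exact ⟨0, Wd.one S⟩
  | mul u v _ _ hu hv => exact ⟨_, hu.choose_spec.mul hv.choose_spec⟩
  | inv u _ hu => exact ⟨_, Wd.inv hS hu.choose_spec⟩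

theorem Wd.mem_closure {S : Set G} {g : G} {p : ZMod 2} (h : Wd S g p) : g ∈ Subgroup.closure S := by
  obtain ⟨l, hl, rfl, -⟩ := h
  exact Subgroup.list_prod_mem _ fun s hs => Subgroup.subset_closure (hl s hs)

theorem Wd.conj {S T : Set G} {c : G} (hc : ∀ s ∈ S, c * s * c⁻¹ ∈ T) {g : G} {p : ZMod 2} (h : Wd S g p) :
    Wd T (c * g * c⁻¹) p := by
  obtain ⟨l, hl, rfl, rfl⟩ := h
  refine ⟨l.map (MulAut.conj c), fun s hs => ?_, (map_list_prod (MulAut.conj c) l).symm, by rw [List.length_map]⟩
  obtain ⟨t, ht, rfl⟩ := List.mem_map.1 hs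
  exact hc t (hl t ht)

/-- The parity criterion transported by conjugation. -/
theorem Even2.conj {S T : Set G} {c : G} (hc : ∀ s ∈ S, c * s * c⁻¹ ∈ T) (hE : Even2 T) : Even2 S := by
  intro p hp
  have h1 := Wd.conj hc hp
  rw [mul_one, mul_inv_cancel] at h1
  exact hE p h1

/-- What a step needs. `W` is the class of `d`, the other members of `S` commute with all of `W`. -/
structure Step (S W : Set G) (d : G) : Prop where
  sq : ∀ s ∈ S, s * s = 1
  conj : ∀ s ∈ S, ∀ t ∈ S, s * t * s ∈ S
  braid : ∀ s ∈ S, ∀ t ∈ S, ¬ Commute s t → s * t * s = t * s * t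
  conjW : ∀ s ∈ S, ∀ x ∈ W, s * x * s ∈ W
  sub : W ⊆ S
  mem : d ∈ W
  reach : ∀ u ∈ W, ∃ g ∈ Subgroup.closure S, g * d * g⁻¹ = u
  outside : ∀ s ∈ S, s ∉ W → ∀ x ∈ W, Commute s x
  trans : ∀ y ∈ W, y ≠ d → Commute d y → ∀ u ∈ W, u ≠ d → u ≠ y → Commute d u → Commute y u →
    ∀ v ∈ W, v ≠ d → v ≠ y → Commute d v → Commute y v →
      ∃ g ∈ Subgroup.closure (At (At S d) y), g * u * g⁻¹ = v
  common : ∀ y ∈ W, y ≠ d → Commute d y → ∀ a ∈ W, ¬ Commute d a → ¬ Commute y a →
    ∃ u ∈ W, u ≠ d ∧ u ≠ y ∧ Commute d u ∧ Commute y u ∧ Commute a u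
  C1 : ∀ g ∈ Subgroup.closure S, Commute g d → g ∈ Subgroup.closure (At S d)
  C2 : ∀ u ∈ W, u ≠ d → Commute d u → ∀ g ∈ Subgroup.closure (At S u), Commute g d →
    g ∈ Subgroup.closure (At (At S d) u)

variable {S W : Set G} {d : G}

/-- A representative of the coset sending `d` to `x`. -/
def Rep (W : Set G) (d x h : G) : Prop :=
  (x = d ∧ h = 1) ∨ (¬ Commute d x ∧ h = d * x) ∨
    (x ≠ d ∧ Commute d x ∧ ∃ a ∈ W, ¬ Commute d a ∧ ¬ Commute x a ∧ h = a * x * d * a)

/-- `g` respects the representatives with parity `p`. -/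
def Del (S W : Set G) (d g : G) (p : ZMod 2) : Prop :=
  ∀ x ∈ W, ∀ h, Rep W d x h → ∃ h', Rep W d (g * x * g⁻¹) h' ∧ Wd (At S d) (h'⁻¹ * g * h) p

variable (hS : Step S W d)

include hS

theorem sq_at : ∀ s ∈ At S d, s * s = 1 := fun s hs => hS.sq s hs.1

theorem inv_eq {s : G} (hs : s ∈ S) : s⁻¹ = s := inv_eq_of_mul_eq_one_right (hS.sq s hs)

theorem cancel {s : G} (hs : s ∈ S) (x : G) : s * (s * x) = x := by
  rw [← mul_assoc, hS.sq s hs, one_mul]

/-- The representative of a near member sends `d` to it. -/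
theorem near_rep {a y : G} (ha : a ∈ S) (hy : y ∈ S) (had : ¬ Commute d a) (hay : ¬ Commute y a)
    (hdy : Commute d y) : (a * y * d * a) * d * (a * y * d * a)⁻¹ = y := by
  have hd := hS.sub hS.mem
  rw [mul_inv_rev, mul_inv_rev, mul_inv_rev, inv_eq hS ha, inv_eq hS hy, inv_eq hS hd]
  calc a * y * d * a * d * (a * (d * (y * a))) = a * y * d * (a * d * a) * d * (y * a) := by group
    _ = a * y * d * (d * a * d) * d * (y * a) := by rw [hS.braid a ha d hd fun h => had h.symm]
    _ = a * (y * (d * d) * a * (d * d) * y) * a := by group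
    _ = a * (y * a * y) * a := by rw [hS.sq d hd, mul_one, mul_one]
    _ = a * (a * y * a) * a := by rw [hS.braid y hy a ha hay]
    _ = y := by
      rw [show a * (a * y * a) * a = (a * a) * y * (a * a) by group, hS.sq a ha, one_mul, mul_one]

theorem rep_spec {x h : G} (hx : x ∈ W) (hr : Rep W d x h) : h * d * h⁻¹ = x ∧ Wd S h 0 := by
  have hd := hS.sub hS.mem
  have hx' := hS.sub hx
  rcases hr with ⟨rfl, rfl⟩ | ⟨hdx, rfl⟩ | ⟨-, hdx, a, ha, had, hxa, rfl⟩
  · exact ⟨by group, Wd.one S⟩
  · refine ⟨?_, by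
      have h2 := (Wd.single hd).mul (Wd.single hx')
      rwa [show ((1 : ZMod 2) + 1) = 0 by decide] at h2⟩
    rw [mul_inv_rev, inv_eq hS hd, inv_eq hS hx',
      show d * x * d * (x * d) = d * (x * d * x) * d by group, ← hS.braid d hd x hx' hdx,
      show d * (d * x * d) * d = (d * d) * x * (d * d) by group, hS.sq d hd, one_mul, mul_one]
  · have ha' := hS.sub ha
    refine ⟨near_rep hS ha' hx' had hxa hdx, ?_⟩
    have h4 := (((Wd.single ha').mul (Wd.single hx')).mul (Wd.single hd)).mul (Wd.single ha')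
    rwa [show ((1 : ZMod 2) + 1 + 1 + 1) = 0 by decide] at h4

theorem conj_wd {h : G} {p : ZMod 2} (hh : Wd S h p) {s : G} (hs : s ∈ S) : h * s * h⁻¹ ∈ S := by
  obtain ⟨l, hl, rfl, -⟩ := hh
  induction l with
  | nil => simpa using hs
  | cons t l ih =>
    have h1 := ih fun u hu => hl u (List.mem_cons_of_mem _ hu)
    have ht := hl t List.mem_cons_self
    rw [List.prod_cons, mul_inv_rev, inv_eq hS ht]
    have h2 := hS.conj t ht _ h1
    rwa [show t * l.prod * s * (l.prod⁻¹ * t) = t * (l.prod * s * l.prod⁻¹) * t by group]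

/-- Products relating two representatives of one near member. -/
def R (S : Set G) (d y a b : G) : Prop := Wd (At S d) ((a * y * d * a)⁻¹ * (b * y * d * b)) 0

theorem R.trans' {y a b c : G} (h : R S d y a b) (h' : R S d y b c) : R S d y a c := by
  have := Wd.mul h h'
  rw [add_zero] at this
  unfold R
  rwa [show (a * y * d * a)⁻¹ * (b * y * d * b) * ((b * y * d * b)⁻¹ * (c * y * d * c)) =
    (a * y * d * a)⁻¹ * (c * y * d * c) by group] at this

/-- Moving by a member commuting with `d` and `y`. -/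
theorem R.move {y a : G} (hy : y ∈ W) (hdy : Commute d y) (ha : a ∈ W) (had : ¬ Commute d a)
    (hya : ¬ Commute y a) {s : G} (hs : s ∈ At (At S d) y) : R S d y a (s * a * s) := by
  have hs1 : s ∈ S := hs.1.1
  set q := a * y * d * a
  have hq : Wd S q 0 ∧ q * d * q⁻¹ = y := by
    refine ⟨?_, near_rep hS (hS.sub ha) (hS.sub hy) had hya hdy⟩
    have ha' := hS.sub ha
    have h4 := (((Wd.single ha').mul (Wd.single (hS.sub hy))).mul (Wd.single (hS.sub hS.mem))).mul (Wd.single ha')
    rwa [show ((1 : ZMod 2) + 1 + 1 + 1) = 0 by decide] at h4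
  have ht : q⁻¹ * s * q ∈ At S d := by
    refine ⟨by simpa using conj_wd hS (Wd.inv hS.sq hq.1) hs1, ?_⟩
    refine (commute_conj_iff q d _).1 ?_
    rw [hq.2, show q * (q⁻¹ * s * q) * q⁻¹ = s by group]
    exact hs.2
  have key : (s * a * s) * y * d * (s * a * s) = s * q * s := by
    calc (s * a * s) * y * d * (s * a * s) = s * a * (s * y) * (d * s) * a * s := by group
      _ = s * a * (y * s) * (s * d) * a * s := by rw [hs.2.symm.eq, hs.1.2.eq]
      _ = s * a * y * (s * s) * d * a * s := by group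
      _ = s * q * s := by rw [hS.sq s hs1]; simp only [q]; group
  unfold R
  rw [key, show q⁻¹ * (s * q * s) = (q⁻¹ * s * q) * s by group]
  have := (Wd.single ht).mul (Wd.single (show s ∈ At S d from hs.1))
  rwa [show ((1 : ZMod 2) + 1) = 0 by decide] at this

variable (hE : Even2 (At S d))

include hE

theorem even_at {u : G} (hu : u ∈ W) : Even2 (At S u) := by
  obtain ⟨g, hg, he⟩ := hS.reach u hu
  obtain ⟨p, hw⟩ := Wd.of_closure hS.sq hg
  refine Even2.conj (c := g⁻¹) (T := At S d) (fun s hs => ⟨conj_wd hS (Wd.inv hS.sq hw) hs.1, ?_⟩) hE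
  refine (commute_conj_iff g d _).1 ?_
  rw [he, show g * (g⁻¹ * s * g⁻¹⁻¹) * g⁻¹ = s by group]
  exact hs.2

/-- Two representatives of a near member differ evenly. -/
theorem R.all {y a b : G} (hy : y ∈ W) (hyd : y ≠ d) (hdy : Commute d y) (ha : a ∈ W) (had : ¬ Commute d a)
    (hya : ¬ Commute y a) (hb : b ∈ W) (hbd : ¬ Commute d b) (hyb : ¬ Commute y b) : R S d y a b := by
  -- a shared common neighbour is enough
  have share : ∀ {a b u : G}, a ∈ W → ¬ Commute d a → ¬ Commute y a → b ∈ W → ¬ Commute d b → ¬ Commute y b →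
      u ∈ W → u ≠ d → u ≠ y → Commute d u → Commute y u → Commute a u → Commute b u → R S d y a b := by
    intro a b u ha had hya hb hbd hyb hu hud huy hdu hyu hau hbu
    have mu : ∀ {z}, z ∈ W → Commute z u → z ∈ At S u := fun hz hzu => ⟨hS.sub hz, hzu.symm⟩
    have wu : ∀ {z}, z ∈ W → Commute z u → Wd (At S u) (z * y * d * z) 0 := fun {z} hz hzu => by
      have h4 := (((Wd.single (mu hz hzu)).mul (Wd.single (mu hy hyu))).mul
        (Wd.single (mu hS.mem hdu))).mul (Wd.single (mu hz hzu))
      rwa [show ((1 : ZMod 2) + 1 + 1 + 1) = 0 by decide] at h4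
    have hv := (Wd.inv (fun s hs => hS.sq s hs.1) (wu ha hau)).mul (wu hb hbu)
    rw [add_zero] at hv
    set qa := a * y * d * a
    set qb := b * y * d * b
    have hvd : Commute (qa⁻¹ * qb) d := by
      have e1 := near_rep hS (hS.sub ha) (hS.sub hy) had hya hdy
      have e2 := near_rep hS (hS.sub hb) (hS.sub hy) hbd hyb hdy
      refine mul_inv_eq_iff_eq_mul.1 ?_
      calc qa⁻¹ * qb * d * (qa⁻¹ * qb)⁻¹ = qa⁻¹ * (qb * d * qb⁻¹) * qa := by group
        _ = qa⁻¹ * (qa * d * qa⁻¹) * qa := by rw [e2, e1]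
        _ = d := by group
    obtain ⟨q, hq⟩ := Wd.of_closure (fun s hs => hS.sq s hs.1.1)
      (hS.C2 u hu hud hdu _ hv.mem_closure hvd)
    have hq0 : q = 0 := Wd.eq (fun s hs => hS.sq s hs.1) (even_at hS hE hu)
      (hq.mono (fun s hs => ⟨hs.1.1, hs.2⟩ : At (At S d) u ⊆ At S u)) hv
    rw [hq0] at hq
    exact hq.mono fun s hs => hs.1
  obtain ⟨u, hu, hud, huy, hdu, hyu, hau⟩ := hS.common y hy hyd hdy a ha had hya
  obtain ⟨v, hv, hvd, hvy, hdv, hyv, hbv⟩ := hS.common y hy hyd hdy b hb hbd hyb
  obtain ⟨g, hg, hgv⟩ := hS.trans y hy hyd hdy u hu hud huy hdu hyu v hv hvd hvy hdv hyv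
  -- moving by a word
  have move : ∀ g ∈ Subgroup.closure (At (At S d) y),
      R S d y a (g * a * g⁻¹) ∧ g * a * g⁻¹ ∈ W ∧ Commute g d ∧ Commute g y := by
    intro g hg
    obtain ⟨p, l, hl, rfl, -⟩ := Wd.of_closure (fun s hs => hS.sq s hs.1.1) hg
    clear hg
    induction l with
    | nil =>
      refine ⟨?_, by simpa using ha, Commute.one_left d, Commute.one_left y⟩
      unfold R
      rw [List.prod_nil, one_mul, inv_one, mul_one, inv_mul_cancel]
      exact Wd.one _
    | cons s l ih =>
      obtain ⟨h1, h2, h3, h4⟩ := ih fun t ht => hl t (List.mem_cons_of_mem _ ht)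
      have hs := hl s List.mem_cons_self
      have hs1 := inv_eq hS hs.1.1
      refine ⟨?_, ?_, ?_, ?_⟩
      · rw [List.prod_cons, mul_inv_rev, hs1,
          show s * l.prod * a * (l.prod⁻¹ * s) = s * (l.prod * a * l.prod⁻¹) * s by group]
        refine R.trans' hS h1 (R.move hS hy hdy h2 (fun q => had ?_) (fun q => hya ?_) hs)
        · refine (commute_conj_iff l.prod d a).1 ?_
          rwa [h3.eq, mul_inv_cancel_right]
        · refine (commute_conj_iff l.prod y a).1 ?_
          rwa [h4.eq, mul_inv_cancel_right]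
      · rw [List.prod_cons, mul_inv_rev, hs1,
          show s * l.prod * a * (l.prod⁻¹ * s) = s * (l.prod * a * l.prod⁻¹) * s by group]
        exact hS.conjW s hs.1.1 _ h2
      · rw [List.prod_cons]; exact (hs.1.2.symm).mul_left h3
      · rw [List.prod_cons]; exact (hs.2.symm).mul_left h4
  obtain ⟨h1, h2, h3, h4⟩ := move g hg
  refine R.trans' hS h1 (share h2 (fun q => had ?_) (fun q => hya ?_) hb hbd hyb hv hvd hvy hdv hyv ?_ hbv)
  · refine (commute_conj_iff g d a).1 ?_
    rwa [h3.eq, mul_inv_cancel_right]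
  · refine (commute_conj_iff g y a).1 ?_
    rwa [h4.eq, mul_inv_cancel_right]
  · rw [← hgv]; exact (commute_conj_iff g a u).2 hau

theorem rep_unique {x h h' : G} (hx : x ∈ W) (h1 : Rep W d x h) (h2 : Rep W d x h') :
    Wd (At S d) (h⁻¹ * h') 0 := by
  rcases h1 with ⟨rfl, rfl⟩ | ⟨hdx, rfl⟩ | ⟨hxd, hdx, a, ha, had, hxa, rfl⟩ <;>
    rcases h2 with ⟨e, rfl⟩ | ⟨hdx', rfl⟩ | ⟨hxd', hdx', b, hb, hbd, hxb, rfl⟩
  · simpa using Wd.one (At S _)
  · exact absurd (Commute.refl _) hdx'
  · exact absurd rfl hxd'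
  · exact absurd (e.symm ▸ Commute.refl x) hdx
  · simpa using Wd.one (At S d)
  · exact absurd hdx' hdx
  · exact absurd e hxd
  · exact absurd hdx hdx'
  · exact R.all hS hE hx hxd hdx ha had hxa hb hbd hxb

/-- A member commuting with `x` respects the representatives. -/
theorem del_commute {z x h : G} (hz : z ∈ S) (hx : x ∈ W) (hzx : Commute z x) (hr : Rep W d x h) :
    Rep W d (z * x * z⁻¹) h ∧ Wd (At S d) (h⁻¹ * z * h) 1 := by
  obtain ⟨he, hw⟩ := rep_spec hS hx hr
  refine ⟨by rwa [hzx.eq, mul_inv_cancel_right], Wd.single ⟨by simpa using conj_wd hS (Wd.inv hS.sq hw) hz, ?_⟩⟩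
  refine (commute_conj_iff h d _).1 ?_
  rw [he, show h * (h⁻¹ * z * h) * h⁻¹ = z by group]
  exact hzx.symm

/-- A member of the class missing `d` respects the representatives. -/
theorem del_far {z : G} (hz : z ∈ W) (hdz : ¬ Commute d z) : Del S W d z 1 := by
  intro x hx h hr
  have hzS := hS.sub hz
  have hd := hS.sub hS.mem
  have hxS := hS.sub hx
  by_cases hzx : Commute z x
  · obtain ⟨h1, h2⟩ := del_commute hS hE hzS hx hzx hr
    exact ⟨h, h1, h2⟩
  have hx'W : z * x * z ∈ W := hS.conjW z hzS x hx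
  have hx'S := hS.sub hx'W
  have hzi := inv_eq hS hzS
  have hxi := inv_eq hS hxS
  have hdi := inv_eq hS hd
  have hx'i := inv_eq hS hx'S
  have bzx := hS.braid z hzS x hxS hzx
  have hdone : Wd (At S d) d 1 := Wd.single ⟨hd, Commute.refl d⟩
  rw [hzi]
  rcases hr with ⟨rfl, rfl⟩ | ⟨hdx, rfl⟩ | ⟨hxd, hdx, a, ha, had, hxa, rfl⟩
  · refine ⟨x * (z * x * z), Or.inr (Or.inl ⟨fun hc => hdz ?_, rfl⟩), ?_⟩
    · have h1 := (commute_conj_iff x x (z * x * z)).2 hc
      rwa [mul_inv_cancel_right, hxi, bzx, show x * (x * z * x) * x = (x * x) * z * (x * x) by group,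
        hS.sq x hxS, one_mul, mul_one] at h1
    · rw [mul_inv_rev, hxi, hx'i, mul_one,
        show z * x * z * x * z = z * x * (z * x * z) by group, bzx,
        show z * x * (x * z * x) = z * (x * x) * z * x by group, hS.sq x hxS, mul_one, hS.sq z hzS, one_mul]
      exact hdone
  · by_cases hx'd : z * x * z = d
    · refine ⟨1, Or.inl ⟨hx'd, rfl⟩, ?_⟩
      have hxe : x = z * d * z := by
        rw [← hx'd, show z * (z * x * z) * z = (z * z) * x * (z * z) by group, hS.sq z hzS, one_mul, mul_one]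
      rw [inv_one, one_mul, hxe,
        show z * (d * (z * d * z)) = z * (d * z * d) * z by group, hS.braid d hd z hzS hdz,
        show z * (z * d * z) * z = (z * z) * d * (z * z) by group, hS.sq z hzS, one_mul, mul_one]
      exact hdone
    by_cases hdx' : Commute d (z * x * z)
    · -- the image is near, `z` misses it
      have hx'z : ¬ Commute (z * x * z) z := fun hc => hzx (by
        have h1 := (commute_conj_iff z (z * x * z) z).2 hc
        rw [mul_inv_cancel_right, hzi, show z * (z * x * z) * z = (z * z) * x * (z * z) by group, hS.sq z hzS,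
          one_mul, mul_one] at h1
        exact h1.symm)
      refine ⟨z * (z * x * z) * d * z, Or.inr (Or.inr ⟨hx'd, hdx', z, hz, hdz, hx'z, rfl⟩), ?_⟩
      have e : (z * (z * x * z) * d * z)⁻¹ * z * (d * x) = z * x * z := by
        rw [mul_inv_rev, mul_inv_rev, mul_inv_rev, hzi, hdi, hx'i]
        calc z * (d * ((z * x * z) * z)) * z * (d * x) = z * (d * (z * x * z) * d) * x * (1 : G) := by
              rw [show z * (d * ((z * x * z) * z)) * z * (d * x) = z * (d * (z * x * z)) * (z * z) * d * x by group,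
                hS.sq z hzS]; group
          _ = z * (z * x * z) * x := by
              rw [hdx'.eq, show z * x * z * d * d = z * x * z * (d * d) by group, hS.sq d hd]; group
          _ = (z * z) * (x * z * x) := by group
          _ = z * x * z := by rw [hS.sq z hzS, one_mul, bzx]
      rw [e]
      exact Wd.single ⟨hx'S, hdx'⟩
    -- both far
    refine ⟨d * (z * x * z), Or.inr (Or.inl ⟨hdx', rfl⟩), ?_⟩
    set t := x * d * x with htdef
    have htW : t ∈ W := hS.conjW x hxS d hS.mem
    have htd : t = d * x * d := (hS.braid x hxS d hd fun q => hdx q.symm)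
    have hzt : ¬ Commute z t := fun hc => hdx' (by
      have h1 := (commute_conj_iff x z t).2 hc
      rw [hxi, htdef, show x * (x * d * x) * x = (x * x) * d * (x * x) by group, hS.sq x hxS, one_mul, mul_one,
        ← bzx] at h1
      exact h1.symm)
    set u := (d * (z * x * z))⁻¹ * z * (d * x) with hu
    have hue : u = z * x * z * d * z * d * x := by rw [hu, mul_inv_rev, hx'i, hdi]; group
    have hud : Commute u d := by
      refine mul_inv_eq_iff_eq_mul.1 ?_
      obtain ⟨e1, -⟩ := rep_spec hS hx'W (Or.inr (Or.inl ⟨hdx', rfl⟩))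
      obtain ⟨e2, -⟩ := rep_spec hS hx (Or.inr (Or.inl ⟨hdx, rfl⟩))
      calc u * d * u⁻¹ = (d * (z * x * z))⁻¹ * (z * ((d * x) * d * (d * x)⁻¹) * z⁻¹) * (d * (z * x * z)) := by
            rw [hu]; group
        _ = (d * (z * x * z))⁻¹ * (z * x * z) * (d * (z * x * z)) := by rw [e2, hzi]
        _ = (d * (z * x * z))⁻¹ * ((d * (z * x * z)) * d * (d * (z * x * z))⁻¹) * (d * (z * x * z)) := by rw [e1]
        _ = d := by group
    have hBA : u * d = (z * x * z * d) * (z * t) := by rw [hue, htd]; group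
    have hAB : Commute (z * t) (z * x * z * d) := by
      show (z * t) * (z * x * z * d) = (z * x * z * d) * (z * t)
      have l1 : (z * t) * (z * x * z * d) = z * x * d * z * x * d := by
        rw [htdef, bzx, show z * (x * d * x) * (x * z * x * d) = z * x * d * (x * x) * z * x * d by group,
          hS.sq x hxS, mul_one]
      have l2 : (z * x * z * d) * (z * t) = z * x * d * z * x * d := by
        rw [htd, show z * x * z * d * (z * (d * x * d)) = z * x * (z * d * z) * d * x * d by group,
          hS.braid z hzS d hd fun q => hdz q.symm,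
          show z * x * (d * z * d) * d * x * d = z * x * d * z * (d * d) * x * d by group, hS.sq d hd, mul_one]
      rw [l1, l2]
    have cube : ∀ {a b : G}, a ∈ S → b ∈ S → ¬ Commute a b → (a * b) ^ 3 = 1 := by
      intro a b ha hb hab
      rw [pow_succ, pow_two, show a * b * (a * b) * (a * b) = (a * b * a) * (b * a * b) by group,
        hS.braid a ha b hb hab, show b * a * b * (b * a * b) = b * a * (b * b) * a * b by group, hS.sq b hb,
        mul_one, show b * a * a * b = b * (a * a) * b by group, hS.sq a ha, mul_one, hS.sq b hb]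
    have h3 : (u * d) ^ 3 = 1 := by
      rw [hBA, hAB.symm.mul_pow, cube hx'S hd fun q => hdx' q.symm, cube hzS (hS.sub htW) hzt, one_mul]
    have hucl : u ∈ Subgroup.closure S := by
      rw [hue]
      have m : ∀ {a}, a ∈ S → a ∈ Subgroup.closure S := fun ha => Subgroup.subset_closure ha
      exact mul_mem (mul_mem (mul_mem (mul_mem (mul_mem (mul_mem (m hzS) (m hxS)) (m hzS)) (m hd)) (m hzS)) (m hd))
        (m hxS)
    obtain ⟨q, hq⟩ := Wd.of_closure (sq_at hS) (hS.C1 u hucl hud)
    have hq1 := hq.mul hdone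
    have h33 := (hq1.mul hq1).mul hq1
    rw [show u * d * (u * d) * (u * d) = (u * d) ^ 3 by rw [pow_succ, pow_two], h3] at h33
    have := hE _ h33
    have hqv : q = 1 := by clear hq hq1 h33; revert this; revert q; decide
    exact hqv ▸ hq
  · -- a near member missed by `z`
    have hx'd : ¬ Commute d (z * x * z) := fun hc => hdz (by
      have h1 := (commute_conj_iff x d (z * x * z)).2 hc
      rw [hxi, hdx.symm.eq, show d * x * x = d * (x * x) by group, hS.sq x hxS, mul_one, bzx,
        show x * (x * z * x) * x = (x * x) * z * (x * x) by group, hS.sq x hxS, one_mul, mul_one] at h1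
      exact h1)
    refine ⟨d * (z * x * z), Or.inr (Or.inl ⟨hx'd, rfl⟩), ?_⟩
    have e : (d * (z * x * z))⁻¹ * z * (z * x * d * z) = x := by
      rw [mul_inv_rev, hx'i, hdi,
        show z * x * z * d * z * (z * x * d * z) = z * x * z * (d * ((z * z) * x) * d) * z by group,
        hS.sq z hzS, one_mul, hdx.eq, show x * d * d = x * (d * d) by group, hS.sq d hd, mul_one,
        show z * x * z * x * z = z * (x * z * x) * z by group, ← bzx,
        show z * (z * x * z) * z = (z * z) * x * (z * z) by group, hS.sq z hzS, one_mul, mul_one]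
    have h1 : Wd (At S d) ((d * (z * x * z))⁻¹ * z * (z * x * d * z)) 1 := by
      rw [e]; exact Wd.single ⟨hxS, hdx⟩
    have h2 := h1.mul (R.all hS hE hx hxd hdx hz hdz (fun q => hzx q.symm) ha had hxa)
    rw [add_zero] at h2
    rwa [show (d * (z * x * z))⁻¹ * z * (z * x * d * z) * ((z * x * d * z)⁻¹ * (a * x * d * a)) =
      (d * (z * x * z))⁻¹ * z * (a * x * d * a) by group] at h2

/-- Every member respects the representatives with odd parity. -/
theorem del_mem {z : G} (hz : z ∈ S) : Del S W d z 1 := by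
  by_cases hdz : Commute d z
  · intro x hx h hr
    by_cases hzx : Commute z x
    · obtain ⟨h1, h2⟩ := del_commute hS hE hz hx hzx hr
      exact ⟨h, h1, h2⟩
    have hzi := inv_eq hS hz
    have hd := hS.sub hS.mem
    have hzd : z * d * z = d := by rw [hdz.symm.eq, mul_assoc, hS.sq z hz, mul_one]
    have hback : z * (z * x * z) * z = x := by
      rw [show z * (z * x * z) * z = (z * z) * x * (z * z) by group, hS.sq z hz, one_mul, mul_one]
    rw [hzi]
    have hone : Wd (At S d) z 1 := Wd.single ⟨hz, hdz⟩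
    have hsb : ∀ {u : G}, Commute d u → Commute d (z * u * z) := fun {u} hc => by
      have h1 := (commute_conj_iff z d u).2 hc
      rwa [hzi, hzd] at h1
    rcases hr with ⟨rfl, rfl⟩ | ⟨hdx, rfl⟩ | ⟨hxd, hdx, a, ha, had, hxa, rfl⟩
    · exact absurd hdz.symm hzx
    · have hf : ¬ Commute d (z * x * z) := fun hc => hdx (by have := hsb hc; rwa [hback] at this)
      refine ⟨d * (z * x * z), Or.inr (Or.inl ⟨hf, rfl⟩), ?_⟩
      have hxi := inv_eq hS (hS.sub hx)
      have e : (d * (z * x * z))⁻¹ * z * (d * x) = z := by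
        rw [mul_inv_rev, mul_inv_rev, mul_inv_rev, hzi, hxi, inv_eq hS hd]
        calc z * (x * z) * d * z * (d * x) = z * x * (z * d * z) * d * x := by group
          _ = z * (x * (d * d) * x) := by rw [hzd]; group
          _ = z := by rw [hS.sq d hd, mul_one, hS.sq x (hS.sub hx), mul_one]
      rw [e]; exact hone
    · refine ⟨z * (a * x * d * a) * z, Or.inr (Or.inr ⟨fun q => hxd ?_, hsb hdx, z * a * z, hS.conjW z hz a ha,
        fun hc => had (by
          have := hsb hc
          rwa [show z * (z * a * z) * z = (z * z) * a * (z * z) by group, hS.sq z hz, one_mul, mul_one] at this),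
        fun hc => hxa ?_, ?_⟩), ?_⟩
      · rw [← hback, q, hzd]
      · refine (commute_conj_iff z x a).1 ?_
        rwa [hzi]
      · rw [show z * a * z * (z * x * z) * d * (z * a * z) = z * a * (z * z) * x * (z * d * z) * a * z by group, hzd,
          hS.sq z hz]
        group
      · rw [show (z * (a * x * d * a) * z)⁻¹ * z * (a * x * d * a) = z⁻¹ * (a * x * d * a)⁻¹ * (z⁻¹ * z) * (a * x * d * a)
          by group, inv_mul_cancel, mul_one, inv_mul_cancel_right, hzi]
        exact hone
  · by_cases hzW : z ∈ W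
    · exact del_far hS hE hzW hdz
    · exact absurd ((hS.outside z hz hzW d hS.mem).symm) hdz

/-- The step. -/
theorem even : Even2 S := by
  intro p hp
  have key : ∀ (g : G) (p : ZMod 2), Wd S g p → Del S W d g p := by
    rintro g p ⟨l, hl, rfl, rfl⟩
    induction l with
    | nil =>
      intro x _ h hr
      exact ⟨h, by simpa using hr, by simpa using Wd.one (At S d)⟩
    | cons z l ih =>
      intro x hx h hr
      obtain ⟨h1, r1, w1⟩ := ih (fun u hu => hl u (List.mem_cons_of_mem _ hu)) x hx h hr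
      have hxl : l.prod * x * l.prod⁻¹ ∈ W := by
        clear ih w1 r1
        have hl' : ∀ u ∈ l, u ∈ S := fun u hu => hl u (List.mem_cons_of_mem _ hu)
        clear hl
        induction l with
        | nil => simpa using hx
        | cons u l ih2 =>
          have hu := hl' u List.mem_cons_self
          have := hS.conjW u hu _ (ih2 fun v hv => hl' v (List.mem_cons_of_mem _ hv))
          rw [List.prod_cons, mul_inv_rev, inv_eq hS hu]
          rwa [show u * l.prod * x * (l.prod⁻¹ * u) = u * (l.prod * x * l.prod⁻¹) * u by group]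
      obtain ⟨h2, r2, w2⟩ := del_mem hS hE (hl z List.mem_cons_self) _ hxl h1 r1
      refine ⟨h2, ?_, ?_⟩
      · rwa [List.prod_cons, show z * l.prod * x * (z * l.prod)⁻¹ = z * (l.prod * x * l.prod⁻¹) * z⁻¹ by group]
      · have := w2.mul w1
        rw [List.prod_cons, List.length_cons, Nat.cast_succ, add_comm]
        rwa [show h2⁻¹ * z * h1 * (h1⁻¹ * l.prod * h) = h2⁻¹ * (z * l.prod) * h by group] at this
  obtain ⟨h', r, w⟩ := key 1 p hp d hS.mem 1 (Or.inl ⟨rfl, rfl⟩)
  rw [one_mul, inv_one, mul_one] at r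
  rcases r with ⟨-, rfl⟩ | ⟨q, -⟩ | ⟨q, -⟩
  · rw [inv_one, one_mul, one_mul] at w
    exact hE p w
  · exact absurd (Commute.refl d) q
  · exact absurd rfl q

end CfsgLib.ThreeT.Parity
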