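import Cfsg.Agent.Spor3T.M24Level
import Cfsg.Agent.Spor3T.M22PairQuot

/-!
Type M(24): only four commuting members centralise all members commuting with the four.
-/

set_option autoImplicit false
set_option linter.style.haveILetI false
set_option linter.unusedSectionVars false

namespace CfsgLib.ThreeT.Prod

variable {G : Type*} [Group G] [Finite G] {D : Set G} {d : G}

/-- Moving a membership of a generated subgroup. -/
theorem mem_closure_of_conj {S : Set G} {g k : G}
    (h : g * k * g⁻¹ ∈ Subgroup.closure ((fun x => g * x * g⁻¹) '' S)) : k ∈ Subgroup.closure S := by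
  have e : Subgroup.closure ((fun x => g * x * g⁻¹) '' S) = (Subgroup.closure S).map (MulAut.conj g).toMonoidHom :=
    ((MulAut.conj g).toMonoidHom.map_closure S).symm
  rw [e] at h
  obtain ⟨y, hy, hyk⟩ := h
  have : y = k := (MulAut.conj g).injective (by simpa using hyk)
  exact this ▸ hy

/-- Lifting a membership from the image at the point. -/
theorem mem_closure_of_img {S : Set ↥(hsub D d)}
    (hcp : ∀ x : ↥(hsub D d), x ∈ Subgroup.center ↥(hsub D d) → (x : G) = 1 ∨ (x : G) = d) {k : ↥(hsub D d)}
    (h : QuotientGroup.mk' (Subgroup.center ↥(hsub D d)) k ∈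
      Subgroup.closure (QuotientGroup.mk' (Subgroup.center ↥(hsub D d)) '' S)) :
    (k : G) ∈ Subgroup.closure (insert d (Subtype.val '' S)) := by
  rw [← MonoidHom.map_closure] at h
  obtain ⟨y, hy, hyk⟩ := h
  have hyG : (y : G) ∈ Subgroup.closure (insert d (Subtype.val '' S)) := by
    have := Subgroup.mem_map_of_mem (hsub D d).subtype hy
    rw [MonoidHom.map_closure] at this
    exact Subgroup.closure_mono (Set.subset_insert _ _) this
  have hz : y⁻¹ * k ∈ Subgroup.center ↥(hsub D d) :=
    (QuotientGroup.eq_one_iff _).1 (by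
      rw [← QuotientGroup.mk'_apply, map_mul, map_inv, hyk, inv_mul_cancel])
  rw [show (k : G) = (y : G) * ((y⁻¹ * k : ↥(hsub D d)) : G) by simp]
  refine mul_mem hyG ?_
  rcases hcp _ hz with q | q <;> rw [q]
  exacts [one_mem _, Subgroup.subset_closure (Set.mem_insert _ _)]

/-- Type M(23): only three commuting members centralise all members commuting with the three. -/
theorem cent_three23 {e : G} (P : Point23 D e) {a b c k : G} (ha : a ∈ D) (hb : b ∈ nb D a) (hc : c ∈ nb D a)
    (nbc : b ≠ c) (cbc : Commute b c) (ka : Commute k a) (kb : Commute k b) (kc : Commute k c)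
    (hk : ∀ y ∈ D, Commute a y → Commute b y → Commute c y → Commute k y) :
    k ∈ Subgroup.closure ({a, b, c} : Set G) := by
  classical
  have hT := P.base.tt
  obtain ⟨g, hg⟩ := P.base.conjD a ha e P.mem (P.base.ne_one a ha) (P.base.ne_one e P.mem)
  set C : G → G := fun x => g * x * g⁻¹ with hCdef
  refine mem_closure_of_conj (g := g) ?_
  rw [Set.image_insert_eq, Set.image_insert_eq, Set.image_singleton, hg]
  have hbn : C b ∈ nb D e := nb_conj hT hb.1 hb.2.1 hb.2.2 hg
  have hcn : C c ∈ nb D e := nb_conj hT hc.1 hc.2.1 hc.2.2 hg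
  have hkH : C k ∈ hsub D e := by
    rw [(Level.centralizer_eq (geo23 P) arith23 (self23 P) P.mem).1, Subgroup.mem_centralizer_singleton_iff,
      ← hg]
    exact ((commute_conj_iff g k a).2 ka).eq
  set π := QuotientGroup.mk' (Subgroup.center ↥(hsub D e))
  set B : ↥(hsub D e) := ⟨C b, Subgroup.subset_closure hbn⟩
  set X : ↥(hsub D e) := ⟨C c, Subgroup.subset_closure hcn⟩
  set K : ↥(hsub D e) := ⟨C k, hkH⟩
  have hB : π B ∈ img D e := ⟨B, hbn, rfl⟩
  have hBX : π X ∈ nb (img D e) (π B) := ⟨⟨X, hcn, rfl⟩, fun q => nbc (mul_left_cancel (mul_right_cancel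
    (mk_inj P hcn hbn q))).symm, (map_commute_iff hT (x := B) (y := X) hbn hcn).2 ((commute_conj_iff g b c).2 cbc)⟩
  obtain ⟨F, _, _, _, hF, φ, ω, f, -, -, dd, -⟩ := exists_pair_data P.geo P.prim P.type hB hBX
  have h1 := cent_common P.geo dd (k := π K)
    ((show Commute K B from Subtype.ext ((commute_conj_iff g k b).2 kb).eq).map π)
    ((show Commute K X from Subtype.ext ((commute_conj_iff g k c).2 kc).eq).map π) (by
      rintro _ ⟨⟨Z, hZ, rfl⟩, -, -, cB, cX⟩
      refine (show Commute K Z from Subtype.ext ?_).map π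
      have ez : C (g⁻¹ * (Z : G) * g) = Z := by simp only [hCdef]; group
      show C k * Z = Z * C k
      rw [← ez]
      refine ((commute_conj_iff g k _).2 (hk _ (by simpa using hT.conj g⁻¹ _ hZ.1) ?_ ?_ ?_)).eq
      · rw [← commute_conj_iff g, hg]; simpa [mul_assoc] using hZ.2.2
      · rw [← commute_conj_iff g]; change Commute _ (C _); rw [ez]; exact ((map_commute_iff hT (x := Z) (y := B) hZ hbn).1 cB).symm
      · rw [← commute_conj_iff g]; change Commute _ (C _); rw [ez]; exact ((map_commute_iff hT (x := Z) (y := X) hZ hcn).1 cX).symm)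
  have h2 := mem_closure_of_img (S := {B, X})
    (fun x hx => Level.center_pair (geo23 P) arith23 P.mem hx) (k := K) (by
      rw [Set.image_insert_eq, Set.image_singleton]; exact h1)
  rw [Set.image_insert_eq, Set.image_singleton] at h2
  exact h2

/-- Type M(24): only four commuting members centralise all members commuting with the four. -/
theorem cent_four24 (P : Point24 D d) {a b c e k : G} (ha : a ∈ D) (hb : b ∈ nb D a) (hc : c ∈ nb D a)
    (he : e ∈ nb D a) (nbc : b ≠ c) (nbe : b ≠ e) (nce : c ≠ e) (cbc : Commute b c) (cbe : Commute b e)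
    (cce : Commute c e) (ka : Commute k a) (kb : Commute k b) (kc : Commute k c) (ke : Commute k e)
    (hk : ∀ y ∈ D, Commute a y → Commute b y → Commute c y → Commute e y → Commute k y) :
    k ∈ Subgroup.closure ({a, b, c, e} : Set G) := by
  classical
  have hT := P.base.tt
  obtain ⟨e₀, P'⟩ := P.below
  obtain ⟨g, hg⟩ := P.base.conjD a ha d P.mem (P.base.ne_one a ha) (P.base.ne_one d P.mem)
  set C : G → G := fun x => g * x * g⁻¹ with hCdef
  refine mem_closure_of_conj (g := g) ?_
  rw [Set.image_insert_eq, Set.image_insert_eq, Set.image_insert_eq, Set.image_singleton, hg]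
  have hbn : C b ∈ nb D d := nb_conj hT hb.1 hb.2.1 hb.2.2 hg
  have hcn : C c ∈ nb D d := nb_conj hT hc.1 hc.2.1 hc.2.2 hg
  have hen : C e ∈ nb D d := nb_conj hT he.1 he.2.1 he.2.2 hg
  have hkH : C k ∈ hsub D d := by
    rw [(Level.centralizer_eq (geo24 P) arith24 (self24 P) P.mem).1, Subgroup.mem_centralizer_singleton_iff,
      ← hg]
    exact ((commute_conj_iff g k a).2 ka).eq
  set π := QuotientGroup.mk' (Subgroup.center ↥(hsub D d))
  set B : ↥(hsub D d) := ⟨C b, Subgroup.subset_closure hbn⟩
  set X : ↥(hsub D d) := ⟨C c, Subgroup.subset_closure hcn⟩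
  set E : ↥(hsub D d) := ⟨C e, Subgroup.subset_closure hen⟩
  set K : ↥(hsub D d) := ⟨C k, hkH⟩
  have hne : ∀ {y z : G} (Y Z : ↥(hsub D d)), (Y : G) ∈ nb D d → (Z : G) ∈ nb D d → (Y : G) = C y →
      (Z : G) = C z → y ≠ z → π Y ≠ π Z := fun Y Z hY hZ eY eZ hyz q => hyz (by
    have := mk_inj24 P hY hZ q
    rw [eY, eZ] at this
    exact mul_left_cancel (mul_right_cancel this))
  have hco : ∀ {y z : G} (Y Z : ↥(hsub D d)), (Y : G) ∈ nb D d → (Z : G) ∈ nb D d → (Y : G) = C y →
      (Z : G) = C z → Commute y z → Commute (π Y) (π Z) := fun Y Z hY hZ eY eZ hyz =>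
    (map_commute_iff hT hY hZ).2 (by rw [eY, eZ]; exact (commute_conj_iff _ _ _).2 hyz)
  have h1 := cent_three23 P' (a := π B) (b := π X) (c := π E) (k := π K) ⟨B, hbn, rfl⟩
    ⟨⟨X, hcn, rfl⟩, (hne B X hbn hcn rfl rfl nbc).symm, hco B X hbn hcn rfl rfl cbc⟩
    ⟨⟨E, hen, rfl⟩, (hne B E hbn hen rfl rfl nbe).symm, hco B E hbn hen rfl rfl cbe⟩
    (hne X E hcn hen rfl rfl nce) (hco X E hcn hen rfl rfl cce)
    ((show Commute K B from Subtype.ext ((commute_conj_iff g k b).2 kb).eq).map π)
    ((show Commute K X from Subtype.ext ((commute_conj_iff g k c).2 kc).eq).map π)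
    ((show Commute K E from Subtype.ext ((commute_conj_iff g k e).2 ke).eq).map π) (by
      rintro _ ⟨Z, hZ, rfl⟩ cB cX cE
      refine (show Commute K Z from Subtype.ext ?_).map π
      have ez : C (g⁻¹ * (Z : G) * g) = Z := by simp only [hCdef]; group
      show C k * Z = Z * C k
      rw [← ez]
      refine ((commute_conj_iff g k _).2 (hk _ (by simpa using hT.conj g⁻¹ _ hZ.1) ?_ ?_ ?_ ?_)).eq
      · rw [← commute_conj_iff g, hg]; simpa [mul_assoc] using hZ.2.2
      · rw [← commute_conj_iff g]; change Commute _ (C _); rw [ez]; exact (map_commute_iff hT (x := B) (y := Z) hbn hZ).1 cB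
      · rw [← commute_conj_iff g]; change Commute _ (C _); rw [ez]; exact (map_commute_iff hT (x := X) (y := Z) hcn hZ).1 cX
      · rw [← commute_conj_iff g]; change Commute _ (C _); rw [ez]; exact (map_commute_iff hT (x := E) (y := Z) hen hZ).1 cE)
  have h2 := mem_closure_of_img (S := {B, X, E})
    (fun x hx => Level.center_pair (geo24 P) arith24 P.mem hx) (k := K) (by
      rw [Set.image_insert_eq, Set.image_insert_eq, Set.image_singleton]; exact h1)
  rw [Set.image_insert_eq, Set.image_insert_eq, Set.image_singleton] at h2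
  exact h2

end CfsgLib.ThreeT.Prod
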