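import Cfsg.Prelude.Def_Transfer
import Cfsg.Agent.Solvable.PGroupBasic

/-!
A criterion for a two-group to be extraspecial.
-/

set_option autoImplicit false

namespace CfsgLib.ThreeT.Prod

open scoped commutatorElement

/-- Squares and commutators in a central subgroup of order two, which is the centre. -/
theorem extraspecial_of {G : Type*} [Group G] [Finite G] {R : Subgroup G} {t : G} (ht1 : t ≠ 1) (ht2 : t * t = 1)
    (htR : t ∈ R) (hct : ∀ x ∈ R, Commute t x) (hsq : ∀ x ∈ R, x * x = 1 ∨ x * x = t)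
    (hcomm : ∀ x ∈ R, ∀ y ∈ R, ⁅x, y⁆ = 1 ∨ ⁅x, y⁆ = t)
    (hcen : ∀ x ∈ R, (∀ y ∈ R, Commute x y) → x = 1 ∨ x = t)
    (hna : ∃ x ∈ R, ∃ y ∈ R, ¬ Commute x y) : Cfsg.IsExtraspecial 2 ↥R := by
  haveI : Fact (Nat.Prime 2) := ⟨Nat.prime_two⟩
  set τ : ↥R := ⟨t, htR⟩
  have hτ : ∀ x : ↥R, x ∈ Subgroup.center ↥R ↔ x = 1 ∨ x = τ := by
    intro x
    constructor
    · intro hx
      rcases hcen x x.2 (fun y hy => congrArg Subtype.val (Subgroup.mem_center_iff.1 hx ⟨y, hy⟩).symm) with e | e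
      · exact Or.inl (Subtype.ext e)
      · exact Or.inr (Subtype.ext e)
    · rintro (rfl | rfl)
      · exact one_mem _
      · exact Subgroup.mem_center_iff.2 fun y => Subtype.ext (hct y y.2).symm.eq
  have hmem : ∀ x : ↥R, (x : G) = 1 ∨ (x : G) = t → x ∈ Subgroup.center ↥R := fun x h =>
    (hτ x).2 (h.imp (fun e => Subtype.ext e) fun e => Subtype.ext e)
  have hpow : ∀ x : ↥R, x ^ 2 ∈ Subgroup.center ↥R := fun x => hmem _ (by
    rw [pow_two]; exact hsq x x.2)
  have hP : IsPGroup 2 ↥R := fun x => ⟨2, Subtype.ext (by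
    show (x : G) ^ (2 ^ 2) = 1
    rw [show (2 : ℕ) ^ 2 = 2 * 2 by norm_num, pow_mul, pow_two, pow_two]
    rcases hsq x x.2 with e | e <;> rw [e]
    · exact one_mul 1
    · exact ht2)⟩
  have hle : commutator ↥R ≤ Subgroup.center ↥R := by
    rw [commutator_def, Subgroup.commutator_le]
    exact fun x _ y _ => hmem _ (hcomm x x.2 y y.2)
  obtain ⟨a, ha, b, hb, hab⟩ := hna
  have hτc : τ ∈ commutator ↥R := by
    have e : ⁅(⟨a, ha⟩ : ↥R), (⟨b, hb⟩ : ↥R)⁆ = τ := by
      refine Subtype.ext ((hcomm a ha b hb).resolve_left fun e => hab ?_)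
      exact commutatorElement_eq_one_iff_commute.1 e
    rw [← e, commutator_def]
    exact Subgroup.commutator_mem_commutator (Subgroup.mem_top _) (Subgroup.mem_top _)
  have hcc : commutator ↥R = Subgroup.center ↥R := le_antisymm hle fun x hx => by
    rcases (hτ x).1 hx with rfl | rfl
    exacts [one_mem _, hτc]
  refine ⟨⟨hP, le_antisymm (CfsgLib.PGroupBasic.frattini_le_of_elementary (p := 2) _ hle hpow) ?_, hcc⟩, ?_⟩
  · rw [← hcc]
    exact (CfsgLib.PGroupBasic.commutator_pow_le_frattini hP).1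
  · rw [Nat.card_eq_two_iff]
    refine ⟨1, ⟨τ, (hτ τ).2 (Or.inr rfl)⟩, fun e => ht1 (congrArg (fun z : ↥(Subgroup.center ↥R) => (z.1 : G)) e).symm,
      Set.eq_univ_iff_forall.2 fun x => ?_⟩
    rcases (hτ x.1).1 x.2 with e | e
    · exact Or.inl (Subtype.ext e)
    · exact Or.inr (Subtype.ext e)

end CfsgLib.ThreeT.Prod
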