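import Cfsg.Agent.Spor3T.QuadLinesFacts

/-!
Two of the 126 lines have a third one orthogonal to neither.
-/

set_option autoImplicit false

namespace CfsgLib.SixSq

theorem exists_far : ∀ i k : Fin 126, ∃ m : Fin 126, m ≠ i ∧ m ≠ k ∧ adj i m = false ∧ adj k m = false ∧
    adj m i = false ∧ adj m k = false := by
  decide +kernel

end CfsgLib.SixSq
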