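import Cfsg.Agent.Spor3T.QuadCount
import Cfsg.Agent.Spor3T.QuadLinesFar
import Cfsg.Agent.Spor3T.QuadExtra
import Cfsg.Agent.FGSA.Extraspecial
import Cfsg.Agent.Spor3T.M24Layer

/-!
Type M(24): the kernel of the action on the lines and its extraspecial two-subgroup.
-/

set_option autoImplicit false
set_option linter.style.haveILetI false
set_option linter.unusedSectionVars false

namespace CfsgLib.ThreeT.Prod

open CfsgLib.SevenSq CfsgLib.SixSq
open scoped Matrix commutatorElement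

variable {G : Type*} [Group G] [Finite G] {D : Set G}

/-- An element of the group generated by four commuting involutions. -/
theorem mem_four {a b c e g : G} (ha : a * a = 1) (hb : b * b = 1) (hc : c * c = 1) (he : e * e = 1)
    (ab : Commute a b) (ac : Commute a c) (ae : Commute a e) (bc : Commute b c) (be : Commute b e)
    (ce : Commute c e) (hg : g ∈ Subgroup.closure ({a, b, c, e} : Set G)) :
    ∃ u v w z, (u = 1 ∨ u = a) ∧ (v = 1 ∨ v = b) ∧ (w = 1 ∨ w = c) ∧ (z = 1 ∨ z = e) ∧ g = u * v * w * z := by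
  induction hg using Subgroup.closure_induction with
  | mem x hx =>
    simp only [Set.mem_insert_iff, Set.mem_singleton_iff] at hx
    rcases hx with rfl | rfl | rfl | rfl
    · exact ⟨_, 1, 1, 1, Or.inr rfl, Or.inl rfl, Or.inl rfl, Or.inl rfl, by simp⟩
    · exact ⟨1, _, 1, 1, Or.inl rfl, Or.inr rfl, Or.inl rfl, Or.inl rfl, by simp⟩
    · exact ⟨1, 1, _, 1, Or.inl rfl, Or.inl rfl, Or.inr rfl, Or.inl rfl, by simp⟩
    · exact ⟨1, 1, 1, _, Or.inl rfl, Or.inl rfl, Or.inl rfl, Or.inr rfl, by simp⟩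
  | one => exact ⟨1, 1, 1, 1, Or.inl rfl, Or.inl rfl, Or.inl rfl, Or.inl rfl, by simp⟩
  | mul x y _ _ hx hy =>
    obtain ⟨u, v, w, z, hu, hv, hw, hz, rfl⟩ := hx
    obtain ⟨u', v', w', z', hu', hv', hw', hz', rfl⟩ := hy
    have key : ∀ {s : G}, s * s = 1 → ∀ {x y : G}, (x = 1 ∨ x = s) → (y = 1 ∨ y = s) → x * y = 1 ∨ x * y = s := by
      rintro s hs x y (rfl | rfl) (rfl | rfl) <;> simp [hs]
    have cm : ∀ {s s' x y : G}, Commute s s' → (x = 1 ∨ x = s) → (y = 1 ∨ y = s') → Commute x y := by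
      rintro s s' x y h (rfl | rfl) (rfl | rfl)
      exacts [Commute.refl _, Commute.one_left _, Commute.one_right _, h]
    refine ⟨u * u', v * v', w * w', z * z', key ha hu hu', key hb hv hv', key hc hw hw', key he hz hz', ?_⟩
    have c1 : Commute (v * w * z) u' :=
      (((cm ab hu' hv).symm).mul_left (cm ac hu' hw).symm).mul_left (cm ae hu' hz).symm
    have c2 : Commute (w * z) v' := ((cm bc hv' hw).symm).mul_left (cm be hv' hz).symm
    have c3 : Commute z w' := (cm ce hw' hz).symm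
    calc u * v * w * z * (u' * v' * w' * z') = u * ((v * w * z) * u') * (v' * w' * z') := by group
      _ = u * u' * (v * ((w * z) * v')) * (w' * z') := by rw [c1.eq]; group
      _ = u * u' * (v * v') * (w * (z * w')) * z' := by rw [c2.eq]; group
      _ = _ := by rw [c3.eq]; group
  | inv x _ hx =>
    obtain ⟨u, v, w, z, hu, hv, hw, hz, rfl⟩ := hx
    refine ⟨u, v, w, z, hu, hv, hw, hz, inv_eq_of_mul_eq_one_right ?_⟩
    have sq : ∀ {s : G}, s * s = 1 → ∀ {x : G}, (x = 1 ∨ x = s) → x * x = 1 := by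
      rintro s hs x (rfl | rfl) <;> simp [hs]
    have cm : ∀ {s s' x y : G}, Commute s s' → (x = 1 ∨ x = s) → (y = 1 ∨ y = s') → Commute x y := by
      rintro s s' x y h (rfl | rfl) (rfl | rfl)
      exacts [Commute.refl _, Commute.one_left _, Commute.one_right _, h]
    have c1 : Commute (v * w * z) u :=
      (((cm ab hu hv).symm).mul_left (cm ac hu hw).symm).mul_left (cm ae hu hz).symm
    have c2 : Commute (w * z) v := ((cm bc hv hw).symm).mul_left (cm be hv hz).symm
    have c3 : Commute z w := (cm ce hw hz).symm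
    calc u * v * w * z * (u * v * w * z) = u * ((v * w * z) * u) * (v * w * z) := by group
      _ = u * u * (v * ((w * z) * v)) * (w * z) := by rw [c1.eq]; group
      _ = u * u * (v * v) * (w * (z * w)) * z := by rw [c2.eq]; group
      _ = u * u * (v * v) * (w * w) * (z * z) := by rw [c3.eq]; group
      _ = 1 := by rw [sq ha hu, sq hb hv, sq hc hw, sq he hz]; simp

/-- In a quadruple the complementary pair has the product times `t`. -/
theorem Quad.pair_t (hT : TT0 D) {t a b c e : G} (h : Quad D t a b c e) : a * b * t = c * e := by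
  rw [← h.prod, show a * b * (a * b * c * e) = (a * (b * a) * b) * (c * e) by group, h.ab.symm.eq,
    show a * (a * b) * b = (a * a) * (b * b) by group, hT.sq a h.ha, hT.sq b h.hb, one_mul, one_mul]

variable {d : G} (P : Point24 D d) {p q : Fin 6 → G} {w : G} (S : Space7 D p q w)

include P S

/-- An element keeps the three divisions of the four over a line into pairs. -/
def FixCl (i : Fin 126) (g : G) : Prop :=
  ∀ a ∈ qset P S i, ∀ b ∈ qset P S i, g * (a * b) * g⁻¹ = a * b ∨ g * (a * b) * g⁻¹ = a * b * tEl p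

/-- The kernel on the lines. -/
noncomputable def lineKer : Subgroup G :=
  (sigma P S).ker.map (Subgroup.centralizer ({tEl p} : Set G)).subtype

theorem card_lineKer : Nat.card ↥(lineKer P S) = 24576 := by
  rw [lineKer, Subgroup.card_map_of_injective (Subgroup.subtype_injective _), card_ker_sigma P S]

theorem mem_lineKer {g : G} : g ∈ lineKer P S ↔
    Commute (tEl p) g ∧ ∀ i x, x ∈ qset P S i → g * x * g⁻¹ ∈ qset P S i := by
  constructor
  · rintro ⟨h, hh, rfl⟩
    refine ⟨commute_tEl P S h, fun i x hx => ?_⟩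
    have := sigma_mem P S h hx
    rwa [show sigma P S h i = i from Equiv.congr_fun (MonoidHom.mem_ker.1 hh) i] at this
  · rintro ⟨hg, hall⟩
    refine ⟨⟨g, Subgroup.mem_centralizer_singleton_iff.2 hg.eq.symm⟩, MonoidHom.mem_ker.2 (Equiv.ext fun i => ?_), rfl⟩
    exact lineImg_eq P S hg (qset_spec P S i).2 (hall i _ (qset_spec P S i).2)

/-- The elements keeping all divisions into pairs. -/
def quadQ : Subgroup G where
  carrier := {g | Commute (tEl p) g ∧ ∀ i, FixCl P S i g}
  one_mem' := ⟨Commute.one_right _, fun i a _ b _ => Or.inl (by simp)⟩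
  mul_mem' := by
    rintro g h ⟨hg, fg⟩ ⟨hh, fh⟩
    refine ⟨hg.mul_right hh, fun i a ha b hb => ?_⟩
    have ht : g * tEl p * g⁻¹ = tEl p := by rw [← hg.eq, mul_inv_cancel_right]
    rw [show g * h * (a * b) * (g * h)⁻¹ = g * (h * (a * b) * h⁻¹) * g⁻¹ by group]
    rcases fh i a ha b hb with e | e <;> rw [e]
    · exact fg i a ha b hb
    · rw [show g * (a * b * tEl p) * g⁻¹ = g * (a * b) * g⁻¹ * (g * tEl p * g⁻¹) by group, ht]
      rcases fg i a ha b hb with e | e <;> rw [e]
      · exact Or.inr rfl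
      · exact Or.inl (by rw [mul_assoc _ (tEl p), tEl_sq P S, mul_one])
  inv_mem' := by
    rintro g ⟨hg, fg⟩
    refine ⟨hg.inv_right, fun i a ha b hb => ?_⟩
    have ht : g⁻¹ * tEl p * g = tEl p := by rw [mul_assoc, hg.eq, inv_mul_cancel_left]
    rcases fg i a ha b hb with e | e
    · left
      conv_lhs => rw [← e]
      group
    · right
      conv_rhs => rw [show a * b = g⁻¹ * (g * (a * b) * g⁻¹) * g by group, e,
        show g⁻¹ * (a * b * tEl p) * g = g⁻¹ * (a * b) * g * (g⁻¹ * tEl p * g) by group, ht,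
        mul_assoc _ (tEl p), tEl_sq P S, mul_one]
      group

theorem mem_quadQ {g : G} : g ∈ quadQ P S ↔ Commute (tEl p) g ∧ ∀ i, FixCl P S i g := Iff.rfl

/-- Where an element keeping the divisions sends a pair. -/
theorem FixCl.cases {i : Fin 126} {g a b c e : G} (h : FixCl P S i g) (hg : Commute (tEl p) g)
    (hq : Quad D (tEl p) a b c e) (hF : ({a, b, c, e} : Set G) = qset P S i) :
    (g * a * g⁻¹ = a ∧ g * b * g⁻¹ = b) ∨ (g * a * g⁻¹ = b ∧ g * b * g⁻¹ = a) ∨
      (g * a * g⁻¹ = c ∧ g * b * g⁻¹ = e) ∨ (g * a * g⁻¹ = e ∧ g * b * g⁻¹ = c) := by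
  have hT := P.base.tt
  set x := g * a * g⁻¹
  set y := g * b * g⁻¹
  have hne : x ≠ y := fun e => hq.nab (mul_left_cancel (mul_right_cancel e))
  have hcase : ∀ {u v : G}, u ∈ D → v ∈ D → Commute u v → u ≠ v → g * (a * b) * g⁻¹ = u * v →
      (x = u ∧ y = v) ∨ (x = v ∧ y = u) := by
    intro u v hu hv huv nuv e
    have hl := uniq_two hT P.base.twinFree P.base.ne_one (l := [x, y]) (l' := [u, v])
      ⟨by simpa using hne, rfl, by simpa using ⟨hT.conj g a hq.ha, hT.conj g b hq.hb⟩,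
        by simpa using ⟨(commute_conj_iff g a b).2 hq.ab, ((commute_conj_iff g a b).2 hq.ab).symm⟩⟩
      ⟨by simpa using nuv, rfl, by simpa using ⟨hu, hv⟩, by simpa using ⟨huv, huv.symm⟩⟩
      (by simp only [List.prod_cons, List.prod_nil, mul_one, x, y]; rw [← e]; group)
    have hx := (hl x).1 (by simp)
    have hy := (hl y).1 (by simp)
    simp only [List.mem_cons, List.not_mem_nil, or_false] at hx hy
    rcases hx with hx | hx <;> rcases hy with hy | hy
    exacts [absurd (hx.trans hy.symm) hne, Or.inl ⟨hx, hy⟩, Or.inr ⟨hx, hy⟩, absurd (hx.trans hy.symm) hne]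
  rcases h a (hF ▸ Or.inl rfl) b (hF ▸ Or.inr (Or.inl rfl)) with e | e
  · exact (hcase hq.ha hq.hb hq.ab hq.nab e).imp id fun h => Or.inl h
  · rw [hq.pair_t hT] at e
    exact Or.inr (Or.inr (hcase hq.hc hq.he hq.ce hq.nce e))

theorem FixCl.mem {i : Fin 126} {g : G} (h : FixCl P S i g) (hg : Commute (tEl p) g) {x : G}
    (hx : x ∈ qset P S i) : g * x * g⁻¹ ∈ qset P S i := by
  obtain ⟨a, b, c, e, hq, hF⟩ := (qset_spec P S i).1
  obtain ⟨u, v, z, hq', hF'⟩ := hq.first (hF ▸ hx)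
  have hset : ({x, u, v, z} : Set G) = qset P S i := hF'.trans hF.symm
  rw [← hset]
  rcases h.cases P S hg hq' hset with e | e | e | e <;> rw [e.1] <;> simp

theorem quadQ_le : quadQ P S ≤ lineKer P S := fun g hg =>
  (mem_lineKer P S).2 ⟨hg.1, fun i _ hx => (hg.2 i).mem P S hg.1 hx⟩

/-- A member fixed by an element keeping the divisions: the element fixes the four. -/
theorem FixCl.fix_all {i : Fin 126} {g a b : G} (h : FixCl P S i g) (hg : Commute (tEl p) g)
    (ha : a ∈ qset P S i) (hfix : g * a * g⁻¹ = a) (hb : b ∈ qset P S i) : g * b * g⁻¹ = b := by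
  by_cases e : a = b
  · rw [← e]; exact hfix
  obtain ⟨c, f, hq, hF⟩ := (qset_spec P S i).1.pair ha hb e
  rcases h.cases P S hg hq hF with ⟨-, r⟩ | ⟨r, -⟩ | ⟨r, -⟩ | ⟨r, -⟩
  · exact r
  · exact absurd (hfix.symm.trans r) hq.nab
  · exact absurd (hfix.symm.trans r) hq.nac
  · exact absurd (hfix.symm.trans r) hq.nae

/-- A member moved by an element keeping the divisions. -/
theorem FixCl.moved {i : Fin 126} {g a b c e : G} (h : FixCl P S i g) (hg : Commute (tEl p) g)
    (hq : Quad D (tEl p) a b c e) (hF : ({a, b, c, e} : Set G) = qset P S i) (hab : g * a * g⁻¹ = b) :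
    g * b * g⁻¹ = a ∧ g * c * g⁻¹ = e ∧ g * e * g⁻¹ = c := by
  refine ⟨?_, ?_, ?_⟩
  · rcases h.cases P S hg hq hF with ⟨r, -⟩ | ⟨-, r⟩ | ⟨r, -⟩ | ⟨r, -⟩
    · exact absurd (r.symm.trans hab) hq.nab
    · exact r
    · exact absurd (hab.symm.trans r) hq.nbc
    · exact absurd (hab.symm.trans r) hq.nbe
  · rcases h.cases P S hg hq.swap23 (by rw [← hF]; ext; simp only [Set.mem_insert_iff, Set.mem_singleton_iff]; tauto)
      with ⟨r, -⟩ | ⟨r, -⟩ | ⟨-, r⟩ | ⟨r, -⟩
    · exact absurd (r.symm.trans hab) hq.nab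
    · exact absurd (hab.symm.trans r) hq.nbc
    · exact r
    · exact absurd (hab.symm.trans r) hq.nbe
  · rcases h.cases P S hg hq.swap34.swap23
      (by rw [← hF]; ext; simp only [Set.mem_insert_iff, Set.mem_singleton_iff]; tauto)
      with ⟨r, -⟩ | ⟨r, -⟩ | ⟨-, r⟩ | ⟨r, -⟩
    · exact absurd (r.symm.trans hab) hq.nab
    · exact absurd (hab.symm.trans r) hq.nbe
    · exact r
    · exact absurd (hab.symm.trans r) hq.nbc

theorem quadQ_sq {g : G} (hg : g ∈ quadQ P S) {i : Fin 126} {a : G} (ha : a ∈ qset P S i) :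
    g * g * a * (g * g)⁻¹ = a := by
  rw [show g * g * a * (g * g)⁻¹ = g * (g * a * g⁻¹) * g⁻¹ by group]
  by_cases e : g * a * g⁻¹ = a
  · rw [e, e]
  obtain ⟨c, f, hq, hF⟩ := (qset_spec P S i).1.pair ha ((hg.2 i).mem P S hg.1 ha) (Ne.symm e)
  exact ((hg.2 i).moved P S hg.1 hq hF rfl).1

theorem quadQ_comm {g h : G} (hg : g ∈ quadQ P S) (hh : h ∈ quadQ P S) {i : Fin 126} {a : G}
    (ha : a ∈ qset P S i) : g * (h * a * h⁻¹) * g⁻¹ = h * (g * a * g⁻¹) * h⁻¹ := by
  have hha := (hh.2 i).mem P S hh.1 ha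
  have hga := (hg.2 i).mem P S hg.1 ha
  by_cases e1 : g * a * g⁻¹ = a
  · rw [e1, (hg.2 i).fix_all P S hg.1 ha e1 hha]
  by_cases e2 : h * a * h⁻¹ = a
  · rw [e2, (hh.2 i).fix_all P S hh.1 ha e2 hga]
  obtain ⟨c, f, hq, hF⟩ := (qset_spec P S i).1.pair ha hga (Ne.symm e1)
  obtain ⟨g1, g2, g3⟩ := (hg.2 i).moved P S hg.1 hq hF rfl
  have hm : h * a * h⁻¹ ∈ ({a, g * a * g⁻¹, c, f} : Set G) := hF ▸ hha
  simp only [Set.mem_insert_iff, Set.mem_singleton_iff] at hm
  rcases hm with r | r | r | r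
  · exact absurd r e2
  · rw [r, g1]
    exact ((hh.2 i).moved P S hh.1 hq hF r).1.symm
  · rw [r, g2]
    exact ((hh.2 i).moved P S hh.1 hq.swap23
      (by rw [← hF]; ext; simp only [Set.mem_insert_iff, Set.mem_singleton_iff]; tauto) r).2.1.symm
  · rw [r, g3]
    exact ((hh.2 i).moved P S hh.1 hq.swap34.swap23
      (by rw [← hF]; ext; simp only [Set.mem_insert_iff, Set.mem_singleton_iff]; tauto) r).2.1.symm

/-- Only `1` and the product centralise all the members over the lines. -/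
theorem cent_members {g : G} (hg : ∀ i a, a ∈ qset P S i → Commute g a) : g = 1 ∨ g = tEl p := by
  have hT := P.base.tt
  obtain ⟨hF0, -⟩ := qset_spec P S 0
  obtain ⟨a, b, c, e, hq, hF⟩ := id hF0
  have hin : ∀ x ∈ ({a, b, c, e} : Set G), x ∈ qset P S 0 := fun x hx => by rw [hF]; exact hx
  have ma := hin a (by simp)
  have mb := hin b (by simp)
  have mc := hin c (by simp)
  have me := hin e (by simp)
  have hcl := cent_four24 P hq.ha ⟨hq.hb, hq.nab.symm, hq.ab⟩ ⟨hq.hc, hq.nac.symm, hq.ac⟩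
    ⟨hq.he, hq.nae.symm, hq.ae⟩ hq.nbc hq.nbe hq.nce hq.bc hq.be hq.ce (hg _ _ ma) (hg _ _ mb) (hg _ _ mc)
    (hg _ _ me) fun y hy h1 h2 h3 h4 => by
      obtain ⟨j, hj⟩ := qset_cover P S hy (by rw [← hq.prod]; exact ((h1.mul_left h2).mul_left h3).mul_left h4)
      exact hg j y hj
  obtain ⟨m, hm0, -, hfar, -, -, -⟩ := exists_far 0 0
  obtain ⟨hFm, mm⟩ := qset_spec P S m
  set x := mem6 P S m
  have hx := hFm.mem mm
  have nc : ∀ {y}, y ∈ qset P S 0 → ¬ Commute y x := fun hy h => by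
    rw [(qset_commute P S (Ne.symm hm0) hy mm).1 h] at hfar
    exact Bool.false_ne_true hfar.symm
  have hgx : Commute g x := hg m x mm
  have two : ∀ {u v}, u ∈ qset P S 0 → v ∈ qset P S 0 → u ≠ v → ¬ Commute (u * v) x := fun hu hv huv h =>
    nc hu ((commute_mul_iff0 hT (hF0.mem hu).1 (hF0.mem hv).1 hx.1 (hF0.commute hu hv) huv).1 h).1
  have three : ∀ {u v z}, u ∈ qset P S 0 → v ∈ qset P S 0 → z ∈ qset P S 0 → u ≠ v → u ≠ z → v ≠ z →
      ¬ Commute (u * v * z) x := fun hu hv hz n1 n2 n3 h =>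
    nc hu ((commute_triple_iff hT (hF0.mem hu).1 (hF0.mem hv).1 (hF0.mem hz).1 hx.1 (hF0.commute hu hv)
      (hF0.commute hu hz) (hF0.commute hv hz) n1 n2 n3).1 h).1
  obtain ⟨u, v, z, r, hu, hv, hz, hr, he⟩ := mem_four (hT.sq a hq.ha) (hT.sq b hq.hb) (hT.sq c hq.hc)
    (hT.sq e hq.he) hq.ab hq.ac hq.ae hq.bc hq.be hq.ce hcl
  rcases hu with rfl | rfl <;> rcases hv with rfl | rfl <;> rcases hz with rfl | rfl <;> rcases hr with rfl | rfl <;>
    (try simp only [one_mul, mul_one] at he) <;> subst he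
  all_goals first
    | exact Or.inl rfl
    | exact Or.inr hq.prod
    | exact absurd hgx (nc ma)
    | exact absurd hgx (nc mb)
    | exact absurd hgx (nc mc)
    | exact absurd hgx (nc me)
    | exact absurd hgx (two ma mb hq.nab)
    | exact absurd hgx (two ma mc hq.nac)
    | exact absurd hgx (two ma me hq.nae)
    | exact absurd hgx (two mb mc hq.nbc)
    | exact absurd hgx (two mb me hq.nbe)
    | exact absurd hgx (two mc me hq.nce)
    | exact absurd hgx (three ma mb mc hq.nab hq.nac hq.nbc)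
    | exact absurd hgx (three ma mb me hq.nab hq.nae hq.nbe)
    | exact absurd hgx (three ma mc me hq.nac hq.nae hq.nce)
    | exact absurd hgx (three mb mc me hq.nbc hq.nbe hq.nce)

/-- Only `1` and the product centralise all products of pairs over the lines. -/
theorem cent_pairs {g : G} (hg : Commute (tEl p) g)
    (h : ∀ i a b, a ∈ qset P S i → b ∈ qset P S i → a ≠ b → Commute g (a * b)) : g = 1 ∨ g = tEl p := by
  refine cent_members P S fun i a ha => ?_
  have hfc : FixCl P S i g := fun x hx y hy => by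
    by_cases e : x = y
    · left; rw [e, P.base.tt.sq y ((qset_spec P S i).1.mem hy).1]; group
    · left; rw [(h i x y hx hy e).eq, mul_inv_cancel_right]
  by_contra hne
  have hmv : g * a * g⁻¹ ≠ a := fun e => hne (commute_of_fix e)
  obtain ⟨c, e, hq, hF⟩ := (qset_spec P S i).1.pair ha (hfc.mem P S hg ha) (Ne.symm hmv)
  have mc : c ∈ qset P S i := hF ▸ by simp
  have hac := h i a c ha mc hq.nac
  obtain ⟨g1, g2, -⟩ := hfc.moved P S hg hq hF rfl
  have h5 : g * a * g⁻¹ * e = a * c := by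
    conv_rhs => rw [← fix_of_commute hac]
    rw [show g * (a * c) * g⁻¹ = g * a * g⁻¹ * (g * c * g⁻¹) by group, g2]
  have hl := uniq_two P.base.tt P.base.twinFree P.base.ne_one (l := [g * a * g⁻¹, e]) (l' := [a, c])
    ⟨by simpa using hq.nbe, rfl, by simpa using ⟨hq.hb, hq.he⟩, by simpa using ⟨hq.be, hq.be.symm⟩⟩
    ⟨by simpa using hq.nac, rfl, by simpa using ⟨hq.ha, hq.hc⟩, by simpa using ⟨hq.ac, hq.ac.symm⟩⟩
    (by simpa using h5)
  have := (hl (g * a * g⁻¹)).1 (by simp)
  simp only [List.mem_cons, List.not_mem_nil, or_false] at this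
  rcases this with r | r
  exacts [hmv r, hq.nbc r]

/-! ### Products of pairs -/

theorem pair_lineKer {j : Fin 126} {u v : G} (hu : u ∈ qset P S j) (hv : v ∈ qset P S j) :
    u * v ∈ lineKer P S := by
  set cu : ↥(Subgroup.centralizer ({tEl p} : Set G)) := ⟨u, mem_cent_of_qset P S hu⟩
  set cv : ↥(Subgroup.centralizer ({tEl p} : Set G)) := ⟨v, mem_cent_of_qset P S hv⟩
  refine ⟨cu * cv, MonoidHom.mem_ker.2 ?_, rfl⟩
  have hsq : cu * cu = 1 := Subtype.ext (P.base.tt.sq u ((qset_spec P S j).1.mem hu).1)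
  rw [map_mul, sigma_member P S hv, ← sigma_member P S hu, ← map_mul, hsq, map_one]

theorem pair_fix {i j : Fin 126} {u v a : G} (hu : u ∈ qset P S j) (hv : v ∈ qset P S j) (ha : a ∈ qset P S i)
    (hij : i = j ∨ adj j i = true) : u * v * a * (u * v)⁻¹ = a := by
  refine fix_of_commute ?_
  by_cases e : j = i
  · subst e
    exact ((qset_spec P S j).1.commute hu ha).mul_left ((qset_spec P S j).1.commute hv ha)
  · have hadj := hij.resolve_left (Ne.symm e)
    exact ((qset_commute P S e hu ha).2 hadj).mul_left ((qset_commute P S e hv ha).2 hadj)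

theorem pair_fpf {i j : Fin 126} {u v a : G} (hu : u ∈ qset P S j) (hv : v ∈ qset P S j) (huv : u ≠ v)
    (ha : a ∈ qset P S i) (hij : i ≠ j) (hadj : adj j i = false) : u * v * a * (u * v)⁻¹ ≠ a := fun h => by
  have hF := (qset_spec P S j).1
  have h1 := (qset_commute P S (Ne.symm hij) hu ha).1
    ((commute_mul_iff0 P.base.tt (hF.mem hu).1 (hF.mem hv).1 ((qset_spec P S i).1.mem ha).1
      (hF.commute hu hv) huv).1 (commute_of_fix h)).1
  rw [h1] at hadj
  exact Bool.false_ne_true hadj.symm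

theorem pair_sq {j : Fin 126} {u v : G} (hu : u ∈ qset P S j) (hv : v ∈ qset P S j) : u * v * (u * v) = 1 := by
  have hF := (qset_spec P S j).1
  rw [show u * v * (u * v) = u * (v * u) * v by group, (hF.commute hv hu).eq,
    show u * (u * v) * v = (u * u) * (v * v) by group, P.base.tt.sq u (hF.mem hu).1,
    P.base.tt.sq v (hF.mem hv).1, one_mul]

theorem pair_onto {i j : Fin 126} (hij : i ≠ j) (hadj : adj j i = false) {a b : G} (ha : a ∈ qset P S i)
    (hb : b ∈ qset P S i) (hab : a ≠ b) :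
    ∃ u v, u ∈ qset P S j ∧ v ∈ qset P S j ∧ u ≠ v ∧ u * v * a * (u * v)⁻¹ = b := by
  classical
  have hF := (qset_spec P S j).1
  obtain ⟨u, v, z, r, hq, hset⟩ := id hF
  have hin : ∀ x ∈ ({u, v, z, r} : Set G), x ∈ qset P S j := fun x hx => by rw [hset]; exact hx
  have mu := hin u (by simp)
  set f : G → G := fun x => u * x * a * (u * x)⁻¹
  have hinj : Set.InjOn f {v, z, r} := by
    intro x hx y hy e
    by_contra hne
    have mx := hin x (Or.inr hx)
    have my := hin y (Or.inr hy)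
    refine pair_fpf P S my mx (Ne.symm hne) ha hij hadj ?_
    have hyx : y * x = (u * y)⁻¹ * (u * x) := by
      rw [mul_inv_rev, P.base.tt.inv (hF.mem mu).1, P.base.tt.inv (hF.mem my).1,
        show y * u * (u * x) = y * (u * u) * x by group, P.base.tt.sq u (hF.mem mu).1, mul_one]
    simp only [f] at e
    rw [hyx]
    calc (u * y)⁻¹ * (u * x) * a * ((u * y)⁻¹ * (u * x))⁻¹
        = (u * y)⁻¹ * (u * x * a * (u * x)⁻¹) * (u * y) := by group
      _ = a := by rw [e]; group
  have hmaps : f '' {v, z, r} ⊆ qset P S i \ {a} := by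
    rintro _ ⟨x, hx, rfl⟩
    have hux : u ≠ x := by
      simp only [Set.mem_insert_iff, Set.mem_singleton_iff] at hx
      rcases hx with rfl | rfl | rfl
      exacts [hq.nab, hq.nac, hq.nae]
    exact ⟨((mem_lineKer P S).1 (pair_lineKer P S mu (hin x (Or.inr hx)))).2 i a ha,
      pair_fpf P S mu (hin x (Or.inr hx)) hux ha hij hadj⟩
  have heq : f '' {v, z, r} = qset P S i \ {a} := by
    refine Set.eq_of_subset_of_ncard_le hmaps ?_
    rw [Set.ncard_image_of_injOn hinj, Set.ncard_diff_singleton_of_mem ha, (qset_spec P S i).1.ncard,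
      Set.ncard_insert_of_notMem (by simp [hq.nbc, hq.nbe]), Set.ncard_pair hq.nce]
  obtain ⟨x, hx, hfx⟩ : b ∈ f '' {v, z, r} := heq ▸ ⟨hb, Ne.symm hab⟩
  refine ⟨u, x, mu, hin x (Or.inr hx), ?_, hfx⟩
  simp only [Set.mem_insert_iff, Set.mem_singleton_iff] at hx
  rcases hx with rfl | rfl | rfl
  exacts [hq.nab, hq.nac, hq.nae]

/-- Keeping the divisions over a line passes to the lines far from it. -/
theorem fixCl_of_far {i j : Fin 126} {g : G} (hg : g ∈ lineKer P S) (hj : FixCl P S j g) (hij : i ≠ j)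
    (hadj : adj j i = false) : FixCl P S i g := by
  obtain ⟨hgt, hgall⟩ := (mem_lineKer P S).1 hg
  intro a ha b hb
  have hT := P.base.tt
  by_cases hab : a = b
  · left; rw [hab, hT.sq b ((qset_spec P S i).1.mem hb).1]; group
  obtain ⟨u, v, hu, hv, huv, hxa⟩ := pair_onto P S hij hadj ha hb hab
  set x := u * v with hxdef
  obtain ⟨hxt, hxall⟩ := (mem_lineKer P S).1 (pair_lineKer P S hu hv)
  have hxb : x * b * x⁻¹ = a := by
    have h2 := pair_sq P S hu hv
    rw [← hxdef] at h2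
    calc x * b * x⁻¹ = x * (x * a * x⁻¹) * x⁻¹ := by rw [hxa]
      _ = (x * x) * a * (x * x)⁻¹ := by group
      _ = a := by rw [h2]; group
  have hconj : g * b * g⁻¹ = x * (g * a * g⁻¹) * x⁻¹ := by
    rcases hj u hu v hv with e | e
    · calc g * b * g⁻¹ = (g * x * g⁻¹) * (g * a * g⁻¹) * (g * x * g⁻¹)⁻¹ := by rw [← hxa]; group
        _ = _ := by rw [hxdef, e]
    · have hta : tEl p * (g * a * g⁻¹) * (tEl p)⁻¹ = g * a * g⁻¹ :=
        fix_of_commute ((qset_spec P S i).1.mem (hgall i a ha)).2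
      calc g * b * g⁻¹ = (g * x * g⁻¹) * (g * a * g⁻¹) * (g * x * g⁻¹)⁻¹ := by rw [← hxa]; group
        _ = x * (tEl p * (g * a * g⁻¹) * (tEl p)⁻¹) * x⁻¹ := by rw [hxdef, e]; group
        _ = _ := by rw [hta]
  obtain ⟨c, e, hq, hF⟩ := (qset_spec P S i).1.pair ha hb hab
  have hga : g * a * g⁻¹ ∈ ({a, b, c, e} : Set G) := hF ▸ hgall i a ha
  have hswap : ∀ y, y ∈ ({c, e} : Set G) → x * y * x⁻¹ ≠ y ∧ x * y * x⁻¹ ∈ ({c, e} : Set G) := by
    intro y hy
    have my : y ∈ qset P S i := hF ▸ (Or.inr (Or.inr hy))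
    have hfp := pair_fpf P S hu hv huv my hij hadj
    refine ⟨hfp, ?_⟩
    have hm : x * y * x⁻¹ ∈ ({a, b, c, e} : Set G) := hF ▸ hxall i y my
    have hya : y ≠ a ∧ y ≠ b := by
      simp only [Set.mem_insert_iff, Set.mem_singleton_iff] at hy
      rcases hy with rfl | rfl
      exacts [⟨hq.nac.symm, hq.nbc.symm⟩, ⟨hq.nae.symm, hq.nbe.symm⟩]
    rcases hm with r | r | r
    · exact absurd (mul_left_cancel (mul_right_cancel (r.trans hxb.symm))) hya.2
    · exact absurd (mul_left_cancel (mul_right_cancel (r.trans hxa.symm))) hya.1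
    · exact r
  have hprod : g * (a * b) * g⁻¹ = g * a * g⁻¹ * (g * b * g⁻¹) := by group
  rw [hprod, hconj]
  simp only [Set.mem_insert_iff, Set.mem_singleton_iff] at hga
  rcases hga with r | r | r | r <;> rw [r]
  · exact Or.inl (by rw [hxa])
  · exact Or.inl (by rw [hxb, hq.ab.eq])
  · obtain ⟨h1, h2⟩ := hswap c (Or.inl rfl)
    simp only [Set.mem_insert_iff, Set.mem_singleton_iff] at h2
    exact Or.inr (by rw [h2.resolve_left h1, hq.pair_t hT])
  · obtain ⟨h1, h2⟩ := hswap e (Or.inr rfl)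
    simp only [Set.mem_insert_iff, Set.mem_singleton_iff] at h2
    exact Or.inr (by rw [h2.resolve_right h1, hq.ce.symm.eq, hq.pair_t hT])

theorem pair_mem {j : Fin 126} {u v : G} (hu : u ∈ qset P S j) (hv : v ∈ qset P S j) :
    u * v ∈ quadQ P S := by
  refine ⟨((qset_spec P S j).1.mem hu).2.mul_right ((qset_spec P S j).1.mem hv).2, fun i => ?_⟩
  by_cases hnear : i = j ∨ adj j i = true
  · intro a ha b hb
    left
    rw [show u * v * (a * b) * (u * v)⁻¹ = u * v * a * (u * v)⁻¹ * (u * v * b * (u * v)⁻¹) by group,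
      pair_fix P S hu hv ha hnear, pair_fix P S hu hv hb hnear]
  · rw [not_or, Bool.not_eq_true] at hnear
    refine fixCl_of_far P S (pair_lineKer P S hu hv) (fun a ha b hb => Or.inl ?_) hnear.1 hnear.2
    rw [show u * v * (a * b) * (u * v)⁻¹ = u * v * a * (u * v)⁻¹ * (u * v * b * (u * v)⁻¹) by group,
      pair_fix P S hu hv ha (Or.inl rfl), pair_fix P S hu hv hb (Or.inl rfl)]

theorem mem_quadQ_of_one {g : G} (hg : g ∈ lineKer P S) {j : Fin 126} (hj : FixCl P S j g) :
    g ∈ quadQ P S := by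
  refine ⟨((mem_lineKer P S).1 hg).1, fun i => ?_⟩
  obtain ⟨m, hmi, hmj, -, hjm, hmi', -⟩ := exists_far i j
  exact fixCl_of_far P S hg (fixCl_of_far P S hg hj hmj hjm) (Ne.symm hmi) hmi'

end CfsgLib.ThreeT.Prod
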