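import Cfsg.Agent.Spor3T.QuadFibre
import Cfsg.Agent.Spor3T.M24Big
import Cfsg.Agent.Spor3T.QuadCent

/-!
Type M(24): the order of the centraliser of a product of four commuting members.
-/

set_option autoImplicit false
set_option linter.style.haveILetI false
set_option linter.unusedSectionVars false

namespace CfsgLib.ThreeT.Prod

variable {G : Type*} [Group G] [Finite G] {D : Set G}

/-- A step of counting by orbits. -/
theorem card_cent_step {H : Subgroup G} {x : G} {O : Set G} {n : ℕ} (hn : O.ncard = n)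
    (hinto : ∀ g ∈ H, g * x * g⁻¹ ∈ O) (honto : ∀ y ∈ O, ∃ g ∈ H, g * x * g⁻¹ = y) :
    Nat.card ↥H = n * Nat.card ↥(H ⊓ Subgroup.centralizer ({x} : Set G)) := by
  rw [card_conj_orbit H x, show (fun g => g * x * g⁻¹) '' (H : Set G) = O from
    Set.Subset.antisymm (fun _ ⟨g, hg, e⟩ => e ▸ hinto g hg)
      (fun y hy => let ⟨g, hg, e⟩ := honto y hy; ⟨g, hg, e⟩), hn]

theorem mem_cent_one {a g : G} : g ∈ Subgroup.centralizer ({a} : Set G) ↔ Commute g a :=
  Subgroup.mem_centralizer_singleton_iff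

variable {d : G} (P : Point24 D d)

include P

theorem card_nb24 {a : G} (ha : a ∈ D) : (nb D a).ncard = 31671 := ((geo24 P).loc a ha).card_nb

theorem exists_other {s : Set G} {n : ℕ} (h : s.ncard = n) (bad : Set G) (hb : bad.ncard < n) :
    ∃ y ∈ s, y ∉ bad := by
  by_contra! hc
  have := Set.ncard_le_ncard (fun y hy => hc y hy) (Set.toFinite bad)
  omega

theorem card_pair24 {a b : G} (ha : a ∈ D) (hb : b ∈ nb D a) :
    {y | y ∈ nb D a ∧ y ≠ b ∧ Commute b y}.ncard = 3510 := by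
  classical
  have hc := Level.ncard_fix (geo24 P) arith24 (by norm_num) (by norm_num)
    (⟨[a, b], by simpa using hb.2.1.symm, rfl, by simpa using ⟨ha, hb.1⟩, by simpa using ⟨hb.2.2, hb.2.2.symm⟩,
      by simp⟩ : Facs D 2 (a * b))
  have he : {y | y ∈ D ∧ Commute (a * b) y} = insert a (insert b {y | y ∈ nb D a ∧ y ≠ b ∧ Commute b y}) := by
    ext y
    constructor
    · rintro ⟨hy, h⟩
      obtain ⟨c1, c2⟩ := (commute_mul_iff0 P.base.tt ha hb.1 hy hb.2.2 hb.2.1.symm).1 h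
      by_cases e1 : y = a
      · exact Or.inl e1
      by_cases e2 : y = b
      · exact Or.inr (Or.inl e2)
      exact Or.inr (Or.inr ⟨⟨hy, e1, c1⟩, e2, c2⟩)
    · rintro (rfl | rfl | ⟨h1, -, h2⟩)
      · exact ⟨ha, (Commute.refl _).mul_left hb.2.2.symm⟩
      · exact ⟨hb.1, hb.2.2.mul_left (Commute.refl _)⟩
      · exact ⟨h1.1, h1.2.2.mul_left h2⟩
  simp only [show (2 : ℕ) ≠ 1 by norm_num, if_false, if_true] at hc
  change {y | y ∈ D ∧ Commute (a * b) y}.ncard = _ at hc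
  rw [he, Set.ncard_insert_of_notMem (by simp [hb.2.1.symm, nb]), Set.ncard_insert_of_notMem (by simp)] at hc
  omega

theorem card_triple24 {a b c : G} (ha : a ∈ D) (hb : b ∈ nb D a) (hc : c ∈ nb D a) (nbc : b ≠ c)
    (cbc : Commute b c) : {y | y ∈ nb D a ∧ y ≠ b ∧ y ≠ c ∧ Commute b y ∧ Commute c y}.ncard = 693 := by
  have h3 := (comm_count24 P ha hb.1 hc.1 hb.2.1.symm hc.2.1.symm nbc hb.2.2 hc.2.2 cbc).2.2
  have he : {y | y ∈ D ∧ Commute a y ∧ Commute b y ∧ Commute c y} =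
      insert a (insert b (insert c {y | y ∈ nb D a ∧ y ≠ b ∧ y ≠ c ∧ Commute b y ∧ Commute c y})) := by
    ext y
    constructor
    · rintro ⟨hy, h1, h2, h3⟩
      by_cases e1 : y = a
      · exact Or.inl e1
      by_cases e2 : y = b
      · exact Or.inr (Or.inl e2)
      by_cases e3 : y = c
      · exact Or.inr (Or.inr (Or.inl e3))
      exact Or.inr (Or.inr (Or.inr ⟨⟨hy, e1, h1⟩, e2, e3, h2, h3⟩))
    · rintro (rfl | rfl | rfl | ⟨h1, -, -, h2, h3⟩)
      · exact ⟨ha, Commute.refl _, hb.2.2.symm, hc.2.2.symm⟩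
      · exact ⟨hb.1, hb.2.2, Commute.refl _, cbc.symm⟩
      · exact ⟨hc.1, hc.2.2, cbc, Commute.refl _⟩
      · exact ⟨h1.1, h1.2.2, h2, h3⟩
  rw [he, Set.ncard_insert_of_notMem (by simp [hb.2.1.symm, hc.2.1.symm, nb]),
    Set.ncard_insert_of_notMem (by simp [nbc]), Set.ncard_insert_of_notMem (by simp)] at h3
  omega

/-- The order of the centraliser of four commuting members. -/
theorem card_cent_quad {t a b c e : G} (h : Quad D t a b c e) :
    Nat.card ↥(Subgroup.centralizer ({a} : Set G) ⊓ Subgroup.centralizer ({b} : Set G) ⊓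
      Subgroup.centralizer ({c} : Set G) ⊓ Subgroup.centralizer ({e} : Set G)) = 106168320 := by
  have hT := P.base.tt
  have hb : b ∈ nb D a := ⟨h.hb, h.nab.symm, h.ab⟩
  have hc : c ∈ nb D a := ⟨h.hc, h.nac.symm, h.ac⟩
  have he : e ∈ nb D a := ⟨h.he, h.nae.symm, h.ae⟩
  set A := Subgroup.centralizer ({a} : Set G) with hA
  set B := Subgroup.centralizer ({b} : Set G) with hB
  set C := Subgroup.centralizer ({c} : Set G) with hC
  have e1 : Nat.card ↥A = 31671 * Nat.card ↥(A ⊓ B) := by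
    refine card_cent_step (card_nb24 P h.ha) (fun g hg => ?_) fun y hy => ?_
    · exact nb_conj hT hb.1 hb.2.1 hb.2.2 (fix_of_commute (mem_cent_one.1 hg))
    · obtain ⟨c', hc', -⟩ := exists_other P (card_pair24 P h.ha hy) ∅ (by simp)
      obtain ⟨e', he', -⟩ := exists_other P (card_triple24 P h.ha hy hc'.1 hc'.2.1.symm hc'.2.2) ∅ (by simp)
      obtain ⟨g, g1, g2, -, -⟩ := quad_conj P h.ha hy hc'.1 he'.1 hc'.2.1.symm he'.2.1.symm he'.2.2.1.symm
        hc'.2.2 he'.2.2.2.1 he'.2.2.2.2 h.ha hb hc he h.nbc h.nbe h.nce h.bc h.be h.ce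
      exact ⟨g, mem_cent_one.2 (commute_of_fix g1), g2⟩
  have e2 : Nat.card ↥(A ⊓ B) = 3510 * Nat.card ↥(A ⊓ B ⊓ C) := by
    refine card_cent_step (card_pair24 P h.ha hb) (fun g hg => ?_) fun y hy => ?_
    · obtain ⟨g1, g2⟩ := Subgroup.mem_inf.1 hg
      have f2 := fix_of_commute (mem_cent_one.1 g2)
      refine ⟨nb_conj hT hc.1 hc.2.1 hc.2.2 (fix_of_commute (mem_cent_one.1 g1)),
        fun q => h.nbc (mul_left_cancel (mul_right_cancel (f2.trans q.symm))), ?_⟩
      have := (commute_conj_iff g b c).2 h.bc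
      rwa [f2] at this
    · obtain ⟨e', he', -⟩ := exists_other P (card_triple24 P h.ha hb hy.1 hy.2.1.symm hy.2.2) ∅ (by simp)
      obtain ⟨g, g1, g2, g3, -⟩ := quad_conj P h.ha hb hy.1 he'.1 hy.2.1.symm he'.2.1.symm he'.2.2.1.symm
        hy.2.2 he'.2.2.2.1 he'.2.2.2.2 h.ha hb hc he h.nbc h.nbe h.nce h.bc h.be h.ce
      exact ⟨g, Subgroup.mem_inf.2 ⟨mem_cent_one.2 (commute_of_fix g1), mem_cent_one.2 (commute_of_fix g2)⟩, g3⟩
  have e3 : Nat.card ↥(A ⊓ B ⊓ C) = 693 * Nat.card ↥(A ⊓ B ⊓ C ⊓ Subgroup.centralizer ({e} : Set G)) := by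
    refine card_cent_step (card_triple24 P h.ha hb hc h.nbc h.bc) (fun g hg => ?_) fun y hy => ?_
    · obtain ⟨g12, g3⟩ := Subgroup.mem_inf.1 hg
      obtain ⟨g1, g2⟩ := Subgroup.mem_inf.1 g12
      have f2 := fix_of_commute (mem_cent_one.1 g2)
      have f3 := fix_of_commute (mem_cent_one.1 g3)
      refine ⟨nb_conj hT he.1 he.2.1 he.2.2 (fix_of_commute (mem_cent_one.1 g1)),
        fun q => h.nbe (mul_left_cancel (mul_right_cancel (f2.trans q.symm))),
        fun q => h.nce (mul_left_cancel (mul_right_cancel (f3.trans q.symm))), ?_, ?_⟩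
      · have := (commute_conj_iff g b e).2 h.be
        rwa [f2] at this
      · have := (commute_conj_iff g c e).2 h.ce
        rwa [f3] at this
    · obtain ⟨g, g1, g2, g3, g4⟩ := quad_conj P h.ha hb hc hy.1 h.nbc hy.2.1.symm hy.2.2.1.symm
        h.bc hy.2.2.2.1 hy.2.2.2.2 h.ha hb hc he h.nbc h.nbe h.nce h.bc h.be h.ce
      exact ⟨g, Subgroup.mem_inf.2 ⟨Subgroup.mem_inf.2 ⟨mem_cent_one.2 (commute_of_fix g1),
        mem_cent_one.2 (commute_of_fix g2)⟩, mem_cent_one.2 (commute_of_fix g3)⟩, g4⟩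
  have h0 : Nat.card ↥A = 8178940946586009600 := by
    have := card_hsub24 P h.ha
    rwa [hsub_eq24 P h.ha] at this
  rw [e1, e2, e3] at h0
  omega

variable {p q : Fin 6 → G} {w : G} (S : Space7 D p q w)

include S

/-- The order of the centraliser of the product. -/
theorem card_cent_tEl : Nat.card ↥(Subgroup.centralizer ({tEl p} : Set G)) = 321052999680 := by
  have hT := P.base.tt
  obtain ⟨a, b, c, h, -⟩ := exists_quad0 P S
  set t := tEl p
  set T := Subgroup.centralizer ({t} : Set G) with hTdef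
  set A := Subgroup.centralizer ({p 4} : Set G) with hA
  set B := Subgroup.centralizer ({a} : Set G) with hB
  set C := Subgroup.centralizer ({b} : Set G) with hC
  have hF : IsQuad D t {p 4, a, b, c} := ⟨_, _, _, _, h, rfl⟩
  have nb' : ∀ {x u v w : G}, Quad D t x u v w → u ∈ nb D x ∧ v ∈ nb D x ∧ w ∈ nb D x := fun h =>
    ⟨⟨h.hb, h.nab.symm, h.ab⟩, ⟨h.hc, h.nac.symm, h.ac⟩, ⟨h.he, h.nae.symm, h.ae⟩⟩
  have move : ∀ {x u v w : G}, Quad D t x u v w →
      ∃ g ∈ T, g * p 4 * g⁻¹ = x ∧ g * a * g⁻¹ = u ∧ g * b * g⁻¹ = v ∧ g * c * g⁻¹ = w := by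
    intro x u v w hq
    obtain ⟨g, g1, g2, g3, g4⟩ := quad_conj P hq.ha (nb' hq).1 (nb' hq).2.1 (nb' hq).2.2 hq.nbc hq.nbe hq.nce
      hq.bc hq.be hq.ce h.ha (nb' h).1 (nb' h).2.1 (nb' h).2.2 h.nbc h.nbe h.nce h.bc h.be h.ce
    refine ⟨g, mem_cent_one.2 (commute_of_fix ?_), g1, g2, g3, g4⟩
    rw [← h.prod]
    calc g * (p 4 * a * b * c) * g⁻¹ = g * p 4 * g⁻¹ * (g * a * g⁻¹) * (g * b * g⁻¹) * (g * c * g⁻¹) := by group
      _ = x * u * v * w := by rw [g1, g2, g3, g4]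
      _ = p 4 * a * b * c := by rw [hq.prod, h.prod]
  have e1 : Nat.card ↥T = 504 * Nat.card ↥(T ⊓ A) := by
    refine card_cent_step (quad_fix24 P (tEl_facs P S)) (fun g hg => ⟨hT.conj g _ h.ha, ?_⟩) fun y hy => ?_
    · have := (commute_conj_iff g t (p 4)).2 h.commute_t
      rwa [fix_of_commute (mem_cent_one.1 hg)] at this
    · obtain ⟨j, hj⟩ := qset_cover P S hy.1 hy.2
      obtain ⟨a', b', c', e', hq, hF'⟩ := (qset_spec P S j).1
      obtain ⟨u, v, w, hq', -⟩ := hq.first (hF' ▸ hj)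
      obtain ⟨g, hg, g1, -⟩ := move hq'
      exact ⟨g, hg, g1⟩
  have e2 : Nat.card ↥(T ⊓ A) = 3 * Nat.card ↥(T ⊓ A ⊓ B) := by
    refine card_cent_step (O := {a, b, c}) ?_ (fun g hg => ?_) fun y hy => ?_
    · rw [Set.ncard_insert_of_notMem (by simp [h.nbc, h.nbe]), Set.ncard_pair h.nce]
    · obtain ⟨g1, g2⟩ := Subgroup.mem_inf.1 hg
      have f := fix_of_commute (mem_cent_one.1 g2)
      have heq := (hF.conj hT (mem_cent_one.1 g1).symm).eq_of_mem P hF ⟨p 4, Or.inl rfl, f⟩ (Or.inl rfl)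
      have hm : g * a * g⁻¹ ∈ ({p 4, a, b, c} : Set G) := heq ▸ ⟨a, Or.inr (Or.inl rfl), rfl⟩
      rcases hm with e | e
      · exact absurd (mul_left_cancel (mul_right_cancel (f.trans e.symm))) h.nab
      · exact e
    · have hyF : y ∈ ({p 4, a, b, c} : Set G) := Or.inr hy
      have hne : p 4 ≠ y := by
        simp only [Set.mem_insert_iff, Set.mem_singleton_iff] at hy
        rcases hy with rfl | rfl | rfl
        exacts [h.nab, h.nac, h.nae]
      obtain ⟨v, w, hq, -⟩ := hF.pair (Or.inl rfl) hyF hne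
      obtain ⟨g, hg, g1, g2, -⟩ := move hq
      exact ⟨g, Subgroup.mem_inf.2 ⟨hg, mem_cent_one.2 (commute_of_fix g1)⟩, g2⟩
  have e3 : Nat.card ↥(T ⊓ A ⊓ B) = 2 * Nat.card ↥(T ⊓ A ⊓ B ⊓ C) := by
    refine card_cent_step (O := {b, c}) (Set.ncard_pair h.nce) (fun g hg => ?_) fun y hy => ?_
    · obtain ⟨g12, g3⟩ := Subgroup.mem_inf.1 hg
      obtain ⟨g1, g2⟩ := Subgroup.mem_inf.1 g12
      have f := fix_of_commute (mem_cent_one.1 g2)
      have f' := fix_of_commute (mem_cent_one.1 g3)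
      have heq := (hF.conj hT (mem_cent_one.1 g1).symm).eq_of_mem P hF ⟨p 4, Or.inl rfl, f⟩ (Or.inl rfl)
      have hm : g * b * g⁻¹ ∈ ({p 4, a, b, c} : Set G) := heq ▸ ⟨b, Or.inr (Or.inr (Or.inl rfl)), rfl⟩
      rcases hm with e | e | e
      · exact absurd (mul_left_cancel (mul_right_cancel (f.trans e.symm))) h.nac
      · exact absurd (mul_left_cancel (mul_right_cancel (f'.trans e.symm))) h.nbc
      · exact e
    · rcases hy with rfl | rfl
      · exact ⟨1, one_mem _, by simp⟩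
      · obtain ⟨g, hg, g1, g2, g3, -⟩ := move h.swap34
        exact ⟨g, Subgroup.mem_inf.2 ⟨Subgroup.mem_inf.2 ⟨hg, mem_cent_one.2 (commute_of_fix g1)⟩,
          mem_cent_one.2 (commute_of_fix g2)⟩, g3⟩
  have e4 : T ⊓ A ⊓ B ⊓ C = A ⊓ B ⊓ C ⊓ Subgroup.centralizer ({c} : Set G) := by
    ext g
    simp only [Subgroup.mem_inf, hTdef, hA, hB, hC, mem_cent_one]
    constructor
    · rintro ⟨⟨⟨gt, g1⟩, g2⟩, g3⟩
      refine ⟨⟨⟨g1, g2⟩, g3⟩, ?_⟩
      have e : c = (p 4 * a * b)⁻¹ * t := by rw [← h.prod]; group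
      rw [e]
      exact ((g1.mul_right g2).mul_right g3).inv_right.mul_right gt
    · rintro ⟨⟨⟨g1, g2⟩, g3⟩, g4⟩
      refine ⟨⟨⟨?_, g1⟩, g2⟩, g3⟩
      rw [← h.prod]
      exact ((g1.mul_right g2).mul_right g3).mul_right g4
  rw [e1, e2, e3, e4, card_cent_quad P h]

/-- The order of the kernel on the lines. -/
theorem card_ker_sigma : Nat.card ↥((sigma P S).ker) = 24576 := by
  have h := Subgroup.card_eq_card_quotient_mul_card_subgroup (sigma P S).ker
  rw [Nat.card_congr (QuotientGroup.quotientKerEquivRange (sigma P S)).toEquiv, card_range_sigma P S,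
    card_cent_tEl P S] at h
  omega

end CfsgLib.ThreeT.Prod
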