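import Cfsg.Agent.Spor3T.QuadSets

/-!
Type M(24): the members commuting with the product of four commuting ones over the 126 lines, and the action
of the centraliser of the product on the lines.
-/

set_option autoImplicit false
set_option linter.style.haveILetI false
set_option linter.unusedSectionVars false

namespace CfsgLib.SixSq

open CfsgLib.Quad
open scoped Matrix

theorem exists_to (k : Fin 8) (j : Fin 126) (hle : k.val ≤ j.val)
    (hadj : ∀ i : Fin 8, i.val < k.val →
      adj (Fin.castLE (by norm_num) i) j = adj (Fin.castLE (by norm_num) i) (Fin.castLE (by norm_num) k)) :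
    ∃ g : oGroup sixQ, lineHom g (Fin.castLE (by norm_num) k) = j ∧
      ∀ i : Fin 8, i.val < k.val → lineHom g (Fin.castLE (by norm_num) i) = Fin.castLE (by norm_num) i := by
  obtain ⟨e, he, hej⟩ := moves_cover k j hle hadj
  obtain ⟨h1, h2⟩ := moves_ok k e he
  exact ⟨((e.2.map dec).map (refl sixQ)).prod, by rw [lineHom_apply, fold_eq, h1, hej],
    fun i hi => by rw [lineHom_apply, fold_eq, h2 i hi]⟩

theorem line_trans (i : Fin 126) : ∃ g : oGroup sixQ, lineHom g 0 = i := by
  obtain ⟨g, hg, -⟩ := exists_to 0 i (Nat.zero_le _) (fun _ h => absurd h (Nat.not_lt_zero _))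
  exact ⟨g, hg⟩

theorem adj_zero_one : adj 0 1 = true ∧ adj 0 0 = false := by decide +kernel

theorem pair_trans {i j : Fin 126} (h : adj i j = true) :
    ∃ g : oGroup sixQ, lineHom g 0 = i ∧ lineHom g 1 = j := by
  obtain ⟨g, hg⟩ := line_trans i
  set j' := (lineHom g)⁻¹ j
  have hj' : lineHom g j' = j := (lineHom g).apply_symm_apply j
  have hadj : adj 0 j' = true := by rw [← lineHom_adj g, hg, hj', h]
  have hne : j' ≠ 0 := fun e => by
    rw [e, adj_zero_one.2] at hadj
    exact Bool.false_ne_true hadj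
  obtain ⟨k, hk1, hk0⟩ := exists_to 1 j' (Nat.one_le_iff_ne_zero.2 fun e => hne (Fin.ext e)) fun i hi => by
    obtain rfl : i = 0 := Fin.ext (by simp only [Fin.val_one] at hi; omega)
    exact hadj.trans adj_zero_one.1.symm
  refine ⟨g * k, ?_, ?_⟩
  · rw [map_mul, Equiv.Perm.mul_apply]
    exact (congrArg (lineHom g) (hk0 0 (by decide))).trans hg
  · rw [map_mul, Equiv.Perm.mul_apply]
    exact (congrArg (lineHom g) hk1).trans hj'

theorem pair_move {i j i' j' : Fin 126} (h : adj i j = true) (h' : adj i' j' = true) :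
    ∃ g : oGroup sixQ, lineHom g i = i' ∧ lineHom g j = j' := by
  obtain ⟨g, rfl, rfl⟩ := pair_trans h
  obtain ⟨k, rfl, rfl⟩ := pair_trans h'
  exact ⟨k * g⁻¹, by simp [map_mul], by simp [map_mul]⟩

theorem refl_fix_line {v : V6} {i : Fin 126} (h : v ⬝ᵥ vec i = 0) : lineHom (refl sixQ v) i = i := by
  rw [lineHom_apply, rf_eq, rf, dotProduct_comm (vec i), h, mul_zero, zero_smul, add_zero, (idx_vec i).1]

theorem refl_self_line {i : Fin 126} : lineHom (refl sixQ (vec i)) i = i := by
  rw [lineHom_apply, rf_eq, rf, vec_norm, one_mul, one_smul, show vec i + vec i = -vec i from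
    funext fun k => (show ∀ t : ZMod 3, t + t = -t by decide) _, (idx_vec i).2]

end CfsgLib.SixSq

namespace CfsgLib.ThreeT.Prod

open CfsgLib.SevenSq CfsgLib.SixSq
open scoped Matrix

variable {G : Type*} [Group G] [Finite G] {D : Set G} {d : G} (P : Point24 D d) {p q : Fin 6 → G} {w : G}
  (S : Space7 D p q w)

include P S

theorem exists_qset (i : Fin 126) : ∃ F, IsQuad D (tEl p) F ∧ mem6 P S i ∈ F := by
  obtain ⟨a, b, c, h, -⟩ := exists_quad0 P S
  obtain ⟨g₁, hg₁⟩ := line_trans i
  obtain ⟨g₂, hg₂⟩ := line_trans (idx (Pi.single (4 : Fin 6) 1))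
  obtain ⟨k, k1, k2⟩ := exists_move P S (g₁ * g₂⁻¹)
  refine ⟨_, IsQuad.conj P.base.tt ⟨p 4, a, b, c, h, rfl⟩ k1, p 4, Or.inl rfl, ?_⟩
  show k * p 4 * k⁻¹ = _
  rw [side_eq_mem6 P S 4, k2]
  congr 1
  rw [← hg₁, map_mul, map_inv, Equiv.Perm.mul_apply]
  congr 1
  rw [Equiv.Perm.inv_eq_iff_eq, hg₂]

/-- The four over a line. -/
noncomputable def qset (i : Fin 126) : Set G := (exists_qset P S i).choose

theorem qset_spec (i : Fin 126) : IsQuad D (tEl p) (qset P S i) ∧ mem6 P S i ∈ qset P S i :=
  (exists_qset P S i).choose_spec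

theorem mem6_separate {i j : Fin 126} {F : Set G} (h : IsQuad D (tEl p) F) (hi : mem6 P S i ∈ F)
    (hj : mem6 P S j ∈ F) : i = j := by
  by_contra hij
  have hadj := (mem6_commute_iff P S i j hij).1 (h.commute hi hj)
  have h45 : adj (idx (Pi.single (4 : Fin 6) 1)) (idx (Pi.single (5 : Fin 6) 1)) = true := by decide +kernel
  obtain ⟨g, g1, g2⟩ := pair_move hadj h45
  obtain ⟨k, k1, k2⟩ := exists_move P S g
  obtain ⟨a, b, c, hq, ha, hb, hc⟩ := exists_quad0 P S
  have e4 : p 4 = k * mem6 P S i * k⁻¹ := by rw [k2, g1, side_eq_mem6 P S 4]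
  have e5 : p 5 = k * mem6 P S j * k⁻¹ := by rw [k2, g2, side_eq_mem6 P S 5]
  have heq := (h.conj P.base.tt k1).eq_of_mem P ⟨p 4, a, b, c, hq, rfl⟩ ⟨_, hi, e4.symm⟩ (Or.inl rfl)
  have h5 : p 5 ∈ ({p 4, a, b, c} : Set G) := heq ▸ ⟨_, hj, e5.symm⟩
  have hinj : p 5 ≠ p 4 := fun e => S.hex.nc 5 (by rw [e]; exact S.hex.pq 4 5 (by decide))
  simp only [Set.mem_insert_iff, Set.mem_singleton_iff] at h5
  rcases h5 with e | e | e | e
  exacts [hinj e, ha e.symm, hb e.symm, hc e.symm]

theorem qset_disj {i j : Fin 126} {y : G} (hi : y ∈ qset P S i) (hj : y ∈ qset P S j) : i = j := by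
  have e := (qset_spec P S i).1.eq_of_mem P (qset_spec P S j).1 hi hj
  exact mem6_separate P S (qset_spec P S i).1 (qset_spec P S i).2 (e ▸ (qset_spec P S j).2)

theorem qset_cover {y : G} (hy : y ∈ D) (hty : Commute (tEl p) y) : ∃ i, y ∈ qset P S i := by
  classical
  haveI := Fintype.ofFinite G
  set U : Finset G := Finset.univ.biUnion fun i => (qset P S i).toFinset
  have hU : U.card = 504 := by
    rw [Finset.card_biUnion fun i _ j _ hij => Finset.disjoint_left.2 fun y hi hj =>
      hij (qset_disj P S (Set.mem_toFinset.1 hi) (Set.mem_toFinset.1 hj))]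
    simp only [← Set.ncard_eq_toFinset_card', (qset_spec P S _).1.ncard, Finset.sum_const, Finset.card_univ,
      Fintype.card_fin, smul_eq_mul]
  have hT : {y | y ∈ D ∧ Commute (tEl p) y} = (U : Set G) := by
    refine (Set.eq_of_subset_of_ncard_le (fun y hy => ?_) ?_).symm
    · obtain ⟨i, -, hi⟩ := Finset.mem_biUnion.1 hy
      exact (qset_spec P S i).1.mem (Set.mem_toFinset.1 hi)
    · rw [quad_fix24 P (tEl_facs P S), Set.ncard_coe_finset, hU]
  have : y ∈ (U : Set G) := hT ▸ (show y ∈ {y | y ∈ D ∧ Commute (tEl p) y} from ⟨hy, hty⟩)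
  obtain ⟨i, -, hi⟩ := Finset.mem_biUnion.1 this
  exact ⟨i, Set.mem_toFinset.1 hi⟩

/-- The line under a member. -/
noncomputable def fib (y : G) : Fin 126 := Classical.epsilon fun i => y ∈ qset P S i

theorem fib_eq {y : G} {i : Fin 126} (h : y ∈ qset P S i) : fib P S y = i := by
  exact qset_disj P S (Classical.epsilon_spec (p := fun i => y ∈ qset P S i) ⟨i, h⟩) h

/-- Members over different lines commute exactly when the lines are orthogonal. -/
theorem qset_commute {i j : Fin 126} (hij : i ≠ j) {x y : G} (hx : x ∈ qset P S i) (hy : y ∈ qset P S j) :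
    Commute x y ↔ adj i j = true := by
  obtain ⟨hi, mi⟩ := qset_spec P S i
  obtain ⟨hj, mj⟩ := qset_spec P S j
  rw [← mem6_commute_iff P S i j hij]
  constructor
  · intro h
    have h1 := hj.all_or_none P (hi.mem hx).1 (hi.mem hx).2 hy mj h
    exact (hi.all_or_none P (hj.mem mj).1 (hj.mem mj).2 hx mi h1.symm).symm
  · intro h
    have h1 := hj.all_or_none P (hi.mem mi).1 (hi.mem mi).2 mj hy h
    exact (hi.all_or_none P (hj.mem hy).1 (hj.mem hy).2 mi hx h1.symm).symm

/-- The image of a line. -/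
noncomputable def lineImg (g : G) (i : Fin 126) : Fin 126 := fib P S (g * mem6 P S i * g⁻¹)

theorem qset_conj {g : G} (hg : Commute (tEl p) g) (i : Fin 126) :
    (fun x => g * x * g⁻¹) '' qset P S i = qset P S (lineImg P S g i) := by
  obtain ⟨hi, mi⟩ := qset_spec P S i
  have hq := hi.conj P.base.tt hg
  have hm : g * mem6 P S i * g⁻¹ ∈ (fun x => g * x * g⁻¹) '' qset P S i := ⟨_, mi, rfl⟩
  obtain ⟨j, hj⟩ := qset_cover P S (hq.mem hm).1 (hq.mem hm).2
  rw [lineImg, fib_eq P S hj]
  exact hq.eq_of_mem P (qset_spec P S j).1 hm hj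

theorem conj_mem_qset {g x : G} (hg : Commute (tEl p) g) {i : Fin 126} (hx : x ∈ qset P S i) :
    g * x * g⁻¹ ∈ qset P S (lineImg P S g i) := qset_conj P S hg i ▸ ⟨x, hx, rfl⟩

theorem lineImg_eq {g x : G} (hg : Commute (tEl p) g) {i j : Fin 126} (hx : x ∈ qset P S i)
    (hj : g * x * g⁻¹ ∈ qset P S j) : lineImg P S g i = j :=
  qset_disj P S (conj_mem_qset P S hg hx) hj

theorem lineImg_mul {g h : G} (hg : Commute (tEl p) g) (hh : Commute (tEl p) h) (i : Fin 126) :
    lineImg P S (g * h) i = lineImg P S g (lineImg P S h i) := by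
  refine lineImg_eq P S (hg.mul_right hh) (qset_spec P S i).2 ?_
  rw [show g * h * mem6 P S i * (g * h)⁻¹ = g * (h * mem6 P S i * h⁻¹) * g⁻¹ by group]
  exact conj_mem_qset P S hg (conj_mem_qset P S hh (qset_spec P S i).2)

theorem lineImg_one (i : Fin 126) : lineImg P S 1 i = i :=
  lineImg_eq P S (Commute.one_right _) (qset_spec P S i).2 (by simpa using (qset_spec P S i).2)

theorem commute_tEl (g : ↥(Subgroup.centralizer ({tEl p} : Set G))) : Commute (tEl p) (g : G) :=
  (Subgroup.mem_centralizer_singleton_iff.1 g.2).symm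

/-- An element of the centraliser as a permutation of the lines. -/
noncomputable def sigmaFun (g : ↥(Subgroup.centralizer ({tEl p} : Set G))) : Equiv.Perm (Fin 126) :=
  ⟨lineImg P S g, lineImg P S (g : G)⁻¹,
    fun i => by rw [← lineImg_mul P S (commute_tEl P S g).inv_right (commute_tEl P S g), inv_mul_cancel,
      lineImg_one],
    fun i => by rw [← lineImg_mul P S (commute_tEl P S g) (commute_tEl P S g).inv_right, mul_inv_cancel,
      lineImg_one]⟩

theorem sigmaFun_apply (g : ↥(Subgroup.centralizer ({tEl p} : Set G))) (i : Fin 126) :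
    sigmaFun P S g i = lineImg P S g i := rfl

/-- The action of the centraliser on the lines. -/
noncomputable def sigma : ↥(Subgroup.centralizer ({tEl p} : Set G)) →* Equiv.Perm (Fin 126) :=
  MonoidHom.mk' (sigmaFun P S) fun g h => Equiv.ext fun i => by
    rw [Equiv.Perm.mul_apply, sigmaFun_apply, sigmaFun_apply, sigmaFun_apply, Subgroup.coe_mul,
      lineImg_mul P S (commute_tEl P S g) (commute_tEl P S h)]

theorem sigma_apply (g : ↥(Subgroup.centralizer ({tEl p} : Set G))) (i : Fin 126) :
    sigma P S g i = lineImg P S g i := rfl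

theorem sigma_mem (g : ↥(Subgroup.centralizer ({tEl p} : Set G))) {i : Fin 126} {x : G}
    (hx : x ∈ qset P S i) : (g : G) * x * (g : G)⁻¹ ∈ qset P S (sigma P S g i) :=
  conj_mem_qset P S (commute_tEl P S g) hx

theorem sigma_adj (g : ↥(Subgroup.centralizer ({tEl p} : Set G))) (i j : Fin 126) :
    adj (sigma P S g i) (sigma P S g j) = adj i j := by
  by_cases hij : i = j
  · subst hij
    have h0 : ∀ k, adj k k = false := by decide +kernel
    rw [h0, h0]
  · rw [Bool.eq_iff_iff, ← qset_commute P S ((sigma P S g).injective.ne hij)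
      (sigma_mem P S g (qset_spec P S i).2) (sigma_mem P S g (qset_spec P S j).2),
      ← qset_commute P S hij (qset_spec P S i).2 (qset_spec P S j).2]
    exact commute_conj_iff _ _ _

theorem exists_sigma_eq (g : CfsgLib.Quad.oGroup sixQ) :
    ∃ h : ↥(Subgroup.centralizer ({tEl p} : Set G)), sigma P S h = lineHom g ∧
      ∀ i, (h : G) * mem6 P S i * (h : G)⁻¹ = mem6 P S (lineHom g i) := by
  obtain ⟨h, h1, h2⟩ := exists_move P S g
  exact ⟨⟨h, Subgroup.mem_centralizer_singleton_iff.2 h1.eq.symm⟩, Equiv.ext fun i =>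
    lineImg_eq P S h1 (qset_spec P S i).2 (by rw [h2]; exact (qset_spec P S _).2), h2⟩

theorem range_sigma : (sigma P S).range = lineHom.range := by
  refine le_antisymm ?_ ?_
  · rintro _ ⟨g, rfl⟩
    exact mem_range_of_adj _ (sigma_adj P S g)
  · rintro _ ⟨g, rfl⟩
    obtain ⟨h, hh, -⟩ := exists_sigma_eq P S g
    exact ⟨h, hh⟩

theorem mem_cent_of_qset {v : G} {j : Fin 126} (hv : v ∈ qset P S j) :
    v ∈ Subgroup.centralizer ({tEl p} : Set G) :=
  Subgroup.mem_centralizer_singleton_iff.2 ((qset_spec P S j).1.mem hv).2.eq.symm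

/-- A member acts on the lines as its reflection. -/
theorem sigma_member {v : G} {j : Fin 126} (hv : v ∈ qset P S j) :
    sigma P S ⟨v, mem_cent_of_qset P S hv⟩ = lineHom (CfsgLib.Quad.refl sixQ (vec j)) := by
  have hvD := (qset_spec P S j).1.mem hv
  set s := sigma P S ⟨v, mem_cent_of_qset P S hv⟩
  have hnear : ∀ i, i = j ∨ adj j i = true → s i = i := by
    intro i hi
    refine lineImg_eq P S hvD.2 (qset_spec P S i).2 ?_
    have hc : Commute v (mem6 P S i) := by
      by_cases e : j = i
      · exact (qset_spec P S j).1.commute hv (e ▸ (qset_spec P S i).2)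
      · exact (qset_commute P S e hv (qset_spec P S i).2).2 (hi.resolve_left (Ne.symm e))
    rw [hc.eq, mul_inv_cancel_right]
    exact (qset_spec P S i).2
  have hfar : ∀ i, i ≠ j → adj j i = false → s i ≠ i := by
    intro i hij hadj e
    have hm := sigma_mem P S ⟨v, mem_cent_of_qset P S hv⟩ (qset_spec P S i).2
    rw [show sigma P S _ i = i from e] at hm
    have hT := P.base.tt
    have hn : ¬ Commute v (mem6 P S i) := fun h => by
      rw [(qset_commute P S (Ne.symm hij) hv (qset_spec P S i).2).1 h] at hadj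
      exact Bool.false_ne_true hadj.symm
    change v * mem6 P S i * v⁻¹ ∈ _ at hm
    rw [hT.inv hvD.1, braid0 hT hvD.1 (mem6_spec P S i).1.1 hn] at hm
    have hc := (commute_conj_iff (mem6 P S i) _ _).2 ((qset_spec P S i).1.commute hm (qset_spec P S i).2)
    have hu := (mem6_spec P S i).1.1
    rw [hT.inv hu, show mem6 P S i * (mem6 P S i * v * mem6 P S i) * mem6 P S i =
      (mem6 P S i * mem6 P S i) * v * (mem6 P S i * mem6 P S i) by group, hT.sq _ hu, one_mul, mul_one,
      one_mul] at hc
    exact hn hc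
  have hadjs : ∀ a b, adj (s a) (s b) = adj a b := sigma_adj P S _
  have hsymm : ∀ a b, adj a b = adj b a := fun a b => by
    rw [Bool.eq_iff_iff, adj_iff, adj_iff, dotProduct_comm]
  obtain ⟨g, hg⟩ := line_trans j
  set f := (lineHom g)⁻¹ * s * lineHom g
  have hf : ∀ a b, adj (f a) (f b) = adj a b := fun a b => by
    simp only [f, Equiv.Perm.mul_apply, ← map_inv, lineHom_adj, hadjs]
  have hf0 : ∀ i, i = 0 ∨ adj 0 i = true → f i = i := fun i hi => by
    have : s (lineHom g i) = lineHom g i := hnear _ (hi.imp (fun e => by rw [e, hg]) fun e => by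
      rw [← hg, lineHom_adj, e])
    simp [f, this]
  have hf1 : ∀ i, i ≠ 0 → adj 0 i = false → f i ≠ i := fun i h1 h2 e => by
    refine hfar (lineHom g i) (fun q => h1 ((lineHom g).injective (q.trans hg.symm))) (by rw [← hg, lineHom_adj, h2])
      (?_ : s (lineHom g i) = lineHom g i)
    have := congrArg (lineHom g) e
    simpa [f] using this
  have hfix : ∀ i, f i = lineHom (CfsgLib.Quad.refl sixQ (vec 0)) i := by
    intro i
    by_cases hi : i = 0
    · subst hi; rw [hf0 0 (Or.inl rfl), refl_self_line]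
    cases hadj : adj 0 i with
    | true => rw [hf0 i (Or.inr hadj), refl_fix_line ((adj_iff 0 i).1 hadj)]
    | false =>
      have h0 : adj 0 (f i) = false := by
        have := hf 0 i
        rwa [hf0 0 (Or.inl rfl), hadj] at this
      have hne : f i ≠ 0 := fun e => hi (f.injective (e.trans (hf0 0 (Or.inl rfl)).symm))
      rcases same_near i (f i) hadj h0 hi hne (Nat.eq_of_testBit_eq fun m => by
        rw [Nat.testBit_and, Nat.testBit_and]
        cases hm : (maskL.getD 0 0).testBit m with
        | false => rw [Bool.and_false, Bool.and_false]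
        | true =>
          by_cases hm' : m < 126
          · have h := hf i ⟨m, hm'⟩
            rw [hf0 ⟨m, hm'⟩ (Or.inr hm)] at h
            simp only [Bool.and_true]
            exact h.symm
          · have hb : ∀ x < 2 ^ 126, x.testBit m = false := fun x hx =>
              Nat.testBit_lt_two_pow (lt_of_lt_of_le hx (Nat.pow_le_pow_right (by norm_num) (by omega)))
            rw [hb _ (mask_small _), hb _ (mask_small _)]) with e | e
      · exact absurd e (hf1 i hi hadj)
      · rw [e, lineHom_apply, rf_eq]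
  have hs : s = lineHom g * lineHom (CfsgLib.Quad.refl sixQ (vec 0)) * (lineHom g)⁻¹ := by
    rw [← Equiv.ext hfix]
    simp only [f]
    group
  rw [hs, ← map_inv, ← map_mul, ← map_mul, CfsgLib.Quad.refl_conj]
  refine Equiv.ext fun i => ?_
  simp only [lineHom_apply, rf_eq]
  congr 1
  have hj : g.1 (vec 0) = vec j ∨ g.1 (vec 0) = -vec j := by
    rcases vec_lineMap g 0 with e | e <;> rw [show lineMap g 0 = j from hg] at e
    · exact Or.inl e.symm
    · exact Or.inr (by rw [e, neg_neg])
  rcases hj with e | e <;> rw [e]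
  simp [rf]

theorem card_range_sigma : Nat.card ↥((sigma P S).range) = 13063680 := by
  rw [range_sigma, card_range_lineHom]

end CfsgLib.ThreeT.Prod
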