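import Cfsg.Agent.Spor3T.QuadLines
import Cfsg.Agent.Spor3T.M24SevenMain

/-!
Type M(24): the product of the six first members of a hexad is a product of four commuting members, and the
members acting on the space of order `3^7` as reflections of the six dimensional part that commute with it.
-/

set_option autoImplicit false
set_option linter.style.haveILetI false
set_option linter.unusedSectionVars false
set_option linter.unusedVariables false

namespace CfsgLib.ThreeT.Prod

open CfsgLib.SevenSq CfsgLib.SixSq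
open scoped Matrix

local instance : Fact (Nat.Prime 3) := ⟨Nat.prime_three⟩

variable {G : Type*} [Group G] [Finite G] {D : Set G}

/-- Four commuting members with product `t`. -/
structure Quad (D : Set G) (t a b c e : G) : Prop where
  ha : a ∈ D
  hb : b ∈ D
  hc : c ∈ D
  he : e ∈ D
  ab : Commute a b
  ac : Commute a c
  ae : Commute a e
  bc : Commute b c
  be : Commute b e
  ce : Commute c e
  nab : a ≠ b
  nac : a ≠ c
  nae : a ≠ e
  nbc : b ≠ c
  nbe : b ≠ e
  nce : c ≠ e
  prod : a * b * c * e = t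

theorem Quad.swap12 {t a b c e : G} (h : Quad D t a b c e) : Quad D t b a c e :=
  ⟨h.hb, h.ha, h.hc, h.he, h.ab.symm, h.bc, h.be, h.ac, h.ae, h.ce, h.nab.symm, h.nbc, h.nbe, h.nac, h.nae,
    h.nce, by rw [h.ab.symm.eq]; exact h.prod⟩

theorem Quad.swap23 {t a b c e : G} (h : Quad D t a b c e) : Quad D t a c b e :=
  ⟨h.ha, h.hc, h.hb, h.he, h.ac, h.ab, h.ae, h.bc.symm, h.ce, h.be, h.nac, h.nab, h.nae, h.nbc.symm, h.nce,
    h.nbe, by rw [mul_assoc a c b, h.bc.symm.eq, ← mul_assoc]; exact h.prod⟩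

theorem Quad.swap34 {t a b c e : G} (h : Quad D t a b c e) : Quad D t a b e c :=
  ⟨h.ha, h.hb, h.he, h.hc, h.ab, h.ae, h.ac, h.be, h.bc, h.ce.symm, h.nab, h.nae, h.nac, h.nbe, h.nbc,
    h.nce.symm, by rw [mul_assoc (a * b) e c, h.ce.symm.eq, ← mul_assoc]; exact h.prod⟩

theorem Quad.facs {t a b c e : G} (h : Quad D t a b c e) : Facs D 4 t := by
  refine ⟨[a, b, c, e], ?_, rfl, ?_, ?_, ?_⟩
  · simp [h.nab, h.nac, h.nae, h.nbc, h.nbe, h.nce]
  · simpa using ⟨h.ha, h.hb, h.hc, h.he⟩
  · simp only [List.mem_cons, List.not_mem_nil, or_false, forall_eq_or_imp, forall_eq]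
    exact ⟨⟨Commute.refl _, h.ab, h.ac, h.ae⟩, ⟨h.ab.symm, Commute.refl _, h.bc, h.be⟩,
      ⟨h.ac.symm, h.bc.symm, Commute.refl _, h.ce⟩, h.ae.symm, h.be.symm, h.ce.symm, Commute.refl _⟩
  · rw [← h.prod]; simp [mul_assoc]

theorem Quad.commute_t {t a b c e : G} (h : Quad D t a b c e) : Commute t a := by
  rw [← h.prod]
  exact (((Commute.refl a).mul_left h.ab.symm).mul_left h.ac.symm).mul_left h.ae.symm

/-! ### Vectors -/

/-- The six dimensional part. -/
def emb (x : V6) : V7 := Fin.snoc x 0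

/-- The last unit vector. -/
def eLast : V7 := Pi.single (Fin.last 6) 1

/-- Minus one on the six dimensional part. -/
def epsV (x : V7) : V7 := fun i => if i = Fin.last 6 then x i else -x i

theorem sgn7_low : ∀ i : Fin 6, sgn7 i.castSucc = 1 := by decide

theorem emb_cast (x : V6) (i : Fin 6) : emb x i.castSucc = x i := Fin.snoc_castSucc _ _ _

theorem emb_last (x : V6) : emb x (Fin.last 6) = 0 := Fin.snoc_last _ _

theorem castSucc_ne_six (i : Fin 6) : i.castSucc ≠ Fin.last 6 := Fin.castSucc_ne_last i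

theorem bil7_emb (x y : V6) : bil7 (emb x) (emb y) = x ⬝ᵥ y := by
  simp only [bil7, Fin.sum_univ_castSucc, sgn7_low, emb_cast, emb_last, one_mul, mul_zero, add_zero,
    dotProduct]

theorem emb_rf {v c : V6} : emb (rf v c) = emb c + ((v ⬝ᵥ v) * (c ⬝ᵥ v)) • emb v := by
  funext i
  induction i using Fin.lastCases with
  | last => simp only [Pi.add_apply, Pi.smul_apply, emb_last, smul_zero, add_zero]
  | cast i => simp only [rf, Pi.add_apply, Pi.smul_apply, emb_cast]

theorem emb_neg (x : V6) : emb (-x) = -emb x := by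
  funext i
  induction i using Fin.lastCases with
  | last => simp only [Pi.neg_apply, emb_last, neg_zero]
  | cast i => simp only [Pi.neg_apply, emb_cast]

theorem emb_injective : Function.Injective emb := fun x y h => by
  funext i
  have := congrFun h i.castSucc
  simpa only [emb_cast] using this

theorem emb_single (i : Fin 6) : emb (Pi.single i 1) = Pi.single i.castSucc 1 := by
  funext j
  induction j using Fin.lastCases with
  | last => rw [emb_last, Pi.single_eq_of_ne (castSucc_ne_six i).symm]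
  | cast j =>
    by_cases h : j = i
    · subst h; rw [emb_cast, Pi.single_eq_same, Pi.single_eq_same]
    · rw [emb_cast, Pi.single_eq_of_ne h, Pi.single_eq_of_ne fun e => h (Fin.castSucc_injective _ e)]

theorem epsV_add (x y : V7) : epsV (x + y) = epsV x + epsV y := by
  funext i; simp only [epsV, Pi.add_apply]; split <;> abel

theorem epsV_smul (a : ZMod 3) (x : V7) : epsV (a • x) = a • epsV x := by
  funext i; simp only [epsV, Pi.smul_apply, smul_eq_mul]; split <;> simp

theorem epsV_emb (c : V6) : epsV (emb c) = -emb c := by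
  funext i
  induction i using Fin.lastCases with
  | last => simp only [epsV, if_true, Pi.neg_apply, emb_last, neg_zero]
  | cast i => simp only [epsV, if_neg (castSucc_ne_six i), Pi.neg_apply]

theorem epsV_epsV (x : V7) : epsV (epsV x) = x := by
  funext i; simp only [epsV]; split <;> simp

theorem bil7_epsV (x y : V7) : bil7 (epsV x) (epsV y) = bil7 x y := by
  refine Finset.sum_congr rfl fun i _ => ?_
  simp only [epsV]; split <;> ring

theorem refH_epsV (c : V6) (x : V7) : refH (emb c) (epsV x) = epsV (refH (emb c) x) := by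
  have h : bil7 (epsV x) (emb c) = -bil7 x (emb c) := by
    conv_lhs => rw [show emb c = epsV (-emb c) by
      rw [← neg_one_smul (ZMod 3) (emb c), epsV_smul, epsV_emb, neg_one_smul, neg_neg]]
    rw [bil7_epsV, ← neg_one_smul (ZMod 3) (emb c), bil7_smul_right, neg_one_mul]
  rw [refH_apply, refH_apply, epsV_add, epsV_smul, epsV_emb, h, neg_smul, smul_neg]

theorem double_eq (a : V7) : a + a = -a := by
  have key : ∀ t : ZMod 3, t + t = -t := by decide
  funext i; exact key _

theorem eps_fold : ∀ x : V7, (List.ofFn fun i : Fin 6 => i).foldr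
    (fun i y => refH (Pi.single i.castSucc 1) y) x = epsV x := by
  decide +kernel

theorem frame_rel : ∀ i : Fin 7, foldR [ev (up 0), ev (up 1), ev (up 2), ev (up 3)] (Pi.single i 1) =
    (-1 : ZMod 3) • foldR [ev 4, ev 5, ev 6] (Pi.single i 1) := by
  decide +kernel

/-- The product of the six first members. -/
def tEl (p : Fin 6 → G) : G := (List.ofFn p).prod

variable {d : G} (P : Point24 D d) {p q : Fin 6 → G} {w : G} (S : Space7 D p q w)

include P S

theorem exists_quad0 : ∃ a b c, Quad D (tEl p) (p 4) a b c ∧ a ≠ p 5 ∧ b ≠ p 5 ∧ c ≠ p 5 := by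
  have hT := P.base.tt
  obtain ⟨φ, F, hφ⟩ := hexad_frame P S.hex
  have hn : ∀ i : Fin 7, ev i ⬝ᵥ ev i = 1 := ev_norm
  have h1 := F.rel_odd [ev (up 0), ev (up 1), ev (up 2), ev (up 3)] [ev 4, ev 5, ev 6]
    (by simp [hn]) (by simp [hn]) (by decide) ⟨-1, Or.inr rfl, foldR_ext _ frame_rel⟩
  simp only [List.map_cons, List.map_nil, List.prod_cons, List.prod_nil, mul_one, (hφ _).1] at h1
  have hmem : ∀ i : Fin 7, φ (ev i) ∈ tri D (p 4) (q 4) ∧ φ (ev i) ∈ nb D (p 5) := fun i => F.mem _ (hn i)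
  have hne : ∀ i j : Fin 7, i ≠ j → ev i ≠ ev j ∧ ev i ≠ -ev j := by decide +kernel
  have hco : ∀ i j : Fin 7, i ≠ j → Commute (φ (ev i)) (φ (ev j)) ∧ φ (ev i) ≠ φ (ev j) := fun i j hij =>
    ⟨(F.comm _ _ (hn i) (hn j) (hne i j hij).1 (hne i j hij).2).2 (by rw [ev_dot, if_neg hij]), fun e =>
      (F.inj _ _ (hn i) (hn j) e).elim (hne i j hij).1 (hne i j hij).2⟩
  refine ⟨φ (ev 4), φ (ev 5), φ (ev 6), ?_, (hmem 4).2.2.1, (hmem 5).2.2.1, (hmem 6).2.2.1⟩
  refine ⟨S.hex.mp 4, (hmem 4).2.1, (hmem 5).2.1, (hmem 6).2.1, (hmem 4).1.1.2.2, (hmem 5).1.1.2.2,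
    (hmem 6).1.1.2.2, (hco 4 5 (by decide)).1, (hco 4 6 (by decide)).1, (hco 5 6 (by decide)).1,
    (hmem 4).1.1.2.1.symm, (hmem 5).1.1.2.1.symm, (hmem 6).1.1.2.1.symm, (hco 4 5 (by decide)).2,
    (hco 4 6 (by decide)).2, (hco 5 6 (by decide)).2, ?_⟩
  set X := φ (ev 4) * (φ (ev 5) * φ (ev 6))
  have c5 : Commute (p 5) X := (hmem 4).2.2.2.mul_right ((hmem 5).2.2.2.mul_right (hmem 6).2.2.2)
  have c4 : Commute (p 4) X := (hmem 4).1.1.2.2.mul_right ((hmem 5).1.1.2.2.mul_right (hmem 6).1.1.2.2)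
  have c45 : Commute (p 4) (p 5) := S.hex.pp 4 5 (by decide)
  have e : tEl p = p 5 * X * (p 4 * p 5) := by
    rw [← h1]
    simp [tEl, List.ofFn_succ, low, mul_assoc]
  rw [e, c45.eq, ← mul_assoc, mul_assoc (p 5), ← c5.eq, ← mul_assoc, hT.sq _ (S.hex.mp 5), one_mul, ← c4.eq]
  simp [X, mul_assoc]

theorem tEl_facs : Facs D 4 (tEl p) := by
  obtain ⟨a, b, c, h, -⟩ := exists_quad0 P S
  exact h.facs

theorem tEl_sq : tEl p * tEl p = 1 := facs_sq P.base.tt (tEl_facs P S)

theorem tEl_inv : (tEl p)⁻¹ = tEl p := inv_eq_of_mul_eq_one_right (tEl_sq P S)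

omit P in
theorem tEl_act (x : V7) : tEl p * S.elt x * (tEl p)⁻¹ = S.elt (epsV x) := by
  have key : ∀ l : List (Fin 6), (l.map p).prod * S.elt x * ((l.map p).prod)⁻¹ =
      S.elt (l.foldr (fun i y => refH (Pi.single i.castSucc 1) y) x) := by
    intro l
    induction l with
    | nil => simp
    | cons i l ih =>
      rw [List.map_cons, List.prod_cons, List.foldr_cons, ← S.side_action i (Or.inl rfl), ← ih]
      group
  rw [← eps_fold, ← key, tEl, List.map_ofFn]
  rfl

omit P in
theorem tEl_act' (x : V7) : tEl p * S.elt x = S.elt (epsV x) * tEl p :=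
  mul_inv_eq_iff_eq_mul.1 (tEl_act S x)

omit P in
theorem conj_elt_of_refMem {u : G} {c : V7} (h : RefMem S u c) (x : V7) : u * S.elt x = S.elt (refH c x) * u :=
  mul_inv_eq_iff_eq_mul.1 (h.2.2 x)

omit P in
/-- The vector of a member acting as a reflection. -/
theorem refMem_vec {u : G} {c c' : V7} (h : RefMem S u c) (h' : RefMem S u c') : c' = c ∨ c' = -c := by
  have e := S.elt_injective ((h.2.2 c').symm.trans (h'.2.2 c'))
  rw [refH_apply, refH_apply, h'.2.1, one_smul, double_eq] at e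
  have hc' : c' = bil7 c' c • c := by
    have e2 : bil7 c' c • c = -c' + -c' := by
      calc bil7 c' c • c = (c' + bil7 c' c • c) + -c' := by abel
        _ = _ := by rw [e]
    rw [double_eq (-c'), neg_neg] at e2
    exact e2.symm
  rcases eq_or_ne (bil7 c' c) 0 with q | q
  · exfalso
    rw [q, zero_smul] at hc'
    have := h'.2.1
    rw [hc'] at this
    exact zero_ne_one (α := ZMod 3) (by simpa [bil7] using this)
  · rcases (show ∀ a : ZMod 3, a ≠ 0 → a = 1 ∨ a = -1 by decide) _ q with q' | q'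
    · exact Or.inl (by rw [q', one_smul] at hc'; exact hc')
    · exact Or.inr (by rw [q', neg_one_smul] at hc'; exact hc')

/-- Two members acting alike differ by an element of the space. -/
theorem refMem_ratio {u u' : G} {c : V7} (h : RefMem S u c) (h' : RefMem S u' c) :
    ∃ a, u' = u * S.elt a ∧ refH c a = -a := by
  have hu := S.tt.sq u h.1
  obtain ⟨a, ha⟩ := S.mem_space.1 (mem_space_of_commute P S (g := u * u') fun i => by
    have e1 := conj_elt_of_refMem S h
    have e2 := conj_elt_of_refMem S h'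
    rw [← gen7_low p q w, ← S.elt_unit]
    show _ = _
    rw [mul_assoc, e2, ← mul_assoc, e1, mul_assoc, refH_refH h.2.1])
  have hu' : u' = u * S.elt a := by rw [ha, ← mul_assoc, hu, one_mul]
  refine ⟨a, hu', S.elt_injective ?_⟩
  rw [← h.2.2, S.elt_neg, ha, S.tt.inv h.1, mul_inv_rev, S.tt.inv h'.1, S.tt.inv h.1, ← mul_assoc, hu, one_mul]

theorem refMem_unique {u u' : G} {c : V6} (h : RefMem S u (emb c)) (h' : RefMem S u' (emb c))
    (ht : Commute (tEl p) u) (ht' : Commute (tEl p) u') : u = u' := by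
  obtain ⟨a, rfl, ha⟩ := refMem_ratio P S h h'
  have hta : Commute (tEl p) (S.elt a) := by
    have := ht.inv_right.mul_right ht'
    rwa [inv_mul_cancel_left] at this
  have heps : epsV a = a := S.elt_injective (mul_right_cancel ((tEl_act' S a).symm.trans hta.eq))
  have hb : bil7 a (emb c) = 0 := by
    refine Finset.sum_eq_zero fun i _ => ?_
    induction i using Fin.lastCases with
    | last => rw [emb_last, mul_zero]
    | cast i =>
      have := congrFun heps i.castSucc
      simp only [epsV, if_neg (castSucc_ne_six i)] at this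
      rw [(show ∀ t : ZMod 3, -t = t → t = 0 by decide) _ this]
      ring
  rw [refH_apply, hb, zero_smul, add_zero] at ha
  have : a = 0 := funext fun i => (show ∀ t : ZMod 3, t = -t → t = 0 by decide) _ (congrFun ha i)
  rw [this, S.elt_zero, mul_one]

theorem exists_refMem_fixed {c : V6} (hc : c ⬝ᵥ c = 1) :
    ∃ u, RefMem S u (emb c) ∧ Commute (tEl p) u := by
  obtain ⟨u, hu⟩ := refMem_all P S (emb c) (by rw [bil7_emb, hc])
  set t := tEl p
  have ht2 := tEl_sq P S
  have htinv := tEl_inv P S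
  have hu' : RefMem S (t * u * t⁻¹) (emb c) := ⟨S.tt.conj t u hu.1, hu.2.1, fun x => by
    have hx : t⁻¹ * S.elt x * t = S.elt (epsV x) := by
      have := tEl_act S x
      rwa [htinv] at this ⊢
    rw [show t * u * t⁻¹ * S.elt x * (t * u * t⁻¹)⁻¹ = t * (u * (t⁻¹ * S.elt x * t) * u⁻¹) * t⁻¹ by group, hx,
      hu.2.2, tEl_act S, refH_epsV, epsV_epsV]⟩
  obtain ⟨a, ha, hfl⟩ := refMem_ratio P S hu hu'
  obtain ⟨k, hk⟩ : ∃ k : ZMod 3, a = k • emb c := by
    refine ⟨bil7 a (emb c), ?_⟩
    rw [refH_apply] at hfl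
    have e : bil7 a (emb c) • emb c = -a + -a := by
      calc bil7 a (emb c) • emb c = (a + bil7 a (emb c) • emb c) + -a := by abel
        _ = _ := by rw [hfl]
    rw [double_eq (-a), neg_neg] at e
    exact e.symm
  set g := S.elt (-k • emb c)
  have hg : ∀ x, g * S.elt x * g⁻¹ = S.elt x := fun x => by rw [(S.elt_commute _ x).eq, mul_inv_cancel_right]
  have hg' : ∀ x, g⁻¹ * S.elt x * g = S.elt x := fun x => by
    rw [mul_assoc, ← (S.elt_commute _ x).eq, inv_mul_cancel_left]
  refine ⟨g * u * g⁻¹, ⟨S.tt.conj g u hu.1, hu.2.1, fun x => ?_⟩, ?_⟩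
  · rw [show g * u * g⁻¹ * S.elt x * (g * u * g⁻¹)⁻¹ = g * (u * (g⁻¹ * S.elt x * g) * u⁻¹) * g⁻¹ by group, hg',
      hu.2.2, hg]
  · have hform : g * u * g⁻¹ = u * S.elt (-k • emb c) := by
      have hf : ∀ m : ZMod 3, refH (emb c) (m • emb c) = -(m • emb c) := fun m => by
        rw [map_smul, refH_apply, hu.2.1, one_smul, double_eq, smul_neg]
      have e1 := conj_elt_of_refMem S hu (-(-k • emb c))
      have e2 : refH (emb c) (-(-k • emb c)) = -k • emb c := by rw [map_neg, hf, neg_neg]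
      rw [e2] at e1
      rw [show g * u = u * S.elt (-(-k • emb c)) from e1.symm, mul_assoc, ← S.elt_neg, ← S.elt_add]
      congr 1
      rw [double_eq, neg_neg]
    refine Commute.symm (commute_iff_eq _ _ |>.2 ?_)
    rw [hform]
    refine (mul_inv_eq_iff_eq_mul.1 ?_).symm
    rw [show t * (u * S.elt (-k • emb c)) * t⁻¹ = t * u * t⁻¹ * (t * S.elt (-k • emb c) * t⁻¹) by group, ha,
      tEl_act S, mul_assoc, ← S.elt_add, hk, epsV_smul, epsV_emb]
    congr 2
    rw [neg_smul, smul_neg, neg_neg, double_eq, neg_smul]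

/-- The member of a line. -/
noncomputable def mem6 (i : Fin 126) : G := (exists_refMem_fixed P S (vec_norm i)).choose

theorem mem6_spec (i : Fin 126) : RefMem S (mem6 P S i) (emb (vec i)) ∧ Commute (tEl p) (mem6 P S i) :=
  (exists_refMem_fixed P S (vec_norm i)).choose_spec

theorem mem6_eq {u : G} {c : V6} (h : RefMem S u (emb c)) (ht : Commute (tEl p) u) :
    u = mem6 P S (idx c) := by
  have hc : c ⬝ᵥ c = 1 := by rw [← bil7_emb]; exact h.2.1
  obtain ⟨h1, h2⟩ := mem6_spec P S (idx c)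
  rcases vec_idx c hc with e | e <;> rw [e] at h1
  · exact refMem_unique P S h h1 ht h2
  · rw [emb_neg] at h1
    have := S.refMem_neg h1
    rw [neg_neg] at this
    exact refMem_unique P S h this ht h2

theorem mem6_injective : Function.Injective (mem6 P S) := by
  intro i j e
  have h1 := (mem6_spec P S i).1
  rw [e] at h1
  rcases refMem_vec S (mem6_spec P S j).1 h1 with q | q
  · rw [← (idx_vec i).1, emb_injective q, (idx_vec j).1]
  · rw [← emb_neg] at q
    rw [← (idx_vec i).1, emb_injective q, (idx_vec j).2]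

theorem side_eq_mem6 (i : Fin 6) : p i = mem6 P S (idx (Pi.single i 1)) := by
  refine mem6_eq P S (by rw [emb_single]; exact (S.refMem_side i).1) ?_
  refine Commute.list_prod_left _ _ fun y hy => ?_
  obtain ⟨j, rfl⟩ := List.mem_ofFn.1 hy
  by_cases h : j = i
  · subst h; exact Commute.refl _
  · exact S.hex.pp j i h

/-! ### Moving the members -/

theorem mem6_conj_mem (j i : Fin 126) :
    mem6 P S j * mem6 P S i * (mem6 P S j)⁻¹ = mem6 P S (idx (rf (vec j) (vec i))) := by
  obtain ⟨hj, tj⟩ := mem6_spec P S j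
  obtain ⟨hi, ti⟩ := mem6_spec P S i
  rw [S.tt.inv hj.1]
  refine mem6_eq P S ?_ ((tj.mul_right ti).mul_right tj)
  have := S.refMem_conj hj hi
  rwa [refH_apply, bil7_emb, show emb (vec i) + (vec i ⬝ᵥ vec j) • emb (vec j) = emb (rf (vec j) (vec i)) by
    rw [emb_rf, vec_norm, one_mul]] at this

theorem exists_line_move (v : V6) : ∃ h : G, Commute (tEl p) h ∧
    ∀ i, h * mem6 P S i * h⁻¹ = mem6 P S (idx (rf v (vec i))) := by
  classical
  rcases (show ∀ a : ZMod 3, a = 0 ∨ a = 1 ∨ a = -1 by decide) (v ⬝ᵥ v) with h0 | h1 | h2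
  · refine ⟨1, Commute.one_right _, fun i => ?_⟩
    rw [one_mul, inv_one, mul_one, rf, h0, zero_mul, zero_smul, add_zero, (idx_vec i).1]
  · refine ⟨mem6 P S (idx v), (mem6_spec P S _).2, fun i => ?_⟩
    rw [mem6_conj_mem]
    congr 2
    rcases vec_idx v h1 with e | e <;> rw [e]
    simp [rf]
  set N := Subgroup.normalizer (S.space : Set G)
  obtain ⟨g, hg⟩ : CfsgLib.Quad.refl sevenQ (emb v) * CfsgLib.Quad.refl sevenQ eLast ∈ (actHom P S).range := by
    rw [range_actHom]
    refine (Subgroup.mul_mem_iff_of_index_two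
      (CfsgLib.ReflThree.index_closure sevenQ_nondeg (by norm_num) one_ne_zero)).2 ?_
    have hcl := CfsgLib.ReflThree.normal_closure_rset (Q := sevenQ) (1 : ZMod 3)
    have hv : sevenQ (emb v) = -1 := by rw [sevenQ_apply, bil7_emb, h2]
    have he : sevenQ eLast = -1 := by rw [sevenQ_apply]; decide
    obtain ⟨k, -, hk⟩ := CfsgLib.ReflThree.conj_within sevenQ_nondeg (by norm_num)
      (neg_ne_zero.2 one_ne_zero) hv he
    rw [← hk]
    exact ⟨fun h => hcl.conj_mem _ h k, fun h => by
      have := hcl.conj_mem _ h k⁻¹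
      rwa [show k⁻¹ * (k * CfsgLib.Quad.refl sevenQ (emb v) * k⁻¹) * k⁻¹⁻¹ =
        CfsgLib.Quad.refl sevenQ (emb v) by group] at this⟩
  set M : V7 → V7 := actFun S g
  have hM : ∀ x, M x = (CfsgLib.Quad.refl sevenQ (emb v)).1 ((CfsgLib.Quad.refl sevenQ eLast).1 x) := fun x => by
    show actFun S g x = _
    rw [← actHom_apply P S g x, hg]; rfl
  have heps : ∀ x, M (epsV x) = epsV (M x) := by
    have hv2 : sevenQ (emb v) = -1 := by rw [sevenQ_apply, bil7_emb, h2]
    have he2 : sevenQ eLast = -1 := by rw [sevenQ_apply]; decide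
    have hl : epsV eLast = eLast := by decide
    intro x
    have p1 : bil7 (epsV x) eLast = bil7 x eLast := by conv_lhs => rw [← hl, bil7_epsV]
    have p2 : ∀ y, bil7 (epsV y) (emb v) = -bil7 y (emb v) := fun y => by
      conv_lhs => rw [show emb v = epsV (-emb v) by
        rw [← neg_one_smul (ZMod 3) (emb v), epsV_smul, epsV_emb, neg_one_smul, neg_neg]]
      rw [bil7_epsV, ← neg_one_smul (ZMod 3) (emb v), bil7_smul_right, neg_one_mul]
    have q1 : (CfsgLib.Quad.refl sevenQ eLast).1 (epsV x) = epsV ((CfsgLib.Quad.refl sevenQ eLast).1 x) := by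
      simp only [CfsgLib.Quad.refl_apply, sevenQ_polar, epsV_add, epsV_smul, hl, p1]
    rw [hM, hM, q1]
    simp only [CfsgLib.Quad.refl_apply (emb v), sevenQ_polar, epsV_add, epsV_smul, epsV_emb, p2]
    rw [mul_neg, mul_neg, neg_smul, smul_neg]
  set t := tEl p
  have htN : t ∈ N := S.mem_normalizer (fun x => ⟨_, tEl_act S x⟩) fun x => ⟨epsV x, by
    have := tEl_act S x
    rw [tEl_inv P S] at this ⊢
    simpa using this⟩
  have hgact : ∀ x, (g : G) * S.elt x * (g : G)⁻¹ = S.elt (M x) := actFun_spec S g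
  obtain ⟨a, ha⟩ := S.mem_space.1 (mem_space_of_commute P S (g := (g : G)⁻¹ * (t * g * t⁻¹)) fun i => by
    rw [← gen7_low p q w, ← S.elt_unit]
    set x : V7 := Pi.single i.castSucc 1
    refine mul_inv_eq_iff_eq_mul.1 ?_
    have e1 : t⁻¹ * S.elt x * t = S.elt (epsV x) := by
      have := tEl_act S x
      rwa [tEl_inv P S] at this ⊢
    rw [show (g : G)⁻¹ * (t * g * t⁻¹) * S.elt x * ((g : G)⁻¹ * (t * g * t⁻¹))⁻¹ =
      (g : G)⁻¹ * (t * (g * (t⁻¹ * S.elt x * t) * (g : G)⁻¹) * t⁻¹) * g by group, e1, hgact, tEl_act S, heps,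
      epsV_epsV, ← hgact]
    group)
  have hta : t * g * t⁻¹ = g * S.elt a := by rw [ha]; group
  have hanti : epsV a = -a := by
    have h3 : t * (g * S.elt a) * t⁻¹ = g := by
      rw [← hta, tEl_inv P S, show t * (t * (g : G) * t) * t = (t * t) * g * (t * t) by group, tEl_sq P S,
        one_mul, mul_one]
    rw [show t * ((g : G) * S.elt a) * t⁻¹ = t * g * t⁻¹ * (t * S.elt a * t⁻¹) by group, hta, tEl_act S,
      mul_assoc, mul_eq_left, ← S.elt_add, ← S.elt_zero] at h3
    exact eq_neg_of_add_eq_zero_right (S.elt_injective h3)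
  set h : ↥N := g * ⟨S.elt (-a), Subgroup.le_normalizer (S.elt_mem _)⟩
  have hact : ∀ x, (h : G) * S.elt x * (h : G)⁻¹ = S.elt (M x) := fun x => by
    rw [← hgact]
    simp only [h, Subgroup.coe_mul]
    rw [show (g : G) * S.elt (-a) * S.elt x * ((g : G) * S.elt (-a))⁻¹ =
      g * (S.elt (-a) * S.elt x * (S.elt (-a))⁻¹) * (g : G)⁻¹ by group, (S.elt_commute _ x).eq,
      mul_inv_cancel_right]
  have hth : Commute t (h : G) := mul_inv_eq_iff_eq_mul.1 (by
    simp only [h, Subgroup.coe_mul]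
    rw [show t * ((g : G) * S.elt (-a)) * t⁻¹ = t * g * t⁻¹ * (t * S.elt (-a) * t⁻¹) by group, hta, tEl_act S,
      mul_assoc, ← S.elt_add]
    congr 2
    rw [show epsV (-a) = a by rw [← neg_one_smul (ZMod 3) a, epsV_smul, hanti, neg_one_smul, neg_neg], double_eq])
  refine ⟨h, hth, fun i => ?_⟩
  obtain ⟨hi, ti⟩ := mem6_spec P S i
  have hfun : ∀ x, actFun S h x = M x := fun x => S.elt_injective (by rw [← actFun_spec, hact])
  refine mem6_eq P S ?_ ((hth.mul_right ti).mul_right hth.inv_right)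
  have hval : M (emb (vec i)) = emb (rf v (vec i)) := by
    have e0 : bil7 (emb (vec i)) eLast = 0 := by
      rw [bil7_comm, eLast, bil7_single, emb_last, mul_zero]
    rw [hM, CfsgLib.Quad.refl_fix (show QuadraticMap.polar (⇑sevenQ) (emb (vec i)) eLast = 0 by
      rw [sevenQ_polar, e0, mul_zero]), CfsgLib.Quad.refl_apply, sevenQ_apply, sevenQ_polar, bil7_emb, bil7_emb,
      h2, emb_rf, h2]
    congr 2
    rw [CfsgLib.ReflThree.self_inv]
    linear_combination (vec i ⬝ᵥ v) * CfsgLib.SixSq.three_zero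
  refine ⟨S.tt.conj _ _ hi.1, by rw [bil7_emb, ← rf_eq, dot_apply, vec_norm], fun x => ?_⟩
  have hy : (h : G)⁻¹ * S.elt x * h = S.elt (actFun S h⁻¹ x) := by rw [← actFun_spec]; simp
  rw [show (h : G) * mem6 P S i * (h : G)⁻¹ * S.elt x * ((h : G) * mem6 P S i * (h : G)⁻¹)⁻¹ =
    h * (mem6 P S i * ((h : G)⁻¹ * S.elt x * h) * (mem6 P S i)⁻¹) * (h : G)⁻¹ by group, hy, hi.2.2, actFun_spec]
  congr 1
  rw [refH_apply, refH_apply, ← actL_apply, map_add, map_smul, actL_apply, actL_apply, ← actFun_mul,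
    mul_inv_cancel, actFun_one, hfun, hval]
  congr 2
  rw [← hval, ← hfun]
  conv_rhs => rw [show x = actFun S h (actFun S h⁻¹ x) by rw [← actFun_mul, mul_inv_cancel, actFun_one],
    act_bil P S]

/-- Every isometry is realised. -/
theorem exists_move (g : CfsgLib.Quad.oGroup sixQ) : ∃ h : G, Commute (tEl p) h ∧
    ∀ i, h * mem6 P S i * h⁻¹ = mem6 P S (lineHom g i) := by
  have hg : g ∈ Subgroup.closure (Set.range (CfsgLib.Quad.refl sixQ)) := refl_generate ▸ Subgroup.mem_top g
  induction hg using Subgroup.closure_induction with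
  | mem x hx =>
    obtain ⟨v, rfl⟩ := hx
    obtain ⟨h, h1, h2⟩ := exists_line_move P S v
    exact ⟨h, h1, fun i => by rw [h2, lineHom_apply, rf_eq]⟩
  | one => exact ⟨1, Commute.one_right _, fun i => by rw [map_one]; simp⟩
  | mul a b _ _ iha ihb =>
    obtain ⟨h, h1, h2⟩ := iha
    obtain ⟨k, k1, k2⟩ := ihb
    refine ⟨h * k, h1.mul_right k1, fun i => ?_⟩
    rw [show h * k * mem6 P S i * (h * k)⁻¹ = h * (k * mem6 P S i * k⁻¹) * h⁻¹ by group, k2, h2, map_mul]
    rfl
  | inv a _ iha =>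
    obtain ⟨h, h1, h2⟩ := iha
    refine ⟨h⁻¹, h1.inv_right, fun i => ?_⟩
    have := h2 ((lineHom a)⁻¹ i)
    rw [← Equiv.Perm.mul_apply, mul_inv_cancel, Equiv.Perm.one_apply] at this
    rw [map_inv, ← this]
    group

theorem mem6_commute_iff (i j : Fin 126) (hij : i ≠ j) :
    Commute (mem6 P S i) (mem6 P S j) ↔ adj i j = true := by
  rw [adj_iff]
  constructor
  · intro h
    have h1 := mem6_conj_mem P S i j
    rw [h.eq, mul_inv_cancel_right] at h1
    have h2 := mem6_injective P S h1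
    by_contra hne
    have hn : ∀ i j : V6, True := fun _ _ => trivial
    have hnorm : rf (vec i) (vec j) ⬝ᵥ rf (vec i) (vec j) = 1 := by rw [← rf_eq, dot_apply, vec_norm]
    have h3 := vec_idx _ hnorm
    rw [← h2] at h3
    have hk : (vec j ⬝ᵥ vec i) ≠ 0 := by rwa [dotProduct_comm]
    have hrf : rf (vec i) (vec j) = vec j + (vec j ⬝ᵥ vec i) • vec i := by rw [rf, vec_norm, one_mul]
    rw [hrf] at h3
    rcases h3 with e | e
    · have h4 : (vec j ⬝ᵥ vec i) • vec i = 0 := left_eq_add.1 e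
      have h5 := congrArg (fun z => vec i ⬝ᵥ z) h4
      simp only [dotProduct_smul, vec_norm, dotProduct_zero, smul_eq_mul, mul_one] at h5
      exact hk h5
    · have h4 : (vec j ⬝ᵥ vec i) • vec i = vec j := by
        have e2 : (vec j ⬝ᵥ vec i) • vec i = -vec j + -vec j := by
          rw [neg_add] at e
          calc (vec j ⬝ᵥ vec i) • vec i = -(-vec j + -((vec j ⬝ᵥ vec i) • vec i)) + -vec j := by abel
            _ = -vec j + -vec j := by rw [← e]
        rw [e2]
        funext k
        exact (show ∀ t : ZMod 3, -t + -t = t by decide) _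
      refine hij ?_
      rcases (show ∀ a : ZMod 3, a ≠ 0 → a = 1 ∨ a = -1 by decide) _ hk with r | r <;> rw [r] at h4
      · rw [one_smul] at h4; rw [← (idx_vec i).1, h4, (idx_vec j).1]
      · rw [neg_one_smul] at h4; rw [← (idx_vec i).2, h4, (idx_vec j).1]
  · intro h
    have h1 := mem6_conj_mem P S i j
    rw [rf, vec_norm, dotProduct_comm, h, mul_zero, zero_smul, add_zero, (idx_vec j).1] at h1
    exact mul_inv_eq_iff_eq_mul.1 h1

end CfsgLib.ThreeT.Prod
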