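import Cfsg.Agent.Spor3T.QuadCore

/-!
Type M(24): the extraspecial group of order `2^13` and the kernel on the lines inside the commutator
subgroup.
-/

set_option autoImplicit false
set_option linter.style.haveILetI false
set_option linter.unusedSectionVars false

namespace CfsgLib.ThreeT.Prod

open CfsgLib.SevenSq CfsgLib.SixSq
open scoped Matrix commutatorElement

variable {G : Type*} [Group G] [Finite G] {D : Set G} {d : G} (P : Point24 D d) {p q : Fin 6 → G} {w : G}
  (S : Space7 D p q w)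

include P S

theorem tEl_ne_one : tEl p ≠ 1 := by
  intro e
  have h := quad_fix24 P (tEl_facs P S)
  rw [e, show {y | y ∈ D ∧ Commute (1 : G) y} = D from Set.ext fun y => and_iff_left (Commute.one_left y),
    ncard24 P] at h
  norm_num at h

/-- Any group between the products of pairs and `quadQ` is extraspecial. -/
theorem extraspecial_between {R : Subgroup G} (hR : R ≤ quadQ P S)
    (hP : ∀ i a b, a ∈ qset P S i → b ∈ qset P S i → a * b ∈ R) : Cfsg.IsExtraspecial 2 ↥R := by
  have hT := P.base.tt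
  obtain ⟨a, b, c, e, hq, hF⟩ := (qset_spec P S 0).1
  have hin : ∀ x ∈ ({a, b, c, e} : Set G), x ∈ qset P S 0 := fun x hx => by rw [hF]; exact hx
  have hcenR : ∀ x ∈ R, (∀ y ∈ R, Commute x y) → x = 1 ∨ x = tEl p := fun x hx hall =>
    cent_pairs P S (hR hx).1 fun i u v hu hv _ => hall _ (hP i u v hu hv)
  refine extraspecial_of (tEl_ne_one P S) (tEl_sq P S) ?_ (fun x hx => (hR hx).1) ?_ ?_ hcenR ?_
  · rw [show tEl p = a * b * (c * e) by rw [← hq.prod]; group]
    exact mul_mem (hP 0 a b (hin a (by simp)) (hin b (by simp))) (hP 0 c e (hin c (by simp)) (hin e (by simp)))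
  · intro x hx
    exact cent_members P S fun i u hu => commute_of_fix (quadQ_sq P S (hR hx) hu)
  · intro x hx y hy
    refine cent_members P S fun i u hu => commute_of_fix ?_
    have h1 := ((inv_mem (hR hy) : y⁻¹ ∈ quadQ P S).2 i).mem P S (hR hy).1.inv_right hu
    have h2 := ((inv_mem (hR hx) : x⁻¹ ∈ quadQ P S).2 i).mem P S (hR hx).1.inv_right h1
    have h3 := quadQ_comm P S (hR hx) (hR hy) h2
    rw [commutatorElement_def]
    calc x * y * x⁻¹ * y⁻¹ * u * (x * y * x⁻¹ * y⁻¹)⁻¹
        = x * (y * (x⁻¹ * (y⁻¹ * u * y⁻¹⁻¹) * x⁻¹⁻¹) * y⁻¹) * x⁻¹ := by group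
      _ = y * (x * (x⁻¹ * (y⁻¹ * u * y⁻¹⁻¹) * x⁻¹⁻¹) * x⁻¹) * y⁻¹ := h3
      _ = u := by group
  · by_contra! hall
    have hab := hP 0 a b (hin a (by simp)) (hin b (by simp))
    rcases hcenR _ hab (hall _ hab) with h | h
    · refine hq.nab ?_
      rw [← hT.inv hq.hb]
      exact eq_inv_of_mul_eq_one_left h
    · rw [← hq.prod, show a * b * c * e = a * b * (c * e) by group, eq_comm, mul_eq_left] at h
      refine hq.nce ?_
      rw [← hT.inv hq.he]
      exact eq_inv_of_mul_eq_one_left h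

theorem card_quadQ : Nat.card ↥(quadQ P S) = 2 ^ 13 ∧ Cfsg.IsExtraspecial 2 ↥(quadQ P S) := by
  classical
  haveI : Fact (Nat.Prime 2) := ⟨Nat.prime_two⟩
  have hT := P.base.tt
  have hex := extraspecial_between P S le_rfl fun i a b ha hb => pair_mem P S ha hb
  refine ⟨?_, hex⟩
  obtain ⟨n, -, hn⟩ := CfsgLib.Extraspecial.card_eq hex
  have hFq := (qset_spec P S 0).1
  obtain ⟨a, b, c, e, hq, hF⟩ := id hFq
  have hin : ∀ x ∈ ({a, b, c, e} : Set G), x ∈ qset P S 0 := fun x hx => by rw [hF]; exact hx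
  have ma := hin a (by simp)
  have mb := hin b (by simp)
  have mc := hin c (by simp)
  have me := hin e (by simp)
  set K := lineKer P S with hK
  set Q := quadQ P S with hQ
  set A := Subgroup.centralizer ({a} : Set G) with hA
  set B := Subgroup.centralizer ({b} : Set G) with hB
  set C := Subgroup.centralizer ({c} : Set G) with hC
  have step : ∀ (H : Subgroup G) (x : G) (O : Set G), (∀ g ∈ H, g * x * g⁻¹ ∈ O) →
      Nat.card ↥H ≤ O.ncard * Nat.card ↥(H ⊓ Subgroup.centralizer ({x} : Set G)) := fun H x O h => by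
    rw [card_conj_orbit H x]
    exact Nat.mul_le_mul_right _ (Set.ncard_le_ncard (fun _ ⟨g, hg, e⟩ => e ▸ h g hg) (Set.toFinite _))
  have hmem : ∀ g ∈ K, ∀ x ∈ qset P S 0, g * x * g⁻¹ ∈ ({a, b, c, e} : Set G) := fun g hg x hx => by
    have := ((mem_lineKer P S).1 hg).2 0 x hx
    rwa [hF] at this
  have e1 := step K a {a, b, c, e} (fun g hg => hmem g hg a ma)
  have e2 := step (K ⊓ A) b {b, c, e} (fun g hg => by
    obtain ⟨g1, g2⟩ := Subgroup.mem_inf.1 hg
    refine (hmem g g1 b mb).resolve_left fun r => hq.nab ?_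
    exact (mul_left_cancel (mul_right_cancel ((fix_of_commute (mem_cent_one.1 g2)).trans r.symm))))
  have e3 := step (K ⊓ A ⊓ B) c {c, e} (fun g hg => by
    obtain ⟨g12, g3⟩ := Subgroup.mem_inf.1 hg
    obtain ⟨g1, g2⟩ := Subgroup.mem_inf.1 g12
    rcases hmem g g1 c mc with r | r | r
    · exact absurd (mul_left_cancel (mul_right_cancel ((fix_of_commute (mem_cent_one.1 g2)).trans r.symm))) hq.nac
    · exact absurd (mul_left_cancel (mul_right_cancel ((fix_of_commute (mem_cent_one.1 g3)).trans r.symm))) hq.nbc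
    · exact r)
  have n1 : ({a, b, c, e} : Set G).ncard = 4 := hF ▸ hFq.ncard
  have n2 : ({b, c, e} : Set G).ncard = 3 := by
    rw [Set.ncard_insert_of_notMem (by simp [hq.nbc, hq.nbe]), Set.ncard_pair hq.nce]
  rw [n1] at e1
  rw [n2] at e2
  rw [Set.ncard_pair hq.nce] at e3
  have hle : K ⊓ A ⊓ B ⊓ C ≤ Q ⊓ A := by
    intro g hg
    simp only [Subgroup.mem_inf, hA, hB, hC, mem_cent_one] at hg
    obtain ⟨⟨⟨g1, g2⟩, g3⟩, g4⟩ := hg
    refine Subgroup.mem_inf.2 ⟨mem_quadQ_of_one P S g1 (j := 0) fun x hx y hy => Or.inl ?_, mem_cent_one.2 g2⟩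
    have hgt := ((mem_lineKer P S).1 g1).1
    have g5 : Commute g e := by
      rw [show e = (a * b * c)⁻¹ * tEl p by rw [← hq.prod]; group]
      exact ((g2.mul_right g3).mul_right g4).inv_right.mul_right hgt.symm
    have hfix : ∀ z ∈ qset P S 0, Commute g z := fun z hz => by
      rw [hF] at hz
      rcases hz with rfl | rfl | rfl | rfl
      exacts [g2, g3, g4, g5]
    rw [((hfix x hx).mul_right (hfix y hy)).eq, mul_inv_cancel_right]
  have e4 : Nat.card ↥Q = 4 * Nat.card ↥(Q ⊓ A) := by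
    refine card_cent_step n1 (fun g hg => hmem g (quadQ_le P S hg) a ma) fun y hy => ?_
    by_cases hya : y = a
    · exact ⟨1, one_mem _, by rw [hya]; simp⟩
    obtain ⟨m, hm0, -, hfar, -, hfar', -⟩ := exists_far 0 0
    obtain ⟨u, v, hu, hv, -, huv⟩ := pair_onto P S (Ne.symm hm0) hfar' ma (hin y hy) (Ne.symm hya)
    exact ⟨u * v, pair_mem P S hu hv, huv⟩
  have hK0 : Nat.card ↥K = 24576 := card_lineKer P S
  have hle' := Nat.le_of_dvd Nat.card_pos (Subgroup.card_dvd_of_le hle)
  have hQK := Nat.le_of_dvd Nat.card_pos (Subgroup.card_dvd_of_le (quadQ_le P S))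
  rw [hn, hK0] at hQK
  have hlow : 2 ^ 12 ≤ 2 ^ (2 * n + 1) := by
    rw [← hA] at e1
    rw [← hB] at e2
    rw [← hC] at e3
    rw [← hn, e4]
    omega
  have h1 : 12 ≤ 2 * n + 1 := (Nat.pow_le_pow_iff_right (by norm_num)).1 hlow
  have h2 : 2 * n + 1 < 15 := (Nat.pow_lt_pow_iff_right (by norm_num)).1 (lt_of_le_of_lt hQK (by norm_num))
  rw [hn, show 2 * n + 1 = 13 by omega]

theorem quadQ_le_commutator : quadQ P S ≤ commutator G := by
  haveI : Fact (Nat.Prime 2) := ⟨Nat.prime_two⟩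
  have hex := extraspecial_between P S (R := quadQ P S ⊓ commutator G) inf_le_left fun i a b ha hb =>
    Subgroup.mem_inf.2 ⟨pair_mem P S ha hb, CfsgLib.ThreeT.mul_mem_commutator P.base.class3
      ((qset_spec P S i).1.mem ha).1 ((qset_spec P S i).1.mem hb).1⟩
  obtain ⟨n, -, hn⟩ := CfsgLib.Extraspecial.card_eq hex
  obtain ⟨hQ, -⟩ := card_quadQ P S
  have h := Subgroup.relIndex_mul_relIndex (⊥ : Subgroup G) (quadQ P S ⊓ commutator G) (quadQ P S) bot_le inf_le_left
  rw [Subgroup.relIndex_bot_left, Subgroup.relIndex_bot_left, Subgroup.inf_relIndex_left, hQ, hn] at h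
  have hd : (commutator G).relIndex (quadQ P S) ∣ 2 :=
    index_commutator24 P ▸ Subgroup.relIndex_dvd_index_of_normal _ _
  have h1 : (commutator G).relIndex (quadQ P S) = 1 := by
    rcases (Nat.dvd_prime Nat.prime_two).1 hd with r | r
    · exact r
    · exfalso
      rw [r, ← pow_succ] at h
      have := Nat.pow_right_injective (le_refl 2) h
      omega
  exact Subgroup.relIndex_eq_one.1 h1

theorem lineKer_le_commutator : lineKer P S ≤ commutator G := by
  have hd : (commutator G).relIndex (lineKer P S) ∣ 2 :=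
    index_commutator24 P ▸ Subgroup.relIndex_dvd_index_of_normal _ _
  refine Subgroup.relIndex_eq_one.1 (((Nat.dvd_prime Nat.prime_two).1 hd).resolve_right fun r => ?_)
  have h := Subgroup.relIndex_mul_relIndex (⊥ : Subgroup G) (lineKer P S ⊓ commutator G) (lineKer P S) bot_le
    inf_le_left
  rw [Subgroup.relIndex_bot_left, Subgroup.relIndex_bot_left, Subgroup.inf_relIndex_left, card_lineKer P S, r] at h
  have h2 := Subgroup.card_dvd_of_le (le_inf (quadQ_le P S) (quadQ_le_commutator P S))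
  rw [(card_quadQ P S).1] at h2
  omega

theorem isPGroup_quadQ : IsPGroup 2 ↥(quadQ P S) := IsPGroup.of_card (card_quadQ P S).1

/-- A two-subgroup of the kernel normalised by `quadQ` lies in it. -/
theorem le_quadQ_of_two {N : Subgroup G} (hN : IsPGroup 2 ↥N) (hNK : N ≤ lineKer P S)
    (hnorm : quadQ P S ≤ Subgroup.normalizer (N : Set G)) : N ≤ quadQ P S := by
  haveI : Fact (Nat.Prime 2) := ⟨Nat.prime_two⟩
  have hp : IsPGroup 2 ↥(quadQ P S ⊔ N) := (isPGroup_quadQ P S).to_sup_of_normal_right' hN hnorm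
  obtain ⟨m, hm⟩ := IsPGroup.iff_card.1 hp
  have hd := Subgroup.card_dvd_of_le (sup_le (quadQ_le P S) hNK : quadQ P S ⊔ N ≤ lineKer P S)
  rw [hm, card_lineKer P S, show 24576 = 2 ^ 13 * 3 by norm_num] at hd
  have hd' := (Nat.Coprime.pow_left m (by norm_num : Nat.Coprime 2 3)).dvd_of_dvd_mul_right hd
  have hle : Nat.card ↥(quadQ P S ⊔ N) ≤ Nat.card ↥(quadQ P S) := by
    rw [hm, (card_quadQ P S).1]
    exact Nat.le_of_dvd (by norm_num) hd'
  exact le_sup_right.trans (Subgroup.eq_of_le_of_card_ge le_sup_left hle).ge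

end CfsgLib.ThreeT.Prod
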