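import Cfsg.Agent.Spor3T.QuadLinesFacts
import Cfsg.Agent.Spor3T.ReflOrderSix
import Cfsg.Agent.Quad.NegOne

/-!
The graph of the 126 lines of norm one of the sum of six squares over three elements: every automorphism
comes from an isometry, and the isometries act as a group of order `13063680`.
-/

set_option autoImplicit false
set_option linter.style.haveILetI false
set_option linter.unusedSectionVars false

namespace CfsgLib.SixSq

open QuadraticMap CfsgLib.Quad
open scoped Matrix

local instance : Fact (Nat.Prime 3) := ⟨Nat.prime_three⟩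

/-- The sum of six squares. -/
noncomputable def sixQ : QuadraticForm (ZMod 3) V6 :=
  QuadraticMap.weightedSumSquares (ZMod 3) fun _ : Fin 6 => (1 : ZMod 3)

theorem sixQ_apply (x : V6) : sixQ x = x ⬝ᵥ x := by
  simp [sixQ, QuadraticMap.weightedSumSquares_apply, dotProduct]

theorem sixQ_polar (x y : V6) : polar sixQ x y = 2 * (x ⬝ᵥ y) := by
  simp only [polar, sixQ_apply, add_dotProduct, dotProduct_add, dotProduct_comm y x]; ring

theorem sixQ_nondeg : (polarBilin sixQ).Nondegenerate := by
  refine LinearMap.BilinForm.nondegenerate_iff_ker_eq_bot.2 ?_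
  rw [LinearMap.ker_eq_bot']
  intro x hx
  funext i
  have h := LinearMap.congr_fun hx (Pi.single i 1)
  rw [polarBilin_apply_apply, sixQ_polar, dotProduct_single, mul_one] at h
  have key : ∀ t : ZMod 3, 2 * t = 0 → t = 0 := by decide
  exact key _ h

theorem sixQ_det : Cfsg.polarGramDet (⇑sixQ) = 1 := by
  have e : (Matrix.of fun i j : Fin 6 => polar (⇑sixQ) (Pi.single i 1) (Pi.single j 1)) =
      Matrix.diagonal fun _ : Fin 6 => (2 : ZMod 3) := by
    ext i j
    rw [Matrix.of_apply, sixQ_polar, dotProduct_single, mul_one, Matrix.diagonal_apply, Pi.single_apply]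
    by_cases h : i = j
    · subst h; simp
    · rw [if_neg (Ne.symm h), if_neg h, mul_zero]
  rw [Cfsg.polarGramDet, e, Matrix.det_diagonal]
  decide

theorem three_zero : (3 : ZMod 3) = 0 := rfl

theorem rf_eq (v x : V6) : (refl sixQ v).1 x = rf v x := by
  rw [refl_apply, sixQ_apply, sixQ_polar, rf, CfsgLib.ReflThree.self_inv]
  congr 2
  linear_combination (-((v ⬝ᵥ v) * (x ⬝ᵥ v))) * three_zero

theorem fold_eq (l : List V6) (x : V6) : ((l.map (refl sixQ)).prod).1 x = fold l x := by
  induction l with
  | nil => rfl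
  | cons v l ih =>
    rw [List.map_cons, List.prod_cons, fold, List.foldr_cons, ← fold, ← ih, ← rf_eq]
    rfl

theorem dot_apply (g : oGroup sixQ) (x y : V6) : g.1 x ⬝ᵥ g.1 y = x ⬝ᵥ y := by
  have h := g.2
  have e : polar sixQ (g.1 x) (g.1 y) = polar sixQ x y := by
    simp only [polar, ← map_add]; rw [h, h, h]
  rw [sixQ_polar, sixQ_polar] at e
  have key : ∀ a b : ZMod 3, 2 * a = 2 * b → a = b := by decide
  exact key _ _ e

theorem norm_apply (g : oGroup sixQ) (i : Fin 126) : g.1 (vec i) ⬝ᵥ g.1 (vec i) = 1 := by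
  rw [dot_apply, vec_norm]

theorem idx_eq_of {x y : V6} (h : x = y ∨ x = -y) : idx x = idx y := by
  rcases h with rfl | rfl
  · rfl
  · exact idx_neg y

/-- The image of a line. -/
noncomputable def lineMap (g : oGroup sixQ) (i : Fin 126) : Fin 126 := idx (g.1 (vec i))

theorem lineMap_mul (g h : oGroup sixQ) (i : Fin 126) : lineMap (g * h) i = lineMap g (lineMap h i) := by
  simp only [lineMap]
  rcases vec_idx _ (norm_apply h i) with e | e <;> rw [e]
  · rfl
  · rw [map_neg]; exact (idx_eq_of (Or.inr rfl)).symm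

theorem lineMap_one (i : Fin 126) : lineMap 1 i = i := (idx_vec i).1

theorem vec_lineMap (g : oGroup sixQ) (i : Fin 126) :
    vec (lineMap g i) = g.1 (vec i) ∨ vec (lineMap g i) = -g.1 (vec i) := vec_idx _ (norm_apply g i)

/-- The action on lines. -/
noncomputable def lineHom : oGroup sixQ →* Equiv.Perm (Fin 126) where
  toFun g := ⟨lineMap g, lineMap g⁻¹, fun i => by rw [← lineMap_mul, inv_mul_cancel, lineMap_one],
    fun i => by rw [← lineMap_mul, mul_inv_cancel, lineMap_one]⟩
  map_one' := Equiv.ext lineMap_one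
  map_mul' g h := Equiv.ext (lineMap_mul g h)

theorem lineHom_apply (g : oGroup sixQ) (i : Fin 126) : lineHom g i = idx (g.1 (vec i)) := rfl

theorem lineHom_adj (g : oGroup sixQ) (i j : Fin 126) : adj (lineHom g i) (lineHom g j) = adj i j := by
  rw [Bool.eq_iff_iff, adj_iff, adj_iff, lineHom_apply, lineHom_apply]
  rcases vec_lineMap g i with e | e <;> rcases vec_lineMap g j with e' | e' <;>
    simp only [lineMap] at e e' <;> simp [e, e', dot_apply]

/-! ### Rigidity -/

/-- The base lines. -/
def Base (k : ℕ) (ψ : Equiv.Perm (Fin 126)) : Prop := ∀ i : Fin 126, i.val < k → ψ i = i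

theorem step (k : Fin 8) (φ : Equiv.Perm (Fin 126)) (hφ : ∀ i j, adj (φ i) (φ j) = adj i j)
    (hb : Base k.val φ) : ∃ g : oGroup sixQ, Base (k.val + 1) ((lineHom g)⁻¹ * φ) := by
  set b : Fin 126 := Fin.castLE (by norm_num) k
  have hle : k.val ≤ (φ b).val := by
    by_contra h
    push Not at h
    have h1 := hb (φ b) h
    have h2 := φ.injective h1
    have : b.val = k.val := rfl
    omega
  obtain ⟨e, he, hej⟩ := moves_cover k (φ b) hle fun i hi => by
    conv_lhs => rw [← hb (Fin.castLE (by norm_num) i) hi]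
    exact hφ _ _
  obtain ⟨h1, h2⟩ := moves_ok k e he
  refine ⟨((e.2.map dec).map (refl sixQ)).prod, fun i hi => ?_⟩
  rw [Equiv.Perm.mul_apply, Equiv.Perm.inv_eq_iff_eq, lineHom_apply, fold_eq]
  rcases Nat.lt_succ_iff_lt_or_eq.1 hi with q | q
  · rw [hb i q]
    exact (h2 ⟨i.val, by omega⟩ q).symm
  · obtain rfl : i = b := Fin.ext q
    rw [h1, hej]

theorem eq_one_of_base (ψ : Equiv.Perm (Fin 126)) (hψ : ∀ i j, adj (ψ i) (ψ j) = adj i j) (hb : Base 8 ψ) :
    ψ = 1 := by
  have key : ∀ r : ℕ, r ≤ 3 → ∀ i : Fin 126, ((255 :: roundL).getD r 0).testBit i.val = true → ψ i = i := by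
    intro r
    induction r with
    | zero => exact fun _ i hi => hb i (first_round i hi)
    | succ r ih =>
      intro hr j hj
      rw [List.getD_cons_succ] at hj
      cases hF : ((255 :: roundL).getD r 0).testBit j.val with
      | true => exact ih (by omega) j hF
      | false =>
        set F := (255 :: roundL).getD r 0
        have hi : F.testBit (ψ j).val = false := by
          by_contra h
          rw [Bool.not_eq_false] at h
          have h1 := ψ.injective (ih (by omega) _ h)
          rw [h1, hF] at h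
          exact Bool.false_ne_true h
        refine rounds_ok ⟨r, by omega⟩ (ψ j) j hj hF hi (Nat.eq_of_testBit_eq fun m => ?_)
        rw [Nat.testBit_and, Nat.testBit_and]
        cases hm : F.testBit m with
        | false => simp
        | true =>
          by_cases hm' : m < 126
          · have h := hψ j ⟨m, hm'⟩
            rw [ih (by omega) ⟨m, hm'⟩ hm] at h
            simp only [Bool.and_true]
            exact h
          · have hbig : ∀ x < 2 ^ 126, x.testBit m = false := fun x hx =>
              Nat.testBit_lt_two_pow (lt_of_lt_of_le hx (Nat.pow_le_pow_right (by norm_num) (by omega)))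
            rw [hbig _ (mask_small _), hbig _ (mask_small _)]
  exact Equiv.ext fun i => key 3 le_rfl i (rounds_last i)

theorem mem_range_of_adj (φ : Equiv.Perm (Fin 126)) (hφ : ∀ i j, adj (φ i) (φ j) = adj i j) :
    φ ∈ lineHom.range := by
  have key : ∀ k : ℕ, k ≤ 8 → ∃ g : oGroup sixQ, Base k ((lineHom g)⁻¹ * φ) := by
    intro k
    induction k with
    | zero => exact fun _ => ⟨1, fun i hi => absurd hi (Nat.not_lt_zero _)⟩
    | succ k ih =>
      intro hk
      obtain ⟨g, hg⟩ := ih (by omega)
      obtain ⟨h, hh⟩ := step ⟨k, by omega⟩ ((lineHom g)⁻¹ * φ) (fun i j => by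
        rw [Equiv.Perm.mul_apply, Equiv.Perm.mul_apply, ← map_inv, lineHom_adj, hφ]) hg
      exact ⟨g * h, by rw [map_mul, mul_inv_rev, mul_assoc]; exact hh⟩
  obtain ⟨g, hg⟩ := key 8 le_rfl
  have h1 := eq_one_of_base _ (fun i j => by
    rw [Equiv.Perm.mul_apply, Equiv.Perm.mul_apply, ← map_inv, lineHom_adj, hφ]) hg
  exact ⟨g, eq_of_inv_mul_eq_one h1⟩

theorem ker_lineHom (g : oGroup sixQ) (hg : lineHom g = 1) : g = 1 ∨ g = negIso sixQ := by
  have hfix : ∀ v : V6, sixQ v = 1 → refl sixQ (g.1 v) = refl sixQ v := by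
    intro v hv
    rw [sixQ_apply] at hv
    have h1 : idx (g.1 (vec (idx v))) = idx v := Equiv.congr_fun hg (idx v)
    have hneg : ∀ u : V6, refl sixQ (-u) = refl sixQ u := fun u => Subtype.ext (LinearEquiv.ext fun x => by
      rw [rf_eq, rf_eq]; simp [rf])
    have hline : ∀ u w : V6, u = w ∨ u = -w → refl sixQ u = refl sixQ w := by
      rintro u w (rfl | rfl)
      · rfl
      · exact hneg w
    have h2 := vec_lineMap g (idx v)
    rw [lineMap, h1] at h2
    have h3 := hline _ _ (vec_idx v hv)
    have h4 := hline _ _ h2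
    have h5 : refl sixQ (g.1 (vec (idx v))) = refl sixQ (g.1 v) := by
      refine hline _ _ ?_
      rcases vec_idx v hv with e | e
      · exact Or.inl (by rw [e])
      · exact Or.inr (by rw [e, map_neg])
    rw [← h5, ← h4, h3]
  have hcomm : ∀ t ∈ Subgroup.closure (CfsgLib.ReflThree.rset sixQ 1), t * g = g * t := by
    intro t ht
    induction ht using Subgroup.closure_induction with
    | mem x hx =>
      obtain ⟨v, hv, rfl⟩ := hx
      conv_lhs => rw [← hfix v hv, ← refl_conj]
      group
    | one => rw [one_mul, mul_one]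
    | mul a b _ _ iha ihb => rw [mul_assoc, ihb, ← mul_assoc, iha, mul_assoc]
    | inv a _ iha => exact (show Commute a g from iha).inv_left.eq
  obtain ⟨c, hc, hv⟩ := CfsgLib.ReflThree.scalar_of_commute sixQ_nondeg
    (by rw [Module.finrank_fin_fun]; norm_num) g fun t ht =>
      hcomm t (CfsgLib.ReflThree.commutator_le_closure sixQ_nondeg (by norm_num) one_ne_zero ht)
  rcases mul_self_eq_one_iff.1 hc with rfl | rfl
  · exact Or.inl (Subtype.ext (LinearEquiv.ext fun v => by rw [hv, one_smul]; rfl))
  · exact Or.inr (Subtype.ext (LinearEquiv.ext fun v => by rw [hv, negIso_apply, neg_one_smul]))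

theorem lineHom_neg : lineHom (negIso sixQ) = 1 := Equiv.ext fun i => by
  rw [lineHom_apply, negIso_apply, (idx_vec i).2]; rfl

theorem card_range_lineHom : Nat.card ↥(lineHom.range) = 13063680 := by
  have hne : (1 : oGroup sixQ) ≠ negIso sixQ := fun e => by
    have h := congrArg (fun g : oGroup sixQ => g.1 (Pi.single 0 1) 0) e
    exact absurd h (by simp [negIso_apply]; decide)
  have hker : Nat.card ↥(lineHom.ker) = 2 := by
    rw [Nat.card_eq_two_iff]
    refine ⟨1, ⟨negIso sixQ, lineHom_neg⟩, fun e => hne (congrArg Subtype.val e), ?_⟩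
    refine Set.eq_univ_iff_forall.2 fun g => ?_
    rcases ker_lineHom g.1 g.2 with e | e
    · exact Or.inl (Subtype.ext e)
    · exact Or.inr (Subtype.ext e)
  have h := Subgroup.card_eq_card_quotient_mul_card_subgroup lineHom.ker
  rw [Nat.card_congr (QuotientGroup.quotientKerEquivRange lineHom).toEquiv, hker,
    CfsgLib.ReflThree.card_oGroup_six sixQ_nondeg sixQ_det] at h
  omega

theorem refl_generate : Subgroup.closure (Set.range (refl sixQ)) = ⊤ :=
  reflGroup_eq_top sixQ_nondeg (Or.inr (by rw [Module.finrank_fin_fun]; norm_num))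

end CfsgLib.SixSq
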