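import Cfsg.Agent.Spor3T.QuadLinesData
import Mathlib.Data.ZMod.Basic
import Mathlib.LinearAlgebra.Matrix.DotProduct
import Mathlib.Data.Fintype.Pi
import Mathlib.Tactic.NormNum

/-!
Checked facts on the 126 lines of norm one of the sum of six squares over three elements.
-/

set_option autoImplicit false

namespace CfsgLib.SixSq

open scoped Matrix



/-- Six coordinates over three elements. -/
abbrev V6 := Fin 6 → ZMod 3

/-- The code of a vector. -/
def code (x : V6) : ℕ :=
  (x 0).val + 3 * ((x 1).val + 3 * ((x 2).val + 3 * ((x 3).val + 3 * ((x 4).val + 3 * (x 5).val))))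

/-- The vector of a code. -/
def dec (n : ℕ) : V6 := fun k => (Fin.ofNat 3 (n / 3 ^ k.val) : ZMod 3)

/-- The representative of a line. -/
def vec (i : Fin 126) : V6 := dec (ptL.getD i.val 0)

/-- The line of a vector. -/
def idx (x : V6) : Fin 126 := Fin.ofNat 126 (idxL.getD (code x) 0)

/-- Orthogonality of two lines. -/
def adj (i j : Fin 126) : Bool := (maskL.getD i.val 0).testBit j.val

/-- The reflection in a vector. -/
def rf (v x : V6) : V6 := x + ((v ⬝ᵥ v) * (x ⬝ᵥ v)) • v

/-- Composed reflections. -/
def fold (l : List V6) (x : V6) : V6 := l.foldr rf x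

theorem vec_norm : ∀ i, vec i ⬝ᵥ vec i = 1 := by decide +kernel

theorem idx_vec : ∀ i, idx (vec i) = i ∧ idx (-vec i) = i := by decide +kernel

theorem vec_idx : ∀ x : V6, x ⬝ᵥ x = 1 → vec (idx x) = x ∨ vec (idx x) = -x := by decide +kernel

theorem adj_iff : ∀ i j, adj i j = true ↔ vec i ⬝ᵥ vec j = 0 := by decide +kernel

theorem moves_ok : ∀ k : Fin 8, ∀ e ∈ moveL.getD k.val [],
    idx (fold (e.2.map dec) (vec (Fin.castLE (by norm_num) k))) = Fin.ofNat 126 e.1 ∧
      ∀ i : Fin 8, i.val < k.val →
        idx (fold (e.2.map dec) (vec (Fin.castLE (by norm_num) i))) = Fin.castLE (by norm_num) i := by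
  decide +kernel

theorem moves_cover : ∀ k : Fin 8, ∀ j : Fin 126, k.val ≤ j.val →
    (∀ i : Fin 8, i.val < k.val →
      adj (Fin.castLE (by norm_num) i) j = adj (Fin.castLE (by norm_num) i) (Fin.castLE (by norm_num) k)) →
    ∃ e ∈ moveL.getD k.val [], Fin.ofNat 126 e.1 = j := by
  decide +kernel

theorem rounds_ok : ∀ r : Fin 3, ∀ i j : Fin 126,
    (roundL.getD r.val 0).testBit j.val = true →
      ((255 :: roundL).getD r.val 0).testBit j.val = false →
      ((255 :: roundL).getD r.val 0).testBit i.val = false →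
      maskL.getD i.val 0 &&& (255 :: roundL).getD r.val 0 = maskL.getD j.val 0 &&& (255 :: roundL).getD r.val 0 →
      i = j := by
  decide +kernel

theorem rounds_last : ∀ i : Fin 126, (roundL.getD 2 0).testBit i.val = true := by decide +kernel

theorem first_round : ∀ i : Fin 126, (255 : ℕ).testBit i.val = true → i.val < 8 := by decide +kernel

theorem mask_small : ∀ i : Fin 126, maskL.getD i.val 0 < 2 ^ 126 := by decide +kernel

/-- Lines orthogonal to the same lines among those orthogonal to a third one. -/
theorem same_near : ∀ i j : Fin 126, adj 0 i = false → adj 0 j = false → i ≠ 0 → j ≠ 0 →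
    maskL.getD i.val 0 &&& maskL.getD 0 0 = maskL.getD j.val 0 &&& maskL.getD 0 0 →
    j = i ∨ j = idx (rf (vec 0) (vec i)) := by
  decide +kernel

theorem idx_neg : ∀ y : V6, idx (-y) = idx y := by decide +kernel

end CfsgLib.SixSq
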