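import Cfsg.Agent.Spor3T.QuadFrame
import Cfsg.Agent.Spor3T.HexadUnique
import Cfsg.Agent.Spor3T.M24Counts

/-!
Type M(24): the sets of four commuting members with one product form a partition of the members
commuting with it.
-/

set_option autoImplicit false
set_option linter.style.haveILetI false
set_option linter.unusedSectionVars false

namespace CfsgLib.ThreeT.Prod

variable {G : Type*} [Group G] [Finite G] {D : Set G}

/-- A set of four commuting members with product `t`. -/
def IsQuad (D : Set G) (t : G) (F : Set G) : Prop :=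
  ∃ a b c e, Quad D t a b c e ∧ F = {a, b, c, e}

theorem Quad.first {t a b c e x : G} (h : Quad D t a b c e) (hx : x ∈ ({a, b, c, e} : Set G)) :
    ∃ u v w, Quad D t x u v w ∧ ({x, u, v, w} : Set G) = {a, b, c, e} := by
  simp only [Set.mem_insert_iff, Set.mem_singleton_iff] at hx
  rcases hx with rfl | rfl | rfl | rfl
  · exact ⟨b, c, e, h, rfl⟩
  · exact ⟨a, c, e, h.swap12, by ext; simp only [Set.mem_insert_iff, Set.mem_singleton_iff]; tauto⟩
  · exact ⟨a, b, e, h.swap23.swap12, by ext; simp only [Set.mem_insert_iff, Set.mem_singleton_iff]; tauto⟩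
  · exact ⟨a, b, c, h.swap34.swap23.swap12, by ext; simp only [Set.mem_insert_iff, Set.mem_singleton_iff]; tauto⟩

theorem IsQuad.mem {t x : G} {F : Set G} (h : IsQuad D t F) (hx : x ∈ F) : x ∈ D ∧ Commute t x := by
  obtain ⟨a, b, c, e, hq, rfl⟩ := h
  obtain ⟨u, v, w, hx', -⟩ := hq.first hx
  exact ⟨hx'.ha, hx'.commute_t⟩

theorem IsQuad.commute {t x y : G} {F : Set G} (h : IsQuad D t F) (hx : x ∈ F) (hy : y ∈ F) : Commute x y := by
  obtain ⟨a, b, c, e, hq, rfl⟩ := h
  obtain ⟨u, v, w, hx', heq⟩ := hq.first hx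
  rw [← heq] at hy
  simp only [Set.mem_insert_iff, Set.mem_singleton_iff] at hy
  rcases hy with rfl | rfl | rfl | rfl
  exacts [Commute.refl _, hx'.ab, hx'.ac, hx'.ae]

theorem IsQuad.ncard {t : G} {F : Set G} (h : IsQuad D t F) : F.ncard = 4 := by
  obtain ⟨a, b, c, e, hq, rfl⟩ := h
  rw [Set.ncard_insert_of_notMem (by simp [hq.nab, hq.nac, hq.nae]),
    Set.ncard_insert_of_notMem (by simp [hq.nbc, hq.nbe]), Set.ncard_pair hq.nce]

/-- Any two of the four may be put first. -/
theorem IsQuad.pair {t a b : G} {F : Set G} (h : IsQuad D t F) (ha : a ∈ F) (hb : b ∈ F) (hab : a ≠ b) :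
    ∃ c e, Quad D t a b c e ∧ ({a, b, c, e} : Set G) = F := by
  obtain ⟨a', b', c', e', hq, rfl⟩ := h
  obtain ⟨u, v, w, hx, heq⟩ := hq.first ha
  rw [← heq] at hb
  simp only [Set.mem_insert_iff, Set.mem_singleton_iff] at hb
  rcases hb with rfl | rfl | rfl | rfl
  · exact absurd rfl hab
  · exact ⟨v, w, hx, heq⟩
  · exact ⟨u, w, hx.swap23, by rw [← heq]; ext; simp only [Set.mem_insert_iff, Set.mem_singleton_iff]; tauto⟩
  · exact ⟨u, v, hx.swap34.swap23, by rw [← heq]; ext; simp only [Set.mem_insert_iff, Set.mem_singleton_iff]; tauto⟩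

theorem IsQuad.conj {t g : G} {F : Set G} (hT : TT0 D) (h : IsQuad D t F) (hg : Commute t g) :
    IsQuad D t ((fun x => g * x * g⁻¹) '' F) := by
  obtain ⟨a, b, c, e, hq, rfl⟩ := h
  have hc : ∀ {x y}, Commute x y → Commute (g * x * g⁻¹) (g * y * g⁻¹) := fun h => (commute_conj_iff g _ _).2 h
  have hn : ∀ {x y : G}, x ≠ y → g * x * g⁻¹ ≠ g * y * g⁻¹ :=
    fun h q => h (mul_left_cancel (mul_right_cancel q))
  refine ⟨g * a * g⁻¹, g * b * g⁻¹, g * c * g⁻¹, g * e * g⁻¹, ⟨hT.conj g a hq.ha, hT.conj g b hq.hb,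
    hT.conj g c hq.hc, hT.conj g e hq.he, hc hq.ab, hc hq.ac, hc hq.ae, hc hq.bc, hc hq.be, hc hq.ce, hn hq.nab,
    hn hq.nac, hn hq.nae, hn hq.nbc, hn hq.nbe, hn hq.nce, ?_⟩, by simp [Set.image_insert_eq]⟩
  rw [← hq.prod] at hg ⊢
  calc g * a * g⁻¹ * (g * b * g⁻¹) * (g * c * g⁻¹) * (g * e * g⁻¹) = g * (a * b * c * e) * g⁻¹ := by group
    _ = a * b * c * e := by rw [← hg.eq, mul_inv_cancel_right]

variable {d : G} (P : Point24 D d)

include P

/-- A product of three commuting members determines them. -/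
theorem uniq_three24 {l l' : List G} (hl : Triple D l) (hl' : Triple D l') (h : l.prod = l'.prod) :
    ∀ x : G, x ∈ l ↔ x ∈ l' := by
  classical
  have hT := P.base.tt
  exact (triple_eq_or_disjoint hT P.base.twinFree P.base.ne_one hl hl' h).resolve_right fun hd =>
    no_hexad hT P.base.conjD P.base.twinFree P.base.ne_one P.mem (facts23 (img_tt0 hT) img_gen P.type)
      hl hl' h hd.1 hd.2

theorem IsQuad.eq_of_mem {t x : G} {F F' : Set G} (h : IsQuad D t F) (h' : IsQuad D t F') (hx : x ∈ F)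
    (hx' : x ∈ F') : F = F' := by
  obtain ⟨a, b, c, e, hq, rfl⟩ := h
  obtain ⟨a', b', c', e', hq', rfl⟩ := h'
  obtain ⟨u, v, w, hu, e1⟩ := hq.first hx
  obtain ⟨u', v', w', hu', e2⟩ := hq'.first hx'
  have hl : ∀ {u v w : G}, Quad D t x u v w → Triple D [u, v, w] ∧ [u, v, w].prod = x * t := by
    intro u v w hu
    refine ⟨⟨by simp [hu.nbc, hu.nbe, hu.nce], rfl, by simpa using ⟨hu.hb, hu.hc, hu.he⟩, ?_⟩, ?_⟩
    · simp only [List.mem_cons, List.not_mem_nil, or_false, forall_eq_or_imp, forall_eq]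
      exact ⟨⟨Commute.refl _, hu.bc, hu.be⟩, ⟨hu.bc.symm, Commute.refl _, hu.ce⟩, hu.be.symm, hu.ce.symm,
        Commute.refl _⟩
    · rw [← hu.prod, show x * (x * u * v * w) = (x * x) * (u * v * w) by group, P.base.tt.sq x hu.ha, one_mul]
      simp [mul_assoc]
  have heq := uniq_three24 P (hl hu).1 (hl hu').1 ((hl hu).2.trans (hl hu').2.symm)
  rw [← e1, ← e2]
  ext y
  have := heq y
  simp only [List.mem_cons, List.not_mem_nil, or_false] at this
  simp only [Set.mem_insert_iff, Set.mem_singleton_iff]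
  tauto

/-- A member commuting with one of the four and with the product commutes with all four. -/
theorem IsQuad.all_or_none {t x u v : G} {F : Set G} (h : IsQuad D t F) (hx : x ∈ D) (htx : Commute t x)
    (hu : u ∈ F) (hv : v ∈ F) (hxu : Commute x u) : Commute x v := by
  have hT := P.base.tt
  by_contra hn
  have himg := h.eq_of_mem P (h.conj hT htx) hu ⟨u, hu, by show x * u * x⁻¹ = u; rw [hxu.eq, mul_inv_cancel_right]⟩
  have hv' : x * v * x⁻¹ ∈ F := himg ▸ ⟨v, hv, rfl⟩
  rw [hT.inv hx, braid0 hT hx (h.mem hv).1 hn] at hv'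
  have hc := (commute_conj_iff v _ _).2 (h.commute hv' hv)
  rw [hT.inv (h.mem hv).1, show v * (v * x * v) * v = (v * v) * x * (v * v) by group, hT.sq v (h.mem hv).1,
    one_mul, mul_one, one_mul] at hc
  exact hn hc

end CfsgLib.ThreeT.Prod
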