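import Cfsg.Agent.Spor3T.TripleProducts
import Cfsg.Agent.Unitary.InvolClass

/-!
The 3-transpositions of `PSU₆(2)` are the transvections; their pentads.
-/

set_option autoImplicit false
set_option linter.unusedSectionVars false
set_option linter.style.haveILetI false

namespace CfsgLib.ThreeT.SixTwo

open Matrix CfsgLib.Unitary CfsgLib.ThreeT.Prod

variable {F : Type} [Field F] [Finite F] [CharP F 2] (hF : Nat.card F = 2 ^ 2)

local notation "V" => Fin 6 → F
local notation "hh" => Cfsg.hermForm 6 F 2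
local notation "π" => QuotientGroup.mk' (Subgroup.center (Cfsg.SU 6 F 2))

/-- A non-zero isotropic vector. -/
def IsPt (v : V) : Prop := v ≠ 0 ∧ hh v v = 0

open Classical in
/-- The transvection centred at a vector. -/
noncomputable def tv (v : V) : Cfsg.SU 6 F 2 :=
  if h : hh v v = 0 then suTv 6 v 1 h (by rw [one_pow]; exact CharTwo.add_self_eq_zero 1) hF else 1

theorem tv_apply {v : V} (hv : hh v v = 0) (x : V) : suMat (tv hF v) *ᵥ x = x + hh x v • v := by
  rw [tv, dif_pos hv]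
  show Cfsg.unitaryTransvection 6 2 v 1 *ᵥ x = _
  rw [utv_mulVec, one_mul]

include hF

theorem hh_comm {u v : V} : hh u v = 0 ↔ hh v u = 0 := (uForm hF 6).eq_zero_comm

theorem hh_add_right (u v w : V) : hh u (v + w) = hh u v + hh u w := herm_add_right hF u v w

theorem hh_zero_right (u : V) : hh u 0 = 0 := (uForm hF 6).zero_right u

theorem hh_zero_left (u : V) : hh (0 : V) u = 0 := (uForm hF 6).zero_left u

theorem pow_three {a : F} (ha : a ≠ 0) : a ^ 3 = 1 := by
  haveI := Fintype.ofFinite F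
  have := FiniteField.pow_card_sub_one_eq_one a ha
  rwa [← Nat.card_eq_fintype_card, hF] at this

theorem tv_mul_apply {u v : V} (hu : hh u u = 0) (hv : hh v v = 0) (x : V) :
    suMat (tv hF u * tv hF v) *ᵥ x = x + hh x v • v + (hh x u + hh x v * hh v u) • u := by
  rw [suMat_mul, ← Matrix.mulVec_mulVec, tv_apply hF hv, tv_apply hF hu, herm_add_left,
    herm_smul_left]

theorem tv_sq {v : V} (hv : hh v v = 0) : tv hF v * tv hF v = 1 := su_ext fun x => by
  rw [tv_mul_apply hF hv hv, hv, mul_zero, add_zero, suMat_one, Matrix.one_mulVec, add_assoc,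
    ← add_smul, CharTwo.add_self_eq_zero, zero_smul, add_zero]

theorem tv_conj (g : Cfsg.SU 6 F 2) {v : V} (hv : hh v v = 0) :
    g * tv hF v * g⁻¹ = tv hF (suMat g *ᵥ v) := by
  have hv' : hh (suMat g *ᵥ v) (suMat g *ᵥ v) = 0 := by rw [su_preserves, hv]
  refine Subtype.ext (Subtype.ext ?_)
  have h := utv_conj g (A := tv hF v) (v := v) (c := 1) (by rw [tv, dif_pos hv]; rfl)
  rw [show tv hF (suMat g *ᵥ v) = suTv 6 _ 1 hv' (by rw [one_pow]; exact CharTwo.add_self_eq_zero 1) hF by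
    rw [tv, dif_pos hv']]
  exact h

theorem tv_ne_one {v : V} (hv : IsPt v) : tv hF v ≠ 1 := fun e => hv.1 <| uForm_nondeg hF 6 v fun x => by
  by_contra hne
  have h := congrArg (fun g => suMat g *ᵥ x) e
  simp only [tv_apply hF hv.2, suMat_one, Matrix.one_mulVec, add_eq_left, smul_eq_zero] at h
  rcases h with h | h
  · exact hne h
  · exact hne (by rw [h]; exact hh_zero_right hF x)

theorem tv_comm_iff {u v : V} (hu : IsPt u) (hv : IsPt v) :
    Commute (tv hF u) (tv hF v) ↔ hh u v = 0 := by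
  constructor
  · intro h
    by_contra hne
    have hne' : hh v u ≠ 0 := fun e => hne ((hh_comm hF).1 e)
    have e := congrArg (fun g => suMat g *ᵥ u) h.eq
    simp only [tv_mul_apply hF hu.2 hv.2, tv_mul_apply hF hv.2 hu.2, hu.2, zero_smul, zero_mul, add_zero,
      zero_add] at e
    have e2 : (hh u v * hh v u) • u = 0 := by
      simpa using e
    exact hu.1 ((smul_eq_zero.1 e2).resolve_left (mul_ne_zero hne hne'))
  · intro h
    have h' := (hh_comm hF).1 h
    refine su_ext fun x => ?_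
    rw [tv_mul_apply hF hu.2 hv.2, tv_mul_apply hF hv.2 hu.2, h, h', mul_zero, mul_zero, add_zero,
      add_zero]
    abel

theorem center_cube {z : Cfsg.SU 6 F 2} (hz : z ∈ Subgroup.center (Cfsg.SU 6 F 2)) : z ^ 3 = 1 := by
  obtain ⟨a, ha⟩ := (mem_center_SU_iff hF (by norm_num)).1 hz
  have hdet : a ^ 6 = 1 := by
    have := z.1.2
    rw [ha, Matrix.det_smul, Matrix.det_one, mul_one, Fintype.card_fin] at this
    exact this
  have ha0 : a ≠ 0 := fun e => by rw [e] at hdet; simp at hdet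
  refine Subtype.ext (Subtype.ext ?_)
  show ((z.1 ^ 3 : Matrix.SpecialLinearGroup (Fin 6) F) : Matrix (Fin 6) (Fin 6) F) = _
  rw [Matrix.SpecialLinearGroup.coe_pow, ha, smul_pow, one_pow, pow_three hF ha0, one_smul]
  rfl

theorem center_invol {z : Cfsg.SU 6 F 2} (hz : z ∈ Subgroup.center (Cfsg.SU 6 F 2)) (h2 : z * z = 1) :
    z = 1 := by
  have := center_cube hF hz
  rwa [show (3 : ℕ) = 2 + 1 from rfl, pow_succ, pow_two, h2, one_mul] at this

theorem pi_inj {a b : Cfsg.SU 6 F 2} (ha : a * a = 1) (hb : b * b = 1) (h : π a = π b) : a = b := by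
  have hz : b⁻¹ * a ∈ Subgroup.center (Cfsg.SU 6 F 2) := QuotientGroup.eq.1 h.symm
  have hbi : b⁻¹ = b := inv_eq_of_mul_eq_one_right hb
  have hc := Subgroup.mem_center_iff.1 hz b
  rw [hbi, ← mul_assoc, hb, one_mul] at hc
  have := center_invol hF hz (by
    rw [hbi, mul_assoc, ← mul_assoc a b a, ← mul_assoc b, ← mul_assoc b, ← hc, ha])
  rwa [inv_mul_eq_one, eq_comm] at this

theorem pi_commute_iff {a b : Cfsg.SU 6 F 2} (ha : a * a = 1) (hb : b * b = 1) :
    Commute (π a) (π b) ↔ Commute a b := by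
  refine ⟨fun h => ?_, fun h => h.map π⟩
  have hai : a⁻¹ = a := inv_eq_of_mul_eq_one_right ha
  have e : π (a * b * a⁻¹) = π b := by
    rw [map_mul, map_mul, map_inv, h.eq, mul_inv_cancel_right]
  have := pi_inj hF (by rw [conj_mul, hb, mul_one, mul_inv_cancel]) hb e
  exact mul_inv_eq_iff_eq_mul.1 this

theorem lift_invol {x : Cfsg.PSU 6 F 2} (hx : x * x = 1) :
    ∃ g : Cfsg.SU 6 F 2, g * g = 1 ∧ π g = x := by
  obtain ⟨g, rfl⟩ := QuotientGroup.mk_surjective x
  have hz : g * g ∈ Subgroup.center (Cfsg.SU 6 F 2) := by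
    rw [← QuotientGroup.eq_one_iff]; exact hx
  refine ⟨g * (g * g), ?_, ?_⟩
  · have := center_cube hF hz
    calc g * (g * g) * (g * (g * g)) = (g * g) ^ 3 := by simp only [pow_succ, pow_zero, one_mul, mul_assoc]
      _ = 1 := this
  · show π (g * (g * g)) = π g
    rw [map_mul, show π (g * g) = 1 from (QuotientGroup.eq_one_iff _).2 hz, mul_one]

theorem tv_eq_smul {u v : V} (hu : IsPt u) (hv : IsPt v) (h : tv hF u = tv hF v) :
    ∃ a : F, u = a • v := by
  obtain ⟨x, hx⟩ : ∃ x, hh x u ≠ 0 := by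
    by_contra hc; push Not at hc; exact hu.1 (uForm_nondeg hF 6 u hc)
  have e := congrArg (fun g => suMat g *ᵥ x) h
  simp only [tv_apply hF hu.2, tv_apply hF hv.2, add_right_inj] at e
  exact ⟨(hh x u)⁻¹ * hh x v, by rw [← smul_smul, ← e, smul_smul, inv_mul_cancel₀ hx, one_smul]⟩

theorem pi_tv_ne_one {v : V} (hv : IsPt v) : π (tv hF v) ≠ 1 := fun e =>
  tv_ne_one hF hv (pi_inj hF (tv_sq hF hv.2) (one_mul 1) (e.trans (map_one π).symm))

/-- The configuration showing that involutions of rank at least two are no 3-transpositions. -/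
theorem bad_pair {E : Set (Cfsg.PSU 6 F 2)} (hE : TT0 E) {w₀ e₀ w₁ e₁ z : V}
    (hw₀ : IsPt w₀) (he₀ : hh e₀ e₀ = 0) (hw₁ : IsPt w₁) (he₁ : hh e₁ e₁ = 0)
    (hz : IsPt z) (d₀ : hh w₀ e₀ = 1) (d₁ : hh w₁ e₁ = 1)
    (o₁ : hh w₀ w₁ = 0) (o₂ : hh w₀ e₁ = 0) (o₃ : hh e₀ w₁ = 0) (o₄ : hh e₀ e₁ = 0)
    (o₅ : hh w₀ z = 0) (o₆ : hh e₀ z = 0) (o₇ : hh w₁ z = 0) (o₈ : hh e₁ z = 0)
    {A : Cfsg.SU 6 F 2} (hA : A * A = 1) (hA₀ : Commute A (tv hF w₀)) (hA₁ : Commute A (tv hF w₁))
    (hB₀ : Commute A (tv hF e₀)) (hB₁ : Commute A (tv hF (e₁ + z) * tv hF e₁))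
    (hmem : π (tv hF w₀ * tv hF w₁ * A) ∈ E) : False := by
  have r : ∀ {u v : V}, hh u v = 0 → hh v u = 0 := fun h => (hh_comm hF).1 h
  have d₁' : hh e₁ w₁ = 1 := by rw [herm_swap hF w₁ e₁, d₁, one_pow]
  have d₀' : hh e₀ w₀ = 1 := by rw [herm_swap hF w₀ e₀, d₀, one_pow]
  set g₀ := tv hF e₀
  set g₁ := tv hF (e₁ + z) * tv hF e₁
  set g := g₀ * g₁
  have hez : hh (e₁ + z) (e₁ + z) = 0 := by
    simp [herm_add_left, hh_add_right hF, he₁, hz.2, o₈, r o₈]
  have hp : hh (w₀ + e₀) (w₀ + e₀) = 0 := by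
    simp [herm_add_left, hh_add_right hF, hw₀.2, he₀, d₀, d₀', CharTwo.add_self_eq_zero]
  have hr : hh (w₁ + z) (w₁ + z) = 0 := by
    simp [herm_add_left, hh_add_right hF, hw₁.2, hz.2, o₇, r o₇]
  have m₁w₀ : suMat g₁ *ᵥ w₀ = w₀ := by
    simp [g₁, tv_mul_apply hF hez he₁, hh_add_right hF, o₂, o₅]
  have m₁w₁ : suMat g₁ *ᵥ w₁ = w₁ + z := by
    simp only [g₁, tv_mul_apply hF hez he₁, hh_add_right hF, d₁, o₇, he₁, o₈, add_zero, mul_zero,
      one_smul]
    have : e₁ + e₁ = 0 := funext fun i => CharTwo.add_self_eq_zero _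
    calc w₁ + e₁ + (e₁ + z) = w₁ + (e₁ + e₁) + z := by abel
      _ = w₁ + z := by rw [this, add_zero]
  have mw₀ : suMat g *ᵥ w₀ = w₀ + e₀ := by
    rw [suMat_mul, ← Matrix.mulVec_mulVec, m₁w₀, tv_apply hF he₀, d₀, one_smul]
  have mw₁ : suMat g *ᵥ w₁ = w₁ + z := by
    rw [suMat_mul, ← Matrix.mulVec_mulVec, m₁w₁, tv_apply hF he₀, herm_add_left, r o₃, r o₆,
      add_zero, zero_smul, add_zero]
  have hgA : g * A * g⁻¹ = A := by rw [← (hB₀.mul_right hB₁).eq, mul_inv_cancel_right]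
  set t₀ := tv hF w₀
  set t₁ := tv hF w₁
  set u₀ := tv hF (w₀ + e₀) with hu₀
  set u₁ := tv hF (w₁ + z) with hu₁
  have hb : g * (t₀ * t₁ * A) * g⁻¹ = u₀ * u₁ * A := by
    rw [hu₀, hu₁, ← mw₀, ← mw₁, ← tv_conj hF g hw₀.2, ← tv_conj hF g hw₁.2]
    conv_rhs => rw [← hgA]
    simp only [t₀, t₁]
    group
  have hmem' : π (u₀ * u₁ * A) ∈ E := by
    rw [← hb, map_mul, map_mul, map_inv]
    exact hE.conj _ _ hmem
  have hu₀A : Commute A u₀ := by
    have := (commute_conj_iff g A t₀).2 hA₀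
    rwa [hgA, tv_conj hF g hw₀.2, mw₀] at this
  have hu₁A : Commute A u₁ := by
    have := (commute_conj_iff g A t₁).2 hA₁
    rwa [hgA, tv_conj hF g hw₁.2, mw₁] at this
  have pw₁ : IsPt (w₁ + z) := ⟨fun e => by
    have := congrArg (fun x => hh x e₁) e
    simp [herm_add_left, d₁, r o₈, hh_zero_left hF] at this, hr⟩
  have pw₀ : IsPt (w₀ + e₀) := ⟨fun e => by
    have := congrArg (fun x => hh x w₀) e
    simp [herm_add_left, hw₀.2, d₀', hh_zero_left hF] at this, hp⟩
  have c01 : Commute t₀ t₁ := (tv_comm_iff hF hw₀ hw₁).2 o₁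
  have c0u : Commute t₀ u₁ := (tv_comm_iff hF hw₀ pw₁).2 (by rw [hh_add_right hF, o₁, o₅, add_zero])
  have cu1 : Commute u₀ t₁ :=
    (tv_comm_iff hF pw₀ hw₁).2 (by rw [herm_add_left, o₁, o₃, add_zero])
  have cuu : Commute u₀ u₁ := (tv_comm_iff hF pw₀ pw₁).2 (by
    rw [herm_add_left, hh_add_right hF, hh_add_right hF, o₁, o₅, o₃, o₆, add_zero, add_zero])
  have c1u : Commute t₁ u₁ := (tv_comm_iff hF hw₁ pw₁).2 (by rw [hh_add_right hF, hw₁.2, o₇, add_zero])
  set p := t₀ * u₀
  set s := t₁ * u₁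
  have hprod : t₀ * t₁ * A * (u₀ * u₁ * A) = p * s := by
    calc t₀ * t₁ * A * (u₀ * u₁ * A) = t₀ * t₁ * (A * (u₀ * u₁)) * A := by group
      _ = t₀ * (t₁ * u₀) * u₁ * (A * A) := by rw [(hu₀A.mul_right hu₁A).eq]; group
      _ = _ := by rw [← cu1.eq, hA, mul_one]; simp only [p, s]; group
  have cps : Commute p s := (c01.mul_right c0u).mul_left (cu1.mul_right cuu)
  have hs2 : s ^ 2 = 1 := by
    rw [c1u.mul_pow, pow_two, pow_two, tv_sq hF hw₁.2, tv_sq hF hr, one_mul]
  have hsne : π s ≠ 1 := by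
    intro e
    rw [map_mul, mul_eq_one_iff_eq_inv, ← map_inv, inv_eq_of_mul_eq_one_right (tv_sq hF hr)] at e
    obtain ⟨a, ha⟩ := tv_eq_smul hF pw₁ hw₁ (pi_inj hF (tv_sq hF hw₁.2) (tv_sq hF hr) e).symm
    have h1 := congrArg (fun x => hh x e₁) ha
    simp only [herm_add_left, d₁, r o₈, add_zero, herm_smul_left, mul_one] at h1
    rw [← h1, one_smul, add_eq_left] at ha
    exact hz.1 ha
  have hpne : π p ^ 2 ≠ 1 := by
    intro e
    have hc : Commute (π t₀) (π u₀) := by
      have h1 : π t₀ * π t₀ = 1 := by rw [← map_mul, tv_sq hF hw₀.2, map_one]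
      have h2 : π u₀ * π u₀ = 1 := by rw [← map_mul, tv_sq hF hp, map_one]
      rw [map_mul, pow_two] at e
      calc π t₀ * π u₀ = (π t₀ * π u₀)⁻¹ := eq_inv_of_mul_eq_one_left e
        _ = π u₀ * π t₀ := by
          rw [_root_.mul_inv_rev, inv_eq_of_mul_eq_one_right h1, inv_eq_of_mul_eq_one_right h2]
    have := (tv_comm_iff hF hw₀ pw₀).1 ((pi_commute_iff hF (tv_sq hF hw₀.2) (tv_sq hF hp)).1 hc)
    simp [hh_add_right hF, hw₀.2, d₀] at this
  have hcPS : Commute (π p) (π s) := cps.map π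
  have hS2 : π s ^ 2 = 1 := by rw [← map_pow, hs2, map_one]
  have he : π (t₀ * t₁ * A) * π (u₀ * u₁ * A) = π p * π s := by rw [← map_mul, hprod, map_mul]
  rcases hE.pair _ hmem _ hmem' with h | h <;> rw [he, hcPS.mul_pow] at h
  · rw [hS2, mul_one] at h
    exact hpne h
  · rw [pow_succ (π s), hS2, one_mul] at h
    have h' : π s = (π p ^ 3)⁻¹ := eq_inv_of_mul_eq_one_right h
    have : (π p) ^ 3 = 1 := by
      have hnc : ¬ Commute t₀ u₀ := fun hc => hpne (by
        rw [← map_pow, hc.mul_pow, pow_two, pow_two, tv_sq hF hw₀.2, tv_sq hF hp, one_mul, map_one])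
      have hb : t₀ * u₀ * t₀ = u₀ * t₀ * u₀ := by
        refine su_ext fun x => ?_
        simp only [suMat_mul, ← Matrix.mulVec_mulVec, u₀, t₀, tv_apply hF hw₀.2, tv_apply hF hp,
          herm_add_left, herm_smul_left, hh_add_right hF, hw₀.2, he₀, d₀, d₀', smul_add, add_smul,
          mul_zero, mul_one, zero_add, add_zero, smul_smul]
        funext i
        simp only [Pi.add_apply, Pi.smul_apply, smul_eq_mul]
        linear_combination (-(hh x w₀ * w₀ i) - 2 * (hh x e₀ * e₀ i) - 2 * (hh x w₀ * e₀ i)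
          - 2 * (w₀ i * hh x e₀)) * (CharTwo.two_eq_zero : (2 : F) = 0)
      rw [← map_pow, show p ^ 3 = (t₀ * u₀ * t₀) * (u₀ * t₀ * u₀) by
        simp only [p, pow_succ, pow_zero, one_mul, mul_assoc], ← hb,
        show t₀ * u₀ * t₀ * (t₀ * u₀ * t₀) = t₀ * u₀ * (t₀ * t₀) * u₀ * t₀ by group,
        tv_sq hF hw₀.2, mul_one, mul_assoc t₀ u₀ u₀, tv_sq hF hp, mul_one, tv_sq hF hw₀.2, map_one]
    rw [this, inv_one] at h'
    exact hsne h'

omit hF in
theorem indep4 {a b c d : V} (aa : hh a a = 0) (bb : hh b b = 0) (cc : hh c c = 0) (dd : hh d d = 0)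
    (ab : hh a b = 1) (ba : hh b a = 1) (cd : hh c d = 1) (dc : hh d c = 1)
    (ac : hh a c = 0) (ad : hh a d = 0) (bc : hh b c = 0) (bd : hh b d = 0)
    (ca : hh c a = 0) (cb : hh c b = 0) (da : hh d a = 0) (db : hh d b = 0) :
    LinearIndependent F ![a, b, c, d] := by
  rw [Fintype.linearIndependent_iff]
  intro t ht
  simp only [Fin.sum_univ_four, Matrix.cons_val] at ht
  have key : ∀ w, t 0 * hh a w + t 1 * hh b w + t 2 * hh c w + t 3 * hh d w = 0 := fun w => by
    have := congrArg (fun x => hh x w) ht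
    simp only [herm_add_left, herm_smul_left] at this
    rw [this]; simp [Cfsg.hermForm]
  intro i
  fin_cases i
  · simpa [ab, bb, cb, db] using key b
  · simpa [aa, ba, ca, da] using key a
  · simpa [ad, bd, cd, dd] using key d
  · simpa [ac, bc, cc, dc] using key c

theorem exists_omega : ∃ ω : F, ω ≠ 0 ∧ ω ≠ 1 ∧ ω ^ 2 = ω + 1 := by
  haveI := Fintype.ofFinite F
  classical
  obtain ⟨ω, h0, h1⟩ : ∃ ω : F, ω ≠ 0 ∧ ω ≠ 1 := by
    by_contra h
    push Not at h
    have hs : (Finset.univ : Finset F) ⊆ {0, 1} := fun x _ => by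
      by_cases hx : x = 0 <;> simp [hx, h x]
    have := (Finset.card_le_card hs).trans Finset.card_le_two
    rw [Finset.card_univ, ← Nat.card_eq_fintype_card, hF] at this
    norm_num at this
  refine ⟨ω, h0, h1, ?_⟩
  have h3 := pow_three hF h0
  have : (ω - 1) * (ω ^ 2 - (ω + 1)) = 0 := by
    have e : (2 : F) = 0 := CharTwo.two_eq_zero
    linear_combination h3 + (1 - ω ^ 2) * e
  exact sub_eq_zero.1 ((mul_eq_zero.1 this).resolve_left (sub_ne_zero.2 h1))

/-- A set of 3-transpositions of `PSU₆(2)` is the set of transvections. -/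
theorem class_eq {E : Set (Cfsg.PSU 6 F 2)} (hE : TT0 E) (h1 : (1 : Cfsg.PSU 6 F 2) ∉ E) (hne : E.Nonempty) :
    E = {x | ∃ v, IsPt v ∧ π (tv hF v) = x} := by
  have key : ∀ x ∈ E, ∃ v, IsPt v ∧ π (tv hF v) = x := by
    intro x hx
    obtain ⟨g, hg, rfl⟩ := lift_invol hF (hE.sq x hx)
    have hN := Unitary.Invol.isUDev_of_invol hF hg
    set N := Matrix.mulVecLin (suMat g - 1) with hNdef
    obtain ⟨e, he⟩ := Unitary.Invol.exists_fam hF hN
    have hli := Unitary.Invol.linearIndependent_fam hF hN he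
    have hiso := fun i j => Unitary.Invol.image_isotropic hF hN (e i) (e j)
    have hpt : ∀ i, IsPt (N (e i)) := fun i =>
      ⟨hli.ne_zero (Sum.inr i), hiso i i⟩
    have hdual : ∀ i j, hh (N (e i)) (e j) = if i = j then 1 else 0 := fun i j => by
      rw [hN.adj, he.dual]
    have happ : ∀ v, suMat g *ᵥ v = v + N v := fun v => by
      rw [hNdef, Matrix.mulVecLin_apply, Matrix.sub_mulVec, Matrix.one_mulVec, add_sub_cancel]
    have hle : Module.finrank F (LinearMap.range N) ≤ 3 := by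
      have := hli.fintype_card_le_finrank
      simp at this
      omega
    generalize Module.finrank F (LinearMap.range N) = s at e he hli hiso hpt hdual hle
    interval_cases s
    · refine absurd ?_ h1
      have : g = 1 := su_ext fun v => by
        rw [happ, he.expand, suMat_one, Matrix.one_mulVec]; simp
      rwa [this, map_one] at hx
    · refine ⟨N (e 0), hpt 0, congrArg π (su_ext fun v => ?_)⟩
      rw [tv_apply hF (hpt 0).2, happ, he.expand v, Fin.sum_univ_one]
    · exfalso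
      obtain ⟨ω, -, -, hω⟩ := exists_omega hF
      have hω3 : ω ^ 3 = 1 := by
        have e2 : (2 : F) = 0 := CharTwo.two_eq_zero
        linear_combination (ω + 1) * hω + (ω ^ 1) * e2
      have e2 : (2 : F) = 0 := CharTwo.two_eq_zero
      let u₁ : V := ![1, 1, 0, 0, 0, 0]
      let v₁ : V := ![ω, ω ^ 2, 0, 0, 0, 0]
      let u₂ : V := ![0, 0, 1, 1, 0, 0]
      let v₂ : V := ![0, 0, ω, ω ^ 2, 0, 0]
      let z₀ : V := ![0, 0, 0, 0, 1, 1]
      have f1 : ω + ω ^ 2 = 1 := by linear_combination hω + ω * e2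
      have f4 : ω ^ 2 + ω = 1 := by rw [add_comm]; exact f1
      have f2 : (ω ^ 2) ^ 2 = ω := by linear_combination ω * hω3
      have f3 : ω * ω ^ 2 = 1 := by linear_combination hω3
      have f5 : ω ^ 2 * ω = 1 := by linear_combination hω3
      have hstd : LinearIndependent F ![u₁, v₁, u₂, v₂] := by
        apply indep4
        all_goals simp [Cfsg.hermForm, Fin.sum_univ_six, u₁, v₁, u₂, v₂, f1, f2, f3, f4, f5,
          CharTwo.add_self_eq_zero]
      have hfam : LinearIndependent F ![e 0, N (e 0), e 1, N (e 1)] := by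
        apply indep4
        all_goals first
          | exact he.zero _ _
          | exact hiso _ _
          | (rw [he.dual]; simp)
          | (rw [hdual]; simp)
      obtain ⟨G, hG⟩ := exists_GU_family hF ![u₁, v₁, u₂, v₂] ![e 0, N (e 0), e 1, N (e 1)] hstd hfam
        (fun i j => by
          fin_cases i <;> fin_cases j <;>
            simp [he.zero, he.dual, hdual, hiso] <;>
            simp [Cfsg.hermForm, Fin.sum_univ_six, u₁, v₁, u₂, v₂, f1, f2, f3, f4, f5,
              CharTwo.add_self_eq_zero])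
      have hp := mem_GU_iff.1 G.2
      set M := ((G : Matrix.GeneralLinearGroup (Fin 6) F) : Matrix (Fin 6) (Fin 6) F)
      have hz : IsPt (M *ᵥ z₀) := by
        refine ⟨fun e0 => ?_, ?_⟩
        · have := hp z₀ (Pi.single 4 1)
          rw [e0, hh_zero_left hF] at this
          simp [Cfsg.hermForm, Fin.sum_univ_six, z₀, Pi.single_apply] at this
        · rw [hp]; simp [Cfsg.hermForm, Fin.sum_univ_six, z₀, CharTwo.add_self_eq_zero]
      have ho : ∀ i : Fin 4, hh (![e 0, N (e 0), e 1, N (e 1)] i) (M *ᵥ z₀) = 0 := fun i => by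
        rw [← hG i, hp]
        fin_cases i <;> simp [Cfsg.hermForm, Fin.sum_univ_six, z₀, u₁, v₁, u₂, v₂]
      refine bad_pair hF hE (hpt 0) (he.zero 0 0) (hpt 1) (he.zero 1 1) hz (by simp [hdual])
        (by simp [hdual]) (hiso 0 1) (by simp [hdual]) (by simp [he.dual]) (he.zero 0 1) (ho 1) (ho 0)
        (ho 3) (ho 2) (A := 1) (one_mul 1) (Commute.one_left _) (Commute.one_left _)
        (Commute.one_left _) (Commute.one_left _) ?_
      have : tv hF (N (e 0)) * tv hF (N (e 1)) * 1 = g := su_ext fun v => by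
        rw [mul_one, tv_mul_apply hF (hpt 0).2 (hpt 1).2, happ, he.expand v, Fin.sum_univ_two,
          hiso 1 0, mul_zero, add_zero]
        abel
      rw [this]; exact hx
    · exfalso
      have c : ∀ i j, Commute (tv hF (N (e i))) (tv hF (N (e j))) := fun i j =>
        (tv_comm_iff hF (hpt i) (hpt j)).2 (hiso i j)
      have hA : ∀ {x : V}, hh x x = 0 → hh (N (e 2)) x = 0 → Commute (tv hF (N (e 2))) (tv hF x) := by
        intro x hx hx2
        by_cases h0 : x = 0
        · have : tv hF x = 1 := su_ext fun v => by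
            rw [tv_apply hF hx, h0, smul_zero, add_zero, suMat_one, Matrix.one_mulVec]
          rw [this]; exact Commute.one_right _
        · exact (tv_comm_iff hF (hpt 2) ⟨h0, hx⟩).2 hx2
      refine bad_pair hF hE (hpt 0) (he.zero 0 0) (hpt 1) (he.zero 1 1) (hpt 2) (by simp [hdual])
        (by simp [hdual]) (hiso 0 1) (by simp [hdual]) (by simp [he.dual]) (he.zero 0 1) (hiso 0 2)
        (by simp [he.dual]) (hiso 1 2) (by simp [he.dual]) (A := tv hF (N (e 2)))
        (tv_sq hF (hpt 2).2) (c 2 0) (c 2 1) (hA (he.zero 0 0) (by simp [hdual]))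
        ((hA (by simp [herm_add_left, hh_add_right hF, he.zero, he.dual, hdual, hiso])
          (by simp [hh_add_right hF, hdual, hiso])).mul_right (hA (he.zero 1 1) (by simp [hdual]))) ?_
      have : tv hF (N (e 0)) * tv hF (N (e 1)) * tv hF (N (e 2)) = g := su_ext fun v => by
        rw [suMat_mul, ← Matrix.mulVec_mulVec, tv_apply hF (hpt 2).2, tv_mul_apply hF (hpt 0).2 (hpt 1).2,
          happ, he.expand v, Fin.sum_univ_three]
        simp only [herm_add_left, herm_smul_left, hiso, mul_zero, add_zero]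
        abel
      rw [this]; exact hx
  refine Set.Subset.antisymm key ?_
  rintro _ ⟨v, hv, rfl⟩
  obtain ⟨x, hx⟩ := hne
  obtain ⟨u, hu, rfl⟩ := key x hx
  obtain ⟨g, hg⟩ := exists_SU_vec hF (by norm_num) hu.1 hv.1 hu.2 hv.2
  rw [← hg, ← tv_conj hF g hu.2, map_mul, map_mul, map_inv]
  exact hE.conj _ _ hx

end CfsgLib.ThreeT.SixTwo
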